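import Groth.Agent.Perf52.ExtD
import Groth.Agent.KFlatLib.Scheme.TildeD
import Groth.Agent.KFlatLib.Scheme.RHomLocal
import Groth.Agent.QCoh.LocFree

/-!
# Transport along isomorphisms, and affine facts
-/

set_option linter.style.haveILetI false
set_option backward.isDefEq.respectTransparency false

universe u

open CategoryTheory CategoryTheory.Limits AlgebraicGeometry TopologicalSpace Pretriangulated

attribute [local instance] HasDerivedCategory.standard

namespace Groth.Agent.Perf52

open Groth.Agent.KFlatLib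

variable {X U : Scheme.{u}}

lemma isIso_counit_of_surjective (j : U ⟶ X) [IsOpenImmersion j] [Surjective j] (E : DCoh.D X) :
    IsIso ((lshDAdj j).counit.app E) := by
  obtain ⟨F, b, c, hT⟩ := distinguished_cocone_triangle ((lshDAdj j).counit.app E)
  refine (isIso_iff_z0 _ hT).2 fun x => ?_
  obtain ⟨u, rfl⟩ := j.surjective x
  exact (isIso_rho_map_iff _ _ hT).1 (isIso_rho_map_counit j E) u

/-- Restriction along an isomorphism is fully faithful. -/
lemma rho_map_injective (j : U ⟶ X) [IsOpenImmersion j] [Surjective j] {A B : DCoh.D X}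
    {φ ψ : A ⟶ B} (h : (rho j).map φ = (rho j).map ψ) : φ = ψ := by
  haveI := isIso_counit_of_surjective j A
  rw [← cancel_epi ((lshDAdj j).counit.app A)]
  refine ((lshDAdj j).counit.naturality φ).symm.trans ?_
  refine Eq.trans ?_ ((lshDAdj j).counit.naturality ψ)
  simp only [Functor.comp_map, h]

/-- On an affine scheme finite locally free modules have no maps to objects in negative degrees. -/
lemma eq_zero_of_isFinLocFree_affine {W : Scheme.{u}} [IsAffine W] {F : W.Modules}
    (hF : FlatMod.IsFinLocFree F) {L : DCoh.D W} (hL : DCoh.IsQCohD L) [L.IsLE (-1)]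
    (φ : DCoh.inD W F ⟶ L) : φ = 0 := by
  let j : Spec Γ(W, ⊤) ⟶ W := W.isoSpec.inv
  haveI : Surjective j := inferInstance
  refine rho_map_injective j ?_
  rw [Functor.map_zero]
  obtain ⟨M, ⟨eM⟩⟩ := exists_tildeD_iso (isQCohD_rho j hL)
  haveI : PreservesFiniteLimits (tilde.functor Γ(W, ⊤)) := inferInstance
  let F' := (Scheme.Modules.restrictFunctor j).obj F
  have hF' : FlatMod.IsFinLocFree F' :=
    H23.PullPush.isFinLocFree_of_iso ((Scheme.Modules.restrictFunctorIsoPullback j).app F).symm
      (isFinLocFree_pullback j hF)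
  obtain ⟨P, ⟨eP⟩⟩ := QCoh.isQCoh_spec_iff.1 (QCoh.isQCoh_of_isFinLocFree hF')
  have hP : Module.Projective Γ(W, ⊤) P :=
    ((QCoh.isFinLocFree_tilde_iff P).1 (H23.PullPush.isFinLocFree_of_iso eP.symm hF')).2
  haveI : Projective P := (IsProjective.iff_projective (R := Γ(W, ⊤)) P).1 hP
  let e : (DCoh.tildeD Γ(W, ⊤)).obj ((DerivedCategory.singleFunctor _ 0).obj P) ≅
      (rho j).obj (DCoh.inD W F) :=
    ((tilde.functor Γ(W, ⊤)).mapDerivedCategorySingleFunctor 0).app P ≪≫
      (DerivedCategory.singleFunctor _ 0).mapIso eP ≪≫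
      (((Scheme.Modules.restrictFunctor j).mapDerivedCategorySingleFunctor 0).app F).symm
  obtain ⟨c, hc⟩ := (tildeD_map_bijective _ M).2 (e.hom ≫ (rho j).map φ ≫ eM.inv)
  have hz : c = 0 := by
    refine (bijective_psiC_of_projective 0 M).1 ?_
    have hM : IsZero ((DerivedCategory.homologyFunctor _ 0).obj M) := by
      have h1 : IsZero (DCoh.HD ((rho j).obj L) 0) :=
        ((Scheme.Modules.restrictFunctor j).map_isZero (L.isZero_of_isLE (-1) 0 (by omega))).of_iso
          (restrictHDIso j L 0)
      have h2 : IsZero ((tilde.functor Γ(W, ⊤)).obj ((DerivedCategory.homologyFunctor _ 0).obj M)) :=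
        h1.of_iso (((mapDCHomologyIso (tilde.functor Γ(W, ⊤)) 0).app M).symm ≪≫
          (DerivedCategory.homologyFunctor _ 0).mapIso eM)
      rw [IsZero.iff_id_eq_zero] at h2 ⊢
      exact (tilde.functor Γ(W, ⊤)).map_injective (by rw [CategoryTheory.Functor.map_id, h2, Functor.map_zero])
    exact hM.eq_of_tgt _ _
  subst hz
  rw [Functor.map_zero] at hc
  rw [← cancel_epi e.hom, ← cancel_mono eM.inv, comp_zero, zero_comp, Category.assoc, ← hc]

end Groth.Agent.Perf52
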