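import Groth.Agent.Perf52.ExtD
import Groth.Agent.KFlatLib.Scheme.RestrictHom
import Groth.Agent.KFlatLib.Scheme.RpushUnbounded

/-!
# The right adjoint of restriction to an open, pointwise
-/

set_option linter.style.haveILetI false
set_option backward.isDefEq.respectTransparency false

universe u

open CategoryTheory CategoryTheory.Limits AlgebraicGeometry

attribute [local instance] HasDerivedCategory.standard

namespace Groth.Agent.Perf52

open Groth.Agent.KFlatLib

variable {X U : Scheme.{u}} (j : U ⟶ X) [IsOpenImmersion j]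

/-- Push forward of complexes. -/
noncomputable abbrev pushCx : CochainComplex U.Modules ℤ ⥤ CochainComplex X.Modules ℤ :=
  (Scheme.Modules.pushforward j).mapHomologicalComplex (ComplexShape.up ℤ)

/-- `j^* ⊣ j_*` on complexes. -/
noncomputable def pushCxAdj : rCx j ⊣ pushCx j :=
  adjCx (Scheme.Modules.restrictAdjunction j) (ComplexShape.up ℤ)

lemma isKInjective_pushCx (J : CochainComplex U.Modules ℤ) [J.IsKInjective] :
    ((pushCx j).obj J).IsKInjective where
  nonempty_homotopy_zero {K} g hK := by
    have hK' : ((rCx j).obj K).Acyclic := fun i => (hK i).map (Scheme.Modules.restrictFunctor j)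
    obtain ⟨h⟩ := CochainComplex.IsKInjective.nonempty_homotopy_zero
      (((pushCxAdj j).homEquiv K J).symm g) hK'
    refine ⟨(Homotopy.ofEq ?_).trans ((((Scheme.Modules.pushforward j).mapHomotopy h).compLeft
      ((pushCxAdj j).unit.app K)).trans (Homotopy.ofEq (by rw [Functor.map_zero, comp_zero])))⟩
    exact ((pushCxAdj j).homEquiv_unit _ _ _).symm.trans ((pushCxAdj j).homEquiv K J |>.apply_symm_apply g) |>.symm

instance isIso_pushCxAdj_counit (J : CochainComplex U.Modules ℤ) :
    IsIso ((pushCxAdj j).counit.app J) := by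
  haveI : ∀ i, IsIso (((pushCxAdj j).counit.app J).f i) := fun i =>
    inferInstanceAs (IsIso ((Scheme.Modules.restrictAdjunction j).counit.app (J.X i)))
  exact HomologicalComplex.Hom.isIso_of_components _

/-- A qcoh-preserving right adjoint of restriction, pointwise. -/
theorem exists_push (E : DCoh.D X) :
    ∃ (E' : DCoh.D X) (u : E ⟶ E'), IsIso ((rho j).map u) ∧
      (∀ K : DCoh.D X, Function.Bijective (fun φ : K ⟶ E' => (rho j).map φ)) ∧
      (QuasiCompact j → QuasiSeparated j → DCoh.IsQCohD ((rho j).obj E) → DCoh.IsQCohD E') := by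
  obtain ⟨I, s, hI, hs⟩ := exists_kInjective_res (DerivedCategory.Q.objPreimage E)
  haveI : IsIso (DerivedCategory.Q.map s) := inferInstance
  let eI : DerivedCategory.Q.obj I ≅ E := (asIso (DerivedCategory.Q.map s)).symm ≪≫ repIso E
  haveI := hI
  haveI := isKInjective_rCx j I
  let J := (rCx j).obj I
  let I' := (pushCx j).obj J
  haveI : I'.IsKInjective := isKInjective_pushCx j J
  haveI := isKInjective_rCx j I'
  let v : I ⟶ I' := (pushCxAdj j).unit.app I
  haveI : IsIso ((rCx j).map v) := IsIso.of_isIso_fac_right ((pushCxAdj j).left_triangle_components I)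
  haveI : IsIso ((pushCxAdj j).unit.app I') := by
    let b : (pushCx j).obj ((rCx j).obj I') ⟶ I' := (pushCx j).map ((pushCxAdj j).counit.app J)
    haveI : IsIso b := inferInstance
    have h : (pushCxAdj j).unit.app I' ≫ b = 𝟙 I' := (pushCxAdj j).right_triangle_components J
    exact ⟨b, h, by rw [← cancel_mono b, Category.assoc, h]; exact (Category.comp_id _).trans (Category.id_comp _).symm⟩
  refine ⟨DerivedCategory.Q.obj I', eI.inv ≫ DerivedCategory.Q.map v, ?_, fun K => ?_, fun _ _ hq => ?_⟩
  · rw [Functor.map_comp]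
    have hv : IsIso (DerivedCategory.Q.map ((rCx j).map v)) := inferInstance
    haveI : IsIso ((rho j).map (DerivedCategory.Q.map v)) :=
      (NatIso.isIso_map_iff (rhoQ j) v).2 hv
    infer_instance
  · let eK := repIso K
    let C := DerivedCategory.Q.objPreimage K
    have hnat : ∀ g : C ⟶ I', (rho j).map (DerivedCategory.Q.map g) =
        (rhoQ j).hom.app C ≫ DerivedCategory.Q.map ((rCx j).map g) ≫ (rhoQ j).inv.app I' := by
      intro g
      exact (NatIso.naturality_2 (rhoQ j) g).symm
    refine ⟨fun a b hab => (cancel_epi eK.hom).1 ?_, fun y => ?_⟩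
    · obtain ⟨f, hf⟩ := exists_Q_map (eK.hom ≫ a)
      obtain ⟨g, hg⟩ := exists_Q_map (eK.hom ≫ b)
      have h : (rho j).map (DerivedCategory.Q.map f) = (rho j).map (DerivedCategory.Q.map g) := by
        simp only [hf, hg, Functor.map_comp] at hab ⊢
        rw [hab]
      rw [hnat, hnat, cancel_epi, cancel_mono] at h
      obtain ⟨H⟩ := homotopy_of_Q_map_eq _ _ h
      rw [← hf, ← hg]
      refine DerivedCategory.Q_map_eq_of_homotopy _ ?_
      have e : ∀ g : C ⟶ I', g = (pushCxAdj j).unit.app C ≫ (pushCx j).map ((rCx j).map g) ≫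
          inv ((pushCxAdj j).unit.app I') := fun g => by
        rw [← Category.assoc]
        exact (IsIso.eq_comp_inv _).2 ((pushCxAdj j).unit.naturality g)
      exact (Homotopy.ofEq (e f)).trans
        (((((Scheme.Modules.pushforward j).mapHomotopy H).compRight _).compLeft _).trans
          (Homotopy.ofEq (e g).symm))
    · let c : (rCx j).obj I' ⟶ J := (pushCxAdj j).counit.app J
      haveI : IsIso c := isIso_pushCxAdj_counit j J
      obtain ⟨h, hh⟩ := exists_Q_map ((rhoQ j).inv.app C ≫ (rho j).map eK.hom ≫ y ≫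
        (rhoQ j).hom.app I' ≫ DerivedCategory.Q.map c)
      refine ⟨eK.inv ≫ DerivedCategory.Q.map ((pushCxAdj j).homEquiv C J h), ?_⟩
      have h1 : (rCx j).map ((pushCxAdj j).homEquiv C J h) = h ≫ inv c := by
        rw [IsIso.eq_comp_inv]
        exact ((pushCxAdj j).homEquiv_counit C J _).symm.trans (Equiv.symm_apply_apply _ _)
      simp only
      rw [Functor.map_comp, hnat, h1, Functor.map_comp, hh, Functor.map_inv]
      simp [← Functor.map_comp_assoc]
  · haveI := hasRpush_scheme j
    obtain ⟨e⟩ := nonempty_rpush_iso_of_kInjective j (I := J) (K := (rho j).obj E)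
      (((rhoQ j).app I).symm ≪≫ (rho j).mapIso eI)
    exact isQCohD_of_iso e (isQCohD_rpush j hq)

end Groth.Agent.Perf52
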