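import Groth.Agent.Perf52.Torsion
import Groth.Agent.Perf52.Push
import Groth.Agent.Perf52.Affine
import Groth.Agent.KFlatLib.Scheme.QCohDerived
import Groth.Agent.S0887

/-!
# Killing maps from perfect objects into objects with support, on an affine scheme
-/

set_option linter.style.haveILetI false
set_option backward.isDefEq.respectTransparency false

universe u

open CategoryTheory CategoryTheory.Limits AlgebraicGeometry TopologicalSpace Pretriangulated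

attribute [local instance] HasDerivedCategory.standard

namespace Groth.Agent.Perf52

open Groth.Agent.KFlatLib

variable {X U : Scheme.{u}}

/-- Perfect objects have quasi-coherent cohomology. -/
lemma isQCohD_of_isPerfect {K : DCoh.D X} (hK : DCoh.IsPerfect K) : DCoh.IsQCohD K := fun i =>
  isQCoh_HD_of_local K i fun x => by
    obtain ⟨V, j, hj, hx, P, hP, ⟨e⟩⟩ := (isPerfect_iff K).1 hK x
    exact ⟨V, j, hj, hx, isQCohD_of_iso e ((isQCohD_Q_iff P).2 fun n =>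
      isQCoh_homology_of_terms P (fun m => QCoh.isQCoh_of_isFinLocFree (hP.2 m)) n) i⟩

lemma isPerfect_of_iso {K L : DCoh.D X} (e : K ≅ L) (h : DCoh.IsPerfect K) : DCoh.IsPerfect L :=
  (isPerfect_iff _).2 (((isPerfect_iff _).1 h).of_iso e)

lemma isPerfect_shift {K : DCoh.D X} (h : DCoh.IsPerfect K) (n : ℤ) : DCoh.IsPerfect (K⟦n⟧) :=
  (isPerfect_iff _).2 (((isPerfect_iff _).1 h).shift n)

lemma isPerfect_rho (j : U ⟶ X) [IsOpenImmersion j] {K : DCoh.D X} (h : DCoh.IsPerfect K) :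
    DCoh.IsPerfect ((rho j).obj K) := by
  refine (isPerfect_iff _).2 fun u' => ?_
  obtain ⟨U', j', _, hx, P, hP, ⟨e⟩⟩ := (isPerfect_iff _).1 h (j.base u')
  obtain ⟨W, k, _, i₁, i₂, _, _, ⟨w, hw⟩, f₁, f₂⟩ := exists_common j' j hx ⟨u', rfl⟩
  refine ⟨W, i₂, inferInstance, ⟨w, ?_⟩, _, isStrictlyPerfect_restrict i₁ hP,
    ⟨((rhoQ i₁).app P).symm ≪≫ (rho i₁).mapIso e ≪≫
      rhoComp i₁ j' k f₁ K ≪≫ (rhoComp i₂ j k f₂ K).symm⟩⟩
  apply j.isOpenEmbedding.injective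
  rw [← hw, ← f₂]
  rfl

lemma SuppOn.rho {K : DCoh.D X} {T : Set X} (h : SuppOn K T) (j : U ⟶ X) [IsOpenImmersion j] :
    SuppOn ((Groth.Agent.KFlatLib.rho j).obj K) (j.base ⁻¹' T) :=
  fun u hu => (z0_rho_iff j K u).2 (h _ hu)

section Iso

variable (j : U ⟶ X) [IsOpenImmersion j] [Surjective j]

lemma rho_map_surjective (A B : DCoh.D X) (y : (rho j).obj A ⟶ (rho j).obj B) :
    ∃ φ : A ⟶ B, (rho j).map φ = y := by
  haveI := isIso_counit_of_surjective j A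
  haveI := isIso_lshDAdj_unit j
  refine ⟨inv ((lshDAdj j).counit.app A) ≫ ((lshDAdj j).homEquiv _ _).symm y, ?_⟩
  haveI : IsIso ((lshDAdj j).unit.app ((rho j).obj A)) := inferInstance
  rw [Functor.map_comp, rho_map_homEquiv_symm, Functor.map_inv, IsIso.inv_comp_eq, IsIso.inv_comp_eq]
  exact ((lshDAdj j).right_triangle_components A ▸ (Category.id_comp y).symm :).trans
    (Category.assoc _ _ _)

lemma exists_rho_obj_iso (B : DCoh.D U) : ∃ A : DCoh.D X, Nonempty ((rho j).obj A ≅ B) :=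
  ⟨(lshD j).obj B, ⟨(lshDRhoIso j).app B⟩⟩

lemma isPerfect_of_rho {K : DCoh.D X} (h : DCoh.IsPerfect ((rho j).obj K)) : DCoh.IsPerfect K := by
  refine (isPerfect_iff _).2 fun x => ?_
  obtain ⟨u, rfl⟩ := j.surjective x
  obtain ⟨V, i, _, ⟨v, rfl⟩, P, hP, ⟨e⟩⟩ := (isPerfect_iff _).1 h u
  exact ⟨V, i ≫ j, inferInstance, ⟨v, rfl⟩, P, hP, ⟨e ≪≫ rhoComp i j _ rfl K⟩⟩

lemma suppOn_of_rho {K : DCoh.D X} {T : Set X} (h : SuppOn ((rho j).obj K) (j.base ⁻¹' T)) :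
    SuppOn K T := fun x hx => by
  obtain ⟨u, rfl⟩ := j.surjective x
  exact (z0_rho_iff j K u).1 (h u hx)

end Iso

variable {R : CommRingCat.{u}}

lemma Tors.shift {f : R} {M : DerivedCategory (ModuleCat.{u} R)} (h : Tors f M) (n : ℤ) :
    Tors f (M⟦n⟧) := fun i φ => by
  let e := ((DerivedCategory.singleFunctors (ModuleCat.{u} R)).shiftIso n i (n + i) rfl).app
    (ModuleCat.of R R)
  obtain ⟨ψ, hψ⟩ := (shiftFunctor (DerivedCategory (ModuleCat.{u} R)) n).map_surjective (e.hom ≫ φ)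
  obtain ⟨k, hk⟩ := h _ ψ
  refine ⟨k, (cancel_epi e.hom).1 ?_⟩
  rw [Linear.comp_smul, ← hψ, ← Functor.map_smul, hk, Functor.map_zero, comp_zero]

section Ring

variable [PreservesFiniteLimits (tilde.functor R)]

/-- Killing a map in the derived category of a ring. -/
theorem exists_kill_ring (s : Finset R) {P C : DerivedCategory (ModuleCat.{u} R)}
    (hP : DCoh.IsPerfect ((DCoh.tildeD R).obj P)) (hC : ∀ f ∈ s, Tors f C) (φ : P ⟶ C) :
    ∃ (Q : DerivedCategory (ModuleCat.{u} R)) (p : P ⟶ Q) (ψ : Q ⟶ C),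
      DCoh.IsPerfect ((DCoh.tildeD R).obj Q) ∧ (∀ f ∈ s, Tors f Q) ∧
        (∀ x, Z0 ((DCoh.tildeD R).obj P) x → Z0 ((DCoh.tildeD R).obj Q) x) ∧ p ≫ ψ = φ := by
  classical
  induction s using Finset.induction with
  | empty => exact ⟨P, 𝟙 P, φ, hP, by simp, fun _ h => h, Category.id_comp _⟩
  | @insert g s _ ih =>
    obtain ⟨Q, p, ψ, hQ, hQs, hz, hpψ⟩ := ih fun f hf => hC f (Finset.mem_insert_of_mem hf)
    obtain ⟨n, hn⟩ := exists_pow_smul_eq_zero ((isPerfect_iff_dring Q).1 hQ) g C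
      (hC g (Finset.mem_insert_self _ _)) ψ
    obtain ⟨Q', q, d, hT⟩ := distinguished_cocone_triangle (g ^ n • 𝟙 Q)
    obtain ⟨(ψ' : Q' ⟶ C), (hψ' : ψ = q ≫ ψ')⟩ := Triangle.yoneda_exact₂ _ hT ψ
      (by change (g ^ n • 𝟙 Q) ≫ ψ = 0; rw [Linear.smul_comp, Category.id_comp, hn])
    refine ⟨Q', p ≫ q, ψ', ?_, fun f hf => ?_,
      fun x hx => z0_obj₃ ((DCoh.tildeD R).map_distinguished _ hT) (hz x hx) (hz x hx),
      by rw [Category.assoc, ← hψ', hpψ]⟩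
    · exact (Groth.Agent.S0887.result _ ((DCoh.tildeD R).map_distinguished _ hT)).1 hQ hQ
    · rcases Finset.mem_insert.1 hf with rfl | hf
      · exact tors_cone_smul n hT
      · exact tors_obj₂ (rot_of_distTriang _ hT) (hQs f hf) ((hQs f hf).shift 1)

/-- Killing a map on `Spec R`. -/
theorem exists_kill_spec {T : Set (Spec R : Scheme.{u})} (hT : IsClosed T) (hTc : IsCompact Tᶜ)
    {P C : DCoh.D (Spec R)} (hP : DCoh.IsPerfect P) (hC : DCoh.IsQCohD C) (hCT : SuppOn C T)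
    (φ : P ⟶ C) : ∃ (Q : DCoh.D (Spec R)) (p : P ⟶ Q) (ψ : Q ⟶ C),
      DCoh.IsPerfect Q ∧ SuppOn Q T ∧ (∀ x, Z0 P x → Z0 Q x) ∧ p ≫ ψ = φ := by
  obtain ⟨s, hs⟩ := PrimeSpectrum.isCompact_isOpen_iff.1 ⟨hTc, hT.isOpen_compl⟩
  have hTs : T = PrimeSpectrum.zeroLocus (s : Set R) := compl_injective hs.symm
  obtain ⟨P', ⟨eP⟩⟩ := exists_tildeD_iso (isQCohD_of_isPerfect hP)
  obtain ⟨C', ⟨eC⟩⟩ := exists_tildeD_iso hC
  obtain ⟨φ', hφ'⟩ := (tildeD_map_bijective P' C').2 (eP.hom ≫ φ ≫ eC.inv)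
  subst hTs
  obtain ⟨Q, p, ψ, hQ, hQs, hz, hpψ⟩ := exists_kill_ring s (isPerfect_of_iso eP.symm hP)
    (fun f hf => (suppOn_tildeD_iff C' _).1 (hCT.of_iso eC.symm) f hf) φ'
  refine ⟨(DCoh.tildeD R).obj Q, eP.inv ≫ (DCoh.tildeD R).map p, (DCoh.tildeD R).map ψ ≫ eC.hom, hQ,
    (suppOn_tildeD_iff Q _).2 hQs, fun x hx => hz x (hx.of_iso eP.symm), ?_⟩
  rw [Category.assoc, ← Functor.map_comp_assoc, hpψ, hφ']
  simp

end Ring

/-- Killing a map on an affine scheme. -/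
theorem exists_kill [IsAffine X] {T : Set X} (hT : IsClosed T) (hTc : IsCompact Tᶜ)
    {P C : DCoh.D X} (hP : DCoh.IsPerfect P) (hC : DCoh.IsQCohD C) (hCT : SuppOn C T) (φ : P ⟶ C) :
    ∃ (Q : DCoh.D X) (p : P ⟶ Q) (ψ : Q ⟶ C),
      DCoh.IsPerfect Q ∧ SuppOn Q T ∧ (∀ x, Z0 P x → Z0 Q x) ∧ p ≫ ψ = φ := by
  let j : Spec Γ(X, ⊤) ⟶ X := X.isoSpec.inv
  haveI : Surjective j := inferInstance
  haveI : PreservesFiniteLimits (tilde.functor Γ(X, ⊤)) := inferInstance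
  let h := (Scheme.homeoOfIso X.isoSpec.symm)
  have hc : IsCompact (j.base ⁻¹' T)ᶜ := h.isCompact_preimage.2 hTc
  obtain ⟨Q₀, p₀, ψ₀, hQ₀, hQ₀T, hz, hpψ⟩ := exists_kill_spec (hT.preimage j.base.hom.continuous) hc
    (isPerfect_rho j hP) (isQCohD_rho j hC) (hCT.rho j) ((rho j).map φ)
  obtain ⟨Q, ⟨eQ⟩⟩ := exists_rho_obj_iso j Q₀
  obtain ⟨p, hp⟩ := rho_map_surjective j P Q (p₀ ≫ eQ.inv)
  obtain ⟨ψ, hψ⟩ := rho_map_surjective j Q C (eQ.hom ≫ ψ₀)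
  refine ⟨Q, p, ψ, isPerfect_of_rho j (isPerfect_of_iso eQ.symm hQ₀),
    suppOn_of_rho j (hQ₀T.of_iso eQ.symm), fun x hx => ?_, rho_map_injective j ?_⟩
  · obtain ⟨y, rfl⟩ := j.surjective x
    exact (z0_rho_iff j Q y).1 ((hz y ((z0_rho_iff j P y).2 hx)).of_iso eQ.symm)
  · rw [Functor.map_comp, hp, hψ, Category.assoc, Iso.inv_hom_id_assoc, hpψ]

/-- Kill a map on an open by passing to a perfect object which agrees with the source off the support. -/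
theorem exists_kill_fibre [IsAffine X] {T : Set X} (hT : IsClosed T) (hTc : IsCompact Tᶜ)
    {P C : DCoh.D X} (hP : DCoh.IsPerfect P) (hC : DCoh.IsQCohD C) (hCT : SuppOn C T) (φ : P ⟶ C) :
    ∃ (P₁ Q : DCoh.D X) (β : P₁ ⟶ P) (p : P ⟶ Q) (d : Q ⟶ P₁⟦(1 : ℤ)⟧),
      Triangle.mk β p d ∈ distTriang _ ∧ DCoh.IsPerfect P₁ ∧ DCoh.IsPerfect Q ∧ SuppOn Q T ∧
        (∀ x, Z0 P x → Z0 P₁ x) ∧ β ≫ φ = 0 := by
  obtain ⟨Q, p, ψ, hQ, hQT, hz, rfl⟩ := exists_kill hT hTc hP hC hCT φ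
  obtain ⟨P₁, β, d, hΔ⟩ := distinguished_cocone_triangle₁ p
  refine ⟨P₁, Q, β, p, d, hΔ, (Groth.Agent.S0887.result _ hΔ).2.2 hP hQ, hQ, hQT,
    fun x hx => z0_obj₁ hΔ hx (hz x hx), ?_⟩
  have h : β ≫ p = 0 := comp_distTriang_mor_zero₁₂ _ hΔ
  rw [← Category.assoc, h, zero_comp]

end Groth.Agent.Perf52
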