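import Groth.Agent.Perf52.Generator

/-!
# Perfect generators on quasi-compact quasi-separated schemes
-/

set_option linter.style.haveILetI false
set_option backward.isDefEq.respectTransparency false

universe u

open CategoryTheory CategoryTheory.Limits AlgebraicGeometry TopologicalSpace

attribute [local instance] HasDerivedCategory.standard

namespace Groth.Agent.Perf52

open Groth.Agent.KFlatLib

theorem genOn_qcqs {X : Scheme.{u}} [CompactSpace X] [QuasiSeparatedSpace X] {T : Set X}
    (hT : IsClosed T) (hTc : IsCompact Tᶜ) : GenOn X T := by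
  classical
  obtain ⟨s, hs⟩ := isCompact_univ.elim_finite_subcover (fun V : X.affineOpens => (V.1 : Set X))
    (fun V => V.1.2) fun x _ => by
      obtain ⟨_, ⟨V, hV, rfl⟩, hxV, -⟩ := X.isBasis_affineOpens.exists_subset_of_mem_open
        (Set.mem_univ x) isOpen_univ
      exact Set.mem_iUnion.2 ⟨⟨V, hV⟩, hxV⟩
  have key : ∀ t : Finset X.affineOpens, ∃ W : X.Opens, IsCompact (W : Set X) ∧
      (∀ V ∈ t, V.1 ≤ W) ∧ GenOn (W : Scheme.{u}) (W.ι.base ⁻¹' T) := by
    intro t
    induction t using Finset.induction with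
    | empty =>
      haveI : IsAffine ((⊥ : X.Opens) : Scheme.{u}) := isAffineOpen_bot X
      exact ⟨⊥, by simp, by simp, genOn_affine (hT.preimage (Scheme.Hom.continuous _))
        (isCompact_preimage_compl ⊥ (by simp) hT hTc)⟩
    | @insert V t _ ih =>
      obtain ⟨W, hWc, hW, hgen⟩ := ih
      let S := W ⊔ V.1
      have hS : IsCompact (S : Set X) := by simpa [S] using hWc.union V.2.isCompact
      refine ⟨S, hS, fun V' hV' => ?_, ?_⟩
      · rcases Finset.mem_insert.1 hV' with rfl | hV'
        · exact le_sup_right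
        · exact (hW V' hV').trans le_sup_left
      haveI : QuasiSeparatedSpace (S : Scheme.{u}) := quasiSeparatedSpace_of_quasiSeparated S.ι
      haveI : CompactSpace (S : Scheme.{u}) := isCompact_iff_compactSpace.1 hS
      haveI : CompactSpace (W : Scheme.{u}) := isCompact_iff_compactSpace.1 hWc
      haveI : IsAffine (V.1 : Scheme.{u}) := V.2
      let jW : (W : Scheme.{u}) ⟶ S := X.homOfLE le_sup_left
      let jV : (V.1 : Scheme.{u}) ⟶ S := X.homOfLE le_sup_right
      haveI : IsIso (rangeHom jW) := by unfold rangeHom; infer_instance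
      refine genOn_step jW.opensRange (isCompact_range jW.continuous) jV ?_
        (hT.preimage S.ι.continuous) (isCompact_preimage_compl S hS hT hTc)
        (genOn_of_rho (inv (rangeHom jW)) ?_)
      · refine Set.eq_univ_of_forall fun x => (Opens.mem_sup.1 x.2).imp (fun h => ⟨⟨x.1, h⟩, ?_⟩)
          (fun h => ⟨⟨x.1, h⟩, ?_⟩)
        · exact Subtype.ext (by simp [jW])
        · exact Subtype.ext (by simp [jV])
      · convert hgen using 1
        ext w
        have h1 : inv (rangeHom jW) ≫ jW.opensRange.ι ≫ S.ι = W.ι := by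
          rw [IsIso.inv_comp_eq, ← rangeHom_fac jW, Category.assoc, X.homOfLE_ι]
        simp only [Set.mem_preimage, ← h1, Scheme.Hom.comp_apply]
  obtain ⟨W, -, hW, hgen⟩ := key s
  haveI : Surjective W.ι := ⟨fun x => by
    obtain ⟨V, hV, hx⟩ := Set.mem_iUnion₂.1 (hs (Set.mem_univ x))
    exact ⟨⟨x, hW V hV hx⟩, rfl⟩⟩
  exact genOn_of_rho W.ι hgen

end Groth.Agent.Perf52
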