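import Groth.Agent.Perf52.ApproxAffine
import Groth.Agent.Perf52.GeneratorGlobal

/-!
# Gluing approximations by perfect objects
-/

set_option linter.style.haveILetI false
set_option backward.isDefEq.respectTransparency false

universe u

open CategoryTheory CategoryTheory.Limits AlgebraicGeometry TopologicalSpace Pretriangulated ZeroObject

attribute [local instance] HasDerivedCategory.standard

namespace Groth.Agent.Perf52

open Groth.Agent.KFlatLib

variable {X S : Scheme.{u}}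

/-- Approximation by perfect complexes holds on `X` along `T`. -/
def ApproxOn (X : Scheme.{u}) (T : Set X) : Prop :=
  ∃ r : ℤ, ∀ (m : ℤ) (E : DCoh.D X), DCoh.IsQCohD E → DCoh.IsPseudoCoherentD (m - r) E →
    (∀ i : ℤ, m - r ≤ i → CohB1.support (DCoh.HD E i) ⊆ T) → ApproxAt T E m

/-- The cone of a map inducing isomorphisms in high degrees lives in low degrees. -/
lemma isLE_cone {C : Type*} [Category C] [Abelian C] {m : ℤ}
    {T : Triangle (DerivedCategory C)} (hT : T ∈ distTriang _) (h : IsPcMap m T.mor₁) :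
    T.obj₃.IsLE (m - 1) := (DerivedCategory.isLE_iff _ _).2 fun i hi => by
  haveI : Mono ((DerivedCategory.homologyFunctor C (i + 1)).map T.mor₁) :=
    haveI := h.1 (i + 1) (by omega); inferInstance
  haveI : Epi ((DerivedCategory.homologyFunctor C i).map T.mor₁) := by
    rcases eq_or_lt_of_le (show m ≤ i by omega) with rfl | hlt
    · exact h.2
    · haveI := h.1 i hlt; infer_instance
  exact (DerivedCategory.HomologySequence.exact₃ _ hT i (i + 1) rfl).isZero_of_both_zeros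
    ((DerivedCategory.HomologySequence.epi_homologyMap_mor₁_iff _ hT i).1 ‹_›)
    ((DerivedCategory.HomologySequence.mono_homologyMap_mor₁_iff _ hT i (i + 1) rfl).1 ‹_›)

lemma z_obj₃ {T : Triangle (DCoh.D X)} (hT : T ∈ distTriang _) {x : X} (i : ℤ)
    (h₂ : IsZero ((DerSch.stalkFunctor X x).obj (DCoh.HD T.obj₂ i)))
    (h₁ : IsZero ((DerSch.stalkFunctor X x).obj (DCoh.HD T.obj₁ (i + 1)))) :
    IsZero ((DerSch.stalkFunctor X x).obj (DCoh.HD T.obj₃ i)) :=
  ((DerivedCategory.HomologySequence.exact₃ T hT i (i + 1) rfl).map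
    (DerSch.stalkFunctor X x)).isZero_of_both_zeros (h₂.eq_of_src _ _) (h₁.eq_of_tgt _ _)

lemma supp_obj₃ {T : Triangle (DCoh.D X)} (hT : T ∈ distTriang _) {Z : Set X}
    (h₁ : SuppOn T.obj₁ Z) {c : ℤ} (h₂ : ∀ i, c ≤ i → CohB1.support (DCoh.HD T.obj₂ i) ⊆ Z) :
    ∀ i, c ≤ i → CohB1.support (DCoh.HD T.obj₃ i) ⊆ Z := fun i hi x hx => by
  by_contra hxZ
  exact (isZero_stalk_iff _ _).1 (z_obj₃ hT i
    ((isZero_stalk_iff _ _).2 fun h => hxZ (h₂ i hi h)) (h₁ x hxZ (i + 1))) hx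

lemma supp_rho (j : S ⟶ X) [IsOpenImmersion j] (E : DCoh.D X) {T : Set X} (i : ℤ)
    (h : CohB1.support (DCoh.HD E i) ⊆ T) :
    CohB1.support (DCoh.HD ((rho j).obj E) i) ⊆ j.base ⁻¹' T := fun x hx => by
  by_contra hxT
  refine (isZero_stalk_iff _ _).1 ?_ hx
  refine IsZero.of_iso ?_ ((DerSch.stalkFunctor _ x).mapIso (restrictHDIso j E i))
  haveI := ModuleCat.subsingleton_of_isZero
    ((isZero_stalk_iff (DCoh.HD E i) (j.base x)).2 fun h' => hxT (h h'))
  let e := ((Scheme.Modules.restrictStalkNatIso j x).app (DCoh.HD E i)).addCommGroupIsoToAddEquiv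
  haveI : Subsingleton ((DerSch.stalkFunctor _ x).obj ((DCoh.HD E i).restrict j) : Type u) :=
    e.toEquiv.injective.subsingleton (β := ((DerSch.stalkFunctor X (j.base x)).obj (DCoh.HD E i) : Type u))
  exact ModuleCat.isZero_of_subsingleton _

/-- Approximation on an open passes to the whole scheme for sheaves supported in it. -/
theorem approxAt_of_open (U : X.Opens) {T : Set X} (hT : IsClosed T) (hTU : T ⊆ (U : Set X))
    {E : DCoh.D X} (m : ℤ) (happ : ApproxAt (U.ι.base ⁻¹' T) ((rho U.ι).obj E) m)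
    (hsupp : ∀ i, m ≤ i → CohB1.support (DCoh.HD E i) ⊆ T) : ApproxAt T E m := by
  obtain ⟨P, α, hP, hPT, hα⟩ := happ
  let R := (lshD U.ι).obj P
  have hRT : SuppOn R T := fun x hx => by
    by_cases hxU : x ∈ U
    · exact (z0_lshD_iff U.ι P ⟨x, hxU⟩).2 (hPT ⟨x, hxU⟩ hx)
    · exact z0_lshD U.ι P x (by rw [Scheme.Opens.range_ι]; exact hxU)
  let W : X.Opens := ⟨Tᶜ, hT.isOpen_compl⟩
  have hR : DCoh.IsPerfect R := by
    refine isPerfect_of_cover U.ι W.ι ?_ (isPerfect_of_iso ((lshDRhoIso U.ι).app P).symm hP) ?_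
    · simp only [Scheme.Opens.range_ι]
      exact Set.eq_univ_of_forall fun x => (Classical.em (x ∈ T)).imp (fun h => hTU h) id
    · refine (isPerfect_iff _).2 fun u => ⟨W, 𝟙 _, inferInstance, ⟨u, rfl⟩, 0,
        ⟨⟨0, 0, fun i _ => (HomologicalComplex.eval _ _ i).map_isZero (isZero_zero _)⟩,
          fun i => isFinLocFree_of_isZero ((HomologicalComplex.eval _ _ i).map_isZero (isZero_zero _))⟩,
        ⟨IsZero.iso (DerivedCategory.Q.map_isZero (isZero_zero _))
          ((rho _).map_isZero ((isZero_rho_obj_iff W.ι R).2 fun w => hRT _ w.2))⟩⟩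
  let β : R ⟶ E := ((lshDAdj U.ι).homEquiv P E).symm α
  obtain ⟨C, q, d, hΔ⟩ := distinguished_cocone_triangle β
  refine ⟨R, β, hR, hRT, isPcMap_of_cone hΔ (isLE_of_zge fun x => ?_)⟩
  by_cases hxU : x ∈ U
  · refine (zge_rho_iff U.ι C ⟨x, hxU⟩ _).1 fun i hi => ?_
    have h1 : IsPcMap m ((rho U.ι).map β) := by
      rw [rho_map_homEquiv_symm]
      have := hα.comp_iso (inv ((lshDAdj U.ι).unit.app P)) (𝟙 _)
      rwa [Category.comp_id] at this
    haveI : ((rho U.ι).obj C).IsLE (m - 1) := isLE_cone ((rho U.ι).map_distinguished _ hΔ) h1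
    exact (DerSch.stalkFunctor _ _).map_isZero (((rho U.ι).obj C).isZero_of_isLE (m - 1) i (by omega))
  · exact fun i hi => z_obj₃ hΔ i
      ((isZero_stalk_iff _ _).2 fun h => hxU (hTU (hsupp i (by omega) h)))
      (hRT x (fun h => hxU (hTU h)) (i + 1))

lemma zge_obj₂ {T : Triangle (DCoh.D X)} (hT : T ∈ distTriang _) {x : X} {m : ℤ}
    (h₁ : ZGE T.obj₁ x m) (h₃ : ZGE T.obj₃ x m) : ZGE T.obj₂ x m := fun i hi =>
  ((DerivedCategory.HomologySequence.exact₂ T hT i).map (DerSch.stalkFunctor X x)).isZero_of_both_zeros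
    ((h₁ i hi).eq_of_src _ _) ((h₃ i hi).eq_of_tgt _ _)

/-- The induction step. -/
theorem approxOn_step (U V : X.Opens) (hU : IsCompact (U : Set X)) (hV : IsAffineOpen V)
    (hUV : IsCompact ((U ⊓ V : X.Opens) : Set X)) (hcov : U ⊔ V = ⊤) {T : Set X} (hT : IsClosed T)
    (hTV : IsCompact (Tᶜ ∩ (V : Set X))) (hAU : ApproxOn (U : Scheme.{u}) (U.ι.base ⁻¹' T)) :
    ApproxOn X T := by
  obtain ⟨r₁, hr₁⟩ := hAU
  haveI : IsAffine (V : Scheme.{u}) := hV
  haveI : CompactSpace (U : Scheme.{u}) := isCompact_iff_compactSpace.1 hU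
  let Z : Set X := T ∩ (U : Set X)ᶜ
  have hZ : IsClosed Z := hT.inter U.2.isClosed_compl
  have hcov' : ∀ x : X, x ∈ U ∨ x ∈ V := fun x => Opens.mem_sup.1 (hcov ▸ trivial)
  have hZV : Z ⊆ (V : Set X) := fun x hx => (hcov' x).resolve_left hx.2
  have hUVc : IsCompact ((U : Set X) ∩ (V : Set X)) := by simpa using hUV
  have hZc : IsCompact (V.ι.base ⁻¹' Z)ᶜ := by
    refine V.ι.isOpenEmbedding.isInducing.isCompact_iff.2 ?_
    rw [← Set.preimage_compl, Set.image_preimage_eq_inter_range, Scheme.Opens.range_ι,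
      Set.compl_inter, compl_compl, Set.union_inter_distrib_right]
    exact hTV.union hUVc
  obtain ⟨fs, hfs⟩ := exists_zeroLocus_eq (hZ.preimage V.ι.continuous) hZc
  refine ⟨(fs.card : ℤ) + max r₁ 0, fun m E hq hpc hsupp => ?_⟩
  let m' := m - (fs.card : ℤ)
  have hpc' : LocPC (m' - r₁) E :=
    ((isPseudoCoherentD_iff _ _).1 hpc).mono (by omega)
  let Inv : ℤ → Prop := fun i => ∃ (R C : DCoh.D X) (β : R ⟶ E) (q : E ⟶ C) (d : C ⟶ R⟦(1 : ℤ)⟧),
    Triangle.mk β q d ∈ distTriang _ ∧ DCoh.IsPerfect R ∧ SuppOn R T ∧ ∀ x ∈ U, ZGE C x i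
  have hC : ∀ {R C : DCoh.D X} {β : R ⟶ E} {q : E ⟶ C} {d : C ⟶ R⟦(1 : ℤ)⟧},
      Triangle.mk β q d ∈ distTriang _ → DCoh.IsPerfect R → SuppOn R T →
      DCoh.IsQCohD C ∧ LocPC (m' - r₁) C ∧
        ∀ i, m' - r₁ ≤ i → CohB1.support (DCoh.HD C i) ⊆ T := fun {R C β q d} hΔ hR hRT =>
    ⟨isQCohD_obj₃ hΔ (isQCohD_of_isPerfect hR) hq,
      (locPC_two_of_three (m' - r₁) _ hΔ).1 (((isPerfect_iff _).1 hR).locPC _) hpc',
      supp_obj₃ hΔ hRT fun i hi => hsupp i (by omega)⟩
  obtain ⟨b, hb⟩ := exists_bound_of_locPC (hpc'.restrict U.ι)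
  have h0 : ∀ i, b < i → Inv i := fun i hi => ⟨0, E, 0, 𝟙 E, 0, contractible_distinguished₁ E, by
      refine (isPerfect_iff _).2 fun u => ⟨X, 𝟙 _, inferInstance, ⟨u, rfl⟩, 0,
        ⟨⟨0, 0, fun i _ => (HomologicalComplex.eval _ _ i).map_isZero (isZero_zero _)⟩,
          fun i => isFinLocFree_of_isZero ((HomologicalComplex.eval _ _ i).map_isZero (isZero_zero _))⟩,
        ⟨IsZero.iso (DerivedCategory.Q.map_isZero (isZero_zero _))
          ((rho _).map_isZero (isZero_zero _))⟩⟩,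
    fun x _ => z0_of_isZero (isZero_zero _) x, fun x hx =>
      (zge_rho_iff U.ι E ⟨x, hx⟩ _).1 fun j hj =>
        (DerSch.stalkFunctor _ _).map_isZero (hb j (by omega))⟩
  have hstep : ∀ i, m' ≤ i → Inv (i + 1) → Inv i := by
    rintro i hi ⟨R, C, β, q, d, hΔ, hR, hRT, hz⟩
    obtain ⟨hCq, hCpc, hCs⟩ := hC hΔ hR hRT
    haveI hCLE : ((rho U.ι).obj C).IsLE i := isLE_of_zge fun u => (zge_rho_iff U.ι C u _).2 (hz _ u.2)
    obtain ⟨P, ι', hP, hPT, hι⟩ := hr₁ m' _ (isQCohD_rho U.ι hCq)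
      ((isPseudoCoherentD_iff _ _).2 (hCpc.restrict U.ι)) (fun j hj => supp_rho U.ι C j (hCs j hj))
    haveI hPi : P.IsLE i := (DerivedCategory.isLE_iff _ _).2 fun j hj => by
      haveI := hι.1 j (by omega)
      exact (((rho U.ι).obj C).isZero_of_isLE i j hj).of_iso
        (asIso ((DerivedCategory.homologyFunctor _ j).map ι'))
    obtain ⟨Q, γ, e, hQ, hQT, he⟩ := exists_extend_step_sum U.ι V.ι
      (by simp only [Scheme.Opens.range_ι]; exact Set.eq_univ_of_forall hcov')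
      (by simpa using hUVc) hT (by simpa using hTV) hCq hP hPT ι'
    obtain ⟨C', q', d', hΔ'⟩ := distinguished_cocone_triangle γ
    obtain ⟨R', β', d'', hΔ''⟩ := distinguished_cocone_triangle₁ (q ≫ q')
    let O := Triangulated.someOctahedron (Eq.refl (q ≫ q')) (rot_of_distTriang _ hΔ)
      (rot_of_distTriang _ hΔ') (rot_of_distTriang _ hΔ'')
    have hR' : DCoh.IsPerfect (R'⟦(1 : ℤ)⟧) :=
      (Groth.Agent.S0887.result _ O.mem).2.1 (isPerfect_shift hR 1) (isPerfect_shift hQ 1)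
    have hR'T : SuppOn (R'⟦(1 : ℤ)⟧) T := suppOn_obj₂ O.mem (hRT.shift 1) (hQT.shift 1)
    refine ⟨R', C', β', q ≫ q', d'', hΔ'',
      isPerfect_of_iso ((shiftFunctorCompIsoId (DCoh.D X) (1 : ℤ) (-1) (by omega)).app R')
        (isPerfect_shift hR' (-1)),
      (hR'T.shift (-1)).of_iso ((shiftFunctorCompIsoId (DCoh.D X) (1 : ℤ) (-1) (by omega)).app R'),
      fun x hx => ?_⟩
    refine (zge_rho_iff U.ι C' ⟨x, hx⟩ _).1 fun j hj => ?_
    refine (DerSch.stalkFunctor _ _).map_isZero ?_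
    have hT' := (rho U.ι).map_distinguished _ hΔ'
    let A := P ⊞ P⟦(1 : ℤ)⟧
    have hA : IsZero ((DerivedCategory.homologyFunctor _ (j + 1)).obj A) := by
      let t := DerivedCategory.TStructure.t (C := (U : Scheme.{u}).Modules)
      have h1 : t.IsLE (P⟦(1 : ℤ)⟧) (i - 1) := t.isLE_shift P i 1 (i - 1) (by omega)
      haveI hAi : DerivedCategory.IsLE A i := t.isLE₂ _
        (binaryBiproductTriangle_distinguished P (P⟦(1 : ℤ)⟧)) i hPi
        (@Triangulated.TStructure.isLE_of_le _ _ _ _ _ _ _ t (P⟦(1 : ℤ)⟧) (i - 1) i (by omega) h1)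
      exact A.isZero_of_isLE i (j + 1) (by omega)
    have hep : Epi ((DerivedCategory.homologyFunctor _ j).map ((rho U.ι).map γ)) := by
      have hf : biprod.inl ≫ e.hom ≫ (rho U.ι).map γ = ι' := by rw [he, biprod.inl_desc]
      haveI : Epi ((DerivedCategory.homologyFunctor _ j).map ι') := by
        rcases eq_or_lt_of_le (show m' ≤ j by omega) with rfl | hlt
        · exact hι.2
        · haveI := hι.1 j hlt; infer_instance
      rw [← hf, ← Category.assoc, Functor.map_comp] at this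
      exact epi_of_epi ((DerivedCategory.homologyFunctor _ j).map (biprod.inl ≫ e.hom)) _
    exact (DerivedCategory.HomologySequence.exact₃ _ hT' j (j + 1) rfl).isZero_of_both_zeros
      ((DerivedCategory.HomologySequence.epi_homologyMap_mor₁_iff _ hT' j).1 hep)
      ((hA.of_iso ((DerivedCategory.homologyFunctor _ (j + 1)).mapIso e.symm)).eq_of_tgt _ _)
  have hall : ∀ (n : ℕ) (i : ℤ), m' ≤ i → b + 1 - n ≤ i → Inv i := by
    intro n
    induction n with
    | zero => exact fun i _ hi => h0 i (by omega)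
    | succ n ih =>
      intro i him hi
      by_cases h : b + 1 - (n : ℤ) ≤ i
      · exact ih i him h
      · exact hstep i him (ih (i + 1) (by omega) (by omega))
  obtain ⟨R, C, β, q, d, hΔ, hR, hRT, hz⟩ := hall (b + 1 - m').natAbs m' le_rfl (by omega)
  obtain ⟨hCq, hCpc, hCs⟩ := hC hΔ hR hRT
  have hCZ : ∀ i, m' ≤ i → i ≥ m' - r₁ → CohB1.support (DCoh.HD C i) ⊆ Z := fun i hi hi' x hx =>
    ⟨hCs i hi' hx, fun hxU => (isZero_stalk_iff _ _).1 (hz x hxU i hi) hx⟩
  have hCZ' : ∀ i, m' ≤ i → CohB1.support (DCoh.HD C i) ⊆ Z := fun i hi => by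
    refine fun x hx => ⟨?_, fun hxU => (isZero_stalk_iff _ _).1 (hz x hxU i hi) hx⟩
    exact supp_obj₃ hΔ hRT (c := m') (fun i hi => hsupp i (by omega)) i hi hx
  have happV : ApproxAt (V.ι.base ⁻¹' Z) ((rho V.ι).obj C) m := by
    rw [← hfs]
    refine approxAt_affine fs m (isQCohD_rho V.ι hCq) ((isPseudoCoherentD_iff _ _).2 ?_)
      fun i hi => ?_
    · exact ((locPC_two_of_three m _ hΔ).1 (((isPerfect_iff _).1 hR).locPC _)
        (((isPseudoCoherentD_iff _ _).1 hpc).mono (by omega))).restrict V.ι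
    · rw [hfs]
      exact supp_rho V.ι C i (hCZ' i (by omega))
  obtain ⟨Q, γ, hQ, hQZ, hγ⟩ := approxAt_of_open V hZ hZV m happV fun i hi => hCZ' i (by omega)
  obtain ⟨C', q', d', hΔ'⟩ := distinguished_cocone_triangle γ
  obtain ⟨R', β', d'', hΔ''⟩ := distinguished_cocone_triangle₁ (q ≫ q')
  let O := Triangulated.someOctahedron (Eq.refl (q ≫ q')) (rot_of_distTriang _ hΔ)
    (rot_of_distTriang _ hΔ') (rot_of_distTriang _ hΔ'')
  have hR' : DCoh.IsPerfect (R'⟦(1 : ℤ)⟧) :=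
    (Groth.Agent.S0887.result _ O.mem).2.1 (isPerfect_shift hR 1) (isPerfect_shift hQ 1)
  have hR'T : SuppOn (R'⟦(1 : ℤ)⟧) T :=
    suppOn_obj₂ O.mem (hRT.shift 1) ((hQZ.mono Set.inter_subset_left).shift 1)
  have hle : C'.IsLE (m - 1) := isLE_cone (T := Triangle.mk γ q' d') hΔ' hγ
  exact ⟨R', β',
    isPerfect_of_iso ((shiftFunctorCompIsoId (DCoh.D X) (1 : ℤ) (-1) (by omega)).app R')
      (isPerfect_shift hR' (-1)),
    (hR'T.shift (-1)).of_iso ((shiftFunctorCompIsoId (DCoh.D X) (1 : ℤ) (-1) (by omega)).app R'),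
    isPcMap_of_cone hΔ'' hle⟩

lemma approxOn_of_rho {U : Scheme.{u}} (j : U ⟶ X) [IsOpenImmersion j] [Surjective j] {T : Set X}
    (h : ApproxOn U (j.base ⁻¹' T)) : ApproxOn X T := by
  obtain ⟨r, hr⟩ := h
  exact ⟨r, fun m E hq hpc hs => approxAt_of_rho j (hr m _ (isQCohD_rho j hq)
    ((isPseudoCoherentD_iff _ _).2 (((isPseudoCoherentD_iff _ _).1 hpc).restrict j))
    fun i hi => supp_rho j E i (hs i hi))⟩

/-- Approximation on affine schemes. -/
theorem approxOn_affine [IsAffine X] {T : Set X} (hT : IsClosed T) (hTc : IsCompact Tᶜ) :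
    ApproxOn X T := by
  obtain ⟨fs, rfl⟩ := exists_zeroLocus_eq hT hTc
  exact ⟨(fs.card : ℤ), fun m E hq hpc hs => approxAt_affine fs m hq
    ((isPseudoCoherentD_iff _ _).2 (((isPseudoCoherentD_iff _ _).1 hpc).mono (by omega)))
    fun i hi => hs i (by omega)⟩

/-- Approximation by perfect complexes on qcqs schemes. -/
theorem approxOn_qcqs [CompactSpace X] [QuasiSeparatedSpace X] {T : Set X} (hT : IsClosed T)
    (hTc : IsCompact Tᶜ) : ApproxOn X T := by
  classical
  obtain ⟨s, hs⟩ := isCompact_univ.elim_finite_subcover (fun V : X.affineOpens => (V.1 : Set X))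
    (fun V => V.1.2) fun x _ => by
      obtain ⟨_, ⟨V, hV, rfl⟩, hxV, -⟩ := X.isBasis_affineOpens.exists_subset_of_mem_open
        (Set.mem_univ x) isOpen_univ
      exact Set.mem_iUnion.2 ⟨⟨V, hV⟩, hxV⟩
  have key : ∀ t : Finset X.affineOpens, ∃ W : X.Opens, IsCompact (W : Set X) ∧
      (∀ V ∈ t, V.1 ≤ W) ∧ ApproxOn (W : Scheme.{u}) (W.ι.base ⁻¹' T) := by
    intro t
    induction t using Finset.induction with
    | empty =>
      haveI : IsAffine ((⊥ : X.Opens) : Scheme.{u}) := isAffineOpen_bot X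
      exact ⟨⊥, by simp, by simp, approxOn_affine (hT.preimage (Scheme.Hom.continuous _))
        (isCompact_preimage_compl ⊥ (by simp) hT hTc)⟩
    | @insert V t _ ih =>
      obtain ⟨W, hWc, hW, hgen⟩ := ih
      let S := W ⊔ V.1
      have hS : IsCompact (S : Set X) := by simpa [S] using hWc.union V.2.isCompact
      refine ⟨S, hS, fun V' hV' => ?_, ?_⟩
      · rcases Finset.mem_insert.1 hV' with rfl | hV'
        · exact le_sup_right
        · exact (hW V' hV').trans le_sup_left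
      haveI : QuasiSeparatedSpace (S : Scheme.{u}) := quasiSeparatedSpace_of_quasiSeparated S.ι
      haveI : CompactSpace (W : Scheme.{u}) := isCompact_iff_compactSpace.1 hWc
      haveI : IsAffine (V.1 : Scheme.{u}) := V.2
      let jW : (W : Scheme.{u}) ⟶ S := X.homOfLE le_sup_left
      let jV : (V.1 : Scheme.{u}) ⟶ S := X.homOfLE le_sup_right
      haveI : IsIso (rangeHom jW) := by unfold rangeHom; infer_instance
      have hVa : IsAffineOpen jV.opensRange := isAffineOpen_opensRange jV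
      have hWc' : IsCompact ((jW.opensRange : (S : Scheme.{u}).Opens) : Set (S : Scheme.{u})) :=
        isCompact_range jW.continuous
      refine approxOn_step jW.opensRange jV.opensRange hWc' hVa
        (QuasiSeparatedSpace.inter_isCompact _ _ jW.opensRange.2 hWc' jV.opensRange.2 hVa.isCompact)
        ?_ (hT.preimage S.ι.continuous) ?_ (approxOn_of_rho (inv (rangeHom jW)) ?_)
      · refine eq_top_iff.2 fun x _ => Opens.mem_sup.2 ((Opens.mem_sup.1 x.2).imp
          (fun h => ⟨⟨x.1, h⟩, ?_⟩) (fun h => ⟨⟨x.1, h⟩, ?_⟩))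
        · exact Subtype.ext (by simp [jW])
        · exact Subtype.ext (by simp [jV])
      · exact QuasiSeparatedSpace.inter_isCompact _ _ (hT.preimage S.ι.continuous).isOpen_compl
          (isCompact_preimage_compl S hS hT hTc) jV.opensRange.2 hVa.isCompact
      · convert hgen using 1
        ext w
        have h1 : inv (rangeHom jW) ≫ jW.opensRange.ι ≫ S.ι = W.ι := by
          rw [IsIso.inv_comp_eq, ← rangeHom_fac jW, Category.assoc, X.homOfLE_ι]
        simp only [Set.mem_preimage, ← h1, Scheme.Hom.comp_apply]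
  obtain ⟨W, -, hW, hgen⟩ := key s
  haveI : Surjective W.ι := ⟨fun x => by
    obtain ⟨V, hV, hx⟩ := Set.mem_iUnion₂.1 (hs (Set.mem_univ x))
    exact ⟨⟨x, hW V hV hx⟩, rfl⟩⟩
  exact approxOn_of_rho W.ι hgen

end Groth.Agent.Perf52
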