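import Groth.Agent.Perf52.Summand

/-!
# Extending perfect objects with support from opens of an affine scheme
-/

set_option linter.style.haveILetI false
set_option backward.isDefEq.respectTransparency false

universe u

open CategoryTheory CategoryTheory.Limits AlgebraicGeometry TopologicalSpace Pretriangulated

attribute [local instance] HasDerivedCategory.standard

namespace Groth.Agent.Perf52

open Groth.Agent.KFlatLib

/-- The cone of `𝟙 - p ≫ i` for a split summand `F` is `F ⊞ F⟦1⟧`. -/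
theorem nonempty_cone_one_sub_iso {𝒟 : Type*} [Category 𝒟] [Preadditive 𝒟] [HasShift 𝒟 ℤ]
    [∀ n : ℤ, (shiftFunctor 𝒟 n).Additive] [HasZeroObject 𝒟] [Pretriangulated 𝒟]
    {F Y C : 𝒟} (i : F ⟶ Y) (p : Y ⟶ F) (hip : i ≫ p = 𝟙 F) (q : Y ⟶ C) (d : C ⟶ Y⟦(1 : ℤ)⟧)
    (h : Triangle.mk (𝟙 Y - p ≫ i) q d ∈ distTriang 𝒟) [HasBinaryBiproduct F (F⟦(1 : ℤ)⟧)] :
    Nonempty (C ≅ F ⊞ F⟦(1 : ℤ)⟧) := by
  have hdp : d ≫ (𝟙 Y - p ≫ i)⟦(1 : ℤ)⟧' = 0 := comp_distTriang_mor_zero₃₁ _ h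
  have heq : (𝟙 Y - p ≫ i) ≫ q = 0 := comp_distTriang_mor_zero₁₂ _ h
  have hqd : q ≫ d = 0 := comp_distTriang_mor_zero₂₃ _ h
  obtain ⟨(r : C ⟶ F), (hr : p = q ≫ r)⟩ := Triangle.yoneda_exact₂ _ h p (by
    change (𝟙 Y - p ≫ i) ≫ p = 0
    rw [Preadditive.sub_comp, Category.id_comp, Category.assoc, hip, Category.comp_id, sub_self])
  obtain ⟨(s₀ : F⟦(1 : ℤ)⟧ ⟶ C), (hs₀ : i⟦(1 : ℤ)⟧' = s₀ ≫ d)⟩ :=
    Triangle.coyoneda_exact₁ _ h (i⟦(1 : ℤ)⟧') (by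
      change i⟦(1 : ℤ)⟧' ≫ (𝟙 Y - p ≫ i)⟦(1 : ℤ)⟧' = 0
      rw [← Functor.map_comp, Preadditive.comp_sub, Category.comp_id, ← Category.assoc, hip,
        Category.id_comp, sub_self, Functor.map_zero])
  let s : F⟦(1 : ℤ)⟧ ⟶ C := s₀ - s₀ ≫ r ≫ i ≫ q
  have hiqr : i ≫ q ≫ r = 𝟙 F := by rw [← hr, hip]
  have hsd : s ≫ d = i⟦(1 : ℤ)⟧' := by
    simp only [s, Preadditive.sub_comp, Category.assoc, hqd, comp_zero, sub_zero, hs₀]
  have hsr : s ≫ r = 0 := by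
    simp only [s, Preadditive.sub_comp, Category.assoc, hiqr, Category.comp_id, sub_self]
  let Φ : C ⟶ F ⊞ F⟦(1 : ℤ)⟧ := biprod.lift r (d ≫ p⟦(1 : ℤ)⟧')
  let Ψ : F ⊞ F⟦(1 : ℤ)⟧ ⟶ C := biprod.desc (i ≫ q) s
  have hΨΦ : Ψ ≫ Φ = 𝟙 _ := by
    apply biprod.hom_ext' <;> apply biprod.hom_ext
    · simp [Φ, Ψ, hiqr]
    · simp [Φ, Ψ, reassoc_of% hqd]
    · simp [Φ, Ψ, hsr]
    · simp only [Φ, Ψ, Category.assoc, biprod.lift_snd, biprod.inr_desc_assoc,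
        Category.comp_id, biprod.inr_snd]
      rw [reassoc_of% hsd, ← Functor.map_comp, hip, CategoryTheory.Functor.map_id]
  let f := 𝟙 C - Φ ≫ Ψ
  have hff : f ≫ f = f := by
    simp [f, Preadditive.sub_comp, Preadditive.comp_sub, reassoc_of% hΨΦ]
  have hqf : q ≫ f = 0 := by
    have h1 : q = p ≫ i ≫ q := by
      rwa [Preadditive.sub_comp, Category.id_comp, Category.assoc, sub_eq_zero] at heq
    simp only [f, Φ, Ψ, biprod.lift_desc, Preadditive.comp_sub, Category.comp_id,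
      Preadditive.comp_add, ← Category.assoc, hqd, zero_comp, add_zero, ← hr]
    rw [Category.assoc p i q, ← h1, sub_self]
  have hfd : f ≫ d = 0 := by
    have h2 : d = d ≫ p⟦(1 : ℤ)⟧' ≫ i⟦(1 : ℤ)⟧' := by
      rw [Functor.map_sub, CategoryTheory.Functor.map_id, Preadditive.comp_sub, Category.comp_id,
        Functor.map_comp, sub_eq_zero] at hdp
      exact hdp
    simp only [f, Φ, Ψ, biprod.lift_desc, Preadditive.sub_comp, Category.id_comp,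
      Preadditive.add_comp, Category.assoc, hqd, comp_zero, zero_add, hsd]
    rw [← h2, sub_self]
  obtain ⟨(g : C ⟶ Y), (hg : f = g ≫ q)⟩ := Triangle.coyoneda_exact₃ _ h f hfd
  have hf0 : f = 0 := by
    rw [← hff]
    nth_rw 1 [hg]
    rw [Category.assoc, hqf, comp_zero]
  exact ⟨⟨Φ, Ψ, (sub_eq_zero.1 hf0).symm, hΨΦ⟩⟩

variable {X : Scheme.{u}}

/-- A qcoh object on the whole space which agrees with a given one on an open and keeps its support. -/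
theorem exists_push_supp (U : X.Opens) [QuasiCompact U.ι] {T : Set X} (hT : IsClosed T)
    (P : DCoh.D (U : Scheme.{u})) (hP : DCoh.IsQCohD P) (hPT : SuppOn P (U.ι.base ⁻¹' T)) :
    ∃ (M : DCoh.D X) (_e : (rho U.ι).obj M ≅ P), DCoh.IsQCohD M ∧ SuppOn M T ∧
      ∀ K : DCoh.D X, Function.Bijective (fun φ : K ⟶ M => (rho U.ι).map φ) := by
  obtain ⟨M, u, hu, hbij, hq⟩ := exists_push U.ι ((lshD U.ι).obj P)
  haveI := hu
  let e : (rho U.ι).obj M ≅ P := (asIso ((rho U.ι).map u)).symm ≪≫ (lshDRhoIso U.ι).app P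
  refine ⟨M, e, hq inferInstance inferInstance (isQCohD_of_iso ((lshDRhoIso U.ι).app P).symm hP),
    fun x hx => ?_, hbij⟩
  let W : X.Opens := ⟨Tᶜ, hT.isOpen_compl⟩
  have hz : IsZero ((rho U.ι).obj ((lshD W.ι).obj ((rho W.ι).obj M))) := by
    refine (isZero_rho_obj_iff _ _).2 fun w => ?_
    by_cases hw : U.ι.base w ∈ W
    · refine (z0_lshD_iff W.ι _ ⟨_, hw⟩).2 ((z0_rho_iff W.ι M ⟨_, hw⟩).2 ?_)
      exact (z0_rho_iff U.ι M w).1 ((hPT w hw).of_iso e.symm)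
    · refine z0_lshD W.ι _ _ ?_
      rw [Scheme.Opens.range_ι]
      exact hw
  have h0 : (lshDAdj W.ι).counit.app M = 0 := (hbij _).1 (hz.eq_of_src _ _)
  have hW : IsZero ((rho W.ι).obj M) := by
    have h1 := isIso_rho_map_counit W.ι M
    rw [h0, Functor.map_zero] at h1
    exact ((isIsoZeroEquiv _ _).toFun h1).2 |> (IsZero.iff_id_eq_zero _).2
  exact (isZero_rho_obj_iff W.ι M).1 hW ⟨x, hx⟩

/-- Extend a map from a perfect object with support, up to a summand. -/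
theorem exists_extend_affine [IsAffine X] {T : Set X} (hT : IsClosed T) (hTc : IsCompact Tᶜ)
    (U : X.Opens) (hU : IsCompact (U : Set X)) {E : DCoh.D X} (hE : DCoh.IsQCohD E)
    {P : DCoh.D (U : Scheme.{u})} (hP : DCoh.IsPerfect P) (hPT : SuppOn P (U.ι.base ⁻¹' T))
    (α : P ⟶ (rho U.ι).obj E) :
    ∃ (R : DCoh.D X) (β : R ⟶ E) (i : P ⟶ (rho U.ι).obj R) (p : (rho U.ι).obj R ⟶ P),
      DCoh.IsPerfect R ∧ SuppOn R T ∧ i ≫ p = 𝟙 P ∧ i ≫ (rho U.ι).map β = α := by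
  haveI : QuasiCompact U.ι := QCoh.quasiCompact_ι_of_compact U hU
  obtain ⟨G, i, p, hG, hip⟩ := exists_summand U hU P hP
  obtain ⟨M, e, hMq, hMT, hbij⟩ := exists_push_supp U hT P (isQCohD_of_isPerfect hP) hPT
  obtain ⟨p', hp'⟩ := (hbij G).2 (p ≫ e.inv)
  simp only at hp'
  obtain ⟨Q, q, ψ, hQ, hQT, -, rfl⟩ := exists_kill hT hTc hG hMq hMT p'
  obtain ⟨R, β₀, γ, hR, hβ₀, hz, hγ⟩ := exists_lift U hU hQ hE ((rho U.ι).map ψ ≫ e.hom ≫ α)
  haveI := hβ₀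
  have hip' : i ≫ (rho U.ι).map q ≫ (rho U.ι).map ψ ≫ e.hom = 𝟙 P := by
    rw [← Functor.map_comp_assoc, hp', Category.assoc, Iso.inv_hom_id, Category.comp_id, hip]
  refine ⟨R, γ, i ≫ (rho U.ι).map q ≫ inv ((rho U.ι).map β₀),
    (rho U.ι).map β₀ ≫ (rho U.ι).map ψ ≫ e.hom, hR, fun x hx => hz x (hQT x hx), ?_, ?_⟩
  · simp [hip']
  · rw [← hγ]
    simp [reassoc_of% hip']

/-- `P ⊞ P⟦1⟧` extends as a perfect object with support. -/
theorem exists_extend_sum_affine [IsAffine X] {T : Set X} (hT : IsClosed T) (hTc : IsCompact Tᶜ)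
    (U : X.Opens) (hU : IsCompact (U : Set X))
    {P : DCoh.D (U : Scheme.{u})} (hP : DCoh.IsPerfect P) (hPT : SuppOn P (U.ι.base ⁻¹' T))
    [HasBinaryBiproduct P (P⟦(1 : ℤ)⟧)] :
    ∃ G : DCoh.D X, DCoh.IsPerfect G ∧ SuppOn G T ∧ Nonempty ((rho U.ι).obj G ≅ P ⊞ P⟦(1 : ℤ)⟧) := by
  haveI : QuasiCompact U.ι := QCoh.quasiCompact_ι_of_compact U hU
  obtain ⟨M, -, hMq, -⟩ := exists_push_supp U hT P (isQCohD_of_isPerfect hP) hPT
  obtain ⟨R, -, i, p, hR, hRT, hip, -⟩ := exists_extend_affine hT hTc U hU hMq hP hPT 0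
  obtain ⟨R₁, β, γ, hR₁, hβ, hz, hγ⟩ := exists_lift U hU hR (isQCohD_of_isPerfect hR)
    (𝟙 _ - p ≫ i)
  haveI := hβ
  obtain ⟨G, g, d, hΔ⟩ := distinguished_cocone_triangle γ
  have hΔ' := (rho U.ι).map_distinguished _ hΔ
  refine ⟨G, (Groth.Agent.S0887.result _ hΔ).1 hR₁ hR,
    fun x hx => z0_obj₃ hΔ (hz x (hRT x hx)) (hRT x hx), ?_⟩
  let T' := (rho U.ι).mapTriangle.obj (Triangle.mk γ g d)
  refine nonempty_cone_one_sub_iso i p hip T'.mor₂ (T'.mor₃ ≫ ((rho U.ι).map β)⟦(1 : ℤ)⟧') ?_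
  refine isomorphic_distinguished _ hΔ' _ (Triangle.isoMk _ _ (asIso ((rho U.ι).map β)).symm
    (Iso.refl _) (Iso.refl _) ?_ ?_ ?_)
  · change (𝟙 _ - p ≫ i) ≫ 𝟙 _ = inv ((rho U.ι).map β) ≫ (rho U.ι).map γ
    rw [← hγ, IsIso.inv_hom_id_assoc]
    exact Category.comp_id _
  · change T'.mor₂ ≫ 𝟙 _ = 𝟙 _ ≫ T'.mor₂
    simp
  · change (T'.mor₃ ≫ ((rho U.ι).map β)⟦(1 : ℤ)⟧') ≫ (inv ((rho U.ι).map β))⟦(1 : ℤ)⟧' = 𝟙 _ ≫ T'.mor₃
    erw [Category.id_comp]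
    rw [Category.assoc, ← Functor.map_comp, IsIso.hom_inv_id, CategoryTheory.Functor.map_id]
    exact Category.comp_id _

end Groth.Agent.Perf52
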