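import Groth.Agent.Perf52.AffineKill

/-!
# Natural composition isomorphisms of restrictions
-/

set_option linter.style.haveILetI false
set_option backward.isDefEq.respectTransparency false

universe u

open CategoryTheory CategoryTheory.Limits AlgebraicGeometry

attribute [local instance] HasDerivedCategory.standard

namespace Groth.Agent.Perf52

open Groth.Agent.KFlatLib

variable {X U V : Scheme.{u}}

/-- Restricting twice, naturally. -/
noncomputable def rhoC (i : V ⟶ U) [IsOpenImmersion i] (j : U ⟶ X) [IsOpenImmersion j]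
    (k : V ⟶ X) [IsOpenImmersion k] (h : i ≫ j = k) : rho j ⋙ rho i ≅ rho k :=
  letI : Localization.Lifting DerivedCategory.Q (HomologicalComplex.quasiIso X.Modules (ComplexShape.up ℤ))
      (rCx j ⋙ rCx i ⋙ DerivedCategory.Q) (rho j ⋙ rho i) := ⟨rhoQ₂ i j⟩
  letI : Localization.Lifting DerivedCategory.Q (HomologicalComplex.quasiIso X.Modules (ComplexShape.up ℤ))
      (rCx k ⋙ DerivedCategory.Q) (rho k) := ⟨rhoQ k⟩
  Localization.liftNatIso DerivedCategory.Q (HomologicalComplex.quasiIso X.Modules (ComplexShape.up ℤ))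
    (rCx j ⋙ rCx i ⋙ DerivedCategory.Q) (rCx k ⋙ DerivedCategory.Q) _ _
    ((Functor.associator _ _ _).symm ≪≫ Functor.isoWhiskerRight
      (Functor.mapHomologicalComplexCompIso (Iso.refl (Scheme.Modules.restrictFunctor j ⋙ Scheme.Modules.restrictFunctor i))
          (ComplexShape.up ℤ) ≪≫
        NatIso.mapHomologicalComplex ((Scheme.Modules.restrictFunctorComp i j).symm ≪≫
          Scheme.Modules.restrictFunctorCongr h) (ComplexShape.up ℤ)) DerivedCategory.Q)

lemma z0_of_immersion (k : V ⟶ X) [IsOpenImmersion k] (K : DCoh.D X) (v : V) :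
    Z0 ((rho k).obj K) v ↔ Z0 K (k.base v) := z0_rho_iff k K v

/-- Objects living in an open are extensions by zero from it. -/
lemma isIso_counit_of_z0 (j : U ⟶ X) [IsOpenImmersion j] (E : DCoh.D X)
    (h : ∀ x ∉ Set.range j.base, Z0 E x) : IsIso ((lshDAdj j).counit.app E) := by
  obtain ⟨F, b, c, hT⟩ := Pretriangulated.distinguished_cocone_triangle ((lshDAdj j).counit.app E)
  refine (isIso_iff_z0 _ hT).2 fun x => ?_
  by_cases hx : x ∈ Set.range j.base
  · obtain ⟨u, rfl⟩ := hx
    exact (isIso_rho_map_iff j _ hT).1 (isIso_rho_map_counit j E) u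
  · exact z0_obj₃ hT (z0_lshD j _ _ hx) (h x hx)

/-- Maps out of an object living in an open are determined by their restriction. -/
lemma rho_map_bijective_of_z0 (j : U ⟶ X) [IsOpenImmersion j] (E B : DCoh.D X)
    (h : ∀ x ∉ Set.range j.base, Z0 E x) :
    Function.Bijective (fun φ : E ⟶ B => (rho j).map φ) := by
  haveI := isIso_counit_of_z0 j E h
  refine ⟨fun φ ψ he => ?_, fun y => ?_⟩
  · rw [← cancel_epi ((lshDAdj j).counit.app E)]
    refine ((lshDAdj j).counit.naturality φ).symm.trans ?_
    refine Eq.trans ?_ ((lshDAdj j).counit.naturality ψ)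
    simp only [Functor.comp_map]
    exact congrArg (fun t => (lshD j).map t ≫ _) he
  · refine ⟨inv ((lshDAdj j).counit.app E) ≫ ((lshDAdj j).homEquiv _ _).symm y, ?_⟩
    change (rho j).map _ = y
    haveI : IsIso ((lshDAdj j).unit.app ((rho j).obj E)) := inferInstance
    rw [Functor.map_comp, rho_map_homEquiv_symm, Functor.map_inv, IsIso.inv_comp_eq, IsIso.inv_comp_eq]
    exact ((lshDAdj j).right_triangle_components E ▸ (Category.id_comp y).symm :).trans
      (Category.assoc _ _ _)

end Groth.Agent.Perf52
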