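import Groth.Agent.Perf52.LowDeg
import Groth.Agent.Perf52.AffineExtend
import Groth.Agent.Perf52.RhoComp

/-!
# Approximating pseudo-coherent objects on quasi-compact opens of affine schemes
-/

set_option linter.style.haveILetI false
set_option backward.isDefEq.respectTransparency false

universe u

open CategoryTheory CategoryTheory.Limits AlgebraicGeometry TopologicalSpace Pretriangulated ZeroObject

attribute [local instance] HasDerivedCategory.standard

namespace Groth.Agent.Perf52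

open Groth.Agent.KFlatLib

variable {X : Scheme.{u}}

lemma isQCohD_of_pc {P : DCoh.D X} (h : ∀ m, DCoh.IsPseudoCoherentD m P) : DCoh.IsQCohD P :=
  fun i => isQCoh_HD_of_pseudoCoherent (h (i - 1)) i (by omega)

lemma isGE_of_rho {U : Scheme.{u}} (j : U ⟶ X) [IsOpenImmersion j] [Surjective j] {K : DCoh.D X}
    {n : ℤ} (h : ((rho j).obj K).IsGE n) : K.IsGE n :=
  (DerivedCategory.isGE_iff _ _).2 fun i hi => isZero_of_stalk _ fun x => by
    obtain ⟨y, rfl⟩ := j.surjective x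
    haveI := h
    exact isZero_stalk_of_restrict j y ((DerSch.stalkFunctor U y).map_isZero
      ((((rho j).obj K).isZero_of_isGE n i hi).of_iso (restrictHDIso j K i).symm))

lemma isLE_of_rho {U : Scheme.{u}} (j : U ⟶ X) [IsOpenImmersion j] [Surjective j] {K : DCoh.D X}
    {n : ℤ} (h : ((rho j).obj K).IsLE n) : K.IsLE n := isLE_of_zge fun x => by
  obtain ⟨y, rfl⟩ := j.surjective x
  haveI := h
  exact (zge_rho_iff j K y _).1 fun i hi =>
    (DerSch.stalkFunctor U y).map_isZero (((rho j).obj K).isZero_of_isLE n i (by omega))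

/-- Data of an approximation in degrees at least `m`. -/
def ApproxOpenAt (V : X.Opens) (P : DCoh.D (V : Scheme.{u})) (m : ℤ) : Prop :=
  ∃ (G : DCoh.D X) (C : DCoh.D (V : Scheme.{u})) (α : (rho V.ι).obj G ⟶ P) (q : P ⟶ C)
    (d : C ⟶ ((rho V.ι).obj G)⟦(1 : ℤ)⟧), Triangle.mk α q d ∈ distTriang _ ∧
      DCoh.IsPerfect G ∧ LowOn G m ∧ G.IsGE m ∧ C.IsLE (m - 1)

theorem approxOpenAt_spec {R : CommRingCat.{u}} [PreservesFiniteLimits (tilde.functor R)]
    (V : (Spec R).Opens) (hV : IsCompact (V : Set (Spec R : Scheme.{u})))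
    {P : DCoh.D (V : Scheme.{u})} {b : ℤ} (hb : P.IsLE b)
    (hP : ∀ m, DCoh.IsPseudoCoherentD m P) (m₀ : ℤ) : ApproxOpenAt V P m₀ := by
  haveI : QuasiCompact V.ι := QCoh.quasiCompact_ι_of_compact V hV
  obtain ⟨M, eM, hMq, -, -⟩ := exists_push_supp V (T := Set.univ) isClosed_univ P (isQCohD_of_pc hP)
    (fun _ h => absurd trivial h)
  let Inv : ℤ → Prop := fun m => ∃ (G C : DCoh.D (Spec R)) (g : G ⟶ M) (q : M ⟶ C)
    (d : C ⟶ G⟦(1 : ℤ)⟧), Triangle.mk g q d ∈ distTriang _ ∧ DCoh.IsPerfect G ∧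
      DCoh.IsQCohD C ∧ LowOn G m ∧ G.IsGE m ∧ ∀ x ∈ V, ZGE C x m
  have h0 : ∀ m, b < m → Inv m := fun m hm => by
    refine ⟨0, M, 0, 𝟙 M, 0, contractible_distinguished₁ M, ?_, hMq,
      fun W _ l _ L _ _ φ => ((rho l).map_isZero (isZero_zero _)).eq_of_src _ _,
      (DerivedCategory.isGE_iff _ _).2 fun i _ => Functor.map_isZero _ (isZero_zero _),
      fun x hx i hi => ?_⟩
    · refine (isPerfect_iff _).2 fun x => ⟨_, 𝟙 _, inferInstance, ⟨x, rfl⟩, 0,
        ⟨⟨0, 0, fun i _ => (HomologicalComplex.eval _ _ i).map_isZero (isZero_zero _)⟩,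
          fun i => isFinLocFree_of_isZero ((HomologicalComplex.eval _ _ i).map_isZero (isZero_zero _))⟩, ⟨?_⟩⟩
      exact IsZero.iso (DerivedCategory.Q.map_isZero (isZero_zero _))
        ((rho _).map_isZero (isZero_zero _))
    · haveI := hb
      have h1 : ZGE ((rho V.ι).obj M) (⟨x, hx⟩ : (V : Scheme.{u})) m := fun i hi =>
        ((DerSch.stalkFunctor _ _).map_isZero (P.isZero_of_isLE b i (by omega))).of_iso
          ((DerSch.stalkFunctor _ _).mapIso ((DerivedCategory.homologyFunctor _ i).mapIso eM))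
      exact (zge_rho_iff V.ι M ⟨x, hx⟩ m).1 h1 i hi
  have hstep : ∀ m, Inv (m + 1) → Inv m := by
    rintro m ⟨G, C, g, q, d, hT, hG, hC, hlow, hge, hz⟩
    have hCpc : LocPC m ((rho V.ι).obj C) :=
      (locPC_two_of_three m _ ((rho V.ι).map_distinguished _ hT)).1
        (((isPerfect_iff _).1 (isPerfect_rho V.ι hG)).locPC (m + 1))
        (((isPseudoCoherentD_iff _ _).1 (hP m)).of_iso eM.symm)
    have hft : CohB1.IsFT ((DCoh.HD C m).restrict V.ι) :=
      isFT_of_iso' (restrictHDIso V.ι C m)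
        (isFT_top hCpc fun i hi => isZero_of_stalk _ fun w =>
          (zge_rho_iff V.ι C w (m + 1)).2 (hz _ w.2) i (by omega))
    obtain ⟨F, C', δ, q', d', hT', hF, hz', N, hN, ⟨eN⟩⟩ := exists_cover_top hV hC m hz hft
    obtain ⟨G', g', d'', hT''⟩ := distinguished_cocone_triangle₁ (q ≫ q')
    let O := Triangulated.someOctahedron (Eq.refl (q ≫ q')) (rot_of_distTriang _ hT)
      (rot_of_distTriang _ hT') (rot_of_distTriang _ hT'')
    have hG' : DCoh.IsPerfect (G'⟦(1 : ℤ)⟧) :=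
      (Groth.Agent.S0887.result _ O.mem).2.1 (isPerfect_shift hG 1) (isPerfect_shift hF 1)
    let t := DerivedCategory.TStructure.t (C := (Spec R).Modules)
    have hFge : F.IsGE m := by
      haveI : (DCoh.inD (Spec R) N).IsGE 0 := inferInstance
      exact isGE_of_iso eN (t.isGE_shift (DCoh.inD (Spec R) N) 0 (-m) m (by omega))
    have hlow' : LowOn (G'⟦(1 : ℤ)⟧) (m - 1) :=
      lowOn_obj₂ O.mem ((hlow.shift 1).mono (by omega)) (((lowOn_inD hN m).of_iso eN).shift 1)
    have hge' : (G'⟦(1 : ℤ)⟧).IsGE (m - 1) := by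
      haveI := hFge
      haveI := hge
      refine isGE_obj₂ O.mem ?_ (t.isGE_shift F m 1 (m - 1) (by omega))
      haveI : G.IsGE m := t.isGE_of_ge G m (m + 1) (by omega)
      exact t.isGE_shift G m 1 (m - 1) (by omega)
    let e' := (shiftFunctorCompIsoId (DCoh.D (Spec R)) (1 : ℤ) (-1) (by omega)).app G'
    refine ⟨G', C', g', q ≫ q', d'', hT'', ?_, ?_, ?_, ?_, hz'⟩
    · exact (isPerfect_iff _).2 (((isPerfect_iff _).1 hG').of_shift 1)
    · exact isQCohD_obj₃ hT' (isQCohD_of_isPerfect hF) hC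
    · exact ((hlow'.shift (-1)).mono (by omega)).of_iso e'
    · haveI := hge'
      exact isGE_of_iso e' (t.isGE_shift (G'⟦(1 : ℤ)⟧) (m - 1) (-1) m (by omega))
  have hall : ∀ (n : ℕ) (m : ℤ), b + 1 - n ≤ m → Inv m := by
    intro n
    induction n with
    | zero => exact fun m hm => h0 m (by omega)
    | succ n ih =>
      intro m hm
      by_cases h : b + 1 - (n : ℤ) ≤ m
      · exact ih m h
      · exact hstep m (ih (m + 1) (by omega))
  obtain ⟨G, C, g, q, d, hT, hG, hC, hlow, hge, hz⟩ := hall (b + 1 - m₀).natAbs m₀ (by omega)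
  obtain ⟨C₁, q₁, d₁, hT₁⟩ := distinguished_cocone_triangle ((rho V.ι).map g ≫ eM.hom)
  let eT := isoTriangleOfIso₁₂ _ _ ((rho V.ι).map_distinguished _ hT) hT₁ (Iso.refl _) eM
    (Category.id_comp _).symm
  refine ⟨G, C₁, _, q₁, d₁, hT₁, hG, hlow, hge, ?_⟩
  exact @Triangulated.TStructure.isLE_of_iso _ _ _ _ _ _ _ DerivedCategory.TStructure.t _ _
    (Triangle.π₃.mapIso eT) (m₀ - 1)
    (isLE_of_zge fun w => (zge_rho_iff V.ι C w _).2 (by rw [sub_add_cancel]; exact hz _ w.2))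

/-- Approximation of a pseudo-coherent object on a quasi-compact open of an affine scheme by
restrictions of perfect objects in bounded degrees. -/
theorem approxOpenAt_affine [IsAffine X] (V : X.Opens) (hV : IsCompact (V : Set X))
    {P : DCoh.D (V : Scheme.{u})} {b : ℤ} (hb : P.IsLE b) (hP : ∀ m, DCoh.IsPseudoCoherentD m P)
    (m : ℤ) : ApproxOpenAt V P m := by
  let j : Spec Γ(X, ⊤) ⟶ X := X.isoSpec.inv
  haveI : Surjective j := inferInstance
  haveI : PreservesFiniteLimits (tilde.functor Γ(X, ⊤)) := inferInstance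
  let V' : (Spec Γ(X, ⊤)).Opens := j ⁻¹ᵁ V
  have hV' : IsCompact (V' : Set (Spec Γ(X, ⊤) : Scheme.{u})) :=
    (Scheme.homeoOfIso X.isoSpec.symm).isCompact_preimage.2 hV
  let k : (V' : Scheme.{u}) ⟶ V := j ∣_ V
  haveI : Surjective k := inferInstance
  have hb' : ((rho k).obj P).IsLE b := (DerivedCategory.isLE_iff _ _).2 fun i hi =>
    haveI := hb
    ((Scheme.Modules.restrictFunctor k).map_isZero (P.isZero_of_isLE b i hi)).of_iso
      (restrictHDIso k P i)
  obtain ⟨G', C', α', q', d', hT', hG', hlow, hge, hC'⟩ := approxOpenAt_spec V' hV' hb'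
    (fun n => (isPseudoCoherentD_iff _ _).2 (((isPseudoCoherentD_iff _ _).1 (hP n)).restrict k)) m
  obtain ⟨G, ⟨eG⟩⟩ := exists_rho_obj_iso j G'
  let e : (rho k).obj ((rho V.ι).obj G) ≅ (rho V'.ι).obj G' :=
    rhoComp k V.ι (V'.ι ≫ j) (morphismRestrict_ι j V) G ≪≫
      (rhoComp V'.ι j (V'.ι ≫ j) rfl G).symm ≪≫ (rho V'.ι).mapIso eG
  obtain ⟨α, hα⟩ := rho_map_surjective k _ _ (e.hom ≫ α')
  obtain ⟨C, q, d, hT⟩ := distinguished_cocone_triangle α
  let eT := isoTriangleOfIso₁₂ _ _ ((rho k).map_distinguished _ hT) hT' e (Iso.refl _)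
    ((Category.comp_id _).trans hα)
  refine ⟨G, C, α, q, d, hT, isPerfect_of_rho j (isPerfect_of_iso eG.symm hG'),
    lowOn_of_rho j (hlow.of_iso eG.symm), isGE_of_rho j (isGE_of_iso eG.symm hge), isLE_of_rho k ?_⟩
  exact @Triangulated.TStructure.isLE_of_iso _ _ _ _ _ _ _ DerivedCategory.TStructure.t _ _
    (Triangle.π₃.mapIso eT).symm (m - 1) hC'

end Groth.Agent.Perf52
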