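import Groth.Agent.KFlatLib.Scheme.QCohDerived
import Groth.Agent.KFlatLib.Scheme.RpushUnbounded
import Groth.Agent.KFlatLib.Scheme.ProjFormulaLoc
import Groth.Agent.Perf52.ApproxGlue
import Groth.Agent.Perf52.ApproxOpen

/-!
# Pseudo-coherence of `Rπ_*(E ⊗^L K)` is detected by perfect `E`
-/

set_option linter.style.haveILetI false
set_option backward.isDefEq.respectTransparency false

universe u

open CategoryTheory CategoryTheory.Limits AlgebraicGeometry Pretriangulated ZeroObject

attribute [local instance] HasDerivedCategory.standard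

namespace Groth.Agent.Perf52

open Groth.Agent.KFlatLib

variable {X : Scheme.{u}}

/-- Cohomological functors composed with `- ⊗^L K` are homological. -/
lemma isHomological_ltensorCx_comp (K : CochainComplex X.Modules ℤ) [DCoh.HasLTensorCx K]
    {A : Type*} [Category A] [Abelian A] (H : DCoh.D X ⥤ A) [H.IsHomological] :
    (DCoh.LTensorCx K ⋙ H).IsHomological := by
  let G := DCoh.tensorCx.flip.obj K
  let c := (DCoh.tensorCxQ K).totalLeftDerivedCounit DerivedCategory.Q (qisX X)
  haveI : (DCoh.LTensorCx K).PreservesZeroMorphisms := by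
    have hz : IsZero (HomologicalComplex.zero : CochainComplex X.Modules ℤ) := HomologicalComplex.isZero_zero
    haveI : IsIso (c.app HomologicalComplex.zero) := isIso_LTensorCx_counit K (isKFlat_of_isZero hz)
    have h1 : IsZero (DerivedCategory.Q.obj (G.obj HomologicalComplex.zero) : DCoh.D X) :=
      DerivedCategory.Q.map_isZero (G.map_isZero hz)
    have h2 : IsZero ((DCoh.LTensorCx K).obj (DerivedCategory.Q.obj HomologicalComplex.zero)) :=
      h1.of_iso (asIso (c.app HomologicalComplex.zero))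
    exact Functor.preservesZeroMorphisms_of_map_zero_object
      ((DCoh.LTensorCx K).mapIso (isZero_zero _ |>.iso (DerivedCategory.Q.map_isZero hz)) ≪≫
        h2.iso (isZero_zero _))
  refine isHomological_of_split _ DCoh.IsKFlat (kRes X) (flatCover X).ψ
    (fun K => (flatCover X).quasiIso_ψ K) isKFlat_kRes
    (fun φ hK hL => kFlat_cone (T := DCoh.tensorBi) φ hK hL)
    (fun K hK => KFlat.shift (T := DCoh.tensorBi) hK 1) fun S hS h₁ h₂ h₃ => ?_
  haveI : IsIso (c.app S.X₁) := isIso_LTensorCx_counit K h₁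
  haveI : IsIso (c.app S.X₂) := isIso_LTensorCx_counit K h₂
  haveI : IsIso (c.app S.X₃) := isIso_LTensorCx_counit K h₃
  let e : (S.map DerivedCategory.Q).map (DCoh.LTensorCx K) ≅ (S.map G).map DerivedCategory.Q :=
    ShortComplex.isoMk (asIso (c.app S.X₁)) (asIso (c.app S.X₂))
      (asIso (c.app S.X₃)) (c.naturality S.f).symm (c.naturality S.g).symm
  refine ShortComplex.exact_of_iso (H.mapShortComplex.mapIso e).symm ?_
  exact H.map_distinguished_exact _
    (DerivedCategory.triangleOfSES_distinguished (shortExact₁_of_splitting K S hS))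

/-- `- ⊗^L K` adds the upper bounds. -/
lemma isLE_ltensorCx (K : CochainComplex X.Modules ℤ) [DCoh.HasLTensorCx K] {b c : ℤ}
    (hK : (DCoh.toD X K).IsLE b) {C : DCoh.D X} (hC : C.IsLE c) :
    ((DCoh.LTensorCx K).obj C).IsLE (b + c) := by
  let C' := DerivedCategory.Q.objPreimage C
  haveI := hK
  haveI := hC
  haveI : K.IsLE b := (DerivedCategory.isLE_Q_obj_iff K b).1 hK
  haveI : C'.IsLE c := (DerivedCategory.isLE_Q_obj_iff C' c).1
    (DerivedCategory.TStructure.t.isLE_of_iso (DerivedCategory.Q.objObjPreimageIso C).symm c)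
  obtain ⟨R, ρ, hρ, hR, hR'⟩ := exists_flat_rep C' c
  obtain ⟨T, τ, hτ, hT, -⟩ := exists_flat_rep K b
  haveI := hρ
  haveI := hτ
  haveI : QuasiIso ((DCoh.tensorCx.obj R).map τ) := KFlat.quasiIso_map' (tensorBiFlipIso X) hR' τ
  let e : (DCoh.LTensorCx K).obj C ≅ DCoh.toD X ((DCoh.tensorCx.obj R).obj T) :=
    (DCoh.LTensorCx K).mapIso ((DerivedCategory.Q.objObjPreimageIso C).symm ≪≫
      (@asIso _ _ _ _ (DerivedCategory.Q.map ρ) (isIso_Q_map ρ inferInstance)).symm) ≪≫
    ltensorCxIso K hR' ≪≫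
    (@asIso _ _ _ _ (DerivedCategory.Q.map ((DCoh.tensorCx.obj R).map τ)) (isIso_Q_map _ inferInstance)).symm
  haveI : ((DCoh.tensorCx.obj R).obj T).IsStrictlyLE (b + c) := (CochainComplex.isStrictlyLE_iff _ _).2
    fun i hi => isZero_tensorCx_X R T c b i (by omega)
  haveI : (DCoh.toD X ((DCoh.tensorCx.obj R).obj T)).IsLE (b + c) := (DerivedCategory.isLE_Q_obj_iff _ _).2 inferInstance
  exact DerivedCategory.TStructure.t.isLE_of_iso e.symm _

variable {A : Type u} [CommRing A] [CompactSpace X] [QuasiSeparatedSpace X]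

theorem pc_rpush_ltensor_of_perfect (π : X ⟶ Spec (CommRingCat.of A)) [DCoh.HasRpush π]
    (K : CochainComplex X.Modules ℤ) (hK : DCoh.IsQCohD (DCoh.toD X K)) (b : ℤ) (hb : (DCoh.toD X K).IsLE b)
    [DCoh.HasLTensorCx K]
    (h : ∀ E : DCoh.D X, DCoh.IsPerfect E → ∀ m : ℤ, DCoh.IsPseudoCoherentD m ((DCoh.Rpush π).obj ((DCoh.LTensorCx K).obj E)))
    (E : DCoh.D X) (hE : ∀ m : ℤ, DCoh.IsPseudoCoherentD m E) (m : ℤ) :
    DCoh.IsPseudoCoherentD m ((DCoh.Rpush π).obj ((DCoh.LTensorCx K).obj E)) := by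
  let S := Spec (CommRingCat.of A)
  haveI : HasInjectiveResolutions X.Modules := hasInjectiveResolutions_modules
  haveI : QuasiCompact π := quasiCompact_of_compactSpace _
  haveI : QuasiSeparated π := (HasAffineProperty.iff_of_isAffine (P := @QuasiSeparated)).2 inferInstance
  obtain ⟨N₀, hN⟩ := exists_Rpush_bound_near π (isAffineOpen_top S)
  -- approximation
  obtain ⟨r, hr⟩ := approxOn_qcqs (X := X) isClosed_univ (T := Set.univ) (by simp)
  let m' := m - b - N₀ - 2
  obtain ⟨P, α, hP, -, hα⟩ := hr m' E (isQCohD_of_pc hE) (hE _) fun i _ => Set.subset_univ _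
  obtain ⟨C, q, d, hT⟩ := distinguished_cocone_triangle α
  have hC : C.IsLE (m' - 1) := isLE_cone hT hα
  have hCq : DCoh.IsQCohD C := isQCohD_obj₃ hT (isQCohD_of_isPerfect hP) (isQCohD_of_pc hE)
  let F := DCoh.LTensorCx K ⋙ DCoh.Rpush π
  have hz : ∀ (C' : DCoh.D X) (c : ℤ), C'.IsLE c → DCoh.IsQCohD C' → ∀ i, b + c + N₀ ≤ i →
      IsZero ((DerivedCategory.homologyFunctor S.Modules i).obj (F.obj C')) := fun C' c hc hq i hi => by
    haveI := isLE_ltensorCx K hb hc
    have h1 := isZero_restrict_hd_rpush π (isQCohD_ltensor K hK hq) (b + c) ⊤ N₀ hN i hi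
    refine isZero_of_stalk _ fun x => ?_
    exact isZero_stalk_of_restrict (⊤ : S.Opens).ι ⟨x, trivial⟩ ((DerSch.stalkFunctor _ _).map_isZero h1)
  have hiso : ∀ i, m ≤ i → IsIso ((DerivedCategory.homologyFunctor S.Modules i).map (F.map α)) := fun i hi => by
    let Φ := F ⋙ DerivedCategory.homologyFunctor S.Modules i
    haveI : Φ.IsHomological := by
      haveI := isHomological_rpush_comp π (DerivedCategory.homologyFunctor S.Modules i)
      exact isHomological_ltensorCx_comp K (DCoh.Rpush π ⋙ DerivedCategory.homologyFunctor S.Modules i)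
    haveI := hC
    have hC1 : (C⟦(-1 : ℤ)⟧).IsLE m' := DerivedCategory.TStructure.t.isLE_shift C (m' - 1) (-1) m' (by omega)
    have hmono : Mono (Φ.map α) :=
      (Φ.map_distinguished_exact _ (inv_rot_of_distTriang _ hT)).mono_g
        ((hz _ m' hC1 (isQCohD_shift hCq _) i (by omega)).eq_of_src _ _)
    have hepi : Epi (Φ.map α) :=
      (Φ.map_distinguished_exact _ hT).epi_f ((hz C (m' - 1) hC hCq i (by omega)).eq_of_tgt _ _)
    exact isIso_of_mono_of_epi (Φ.map α)
  have hpc : IsPcMap m (F.map α) := ⟨fun i hi => hiso i hi.le, haveI := hiso m le_rfl; inferInstance⟩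
  refine (isPseudoCoherentD_iff m _).2 fun x => ?_
  obtain ⟨U, j, _, hx, Q, β, hQ, hβ⟩ := (isPseudoCoherentD_iff m _).1 (h P hP m) x
  exact ⟨U, j, inferInstance, hx, Q, β ≫ (rho j).map (F.map α), hQ, IsPcMap.comp hβ (hpc.map_exact _)⟩

end Groth.Agent.Perf52
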