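import Groth.Agent.Perf52.Stalks
import Groth.Agent.KFlatLib.Scheme.GlueD

/-!
# Extension by zero on derived categories, and gluing along it
-/

set_option linter.style.haveILetI false

universe u

open CategoryTheory CategoryTheory.Limits AlgebraicGeometry TopologicalSpace Pretriangulated

attribute [local instance] HasDerivedCategory.standard

namespace Groth.Agent.Perf52

open Groth.Agent.KFlatLib

variable {X U : Scheme.{u}} (j : U ⟶ X) [IsOpenImmersion j]

/-- `j_!` on derived categories. -/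
noncomputable abbrev lshD : DCoh.D U ⥤ DCoh.D X := (lsh j).mapDerivedCategory

/-- `j_! ⊣ j^*` on derived categories. -/
noncomputable def lshDAdj : lshD j ⊣ rho j :=
  letI : CatCommSq ((lsh j).mapHomologicalComplex (ComplexShape.up ℤ)) DerivedCategory.Q
      DerivedCategory.Q (lshD j) := ⟨(lsh j).mapDerivedCategoryFactors.symm⟩
  letI : CatCommSq ((Scheme.Modules.restrictFunctor j).mapHomologicalComplex (ComplexShape.up ℤ))
      DerivedCategory.Q DerivedCategory.Q (rho j) :=
    ⟨(Scheme.Modules.restrictFunctor j).mapDerivedCategoryFactors.symm⟩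
  (adjCx (lshAdj j) (ComplexShape.up ℤ)).localization
    DerivedCategory.Q (HomologicalComplex.quasiIso _ (ComplexShape.up ℤ))
    DerivedCategory.Q (HomologicalComplex.quasiIso _ (ComplexShape.up ℤ)) _ _

/-- The composite `j^* j_!` is the identity. -/
noncomputable def lshDRhoIso : lshD j ⋙ rho j ≅ 𝟭 (DCoh.D U) :=
  letI : Localization.Lifting DerivedCategory.Q (HomologicalComplex.quasiIso U.Modules (ComplexShape.up ℤ))
      ((lsh j).mapHomologicalComplex (ComplexShape.up ℤ) ⋙ rCx j ⋙ DerivedCategory.Q) (lshD j ⋙ rho j) :=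
    ⟨(Functor.associator _ _ _).symm ≪≫
      Functor.isoWhiskerRight (lsh j).mapDerivedCategoryFactors (rho j) ≪≫
      Functor.associator _ _ _ ≪≫ Functor.isoWhiskerLeft _ (rhoQ j)⟩
  letI : Localization.Lifting DerivedCategory.Q (HomologicalComplex.quasiIso U.Modules (ComplexShape.up ℤ))
      DerivedCategory.Q (𝟭 (DCoh.D U)) := ⟨Functor.rightUnitor _⟩
  Localization.liftNatIso DerivedCategory.Q (HomologicalComplex.quasiIso U.Modules (ComplexShape.up ℤ))
    ((lsh j).mapHomologicalComplex (ComplexShape.up ℤ) ⋙ rCx j ⋙ DerivedCategory.Q) DerivedCategory.Q _ _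
    ((Functor.associator _ _ _).symm ≪≫ Functor.isoWhiskerRight
      (Functor.mapHomologicalComplexCompIso (Iso.refl (lsh j ⋙ Scheme.Modules.restrictFunctor j))
          (ComplexShape.up ℤ) ≪≫
        NatIso.mapHomologicalComplex (asIso (lshAdj j).unit).symm (ComplexShape.up ℤ) ≪≫
        Functor.mapHomologicalComplexIdIso _ _) DerivedCategory.Q ≪≫ Functor.leftUnitor _)

instance isIso_lshDAdj_unit : IsIso (lshDAdj j).unit :=
  (lshDAdj j).isIso_unit_of_iso (lshDRhoIso j)

instance isIso_rho_map_counit (E : DCoh.D X) : IsIso ((rho j).map ((lshDAdj j).counit.app E)) := by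
  refine ⟨(lshDAdj j).unit.app ((rho j).obj E), ?_, (lshDAdj j).right_triangle_components E⟩
  rw [← cancel_epi ((lshDAdj j).unit.app ((rho j).obj E))]
  erw [reassoc_of% (lshDAdj j).right_triangle_components E]
  simp

/-- Extensions by zero vanish outside. -/
lemma z0_lshD (A : DCoh.D U) (x : X) (hx : x ∉ Set.range j.base) : Z0 ((lshD j).obj A) x := fun i =>
  (isZero_stalk_lsh j x hx _).of_iso
    ((DerSch.stalkFunctor X x).mapIso ((mapDCHomologyIso (lsh j) i).app A))

lemma z0_lshD_iff (A : DCoh.D U) (u : U) : Z0 ((lshD j).obj A) (j.base u) ↔ Z0 A u :=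
  (z0_rho_iff j _ u).symm.trans
    ⟨fun h => h.of_iso ((lshDRhoIso j).app A), fun h => h.of_iso ((lshDRhoIso j).app A).symm⟩

/-- A map out of `j_!` restricts to the map it corresponds to. -/
lemma rho_map_homEquiv_symm {A : DCoh.D U} {B : DCoh.D X} (v : A ⟶ (rho j).obj B) :
    (rho j).map (((lshDAdj j).homEquiv A B).symm v) = inv ((lshDAdj j).unit.app A) ≫ v := by
  rw [IsIso.eq_inv_comp]
  exact ((lshDAdj j).homEquiv_unit A B _).symm.trans (Equiv.apply_symm_apply _ _)

/-- A triangle whose first map is invertible on one summand identifies the cone with the other one. -/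
theorem isIso_inr_comp_of_triangle {𝒟 : Type*} [Category 𝒟] [Preadditive 𝒟] [HasShift 𝒟 ℤ]
    [∀ n : ℤ, (shiftFunctor 𝒟 n).Additive] [HasZeroObject 𝒟] [Pretriangulated 𝒟] [HasBinaryBiproducts 𝒟]
    {P A B F : 𝒟} (a : P ⟶ A ⊞ B) (b : A ⊞ B ⟶ F) (c : F ⟶ P⟦(1 : ℤ)⟧)
    (h : Triangle.mk a b c ∈ distTriang 𝒟) (ha : IsIso (a ≫ biprod.fst)) :
    IsIso (biprod.inr ≫ b) := by
  let σ := biprod.braiding A B
  have hT' : Triangle.mk (a ≫ σ.hom) (σ.inv ≫ b) c ∈ distTriang 𝒟 := by
    refine isomorphic_distinguished _ h _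
      (Triangle.isoMk _ _ (Iso.refl _) σ.symm (Iso.refl _) ?_ ?_ ?_)
    · change (a ≫ σ.hom) ≫ σ.inv = 𝟙 _ ≫ a
      simp
    · change (σ.inv ≫ b) ≫ 𝟙 _ = σ.inv ≫ b
      simp
    · change c ≫ (𝟙 _)⟦(1 : ℤ)⟧' = 𝟙 _ ≫ c
      rw [CategoryTheory.Functor.map_id, Category.id_comp]
      exact Category.comp_id _
  have := isIso_inl_comp_of_triangle (a ≫ σ.hom) (σ.inv ≫ b) c hT' (by simpa [σ] using ha)
  have e : biprod.inl ≫ σ.inv = (biprod.inr : B ⟶ A ⊞ B) := by
    apply biprod.hom_ext <;> simp [σ]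
  rwa [← Category.assoc, e] at this

/-- Gluing along an open: an object `M` of `X`, an object `G` of the open `U` and a map
`v : M|_U ⟶ G` which is invertible on `W`.  If `M` lives on `W` away from `U`, the result agrees
with `M` on `W` and with `G` on `U`. -/
theorem exists_pushout (M : DCoh.D X) (G : DCoh.D U) (v : (rho j).obj M ⟶ G) :
    ∃ (F : DCoh.D X) (m : M ⟶ F) (g : G ⟶ (rho j).obj F),
      IsIso g ∧ v ≫ g = (rho j).map m ∧
      (∀ {V : Scheme.{u}} (i : V ⟶ X) [IsOpenImmersion i],
        IsIso ((rho i).map ((lshD j).map v)) → IsIso ((rho i).map m)) ∧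
      (∀ (E : DCoh.D X) (α : M ⟶ E) (γ : G ⟶ (rho j).obj E), v ≫ γ = (rho j).map α →
        ∃ β : F ⟶ E, m ≫ β = α ∧ g ≫ (rho j).map β = γ) := by
  let c : (lshD j).obj ((rho j).obj M) ⟶ M := (lshDAdj j).counit.app M
  obtain ⟨F, b, d, hT⟩ := distinguished_cocone_triangle (biprod.lift c (-(lshD j).map v))
  let m : M ⟶ F := biprod.inl ≫ b
  let g' : (lshD j).obj G ⟶ F := biprod.inr ≫ b
  have hrel : c ≫ m = (lshD j).map v ≫ g' := by
    have h0 : biprod.lift (c) (-(lshD j).map v) ≫ b = 0 := comp_distTriang_mor_zero₁₂ _ hT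
    have h1 : biprod.lift (c) (-(lshD j).map v) =
        c ≫ biprod.inl - (lshD j).map v ≫ biprod.inr := by
      apply biprod.hom_ext <;> simp
    rw [h1, Preadditive.sub_comp, sub_eq_zero] at h0
    simpa [m, g'] using h0
  haveI := preservesBinaryBiproducts_of_preservesBiproducts (rho j)
  haveI : IsIso ((rho j).map g') := by
    let R := rho j
    let e := R.mapBiprod M ((lshD j).obj G)
    have h' : Triangle.mk (R.map (biprod.lift (c) (-(lshD j).map v)) ≫ e.hom) (e.inv ≫ R.map b)
        (R.mapTriangle.obj (Triangle.mk (biprod.lift c (-(lshD j).map v)) b d)).mor₃ ∈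
          distTriang (DCoh.D U) := by
      refine isomorphic_distinguished _ (R.map_distinguished _ hT) _
        (Triangle.isoMk _ _ (Iso.refl _) e.symm (Iso.refl _) ?_ ?_ ?_)
      · change (R.map (biprod.lift c (-(lshD j).map v)) ≫ e.hom) ≫ e.inv =
          𝟙 _ ≫ R.map (biprod.lift c (-(lshD j).map v))
        simp
      · change (e.inv ≫ R.map b) ≫ 𝟙 _ = e.inv ≫ R.map b
        simp
      · change (R.mapTriangle.obj _).mor₃ ≫ (𝟙 _)⟦(1 : ℤ)⟧' = 𝟙 _ ≫ _
        rw [CategoryTheory.Functor.map_id, Category.id_comp]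
        exact Category.comp_id _
    have := isIso_inr_comp_of_triangle _ _ _ h' (by
      rw [Category.assoc, Functor.mapBiprod_hom, biprod.lift_fst, ← R.map_comp, biprod.lift_fst]
      exact isIso_rho_map_counit j M)
    rw [Functor.mapBiprod_inv, ← Category.assoc, biprod.inr_desc, ← R.map_comp] at this
    exact this
  let g : G ⟶ (rho j).obj F := (lshDAdj j).homEquiv _ _ g'
  haveI : IsIso g := by
    change IsIso ((lshDAdj j).homEquiv _ _ g')
    rw [Adjunction.homEquiv_unit]
    infer_instance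
  have hg : v ≫ g = (rho j).map m := by
    apply ((lshDAdj j).homEquiv _ _).symm.injective
    rw [Adjunction.homEquiv_naturality_left_symm]
    simp only [g, Equiv.symm_apply_apply]
    rw [Adjunction.homEquiv_counit, ← hrel]
    exact ((lshDAdj j).counit.naturality m).symm
  refine ⟨F, m, g, inferInstance, hg, fun i _ hv => ?_, fun E α γ hγ => ?_⟩
  · haveI := hv
    exact isIso_map_inl_of_triangle (rho i) _ b d hT (by
      rw [biprod.lift_snd, Functor.map_neg]
      exact ⟨-inv ((rho i).map ((lshD j).map v)), by simp, by simp⟩)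
  · have hz : biprod.lift c (-(lshD j).map v) ≫
        biprod.desc α (((lshDAdj j).homEquiv _ _).symm γ) = 0 := by
      rw [biprod.lift_desc, Preadditive.neg_comp, ← sub_eq_add_neg, sub_eq_zero,
        ← Adjunction.homEquiv_naturality_left_symm, hγ, Adjunction.homEquiv_counit]
      exact ((lshDAdj j).counit.naturality α).symm
    obtain ⟨(β : F ⟶ E), (hβ : biprod.desc α (((lshDAdj j).homEquiv _ _).symm γ) = b ≫ β)⟩ :=
      Triangle.yoneda_exact₂ _ hT _ hz
    refine ⟨β, by rw [show m = biprod.inl ≫ b from rfl, Category.assoc, ← hβ, biprod.inl_desc], ?_⟩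
    apply ((lshDAdj j).homEquiv _ _).symm.injective
    rw [Adjunction.homEquiv_naturality_right_symm]
    simp only [g, Equiv.symm_apply_apply]
    simp only [g', Category.assoc, ← hβ, biprod.inr_desc]

end Groth.Agent.Perf52
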