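import Mathlib.CategoryTheory.Triangulated.Functor
import Mathlib.CategoryTheory.Triangulated.Pretriangulated

/-!
# Objects on which a triangulated functor is fully faithful
-/

set_option linter.unusedSectionVars false

universe v v' u u'

open CategoryTheory CategoryTheory.Limits Pretriangulated

namespace Groth.Agent.Perf52

variable {C : Type u} [Category.{v} C] [Preadditive C] [HasZeroObject C] [HasShift C ℤ]
  [∀ n : ℤ, (shiftFunctor C n).Additive] [Pretriangulated C]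
  {D : Type u'} [Category.{v'} D] [Preadditive D] [HasZeroObject D] [HasShift D ℤ]
  [∀ n : ℤ, (shiftFunctor D n).Additive] [Pretriangulated D]
  (F : C ⥤ D) [F.CommShift ℤ] [F.IsTriangulated]

/-- `F` is bijective on maps into `Y`. -/
def FFInto (Y : C) : Prop := ∀ B : C, Function.Bijective (fun φ : B ⟶ Y => F.map φ)

/-- `F` is bijective on maps into all shifts of `Y`. -/
def FFShifts (Y : C) : Prop := ∀ n : ℤ, FFInto F (Y⟦n⟧)

variable {F}

lemma FFInto.of_iso {Y Y' : C} (e : Y ≅ Y') (h : FFInto F Y) : FFInto F Y' := fun B => by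
  refine ⟨fun a b hab => (cancel_mono e.inv).1 ((h B).1 ?_), fun y => ?_⟩
  · simp only [Functor.map_comp] at hab ⊢
    rw [hab]
  · obtain ⟨φ, hφ⟩ := (h B).2 (y ≫ F.map e.inv)
    refine ⟨φ ≫ e.hom, ?_⟩
    simp only [Functor.map_comp] at hφ ⊢
    rw [hφ, Category.assoc, ← F.map_comp, e.inv_hom_id, F.map_id, Category.comp_id]

lemma ffInto_of_isZero [F.PreservesZeroMorphisms] {Y : C} (hY : IsZero Y) : FFInto F Y := fun _ =>
  ⟨fun _ _ _ => hY.eq_of_tgt _ _, fun _ => ⟨0, (F.map_isZero hY).eq_of_tgt _ _⟩⟩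

/-- The five lemma for maps into a triangle. -/
lemma ffInto_obj₁ {T : Triangle C} (hT : T ∈ distTriang C) (h₂ : FFInto F T.obj₂) (h₃ : FFInto F T.obj₃)
    (h₂' : FFInto F (T.obj₂⟦(-1 : ℤ)⟧)) (h₃' : FFInto F (T.obj₃⟦(-1 : ℤ)⟧)) : FFInto F T.obj₁ := by
  intro B
  have hT' := inv_rot_of_distTriang T hT
  have hT'' := inv_rot_of_distTriang _ hT'
  let k : T.obj₃⟦(-1 : ℤ)⟧ ⟶ T.obj₁ := T.invRotate.mor₁
  let k' : T.obj₂⟦(-1 : ℤ)⟧ ⟶ T.obj₃⟦(-1 : ℤ)⟧ := T.invRotate.invRotate.mor₁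
  refine ⟨?_, fun y => ?_⟩
  · suffices h : ∀ a : B ⟶ T.obj₁, F.map a = 0 → a = 0 from fun a b hab =>
      sub_eq_zero.1 (h (a - b) (by rw [F.map_sub]; exact sub_eq_zero.2 hab))
    intro a ha
    have ha' : a ≫ T.mor₁ = 0 := (h₂ B).1 (by
      simp only [F.map_comp, ha, zero_comp, F.map_zero])
    obtain ⟨(c : B ⟶ T.obj₃⟦(-1 : ℤ)⟧), (hc : a = c ≫ k)⟩ := Triangle.coyoneda_exact₂ _ hT' a ha'
    have hc' : F.map c ≫ F.map k = 0 := by
      rw [← F.map_comp, ← hc, ha]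
    obtain ⟨(y : F.obj B ⟶ F.obj (T.obj₂⟦(-1 : ℤ)⟧)), (hy : F.map c = y ≫ F.map k')⟩ :=
      Triangle.coyoneda_exact₂ _ (F.map_distinguished _ hT'') (F.map c) hc'
    obtain ⟨b, hb⟩ := (h₂' B).2 y
    have hcb : c = b ≫ k' := (h₃' B).1 (hy.trans (by
      simp only [← hb]
      exact (F.map_comp _ _).symm))
    rw [hc, hcb]
    exact (Category.assoc _ _ _).trans
      ((congrArg (b ≫ ·) (show k' ≫ k = 0 from comp_distTriang_mor_zero₁₂ _ hT'')).trans comp_zero)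
  · obtain ⟨b, hb⟩ := (h₂ B).2 (y ≫ F.map T.mor₁)
    simp only at hb
    have hb' : b ≫ T.mor₂ = 0 := (h₃ B).1 (by
      simp only [F.map_comp, hb, F.map_zero]
      rw [Category.assoc, ← F.map_comp, comp_distTriang_mor_zero₁₂ _ hT, F.map_zero, comp_zero])
    obtain ⟨a, ha⟩ := Triangle.coyoneda_exact₂ _ hT b hb'
    have hy : (y - F.map a) ≫ F.map T.mor₁ = 0 := by
      rw [Preadditive.sub_comp, ← hb, ← F.map_comp, ← ha, sub_self]
    obtain ⟨(y' : F.obj B ⟶ F.obj (T.obj₃⟦(-1 : ℤ)⟧)), (hy' : y - F.map a = y' ≫ F.map k)⟩ :=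
      Triangle.coyoneda_exact₂ _ (F.map_distinguished _ hT') (y - F.map a) hy
    obtain ⟨c, hc⟩ := (h₃' B).2 y'
    refine ⟨a + c ≫ k, ?_⟩
    simp only at hc ⊢
    rw [F.map_add, F.map_comp, hc]
    exact (congrArg (F.map a + ·) hy'.symm).trans (add_sub_cancel _ _)

lemma ffShifts_obj₁ {T : Triangle C} (hT : T ∈ distTriang C) (h₂ : FFShifts F T.obj₂)
    (h₃ : FFShifts F T.obj₃) : FFShifts F T.obj₁ := fun n =>
  ffInto_obj₁ (Triangle.shift_distinguished T hT n) (h₂ n) (h₃ n)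
    ((h₂ (n + -1)).of_iso ((shiftFunctorAdd C n (-1)).app _))
    ((h₃ (n + -1)).of_iso ((shiftFunctorAdd C n (-1)).app _))

lemma ffShifts_of_isZero [F.PreservesZeroMorphisms] {Y : C} (hY : IsZero Y) : FFShifts F Y := fun n =>
  ffInto_of_isZero ((shiftFunctor C n).map_isZero hY)

lemma FFShifts.of_iso {Y Y' : C} (e : Y ≅ Y') (h : FFShifts F Y) : FFShifts F Y' := fun n =>
  (h n).of_iso ((shiftFunctor C n).mapIso e)

lemma FFShifts.ffInto {Y : C} (h : FFShifts F Y) : FFInto F Y :=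
  (h 0).of_iso ((shiftFunctorZero C ℤ).app Y)

end Groth.Agent.Perf52
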