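import Groth.Agent.KFlatLib.Scheme.SupportPush
import Groth.Agent.KFlatLib.Scheme.PCQCoh
import Groth.Agent.KFlatLib.Perfect.Amplitude

/-!
# Pointwise vanishing of objects of the derived category of a scheme

`Z0 K x` : all cohomology sheaves of `K` have zero stalk at `x`.
-/

set_option linter.style.haveILetI false

universe u

open CategoryTheory CategoryTheory.Limits AlgebraicGeometry TopologicalSpace Pretriangulated

attribute [local instance] HasDerivedCategory.standard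

namespace Groth.Agent.Perf52

open Groth.Agent.KFlatLib

variable {X U : Scheme.{u}}

/-- All cohomology sheaves of `K` have zero stalk at `x`. -/
def Z0 (K : DCoh.D X) (x : X) : Prop :=
  ∀ i : ℤ, IsZero ((DerSch.stalkFunctor X x).obj (DCoh.HD K i))

/-- `K` is supported in `T`. -/
def SuppOn (K : DCoh.D X) (T : Set X) : Prop := ∀ x ∉ T, Z0 K x

lemma isZero_stalk_iff (M : X.Modules) (x : X) :
    IsZero ((DerSch.stalkFunctor X x).obj M) ↔ x ∉ CohB1.support M := by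
  rw [ModuleCat.isZero_iff_subsingleton]
  exact not_not.symm

lemma suppOn_iff (K : DCoh.D X) (T : Set X) :
    SuppOn K T ↔ ∀ i : ℤ, CohB1.support (DCoh.HD K i) ⊆ T := by
  refine ⟨fun h i x hx => ?_, fun h x hx i => (isZero_stalk_iff _ _).2 fun hx' => hx (h i hx')⟩
  by_contra hxT
  exact (isZero_stalk_iff _ _).1 (h x hxT i) hx

lemma SuppOn.mono {K : DCoh.D X} {S T : Set X} (h : SuppOn K S) (hST : S ⊆ T) : SuppOn K T :=
  fun x hx => h x fun hs => hx (hST hs)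

lemma suppOn_univ (K : DCoh.D X) : SuppOn K Set.univ := fun x hx => absurd (Set.mem_univ x) hx

lemma Z0.of_iso {K L : DCoh.D X} {x : X} (e : K ≅ L) (h : Z0 K x) : Z0 L x := fun i =>
  (h i).of_iso ((DerSch.stalkFunctor X x).mapIso
    ((DerivedCategory.homologyFunctor X.Modules i).mapIso e.symm))

lemma Z0.shift {K : DCoh.D X} {x : X} (h : Z0 K x) (n : ℤ) : Z0 (K⟦n⟧) x := fun i =>
  (h (n + i)).of_iso ((DerSch.stalkFunctor X x).mapIso
    (((DerivedCategory.homologyFunctor X.Modules 0).shiftIso n i (n + i) rfl).app K))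

lemma z0_of_isZero {K : DCoh.D X} (hK : IsZero K) (x : X) : Z0 K x := fun i =>
  (DerSch.stalkFunctor X x).map_isZero ((DerivedCategory.homologyFunctor X.Modules i).map_isZero hK)

lemma z0_obj₂ {T : Triangle (DCoh.D X)} (hT : T ∈ distTriang _) {x : X}
    (h₁ : Z0 T.obj₁ x) (h₃ : Z0 T.obj₃ x) : Z0 T.obj₂ x := fun i =>
  (((DerivedCategory.HomologySequence.exact₂ T hT i).map (DerSch.stalkFunctor X x))).isZero_of_both_zeros
    ((h₁ i).eq_of_src _ _) ((h₃ i).eq_of_tgt _ _)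

lemma z0_obj₃ {T : Triangle (DCoh.D X)} (hT : T ∈ distTriang _) {x : X}
    (h₁ : Z0 T.obj₁ x) (h₂ : Z0 T.obj₂ x) : Z0 T.obj₃ x :=
  z0_obj₂ (rot_of_distTriang _ hT) h₂ (h₁.shift 1)

lemma z0_obj₁ {T : Triangle (DCoh.D X)} (hT : T ∈ distTriang _) {x : X}
    (h₂ : Z0 T.obj₂ x) (h₃ : Z0 T.obj₃ x) : Z0 T.obj₁ x :=
  z0_obj₂ (inv_rot_of_distTriang _ hT) (h₃.shift (-1)) h₂

lemma Z0.retract {K L : DCoh.D X} {x : X} (h : Z0 K x) (i : L ⟶ K) (p : K ⟶ L)
    (hip : i ≫ p = 𝟙 L) : Z0 L x := fun n => by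
  let F := DerivedCategory.homologyFunctor X.Modules n ⋙ DerSch.stalkFunctor X x
  rw [IsZero.iff_id_eq_zero]
  have : 𝟙 (F.obj L) = F.map i ≫ F.map p := by rw [← F.map_comp, hip, F.map_id]
  exact this.trans (((h n).eq_of_tgt (F.map i) 0).symm ▸ zero_comp)

lemma isZero_of_z0 {K : DCoh.D X} (h : ∀ x, Z0 K x) : IsZero K := by
  have hz : ∀ i, IsZero (DCoh.HD K i) := fun i => isZero_of_stalk _ fun x => h x i
  haveI : IsIso (0 : K ⟶ K) := (DerivedCategory.isIso_iff _ _).2 fun i => by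
    exact ⟨0, (hz i).eq_of_src _ _, (hz i).eq_of_src _ _⟩
  exact (IsZero.iff_id_eq_zero _).2 ((isIsoZeroEquiv K K).toFun inferInstance).1

lemma SuppOn.of_iso {K L : DCoh.D X} {T : Set X} (e : K ≅ L) (h : SuppOn K T) : SuppOn L T :=
  fun x hx => (h x hx).of_iso e

lemma SuppOn.shift {K : DCoh.D X} {T : Set X} (h : SuppOn K T) (n : ℤ) : SuppOn (K⟦n⟧) T :=
  fun x hx => (h x hx).shift n

lemma suppOn_obj₃ {Δ : Triangle (DCoh.D X)} (hΔ : Δ ∈ distTriang _) {T : Set X}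
    (h₁ : SuppOn Δ.obj₁ T) (h₂ : SuppOn Δ.obj₂ T) : SuppOn Δ.obj₃ T :=
  fun x hx => z0_obj₃ hΔ (h₁ x hx) (h₂ x hx)

lemma suppOn_obj₂ {Δ : Triangle (DCoh.D X)} (hΔ : Δ ∈ distTriang _) {T : Set X}
    (h₁ : SuppOn Δ.obj₁ T) (h₃ : SuppOn Δ.obj₃ T) : SuppOn Δ.obj₂ T :=
  fun x hx => z0_obj₂ hΔ (h₁ x hx) (h₃ x hx)

lemma suppOn_obj₁ {Δ : Triangle (DCoh.D X)} (hΔ : Δ ∈ distTriang _) {T : Set X}
    (h₂ : SuppOn Δ.obj₂ T) (h₃ : SuppOn Δ.obj₃ T) : SuppOn Δ.obj₁ T :=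
  fun x hx => z0_obj₁ hΔ (h₂ x hx) (h₃ x hx)

/-- Stalkwise vanishing is local. -/
lemma z0_rho_iff (j : U ⟶ X) [IsOpenImmersion j] (K : DCoh.D X) (u : U) :
    Z0 ((rho j).obj K) u ↔ Z0 K (j.base u) := by
  constructor <;> intro h i
  · exact isZero_stalk_of_restrict j u ((h i).of_iso
      ((DerSch.stalkFunctor U u).mapIso (restrictHDIso j K i).symm))
  · refine IsZero.of_iso ?_ ((DerSch.stalkFunctor U u).mapIso (restrictHDIso j K i))
    haveI := ModuleCat.subsingleton_of_isZero (h i)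
    let e := ((Scheme.Modules.restrictStalkNatIso j u).app (DCoh.HD K i)).addCommGroupIsoToAddEquiv
    haveI : Subsingleton ((DerSch.stalkFunctor U u).obj ((DCoh.HD K i).restrict j) : Type u) :=
      e.toEquiv.injective.subsingleton (β := ((DerSch.stalkFunctor X (j.base u)).obj (DCoh.HD K i) : Type u))
    exact ModuleCat.isZero_of_subsingleton _

lemma isZero_rho_obj_iff (j : U ⟶ X) [IsOpenImmersion j] (K : DCoh.D X) :
    IsZero ((rho j).obj K) ↔ ∀ u : U, Z0 K (j.base u) :=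
  ⟨fun h u => (z0_rho_iff j K u).1 (z0_of_isZero h u),
    fun h => isZero_of_z0 fun u => (z0_rho_iff j K u).2 (h u)⟩

/-- A map is invertible on an open iff its cone vanishes there. -/
lemma isIso_rho_map_iff (j : U ⟶ X) [IsOpenImmersion j] (T : Triangle (DCoh.D X))
    (hT : T ∈ distTriang _) :
    IsIso ((rho j).map T.mor₁) ↔ ∀ u : U, Z0 T.obj₃ (j.base u) := by
  rw [← isZero_rho_obj_iff]
  exact ((Triangle.isZero₃_iff_isIso₁ _ ((rho j).map_distinguished T hT)).symm :)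

lemma isIso_iff_z0 (T : Triangle (DCoh.D X)) (hT : T ∈ distTriang _) :
    IsIso T.mor₁ ↔ ∀ x, Z0 T.obj₃ x :=
  ⟨fun h => z0_of_isZero ((Triangle.isZero₃_iff_isIso₁ _ hT).2 h),
    fun h => (Triangle.isZero₃_iff_isIso₁ _ hT).1 (isZero_of_z0 h)⟩

end Groth.Agent.Perf52
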