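import Groth.Agent.Perf52.DQCohAffine
import Groth.Agent.Perf52.FFTri
import Groth.Agent.Perf52.Stalks
import Groth.Agent.Perf52.ExtD

/-!
# `D(QCoh X) ≃ D_QCoh(X)` for quasi-compact schemes with affine diagonal
-/

set_option linter.style.haveILetI false
set_option backward.isDefEq.respectTransparency false
set_option backward.isDefEq.respectTransparency.types false

universe u

open CategoryTheory CategoryTheory.Limits AlgebraicGeometry Pretriangulated TopologicalSpace

attribute [local instance] HasDerivedCategory.standard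

namespace Groth.Agent.Perf52

open Groth.Agent Groth.Agent.KFlatLib

variable {X : Scheme.{u}}

/-- An object representing maps out of restrictions to an open is supported where its restriction is. -/
theorem suppOn_of_bijective {U : Scheme.{u}} (j : U ⟶ X) [IsOpenImmersion j] {T : Set X} (hT : IsClosed T)
    {M : DCoh.D X} (hMT : SuppOn ((rho j).obj M) (j.base ⁻¹' T))
    (hbij : ∀ K : DCoh.D X, Function.Bijective (fun φ : K ⟶ M => (rho j).map φ)) : SuppOn M T := fun x hx => by
  let W : X.Opens := ⟨Tᶜ, hT.isOpen_compl⟩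
  have hz : IsZero ((rho j).obj ((lshD W.ι).obj ((rho W.ι).obj M))) := by
    refine (isZero_rho_obj_iff _ _).2 fun w => ?_
    by_cases hw : j.base w ∈ W
    · refine (z0_lshD_iff W.ι _ ⟨_, hw⟩).2 ((z0_rho_iff W.ι M ⟨_, hw⟩).2 ?_)
      exact (z0_rho_iff j M w).1 (hMT w hw)
    · refine z0_lshD W.ι _ _ ?_
      rw [Scheme.Opens.range_ι]
      exact hw
  have h0 : (lshDAdj W.ι).counit.app M = 0 := (hbij _).1 (hz.eq_of_src _ _)
  have hW : IsZero ((rho W.ι).obj M) := by
    have h1 := isIso_rho_map_counit W.ι M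
    rw [h0, Functor.map_zero] at h1
    exact ((isIsoZeroEquiv _ _).toFun h1).2 |> (IsZero.iff_id_eq_zero _).2
  exact (isZero_rho_obj_iff W.ι M).1 hW ⟨x, hx⟩

lemma isAffineHom_fromSpec
    (hdiag : ∀ U V : X.Opens, IsAffineOpen U → IsAffineOpen V → IsAffineOpen (U ⊓ V))
    {U : X.Opens} (hU : IsAffineOpen U) : IsAffineHom hU.fromSpec := ⟨fun V hV => by
  rw [← hU.fromSpec.isAffineOpen_iff_of_isOpenImmersion,
    Scheme.Hom.image_preimage_eq_opensRange_inf, hU.opensRange_fromSpec]
  exact hdiag U V hU hV⟩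

variable [ObjectProperty.ContainsZero (fun M : X.Modules => Coh.IsQCoh M)]
  [ObjectProperty.IsClosedUnderKernels (fun M : X.Modules => Coh.IsQCoh M)]
  [ObjectProperty.IsClosedUnderCokernels (fun M : X.Modules => Coh.IsQCoh M)]
  [ObjectProperty.IsClosedUnderFiniteProducts (fun M : X.Modules => Coh.IsQCoh M)]
  [PreservesFiniteLimits (qcι X)] [PreservesFiniteColimits (qcι X)]

/-- Complexes of quasi-coherent modules have quasi-coherent cohomology. -/
lemma isQCohD_qcιD (B : DerivedCategory (QC X)) : DCoh.IsQCohD ((qcι X).mapDerivedCategory.obj B) := fun n =>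
  KFlatLib.isQCoh_of_iso ((mapDCHomologyIso (qcι X) n).app B).symm
    ((DerivedCategory.homologyFunctor (QC X) n).obj B).property

lemma isZero_of_qcιD {B : DerivedCategory (QC X)} (h : IsZero ((qcι X).mapDerivedCategory.obj B)) : IsZero B := by
  have hz : ∀ i, IsZero ((DerivedCategory.homologyFunctor (QC X) i).obj B) := fun i => by
    have h1 : IsZero ((qcι X).obj ((DerivedCategory.homologyFunctor (QC X) i).obj B)) :=
      ((DerivedCategory.homologyFunctor X.Modules i).map_isZero h).of_iso ((mapDCHomologyIso (qcι X) i).app B).symm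
    rw [IsZero.iff_id_eq_zero] at h1 ⊢
    exact (qcι X).map_injective (by rw [CategoryTheory.Functor.map_id, h1, Functor.map_zero])
  haveI : IsIso (0 : B ⟶ B) := (DerivedCategory.isIso_iff _ _).2 fun i =>
    ⟨0, (hz i).eq_of_src _ _, (hz i).eq_of_src _ _⟩
  exact (IsZero.iff_id_eq_zero _).2 ((isIsoZeroEquiv B B).toFun inferInstance).1

section Affine

variable {U : X.Opens} (hU : IsAffineOpen U) [IsAffineHom hU.fromSpec]

lemma suppOn_pushA_secA (B : DerivedCategory (QC X)) {T : Set X} (hT : IsClosed T)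
    (hB : SuppOn ((qcι X).mapDerivedCategory.obj B) T) :
    SuppOn ((qcι X).mapDerivedCategory.obj
      ((pushA hU.fromSpec).mapDerivedCategory.obj ((secA hU.fromSpec).mapDerivedCategory.obj B))) T := by
  let j := hU.fromSpec
  refine suppOn_of_bijective j hT ?_ (bijective_rho_pushA j _)
  refine SuppOn.of_iso ((rhoSecIso j).app B ≪≫ (DCoh.tildeD _).mapIso
    (asIso ((secAdjD j).counit.app ((secA j).mapDerivedCategory.obj B))).symm ≪≫ ((rhoSecIso j).app _).symm) ?_
  exact fun u hu => (z0_rho_iff j _ u).2 (hB _ hu)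

/-- The cone of the unit vanishes on the affine open. -/
lemma z0_cone_unit (B : DerivedCategory (QC X)) {C : DerivedCategory (QC X)}
    {g : (pushA hU.fromSpec).mapDerivedCategory.obj ((secA hU.fromSpec).mapDerivedCategory.obj B) ⟶ C}
    {h : C ⟶ B⟦(1 : ℤ)⟧}
    (hT : Triangle.mk ((secAdjD hU.fromSpec).unit.app B) g h ∈ distTriang _) {x : X} (hx : x ∈ U) :
    Z0 ((qcι X).mapDerivedCategory.obj C) x := by
  let j := hU.fromSpec
  obtain ⟨u, rfl⟩ : x ∈ Set.range j.base := by
    rw [hU.range_fromSpec]; exact hx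
  refine (isIso_rho_map_iff j _ ((qcι X).mapDerivedCategory.map_distinguished _ hT)).1 ?_ u
  change IsIso ((rho j).map ((qcι X).mapDerivedCategory.map ((secAdjD j).unit.app B)))
  refine (NatIso.isIso_map_iff (rhoSecIso j) ((secAdjD j).unit.app B)).2 ?_
  haveI : IsIso ((secA j).mapDerivedCategory.map ((secAdjD j).unit.app B)) := by
    have hid : IsIso ((secA j).mapDerivedCategory.map ((secAdjD j).unit.app B) ≫
        (secAdjD j).counit.app ((secA j).mapDerivedCategory.obj B)) := by
      rw [(secAdjD j).left_triangle_components B]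
      exact ⟨⟨𝟙 _, Category.id_comp _, Category.id_comp _⟩⟩
    exact @IsIso.of_isIso_comp_right _ _ _ _ _ _ ((secAdjD j).counit.app ((secA j).mapDerivedCategory.obj B))
      inferInstance hid
  exact inferInstanceAs (IsIso ((DCoh.tildeD _).map ((secA j).mapDerivedCategory.map ((secAdjD j).unit.app B))))

lemma ffShifts_pushA (N : DerivedCategory (ModuleCat.{u} Γ(X, U))) :
    FFShifts (qcι X).mapDerivedCategory ((pushA hU.fromSpec).mapDerivedCategory.obj N) := fun n =>
  FFInto.of_iso (((pushA hU.fromSpec).mapDerivedCategory.commShiftIso n).app N)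
    fun B => bijective_qcιD_pushA hU.fromSpec B (N⟦n⟧)

end Affine

section Global

variable (hdiag : ∀ U V : X.Opens, IsAffineOpen U → IsAffineOpen V → IsAffineOpen (U ⊓ V))

include hdiag

lemma ffShifts_aux (s : Finset X.affineOpens) : ∀ (W : X.Opens),
    (∀ x, x ∈ W ∨ ∃ V ∈ s, x ∈ V.1) → ∀ B : DerivedCategory (QC X),
      SuppOn ((qcι X).mapDerivedCategory.obj B) (W : Set X)ᶜ → FFShifts (qcι X).mapDerivedCategory B := by
  classical
  induction s using Finset.induction with
  | empty =>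
    intro W hW B hB
    refine ffShifts_of_isZero (isZero_of_qcιD (isZero_of_z0 fun x => hB x ?_))
    exact not_not_intro ((hW x).resolve_right fun ⟨_, h, _⟩ => absurd h (Finset.notMem_empty _))
  | @insert V s hV ih =>
    intro W hW B hB
    haveI := isAffineHom_fromSpec hdiag V.2
    obtain ⟨C, g, h, hT⟩ := distinguished_cocone_triangle ((secAdjD V.2.fromSpec).unit.app B)
    refine ffShifts_obj₁ hT (ffShifts_pushA V.2 _) (ih (W ⊔ V.1) (fun x => ?_) C fun x hx => ?_)
    · obtain hx | ⟨V', hV', hx⟩ := hW x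
      · exact Or.inl (Or.inl hx)
      · obtain rfl | hV' := Finset.mem_insert.1 hV'
        · exact Or.inl (Or.inr hx)
        · exact Or.inr ⟨V', hV', hx⟩
    · obtain hxW | hxV := (not_not.1 hx : x ∈ W ⊔ V.1)
      · exact suppOn_obj₃ ((qcι X).mapDerivedCategory.map_distinguished _ hT) hB
          (suppOn_pushA_secA V.2 B W.2.isClosed_compl hB) x (not_not_intro hxW)
      · exact z0_cone_unit V.2 B hT hxV

lemma essImage_aux (s : Finset X.affineOpens)
    (hff : ∀ B : DerivedCategory (QC X), FFShifts (qcι X).mapDerivedCategory B) : ∀ (W : X.Opens),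
    (∀ x, x ∈ W ∨ ∃ V ∈ s, x ∈ V.1) → ∀ K : DCoh.D X, DCoh.IsQCohD K → SuppOn K (W : Set X)ᶜ →
      ∃ B, Nonempty ((qcι X).mapDerivedCategory.obj B ≅ K) := by
  classical
  induction s using Finset.induction with
  | empty =>
    intro W hW K _ hK
    have hz : IsZero K := isZero_of_z0 fun x => hK x
      (not_not_intro ((hW x).resolve_right fun ⟨_, h, _⟩ => absurd h (Finset.notMem_empty _)))
    obtain ⟨Z, hZ⟩ := HasZeroObject.zero (C := DerivedCategory (QC X))
    exact ⟨Z, ⟨((qcι X).mapDerivedCategory.map_isZero hZ).iso hz⟩⟩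
  | @insert V s hV ih =>
    intro W hW K hKq hK
    haveI := isAffineHom_fromSpec hdiag V.2
    let j := V.2.fromSpec
    obtain ⟨N, ⟨eN⟩⟩ := exists_tildeD_iso (isQCohD_rho j hKq)
    let Y := (qcι X).mapDerivedCategory.obj ((pushA j).mapDerivedCategory.obj N)
    let θ : (rho j).obj Y ≅ (rho j).obj K := (rhoSecIso j).app _ ≪≫
      (DCoh.tildeD _).mapIso (asIso ((secAdjD j).counit.app N)) ≪≫ eN
    obtain ⟨φ, hφ⟩ := (bijective_rho_pushA j N K).2 θ.inv
    simp only at hφ
    have hY : SuppOn Y (W : Set X)ᶜ := suppOn_of_bijective j W.2.isClosed_compl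
      (SuppOn.of_iso θ.symm fun u hu => (z0_rho_iff j K u).2 (hK _ hu)) (bijective_rho_pushA j N)
    obtain ⟨C, g, h, hT⟩ := distinguished_cocone_triangle φ
    obtain ⟨B₁, ⟨e₁⟩⟩ := ih (W ⊔ V.1) (fun x => by
        obtain hx | ⟨V', hV', hx⟩ := hW x
        · exact Or.inl (Or.inl hx)
        · obtain rfl | hV' := Finset.mem_insert.1 hV'
          · exact Or.inl (Or.inr hx)
          · exact Or.inr ⟨V', hV', hx⟩)
      C (isQCohD_obj₃ hT hKq (isQCohD_qcιD _)) fun x hx => by
        obtain hxW | hxV := (not_not.1 hx : x ∈ W ⊔ V.1)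
        · exact suppOn_obj₃ hT hK hY x (not_not_intro hxW)
        · obtain ⟨u, rfl⟩ : x ∈ Set.range j.base := by
            rw [V.2.range_fromSpec]; exact hxV
          refine (isIso_rho_map_iff j _ hT).1 ?_ u
          change IsIso ((rho j).map φ)
          rw [hφ]; infer_instance
    obtain ⟨g', hg'⟩ := ((hff B₁).ffInto _).2 (g ≫ e₁.inv)
    simp only at hg'
    obtain ⟨B₀, f₀, h₀, hT₀⟩ := distinguished_cocone_triangle₁ g'
    let e := isoTriangleOfIso₁₂ _ _ (rot_of_distTriang _ hT)
      (rot_of_distTriang _ ((qcι X).mapDerivedCategory.map_distinguished _ hT₀)) (Iso.refl Y) e₁.symm (by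
        change g ≫ e₁.inv = 𝟙 _ ≫ (qcι X).mapDerivedCategory.map g'
        rw [Category.id_comp, hg'])
    exact ⟨B₀, ⟨(shiftFunctor (DCoh.D X) (1 : ℤ)).preimageIso (Triangle.π₃.mapIso e).symm⟩⟩

variable [CompactSpace X]

omit [ObjectProperty.ContainsZero (fun M : X.Modules => Coh.IsQCoh M)]
  [ObjectProperty.IsClosedUnderKernels (fun M : X.Modules => Coh.IsQCoh M)]
  [ObjectProperty.IsClosedUnderCokernels (fun M : X.Modules => Coh.IsQCoh M)]
  [ObjectProperty.IsClosedUnderFiniteProducts (fun M : X.Modules => Coh.IsQCoh M)]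
  [PreservesFiniteLimits (qcι X)] [PreservesFiniteColimits (qcι X)] hdiag in
lemma exists_affine_cover : ∃ s : Finset X.affineOpens, ∀ x : X, ∃ V ∈ s, x ∈ V.1 := by
  obtain ⟨F, hF⟩ := isCompact_univ.elim_finite_subcover (fun V : X.affineOpens => (V.1 : Set X))
    (fun V => V.1.2) fun x _ => by
      obtain ⟨_, ⟨V, hV, rfl⟩, hxV, -⟩ := X.isBasis_affineOpens.exists_subset_of_mem_open
        (Set.mem_univ x) isOpen_univ
      exact Set.mem_iUnion.2 ⟨⟨V, hV⟩, hxV⟩
  exact ⟨F, fun x => by simpa using Set.mem_iUnion₂.1 (hF (Set.mem_univ x))⟩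

/-- `D(QCoh X) → D(X)` is fully faithful. -/
theorem ffShifts_qcιD (B : DerivedCategory (QC X)) : FFShifts (qcι X).mapDerivedCategory B := by
  obtain ⟨s, hs⟩ := exists_affine_cover (X := X)
  exact ffShifts_aux hdiag s ⊥ (fun x => Or.inr (hs x)) B fun x hx => absurd (fun h => h) hx

/-- `D(QCoh X) ≃ D_QCoh(X)`. -/
theorem qcιD_equivalence :
    (qcι X).mapDerivedCategory.Full ∧ (qcι X).mapDerivedCategory.Faithful ∧
      ∀ K : DCoh.D X, DCoh.IsQCohD K ↔ ∃ M, Nonempty ((qcι X).mapDerivedCategory.obj M ≅ K) := by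
  have hff := ffShifts_qcιD (X := X) hdiag
  refine ⟨⟨fun {B C} g => ((hff C).ffInto B).2 g⟩, ⟨fun {B C} a b h => ((hff C).ffInto B).1 h⟩, fun K =>
    ⟨fun hK => ?_, fun ⟨M, ⟨e⟩⟩ => isQCohD_of_iso e (isQCohD_qcιD M)⟩⟩
  obtain ⟨s, hs⟩ := exists_affine_cover (X := X)
  exact essImage_aux hdiag s hff ⊥ (fun x => Or.inr (hs x)) K hK fun x hx => absurd (fun h => h) hx

end Global

end Groth.Agent.Perf52
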