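import Groth.Agent.Perf52.PushData
import Groth.Agent.Perf52.Affine
import Groth.Agent.KFlatLib.Scheme.AffinePush
import Groth.Agent.KFlatLib.Scheme.ProjLocFree
import Groth.Agent.QCoh.CokerQC
import Groth.Agent.QCoh.TensorUnit
import Mathlib.CategoryTheory.Adjunction.Restrict
import Mathlib.CategoryTheory.Localization.Adjunction
import Mathlib.CategoryTheory.Abelian.Subcategory

/-!
# Quasi-coherent complexes pushed forward from an affine open
-/

set_option linter.style.haveILetI false
set_option backward.isDefEq.respectTransparency false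
set_option backward.isDefEq.respectTransparency.types false

universe u

open CategoryTheory CategoryTheory.Limits AlgebraicGeometry Pretriangulated TopologicalSpace

attribute [local instance] HasDerivedCategory.standard

namespace Groth.Agent.Perf52

open Groth.Agent Groth.Agent.KFlatLib

/-- Quasi-coherent modules. -/
abbrev QC (X : Scheme.{u}) := ObjectProperty.FullSubcategory (fun M : X.Modules => Coh.IsQCoh M)

/-- The inclusion of quasi-coherent modules. -/
abbrev qcι (X : Scheme.{u}) : QC X ⥤ X.Modules := ObjectProperty.ι (fun M : X.Modules => Coh.IsQCoh M)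

/-- A direct image along a affine morphism of an epimorphism of quasi-coherent modules. -/
lemma epi_push_affine {Z X : Scheme.{u}} (i : Z ⟶ X) [IsAffineHom i] {M N : Z.Modules} (hM : Coh.IsQCoh M) (hN : Coh.IsQCoh N)
    (φ : M ⟶ N) [Epi φ] : Epi ((Scheme.Modules.pushforward i).map φ) := by
  refine Preadditive.epi_of_cancel_zero _ fun {W} g hg => QCoh.hom_ext_app fun U y => ?_
  refine TopCat.Sheaf.eq_of_locally_eq' ⟨W.presheaf, W.isSheaf⟩
    (fun V : {V : X.affineOpens // V.1 ≤ U} => V.1.1) U (fun V => homOfLE V.2) (fun z hz => ?_) _ _ fun V => ?_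
  · obtain ⟨_, ⟨V, hV, rfl⟩, hzV, hVU⟩ := X.isBasis_affineOpens.exists_subset_of_mem_open hz U.isOpen
    exact Opens.mem_iSup.2 ⟨⟨⟨V, hV⟩, hVU⟩, hzV⟩
  · obtain ⟨m, hm⟩ := QCoh.app_surjective_of_epi hM hN φ (V.1.2.preimage i)
      (((Scheme.Modules.pushforward i).obj N).presheaf.map (homOfLE V.2).op y)
    refine ((QCoh.map_app_comm g (homOfLE V.2) y).symm.trans ?_).trans (map_zero _).symm
    rw [← hm]
    exact congr(($hg).app V.1.1 m)

section Affine

variable {A : CommRingCat.{u}}

/-- Modules as quasi-coherent sheaves. -/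
noncomputable abbrev tildeQ (A : CommRingCat.{u}) : ModuleCat.{u} A ⥤ QC (Spec A) :=
  ObjectProperty.lift (fun M : (Spec A).Modules => Coh.IsQCoh M) (tilde.functor A)
    fun N => QCoh.isQCoh_spec_iff.2 ((tilde.functor A).obj_mem_essImage N)

instance isEquivalence_tildeQ : (tildeQ A).IsEquivalence :=
  haveI : (tilde.functor A).Faithful := (tilde.fullyFaithfulFunctor).faithful
  haveI : (tildeQ A).Faithful := ⟨fun h => (tilde.functor A).map_injective (congrArg (fun f => f.hom) h)⟩
  haveI : (tildeQ A).Full := ⟨fun g => ⟨(tilde.functor A).preimage g.hom,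
    ObjectProperty.hom_ext _ ((tilde.functor A).map_preimage g.hom)⟩⟩
  haveI : (tildeQ A).EssSurj := ⟨fun M => by
    obtain ⟨N, ⟨e⟩⟩ := QCoh.isQCoh_spec_iff.1 M.property
    exact ⟨N, ⟨ObjectProperty.isoMk _ e⟩⟩⟩
  { }

variable {X : Scheme.{u}} (j : Spec A ⟶ X) [IsOpenImmersion j] [QuasiCompact j]

/-- Restriction of quasi-coherent modules. -/
noncomputable abbrev resQ : QC X ⥤ QC (Spec A) :=
  ObjectProperty.lift (fun M : (Spec A).Modules => Coh.IsQCoh M)
    (qcι X ⋙ Scheme.Modules.restrictFunctor j) fun M => QCoh.isQCoh_restrict j M.property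

/-- Direct image of quasi-coherent modules. -/
noncomputable abbrev pushQ : QC (Spec A) ⥤ QC X :=
  ObjectProperty.lift (fun M : X.Modules => Coh.IsQCoh M)
    (qcι (Spec A) ⋙ Scheme.Modules.pushforward j) fun M => QCoh.isQCoh_pushforward j M.property

/-- `res ⊣ push`. -/
noncomputable def resPushAdj : resQ j ⊣ pushQ j :=
  Adjunction.restrictFullyFaithful (Scheme.Modules.restrictAdjunction j)
    (ObjectProperty.fullyFaithfulι (fun M : X.Modules => Coh.IsQCoh M))
    (ObjectProperty.fullyFaithfulι (fun M : (Spec A).Modules => Coh.IsQCoh M))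
    (Iso.refl _) (Iso.refl _)

/-- Sections over the affine open. -/
noncomputable def secA : QC X ⥤ ModuleCat.{u} A := resQ j ⋙ (tildeQ A).inv

/-- The direct image of `tilde`. -/
noncomputable def pushA : ModuleCat.{u} A ⥤ QC X := tildeQ A ⋙ pushQ j

/-- `secA ⊣ pushA`. -/
noncomputable def secAdj : secA j ⊣ pushA j :=
  (resPushAdj j).comp (tildeQ A).asEquivalence.symm.toAdjunction

/-- `pushA` on underlying sheaves. -/
noncomputable def pushAι : pushA j ⋙ qcι X ≅ tilde.functor A ⋙ Scheme.Modules.pushforward j :=
  Iso.refl _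

/-- `secA` computes restriction. -/
noncomputable def secATilde : secA j ⋙ tilde.functor A ≅ qcι X ⋙ Scheme.Modules.restrictFunctor j :=
  NatIso.ofComponents (fun M => (qcι (Spec A)).mapIso ((tildeQ A).asEquivalence.counitIso.app ((resQ j).obj M)))
    fun f => by
      have h := congrArg (qcι (Spec A)).map
        ((tildeQ A).asEquivalence.counitIso.hom.naturality ((resQ j).map f))
      rw [Functor.map_comp, Functor.map_comp] at h
      exact h

instance full_pushA : (pushA j).Full :=
  haveI : IsIso (Scheme.Modules.restrictAdjunction j).counit := inferInstance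
  haveI := (Scheme.Modules.restrictAdjunction j).fullyFaithfulROfIsIsoCounit.full
  haveI : (pushA j ⋙ qcι X).Full :=
    Functor.Full.of_iso (pushAι j).symm
  Functor.Full.of_comp_faithful (pushA j) (qcι X)

instance faithful_pushA : (pushA j).Faithful :=
  haveI := (Scheme.Modules.restrictAdjunction j).fullyFaithfulROfIsIsoCounit.faithful
  haveI : (pushA j ⋙ qcι X).Faithful := Functor.Faithful.of_iso (pushAι j).symm
  Functor.Faithful.of_comp (pushA j) (qcι X)

instance isIso_secAdj_counit : IsIso (secAdj j).counit :=
  (secAdj j).counit_isIso_of_R_fully_faithful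

variable [ObjectProperty.ContainsZero (fun M : X.Modules => Coh.IsQCoh M)]
  [ObjectProperty.IsClosedUnderKernels (fun M : X.Modules => Coh.IsQCoh M)]
  [ObjectProperty.IsClosedUnderCokernels (fun M : X.Modules => Coh.IsQCoh M)]
  [ObjectProperty.IsClosedUnderFiniteProducts (fun M : X.Modules => Coh.IsQCoh M)]

instance additive_pushA : (pushA j).Additive :=
  haveI : (pushA j ⋙ qcι X).Additive := Functor.additive_of_iso (pushAι j).symm
  Functor.additive_of_comp_faithful (pushA j) (qcι X)

instance additive_secA : (secA j).Additive := (secAdj j).left_adjoint_additive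

instance preservesFiniteColimits_secA : PreservesFiniteColimits (secA j) := by
  haveI := (secAdj j).leftAdjoint_preservesColimits.{0, 0}
  infer_instance

instance preservesFiniteLimits_pushA : PreservesFiniteLimits (pushA j) := by
  haveI := (secAdj j).rightAdjoint_preservesLimits.{0, 0}
  infer_instance

variable [PreservesFiniteLimits (qcι X)] [PreservesFiniteColimits (qcι X)]

instance preservesFiniteLimits_secA : PreservesFiniteLimits (secA j) := by
  haveI : PreservesFiniteLimits (secA j ⋙ tilde.functor A) :=
    preservesFiniteLimits_of_natIso (secATilde j).symm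
  exact preservesFiniteLimits_of_reflects_of_preserves (secA j) (tilde.functor A)

/-- Restriction of quasi-coherent complexes is computed by sections. -/
noncomputable def rhoSecIso :
    (qcι X).mapDerivedCategory ⋙ rho j ≅ (secA j).mapDerivedCategory ⋙ DCoh.tildeD A :=
  let W := HomologicalComplex.quasiIso (QC X) (ComplexShape.up ℤ)
  let F₁ := ((qcι X).mapHomologicalComplex (ComplexShape.up ℤ) ⋙ rCx j) ⋙ DerivedCategory.Q
  let F₂ := ((secA j).mapHomologicalComplex (ComplexShape.up ℤ) ⋙
    (tilde.functor A).mapHomologicalComplex (ComplexShape.up ℤ)) ⋙ DerivedCategory.Q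
  let e₁ : DerivedCategory.Q ⋙ ((qcι X).mapDerivedCategory ⋙ rho j) ≅ F₁ :=
    (Functor.associator _ _ _).symm ≪≫
      Functor.isoWhiskerRight (qcι X).mapDerivedCategoryFactors _ ≪≫ Functor.associator _ _ _ ≪≫
      Functor.isoWhiskerLeft _ (rhoQ j) ≪≫ (Functor.associator _ _ _).symm
  let e₂ : DerivedCategory.Q ⋙ ((secA j).mapDerivedCategory ⋙ DCoh.tildeD A) ≅ F₂ :=
    (Functor.associator _ _ _).symm ≪≫
      Functor.isoWhiskerRight (secA j).mapDerivedCategoryFactors _ ≪≫ Functor.associator _ _ _ ≪≫
      Functor.isoWhiskerLeft _ (tilde.functor A).mapDerivedCategoryFactors ≪≫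
      (Functor.associator _ _ _).symm
  let e₀ : (qcι X).mapHomologicalComplex (ComplexShape.up ℤ) ⋙ rCx j ≅
      (secA j).mapHomologicalComplex (ComplexShape.up ℤ) ⋙
        (tilde.functor A).mapHomologicalComplex (ComplexShape.up ℤ) :=
    NatIso.ofComponents (fun C => HomologicalComplex.Hom.isoOfComponents
      (fun i => ((secATilde j).app (C.X i)).symm)
      fun i k _ => ((secATilde j).inv.naturality (C.d i k)).symm)
      fun f => by
        refine HomologicalComplex.hom_ext _ _ fun i => ?_
        exact (secATilde j).inv.naturality (f.f i)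
  letI : Localization.Lifting DerivedCategory.Q W F₁ ((qcι X).mapDerivedCategory ⋙ rho j) := ⟨e₁⟩
  letI : Localization.Lifting DerivedCategory.Q W F₂ ((secA j).mapDerivedCategory ⋙ DCoh.tildeD A) := ⟨e₂⟩
  Localization.liftNatIso DerivedCategory.Q W F₁ F₂ _ _ (Functor.isoWhiskerRight e₀ DerivedCategory.Q)

variable [IsAffineHom j]

instance preservesFiniteColimits_pushA : PreservesFiniteColimits (pushA j) := by
  haveI : (pushA j).PreservesEpimorphisms := ⟨fun {M N} f hf => by
    refine (qcι X).epi_of_epi_map ?_
    change Epi ((Scheme.Modules.pushforward j).map ((tilde.functor A).map f))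
    haveI : Epi ((tilde.functor A).map f) := inferInstance
    exact epi_push_affine j (QCoh.isQCoh_spec_iff.2 ((tilde.functor A).obj_mem_essImage M))
      (QCoh.isQCoh_spec_iff.2 ((tilde.functor A).obj_mem_essImage N)) _⟩
  haveI : (pushA j).PreservesHomology := Functor.preservesHomology_of_preservesEpis_and_kernels _
  exact Functor.preservesFiniteColimits_of_preservesHomology _

/-- The adjunction on derived categories. -/
noncomputable def secAdjD : (secA j).mapDerivedCategory ⊣ (pushA j).mapDerivedCategory :=
  letI : CatCommSq ((secA j).mapHomologicalComplex (ComplexShape.up ℤ)) DerivedCategory.Q DerivedCategory.Q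
      (secA j).mapDerivedCategory := ⟨(secA j).mapDerivedCategoryFactors.symm⟩
  letI : CatCommSq ((pushA j).mapHomologicalComplex (ComplexShape.up ℤ)) DerivedCategory.Q DerivedCategory.Q
      (pushA j).mapDerivedCategory := ⟨(pushA j).mapDerivedCategoryFactors.symm⟩
  (adjCx (secAdj j) (ComplexShape.up ℤ)).localization DerivedCategory.Q
    (HomologicalComplex.quasiIso (QC X) (ComplexShape.up ℤ)) DerivedCategory.Q
    (HomologicalComplex.quasiIso (ModuleCat.{u} A) (ComplexShape.up ℤ))
    (secA j).mapDerivedCategory (pushA j).mapDerivedCategory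

instance isIso_secAdjD_counit : IsIso (secAdjD j).counit := by
  letI : CatCommSq ((secA j).mapHomologicalComplex (ComplexShape.up ℤ)) DerivedCategory.Q DerivedCategory.Q
      (secA j).mapDerivedCategory := ⟨(secA j).mapDerivedCategoryFactors.symm⟩
  letI : CatCommSq ((pushA j).mapHomologicalComplex (ComplexShape.up ℤ)) DerivedCategory.Q DerivedCategory.Q
      (pushA j).mapDerivedCategory := ⟨(pushA j).mapDerivedCategoryFactors.symm⟩
  have hC : ∀ C, IsIso ((adjCx (secAdj j) (ComplexShape.up ℤ)).counit.app C) := fun C => by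
    haveI : ∀ i, IsIso (((adjCx (secAdj j) (ComplexShape.up ℤ)).counit.app C).f i) := fun i =>
      inferInstanceAs (IsIso ((secAdj j).counit.app (C.X i)))
    exact HomologicalComplex.Hom.isIso_of_components _
  haveI : ∀ Y, IsIso ((secAdjD j).counit.app Y) := fun Y => by
    refine (NatTrans.isIso_app_iff_of_iso (secAdjD j).counit
      (DerivedCategory.Q.objObjPreimageIso Y)).1 ?_
    rw [secAdjD, Adjunction.localization_counit_app]
    haveI := hC (DerivedCategory.Q.objPreimage Y)
    infer_instance
  exact NatIso.isIso_of_isIso_app _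

/-- Direct images of module complexes are derived direct images. -/
theorem exists_iso_rpush_of_pushA [DCoh.HasRpush j] (N : DerivedCategory (ModuleCat.{u} A)) :
    Nonempty ((qcι X).mapDerivedCategory.obj ((pushA j).mapDerivedCategory.obj N) ≅
      (DCoh.Rpush j).obj ((DCoh.tildeD A).obj N)) := by
  let C := DerivedCategory.Q.objPreimage N
  let F := ((tilde.functor A).mapHomologicalComplex (ComplexShape.up ℤ)).obj C
  haveI := isIso_unit_of_isAffineHom j F
    fun n => QCoh.isQCoh_spec_iff.2 ((tilde.functor A).obj_mem_essImage (C.X n))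
  let α := (DCoh.pushKh j).totalRightDerivedUnit DerivedCategory.Qh
    (HomotopyCategory.quasiIso (Spec A).Modules (ComplexShape.up ℤ))
  let eN : DerivedCategory.Q.obj C ≅ N := DerivedCategory.Q.objObjPreimageIso N
  let eF : DerivedCategory.Qh.obj ((HomotopyCategory.quotient _ _).obj F) ≅ (DCoh.tildeD A).obj N :=
    (DerivedCategory.quotientCompQhIso (Spec A).Modules).app F ≪≫
      ((tilde.functor A).mapDerivedCategoryFactors.app C).symm ≪≫ (DCoh.tildeD A).mapIso eN
  exact ⟨(qcι X).mapDerivedCategory.mapIso ((pushA j).mapDerivedCategory.mapIso eN.symm ≪≫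
      (pushA j).mapDerivedCategoryFactors.app C) ≪≫ (qcι X).mapDerivedCategoryFactors.app _ ≪≫
    DerivedCategory.Q.mapIso (HomologicalComplex.Hom.isoOfComponents (fun i => Iso.refl _)
      (fun i k _ => (Category.id_comp _).trans (Category.comp_id _).symm) :
      ((qcι X).mapHomologicalComplex _).obj (((pushA j).mapHomologicalComplex _).obj C) ≅
        ((Scheme.Modules.pushforward j).mapHomologicalComplex _).obj F) ≪≫
    ((DerivedCategory.quotientCompQhIso X.Modules).app _).symm ≪≫
    (DerivedCategory.Qh.mapIso (((Scheme.Modules.pushforward j).mapHomotopyCategoryFactors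
      (ComplexShape.up ℤ)).app F)).symm ≪≫
    asIso (α.app ((HomotopyCategory.quotient _ _).obj F)) ≪≫ (DCoh.Rpush j).mapIso eF⟩

/-- Restriction to the affine open is bijective on maps into its direct images. -/
theorem bijective_rho_pushA (N : DerivedCategory (ModuleCat.{u} A)) (K : DCoh.D X) :
    Function.Bijective (fun φ : K ⟶ (qcι X).mapDerivedCategory.obj ((pushA j).mapDerivedCategory.obj N) =>
      (rho j).map φ) := by
  haveI := hasRpush_scheme j
  obtain ⟨e⟩ := exists_iso_rpush_of_pushA j N
  obtain ⟨-, hb⟩ := exists_rpush_data j ((DCoh.tildeD A).obj N)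
  refine ⟨fun a b hab => (cancel_mono e.hom).1 ((hb K).1 ?_), fun y => ?_⟩
  · simp only [Functor.map_comp] at hab ⊢
    rw [hab]
  · obtain ⟨φ, hφ⟩ := (hb K).2 (y ≫ (rho j).map e.hom)
    refine ⟨φ ≫ e.inv, ?_⟩
    simp only at hφ ⊢
    rw [Functor.map_comp, hφ, Category.assoc, ← Functor.map_comp, Iso.hom_inv_id,
      CategoryTheory.Functor.map_id, Category.comp_id]

/-- The inclusion is fully faithful on maps into direct images from the affine open. -/
theorem bijective_qcιD_pushA (B : DerivedCategory (QC X)) (N : DerivedCategory (ModuleCat.{u} A)) :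
    Function.Bijective (fun φ : B ⟶ (pushA j).mapDerivedCategory.obj N =>
      (qcι X).mapDerivedCategory.map φ) := by
  let L := (secA j).mapDerivedCategory
  let σ := rhoSecIso j
  haveI : IsIso ((secAdjD j).counit.app N) := inferInstance
  have hL : Function.Bijective (fun φ : B ⟶ (pushA j).mapDerivedCategory.obj N => L.map φ) := by
    have h : (fun φ : B ⟶ (pushA j).mapDerivedCategory.obj N => L.map φ) =
        (fun g => g ≫ inv ((secAdjD j).counit.app N)) ∘ ((secAdjD j).homEquiv B N).symm := funext fun φ => by
      simp only [Function.comp, Adjunction.homEquiv_counit]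
      exact ((IsIso.eq_comp_inv _).2 rfl)
    rw [h]
    exact (Function.bijective_iff_has_inverse.2 ⟨fun g => g ≫ (secAdjD j).counit.app N,
      fun g => by simp, fun g => by simp⟩).comp (Equiv.bijective _)
  have hT := tildeD_map_bijective (L.obj B) (L.obj ((pushA j).mapDerivedCategory.obj N))
  have hσ : Function.Bijective (fun g => σ.hom.app B ≫ g ≫ σ.inv.app ((pushA j).mapDerivedCategory.obj N)) :=
    (Iso.homCongr (σ.app B).symm (σ.app _).symm).bijective
  refine (Function.Bijective.of_comp_iff'
    (bijective_rho_pushA j N ((qcι X).mapDerivedCategory.obj B)) _).1 ?_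
  have hcomp : ((fun φ => (rho j).map φ) ∘ fun φ : B ⟶ (pushA j).mapDerivedCategory.obj N =>
      (qcι X).mapDerivedCategory.map φ) =
      (fun g => σ.hom.app B ≫ g ≫ σ.inv.app ((pushA j).mapDerivedCategory.obj N)) ∘
        (DCoh.tildeD A).map ∘ fun φ => L.map φ := funext fun φ => (NatIso.naturality_2 σ φ).symm
  rw [hcomp]
  exact hσ.comp (hT.comp hL)

end Affine

end Groth.Agent.Perf52
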