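import Groth.Agent.QCohAb92.Abelian
import Groth.Prelude.Def_DCoh2

/-!
# Quasi-coherent modules form an exact abelian subcategory
-/

universe u

open CategoryTheory CategoryTheory.Limits AlgebraicGeometry

namespace Groth.Agent.Perf52

variable (X : Scheme.{u})

instance containsZero_qc : ObjectProperty.ContainsZero (fun M : X.Modules => Coh.IsQCoh M) :=
  (inferInstance : (QCohCat.isQCoh X).ContainsZero)

instance isClosedUnderKernels_qc : ObjectProperty.IsClosedUnderKernels (fun M : X.Modules => Coh.IsQCoh M) :=
  (inferInstance : (QCohCat.isQCoh X).IsClosedUnderKernels)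

instance isClosedUnderCokernels_qc : ObjectProperty.IsClosedUnderCokernels (fun M : X.Modules => Coh.IsQCoh M) :=
  (inferInstance : (QCohCat.isQCoh X).IsClosedUnderCokernels)

instance isClosedUnderFiniteProducts_qc :
    ObjectProperty.IsClosedUnderFiniteProducts (fun M : X.Modules => Coh.IsQCoh M) :=
  (inferInstance : (QCohCat.isQCoh X).IsClosedUnderFiniteProducts)

instance preservesFiniteLimits_qc :
    PreservesFiniteLimits (ObjectProperty.ι (fun M : X.Modules => Coh.IsQCoh M)) :=
  (inferInstance : PreservesFiniteLimits (QCohCat.isQCoh X).ι)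

instance preservesFiniteColimits_qc :
    PreservesFiniteColimits (ObjectProperty.ι (fun M : X.Modules => Coh.IsQCoh M)) :=
  (inferInstance : PreservesFiniteColimits (QCohCat.isQCoh X).ι)

end Groth.Agent.Perf52
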