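import Groth.Agent.Coh32.InjAffine
import Groth.Agent.Perf52.DQCohAffine
import Groth.Agent.Perf52.QCInst
import Groth.Agent.QCoh.OpenSub
import Groth.Agent.QCoh.RpushGod

/-!
# Injective quasi-coherent modules on a Noetherian scheme
-/

set_option linter.style.haveILetI false
set_option backward.isDefEq.respectTransparency false
set_option backward.isDefEq.respectTransparency.types false

universe u

open CategoryTheory CategoryTheory.Limits AlgebraicGeometry TopologicalSpace Opposite

namespace Groth.Agent.Perf52

open Groth.Agent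

/-- The sheaf of an injective module over a Noetherian ring is an injective sheaf of modules. -/
theorem injective_tilde {A : CommRingCat.{u}} [IsNoetherianRing A] (N : ModuleCat.{u} A) [Injective N] :
    Injective ((tilde.functor A).obj N) :=
  haveI := Coh32.noetherian_top (R := A)
  haveI : Module.Injective A N := Module.injective_module_of_injective_object A N
  Coh32.injective_of_baer_top (M := tilde N) (inferInstanceAs (tilde N).IsQuasicoherent)
    (Coh32.baer_tilde_top N (Module.Baer.of_injective ‹_›))

variable {X : Scheme.{u}}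

/-- A morphism of modules killed by the restrictions to an open cover vanishes. -/
theorem hom_eq_zero_of_restrict {ι : Type*} {U : ι → Scheme.{u}} (j : ∀ i, U i ⟶ X)
    [∀ i, IsOpenImmersion (j i)] (hj : ∀ x : X, ∃ i, x ∈ (j i).opensRange) {M N : X.Modules}
    (g : M ⟶ N) (hg : ∀ i, (Scheme.Modules.restrictFunctor (j i)).map g = 0) : g = 0 :=
  QCoh.hom_ext_app fun V s => by
    refine QCoh.eq_zero_of_locally V (g.app V s) fun x hx => ?_
    obtain ⟨i, hi⟩ := hj x
    obtain ⟨y, rfl⟩ := hi
    refine ⟨_, homOfLE ((j i).image_preimage_le V), ⟨y, hx, rfl⟩, ?_⟩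
    refine (QCoh.map_app_comm g (homOfLE ((j i).image_preimage_le V)) s).symm.trans ?_
    exact congr(($(hg i)).app ((j i) ⁻¹ᵁ V) (M.presheaf.map (homOfLE ((j i).image_preimage_le V)).op s))

variable (X)

/-- A quasi-coherent module embeds in a quasi-coherent module which is injective among all modules. -/
theorem exists_mono_qcoh_injective [IsNoetherian X] {M : X.Modules} (hM : Coh.IsQCoh M) :
    ∃ (J : X.Modules) (e : M ⟶ J), Mono e ∧ Coh.IsQCoh J ∧ Injective J := by
  classical
  let 𝒰 := X.affineCover.finiteSubcover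
  haveI hN : ∀ i, IsAffine (𝒰.X i) := fun i => inferInstanceAs (IsAffine (X.affineCover.X _))
  let A : 𝒰.I₀ → CommRingCat.{u} := fun i => Γ(𝒰.X i, ⊤)
  let j : ∀ i, Spec (A i) ⟶ X := fun i => (𝒰.X i).isoSpec.inv ≫ 𝒰.f i
  haveI : ∀ i, IsNoetherianRing (A i) := fun i =>
    haveI : IsLocallyNoetherian (𝒰.X i) := isLocallyNoetherian_of_isOpenImmersion (𝒰.f i)
    IsLocallyNoetherian.component_noetherian ⟨⊤, isAffineOpen_top _⟩
  have hN' : ∀ i, ∃ (N : ModuleCat.{u} (A i)) (_ : Injective N)
      (e : M.restrict (j i) ⟶ (tilde.functor (A i)).obj N), Mono e := fun i => by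
    obtain ⟨N, ⟨e⟩⟩ := QCoh.isQCoh_spec_iff.1 (QCoh.isQCoh_restrict (j i) hM)
    haveI : (tilde.functor (A i)).PreservesMonomorphisms :=
      inferInstance
    exact ⟨_, inferInstance, e.inv ≫ (tilde.functor (A i)).map (Injective.ι N), inferInstance⟩
  choose N hNI e he using hN'
  let F : 𝒰.I₀ → X.Modules := fun i =>
    (Scheme.Modules.pushforward (j i)).obj ((tilde.functor (A i)).obj (N i))
  haveI : ∀ i, Injective (F i) := fun i => by
    haveI := injective_tilde (N i)
    haveI : (Scheme.Modules.restrictFunctor (j i)).PreservesMonomorphisms :=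
      ⟨fun f hf => QCoh.mono_restrict_map (j i) f⟩
    exact Injective.injective_of_adjoint (Scheme.Modules.restrictAdjunction (j i)) _
  refine ⟨∏ᶜ F, Pi.lift fun i => (Scheme.Modules.restrictAdjunction (j i)).homEquiv _ _ (e i), ?_,
    ObjectProperty.prop_pi (fun M : X.Modules => Coh.IsQCoh M) F fun i => ?_, inferInstance⟩
  · refine Preadditive.mono_of_cancel_zero _ fun {G} g hg => ?_
    refine hom_eq_zero_of_restrict j (fun x => ?_) g fun i => ?_
    · obtain ⟨y, hy⟩ := 𝒰.covers x
      exact ⟨𝒰.idx x, ⟨(𝒰.X _).isoSpec.hom.base y,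
        Eq.trans (congr($((Scheme.isoSpec (𝒰.X _)).hom_inv_id_assoc (𝒰.f _)).base y)) hy⟩⟩
    · haveI := he i
      have h : g ≫ (Scheme.Modules.restrictAdjunction (j i)).homEquiv _ _ (e i) = 0 := by
        have := congrArg (· ≫ Pi.π F i) hg
        simpa only [Category.assoc, Pi.lift_π, zero_comp] using this
      rw [← Adjunction.homEquiv_naturality_left] at h
      rw [← cancel_mono (e i), zero_comp]
      refine ((Scheme.Modules.restrictAdjunction (j i)).homEquiv _ _).injective (h.trans ?_)
      rw [Adjunction.homEquiv_unit, Functor.map_zero, comp_zero]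
  · exact QCoh.isQCoh_pushforward (j i) (QCoh.isQCoh_spec_iff.2 ((tilde.functor (A i)).obj_mem_essImage _))

variable {X}

/-- An injective object of the category of quasi-coherent modules of a Noetherian scheme is an
injective sheaf of modules. -/
theorem injective_obj_of_injective_qc [IsNoetherian X] (J : QC X) [Injective J] : Injective J.obj := by
  obtain ⟨I, e, he, hI, hI'⟩ := exists_mono_qcoh_injective X J.property
  let e' : J ⟶ (⟨I, hI⟩ : QC X) := ObjectProperty.homMk e
  haveI : Mono e' := (qcι X).mono_of_mono_map he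
  have h := congrArg (qcι X).map (Injective.comp_factorThru (𝟙 J) e')
  rw [Functor.map_comp, CategoryTheory.Functor.map_id] at h
  exact Retract.injective ⟨e, (qcι X).map (Injective.factorThru (𝟙 J) e'), h⟩

end Groth.Agent.Perf52
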