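import Groth.Agent.Perf52.DQCoh
import Groth.Agent.Perf52.InjQC
import Groth.Agent.H9Misc.AdjDescend
import Groth.Agent.KFlatLib.Scheme.AcyclicPush
import Groth.Agent.TriCat.KInjRes
import Mathlib.CategoryTheory.Shift.Adjunction

/-!
# `D(QCoh X) ≃ D_QCoh(X)` for Noetherian schemes
-/

set_option linter.style.haveILetI false
set_option linter.unusedSectionVars false
set_option backward.isDefEq.respectTransparency false
set_option backward.isDefEq.respectTransparency.types false

universe u

open CategoryTheory CategoryTheory.Limits AlgebraicGeometry Pretriangulated TopologicalSpace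

attribute [local instance] HasDerivedCategory.standard

namespace Groth.Agent.Perf52

open Groth.Agent Groth.Agent.KFlatLib

variable {A : CommRingCat.{u}}

instance isLeftAdjoint_qh_module :
    (DerivedCategory.Qh (C := ModuleCat.{u} A)).IsLeftAdjoint :=
  TriCat.qh_isLeftAdjoint_of_exists_resolution fun K => by
    obtain ⟨I, f, hI, hf, -, -⟩ := TriCat.exists_kInjective_resolution'.{u} K
    exact ⟨I, f, hI, hf⟩

/-- The right adjoint of localization is fully faithful. -/
lemma isIso_counit_qh_module :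
    IsIso (Adjunction.ofIsLeftAdjoint (DerivedCategory.Qh (C := ModuleCat.{u} A))).counit := by
  let Qh := DerivedCategory.Qh (C := ModuleCat.{u} A)
  let adjQ := Adjunction.ofIsLeftAdjoint Qh
  haveI : ∀ Y, IsIso (adjQ.counit.app Y) := fun Y => by
    let K := DerivedCategory.Q.objPreimage Y
    obtain ⟨I, f, hI, hf, -, -⟩ := TriCat.exists_kInjective_resolution'.{u} K
    haveI := TriCat.isIso_unit_of_isKInjective adjQ I
    have h := adjQ.left_triangle_components ((HomotopyCategory.quotient _ _).obj I)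
    have h' : IsIso (Qh.map (adjQ.unit.app ((HomotopyCategory.quotient _ _).obj I)) ≫
        adjQ.counit.app (Qh.obj ((HomotopyCategory.quotient _ _).obj I))) := by
      rw [h]; exact IsIso.id _
    have := IsIso.of_isIso_comp_left (Qh.map (adjQ.unit.app ((HomotopyCategory.quotient _ _).obj I)))
      (adjQ.counit.app (Qh.obj ((HomotopyCategory.quotient _ _).obj I)))
    exact (NatTrans.isIso_app_iff_of_iso adjQ.counit
      ((DerivedCategory.quotientCompQhIso _).app I ≪≫ (asIso (DerivedCategory.Q.map f)).symm ≪≫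
        DerivedCategory.Q.objObjPreimageIso Y)).1 this
  exact NatIso.isIso_of_isIso_app _

variable {X : Scheme.{u}} [ObjectProperty.ContainsZero (fun M : X.Modules => Coh.IsQCoh M)]
  [ObjectProperty.IsClosedUnderKernels (fun M : X.Modules => Coh.IsQCoh M)]
  [ObjectProperty.IsClosedUnderCokernels (fun M : X.Modules => Coh.IsQCoh M)]
  [ObjectProperty.IsClosedUnderFiniteProducts (fun M : X.Modules => Coh.IsQCoh M)]
  [PreservesFiniteLimits (qcι X)] [PreservesFiniteColimits (qcι X)]

section Chart

variable (j : Spec A ⟶ X) [IsOpenImmersion j] [QuasiCompact j]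

/-- The right derived functor of the direct image of module sheaves. -/
noncomputable def rpushA : DerivedCategory (ModuleCat.{u} A) ⥤ DerivedCategory (QC X) :=
  ((DerivedCategory.Qh (C := ModuleCat.{u} A)).rightAdjoint ⋙
    (pushA j).mapHomotopyCategory (ComplexShape.up ℤ)) ⋙ DerivedCategory.Qh

/-- Sections over the affine open are left adjoint to the derived direct image. -/
noncomputable def secAdjR : (secA j).mapDerivedCategory ⊣ rpushA j :=
  H9Misc.AdjDescend.derivedAdj (secAdj j)
    (Adjunction.ofIsLeftAdjoint (DerivedCategory.Qh (C := ModuleCat.{u} A)))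

instance isIso_secAdjR_counit : IsIso (secAdjR j).counit :=
  haveI : IsIso (Adjunction.ofIsLeftAdjoint (DerivedCategory.Qh (C := ModuleCat.{u} A))).counit :=
    isIso_counit_qh_module
  H9Misc.AdjDescend.isIso_derivedAdj_counit _ _

variable [IsNoetherianRing A]

/-- Over a Noetherian ring the derived direct image of modules is the derived direct image of sheaves. -/
theorem exists_iso_rpush_of_rpushA [DCoh.HasRpush j] (N : DerivedCategory (ModuleCat.{u} A)) :
    Nonempty ((qcι X).mapDerivedCategory.obj ((rpushA j).obj N) ≅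
      (DCoh.Rpush j).obj ((DCoh.tildeD A).obj N)) := by
  let adjQ := Adjunction.ofIsLeftAdjoint (DerivedCategory.Qh (C := ModuleCat.{u} A))
  obtain ⟨C, f, hC, hf, -, hinj⟩ := TriCat.exists_kInjective_resolution'.{u} (DerivedCategory.Q.objPreimage N)
  haveI := TriCat.isIso_unit_of_isKInjective adjQ C
  let F := ((tilde.functor A).mapHomologicalComplex (ComplexShape.up ℤ)).obj C
  have hF := isIso_rpushUnit_of_acyclic j F (fun n => QCoh.isQCoh_spec_iff.2 ((tilde.functor A).obj_mem_essImage (C.X n)))
    (fun n => by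
      haveI := hinj n
      haveI := injective_tilde (C.X n)
      exact TriCat.isRightAcyclic_of_injective ((tilde.functor A).obj (C.X n)))
  let eN : DerivedCategory.Q.obj C ≅ N :=
    (asIso (DerivedCategory.Q.map f)).symm ≪≫ DerivedCategory.Q.objObjPreimageIso N
  let eN' : DerivedCategory.Qh.obj ((HomotopyCategory.quotient _ _).obj C) ≅ N :=
    (DerivedCategory.quotientCompQhIso _).app C ≪≫ eN
  let eR : (rpushA j).obj N ≅ DerivedCategory.Q.obj (((pushA j).mapHomologicalComplex _).obj C) :=
    (rpushA j).mapIso eN'.symm ≪≫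
      DerivedCategory.Qh.mapIso (((pushA j).mapHomotopyCategory _).mapIso
        (asIso (adjQ.unit.app ((HomotopyCategory.quotient _ _).obj C))).symm ≪≫
        ((pushA j).mapHomotopyCategoryFactors (ComplexShape.up ℤ)).app C) ≪≫
      (DerivedCategory.quotientCompQhIso _).app _
  exact ⟨(qcι X).mapDerivedCategory.mapIso eR ≪≫ (qcι X).mapDerivedCategoryFactors.app _ ≪≫
    DerivedCategory.Q.mapIso (HomologicalComplex.Hom.isoOfComponents (fun i => Iso.refl _)
      (fun i k _ => (Category.id_comp _).trans (Category.comp_id _).symm) :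
      ((qcι X).mapHomologicalComplex _).obj (((pushA j).mapHomologicalComplex _).obj C) ≅
        ((Scheme.Modules.pushforward j).mapHomologicalComplex _).obj F) ≪≫
    @asIso _ _ _ _ ((rpushUnit j).app F) hF ≪≫
    (DCoh.Rpush j).mapIso (((tilde.functor A).mapDerivedCategoryFactors.app C).symm ≪≫
      (DCoh.tildeD A).mapIso eN)⟩

theorem bijective_rho_rpushA (N : DerivedCategory (ModuleCat.{u} A)) (K : DCoh.D X) :
    Function.Bijective (fun φ : K ⟶ (qcι X).mapDerivedCategory.obj ((rpushA j).obj N) =>
      (rho j).map φ) := by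
  haveI := hasRpush_scheme j
  obtain ⟨e⟩ := exists_iso_rpush_of_rpushA j N
  obtain ⟨-, hb⟩ := exists_rpush_data j ((DCoh.tildeD A).obj N)
  refine ⟨fun a b hab => (cancel_mono e.hom).1 ((hb K).1 ?_), fun y => ?_⟩
  · simp only [Functor.map_comp] at hab ⊢
    rw [hab]
  · obtain ⟨φ, hφ⟩ := (hb K).2 (y ≫ (rho j).map e.hom)
    refine ⟨φ ≫ e.inv, ?_⟩
    simp only at hφ ⊢
    rw [Functor.map_comp, hφ, Category.assoc, ← Functor.map_comp, Iso.hom_inv_id,
      CategoryTheory.Functor.map_id, Category.comp_id]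

/-- The inclusion is fully faithful on maps into derived direct images from the affine open. -/
theorem bijective_qcιD_rpushA (B : DerivedCategory (QC X)) (N : DerivedCategory (ModuleCat.{u} A)) :
    Function.Bijective (fun φ : B ⟶ (rpushA j).obj N => (qcι X).mapDerivedCategory.map φ) := by
  let L := (secA j).mapDerivedCategory
  let σ := rhoSecIso j
  let adj := secAdjR j
  haveI : IsIso (adj.counit.app N) := inferInstance
  have hL : Function.Bijective (fun φ : B ⟶ (rpushA j).obj N => L.map φ) := by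
    have h : (fun φ : B ⟶ (rpushA j).obj N => L.map φ) =
        (fun g => g ≫ inv (adj.counit.app N)) ∘ (adj.homEquiv B N).symm := funext fun φ => by
      simp only [Function.comp, Adjunction.homEquiv_counit]
      exact ((IsIso.eq_comp_inv _).2 rfl)
    rw [h]
    exact (Function.bijective_iff_has_inverse.2 ⟨fun g => g ≫ adj.counit.app N,
      fun g => by simp, fun g => by simp⟩).comp (Equiv.bijective _)
  have hT := tildeD_map_bijective (L.obj B) (L.obj ((rpushA j).obj N))
  have hσ : Function.Bijective (fun g => σ.hom.app B ≫ g ≫ σ.inv.app ((rpushA j).obj N)) :=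
    (Iso.homCongr (σ.app B).symm (σ.app _).symm).bijective
  refine (Function.Bijective.of_comp_iff'
    (bijective_rho_rpushA j N ((qcι X).mapDerivedCategory.obj B)) _).1 ?_
  have hcomp : ((fun φ => (rho j).map φ) ∘ fun φ : B ⟶ (rpushA j).obj N =>
      (qcι X).mapDerivedCategory.map φ) =
      (fun g => σ.hom.app B ≫ g ≫ σ.inv.app ((rpushA j).obj N)) ∘
        (DCoh.tildeD A).map ∘ fun φ => L.map φ := funext fun φ => (NatIso.naturality_2 σ φ).symm
  rw [hcomp]
  exact hσ.comp (hT.comp hL)

theorem ffShifts_rpushA (N : DerivedCategory (ModuleCat.{u} A)) :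
    FFShifts (qcι X).mapDerivedCategory ((rpushA j).obj N) := fun n =>
  letI := (secAdjR j).rightAdjointCommShift ℤ
  FFInto.of_iso (((rpushA j).commShiftIso n).app N) fun B => bijective_qcιD_rpushA j B (N⟦n⟧)

theorem isIso_rho_map_unit (B : DerivedCategory (QC X)) :
    IsIso ((rho j).map ((qcι X).mapDerivedCategory.map ((secAdjR j).unit.app B))) := by
  refine (NatIso.isIso_map_iff (rhoSecIso j) ((secAdjR j).unit.app B)).2 ?_
  haveI : IsIso ((secA j).mapDerivedCategory.map ((secAdjR j).unit.app B)) := by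
    have hid : IsIso ((secA j).mapDerivedCategory.map ((secAdjR j).unit.app B) ≫
        (secAdjR j).counit.app ((secA j).mapDerivedCategory.obj B)) := by
      rw [(secAdjR j).left_triangle_components B]
      exact ⟨⟨𝟙 _, Category.id_comp _, Category.id_comp _⟩⟩
    exact @IsIso.of_isIso_comp_right _ _ _ _ _ _ ((secAdjR j).counit.app ((secA j).mapDerivedCategory.obj B))
      inferInstance hid
  exact inferInstanceAs (IsIso ((DCoh.tildeD _).map ((secA j).mapDerivedCategory.map ((secAdjR j).unit.app B))))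

theorem suppOn_rpushA {N : DerivedCategory (ModuleCat.{u} A)} {K : DCoh.D X} {T : Set X} (hT : IsClosed T)
    (e : (DCoh.tildeD A).obj N ≅ (rho j).obj K) (hK : SuppOn K T) :
    SuppOn ((qcι X).mapDerivedCategory.obj ((rpushA j).obj N)) T :=
  suppOn_of_bijective j hT (SuppOn.of_iso ((rhoSecIso j).app _ ≪≫
      (DCoh.tildeD A).mapIso (asIso ((secAdjR j).counit.app N)) ≪≫ e).symm
    fun u hu => (z0_rho_iff j K u).2 (hK _ hu)) (bijective_rho_rpushA j N)

end Chart

section Global

variable [IsNoetherian X]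

lemma noetherian_chart {V : X.Opens} (hV : IsAffineOpen V) :
    QuasiCompact hV.fromSpec ∧ IsNoetherianRing Γ(X, V) := by
  haveI : IsNoetherianRing Γ(X, V) := IsLocallyNoetherian.component_noetherian ⟨V, hV⟩
  exact ⟨inferInstance, inferInstance⟩

lemma ffShifts_noeth_aux (s : Finset X.affineOpens) : ∀ (W : X.Opens),
    (∀ x, x ∈ W ∨ ∃ V ∈ s, x ∈ V.1) → ∀ B : DerivedCategory (QC X),
      SuppOn ((qcι X).mapDerivedCategory.obj B) (W : Set X)ᶜ → FFShifts (qcι X).mapDerivedCategory B := by
  classical
  induction s using Finset.induction with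
  | empty =>
    intro W hW B hB
    refine ffShifts_of_isZero (isZero_of_qcιD (isZero_of_z0 fun x => hB x ?_))
    exact not_not_intro ((hW x).resolve_right fun ⟨_, h, _⟩ => absurd h (Finset.notMem_empty _))
  | @insert V s hV ih =>
    intro W hW B hB
    obtain ⟨_, _⟩ := noetherian_chart V.2
    obtain ⟨C, g, h, hT⟩ := distinguished_cocone_triangle ((secAdjR V.2.fromSpec).unit.app B)
    refine ffShifts_obj₁ hT (ffShifts_rpushA _ _) (ih (W ⊔ V.1) (fun x => ?_) C fun x hx => ?_)
    · obtain hx | ⟨V', hV', hx⟩ := hW x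
      · exact Or.inl (Or.inl hx)
      · obtain rfl | hV' := Finset.mem_insert.1 hV'
        · exact Or.inl (Or.inr hx)
        · exact Or.inr ⟨V', hV', hx⟩
    · obtain hxW | hxV := (not_not.1 hx : x ∈ W ⊔ V.1)
      · exact suppOn_obj₃ ((qcι X).mapDerivedCategory.map_distinguished _ hT) hB
          (suppOn_rpushA V.2.fromSpec W.2.isClosed_compl ((rhoSecIso V.2.fromSpec).app B).symm hB) x
          (not_not_intro hxW)
      · obtain ⟨u, rfl⟩ : x ∈ Set.range V.2.fromSpec.base := by
          rw [V.2.range_fromSpec]; exact hxV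
        exact (isIso_rho_map_iff _ _ ((qcι X).mapDerivedCategory.map_distinguished _ hT)).1
          (isIso_rho_map_unit _ B) u

lemma essImage_noeth_aux (s : Finset X.affineOpens)
    (hff : ∀ B : DerivedCategory (QC X), FFShifts (qcι X).mapDerivedCategory B) : ∀ (W : X.Opens),
    (∀ x, x ∈ W ∨ ∃ V ∈ s, x ∈ V.1) → ∀ K : DCoh.D X, DCoh.IsQCohD K → SuppOn K (W : Set X)ᶜ →
      ∃ B, Nonempty ((qcι X).mapDerivedCategory.obj B ≅ K) := by
  classical
  induction s using Finset.induction with
  | empty =>
    intro W hW K _ hK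
    have hz : IsZero K := isZero_of_z0 fun x => hK x
      (not_not_intro ((hW x).resolve_right fun ⟨_, h, _⟩ => absurd h (Finset.notMem_empty _)))
    obtain ⟨Z, hZ⟩ := HasZeroObject.zero (C := DerivedCategory (QC X))
    exact ⟨Z, ⟨((qcι X).mapDerivedCategory.map_isZero hZ).iso hz⟩⟩
  | @insert V s hV ih =>
    intro W hW K hKq hK
    obtain ⟨_, _⟩ := noetherian_chart V.2
    let j := V.2.fromSpec
    obtain ⟨N, ⟨eN⟩⟩ := exists_tildeD_iso (isQCohD_rho j hKq)
    let Y := (qcι X).mapDerivedCategory.obj ((rpushA j).obj N)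
    let θ : (rho j).obj Y ≅ (rho j).obj K := (rhoSecIso j).app _ ≪≫
      (DCoh.tildeD _).mapIso (asIso ((secAdjR j).counit.app N)) ≪≫ eN
    obtain ⟨φ, hφ⟩ := (bijective_rho_rpushA j N K).2 θ.inv
    simp only at hφ
    have hY : SuppOn Y (W : Set X)ᶜ := suppOn_rpushA j W.2.isClosed_compl eN hK
    obtain ⟨C, g, h, hT⟩ := distinguished_cocone_triangle φ
    obtain ⟨B₁, ⟨e₁⟩⟩ := ih (W ⊔ V.1) (fun x => by
        obtain hx | ⟨V', hV', hx⟩ := hW x
        · exact Or.inl (Or.inl hx)
        · obtain rfl | hV' := Finset.mem_insert.1 hV'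
          · exact Or.inl (Or.inr hx)
          · exact Or.inr ⟨V', hV', hx⟩)
      C (isQCohD_obj₃ hT hKq (isQCohD_qcιD _)) fun x hx => by
        obtain hxW | hxV := (not_not.1 hx : x ∈ W ⊔ V.1)
        · exact suppOn_obj₃ hT hK hY x (not_not_intro hxW)
        · obtain ⟨u, rfl⟩ : x ∈ Set.range j.base := by
            rw [V.2.range_fromSpec]; exact hxV
          refine (isIso_rho_map_iff j _ hT).1 ?_ u
          change IsIso ((rho j).map φ)
          rw [hφ]; infer_instance
    obtain ⟨g', hg'⟩ := ((hff B₁).ffInto _).2 (g ≫ e₁.inv)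
    simp only at hg'
    obtain ⟨B₀, f₀, h₀, hT₀⟩ := distinguished_cocone_triangle₁ g'
    let e := isoTriangleOfIso₁₂ _ _ (rot_of_distTriang _ hT)
      (rot_of_distTriang _ ((qcι X).mapDerivedCategory.map_distinguished _ hT₀)) (Iso.refl Y) e₁.symm (by
        change g ≫ e₁.inv = 𝟙 _ ≫ (qcι X).mapDerivedCategory.map g'
        rw [Category.id_comp, hg'])
    exact ⟨B₀, ⟨(shiftFunctor (DCoh.D X) (1 : ℤ)).preimageIso (Triangle.π₃.mapIso e).symm⟩⟩

theorem ffShifts_qcιD_noeth (B : DerivedCategory (QC X)) : FFShifts (qcι X).mapDerivedCategory B := by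
  obtain ⟨s, hs⟩ := exists_affine_cover (X := X)
  exact ffShifts_noeth_aux s ⊥ (fun x => Or.inr (hs x)) B fun x hx => absurd (fun h => h) hx

/-- `D(QCoh X) ≃ D_QCoh(X)` for a Noetherian scheme. -/
theorem qcιD_equivalence_noeth :
    (qcι X).mapDerivedCategory.Full ∧ (qcι X).mapDerivedCategory.Faithful ∧
      ∀ K : DCoh.D X, DCoh.IsQCohD K ↔ ∃ M, Nonempty ((qcι X).mapDerivedCategory.obj M ≅ K) := by
  have hff := ffShifts_qcιD_noeth (X := X)
  refine ⟨⟨fun {B C} g => ((hff C).ffInto B).2 g⟩, ⟨fun {B C} a b h => ((hff C).ffInto B).1 h⟩, fun K =>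
    ⟨fun hK => ?_, fun ⟨M, ⟨e⟩⟩ => isQCohD_of_iso e (isQCohD_qcιD M)⟩⟩
  obtain ⟨s, hs⟩ := exists_affine_cover (X := X)
  exact essImage_noeth_aux s hff ⊥ (fun x => Or.inr (hs x)) K hK fun x hx => absurd (fun h => h) hx

end Global

end Groth.Agent.Perf52
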