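import Groth.Agent.Perf52.Stalks
import Groth.Agent.KFlatLib.Ghost
import Groth.Agent.KFlatLib.Scheme.RpushUnbounded

/-!
# Truncations and bounds
-/

set_option linter.style.haveILetI false
set_option backward.isDefEq.respectTransparency false

universe u

open CategoryTheory CategoryTheory.Limits AlgebraicGeometry TopologicalSpace Pretriangulated

attribute [local instance] HasDerivedCategory.standard

namespace Groth.Agent.Perf52

open Groth.Agent.KFlatLib

variable {X : Scheme.{u}}

/-- Truncation triangles with all the expected properties. -/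
theorem exists_trunc (L : DCoh.D X) (a : ℤ) :
    ∃ (A B : DCoh.D X) (f : A ⟶ L) (g : L ⟶ B) (h : B ⟶ A⟦(1 : ℤ)⟧),
      Triangle.mk f g h ∈ distTriang _ ∧ A.IsLE (a - 1) ∧ B.IsGE a ∧
      (∀ i, i < a → IsIso ((DerivedCategory.homologyFunctor X.Modules i).map f)) ∧
      (∀ i, a ≤ i → IsIso ((DerivedCategory.homologyFunctor X.Modules i).map g)) := by
  let t : Triangulated.TStructure (DCoh.D X) := DerivedCategory.TStructure.t
  let T := (t.triangleLTGE a).obj L
  have hT : T ∈ distTriang _ := t.triangleLTGE_distinguished a L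
  haveI h1 : T.obj₁.IsLE (a - 1) := t.isLE_truncLT_obj L _ _ (by omega)
  refine ⟨T.obj₁, T.obj₃, T.mor₁, T.mor₂, T.mor₃, hT, h1, t.isGE_truncGE_obj L _ _ le_rfl,
    fun i hi => isIso_homology_truncLTι L a i hi, fun i hi => ?_⟩
  haveI : Mono ((DerivedCategory.homologyFunctor X.Modules i).map T.mor₂) :=
    (DerivedCategory.HomologySequence.exact₂ T hT i).mono_g
      ((DerivedCategory.isZero_of_isLE T.obj₁ (a - 1) i (by omega)).eq_of_src _ _)
  haveI : Epi ((DerivedCategory.homologyFunctor X.Modules i).map T.mor₂) :=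
    (DerivedCategory.HomologySequence.exact₃ T hT i (i + 1) rfl).epi_f
      ((DerivedCategory.isZero_of_isLE T.obj₁ (a - 1) (i + 1) (by omega)).eq_of_tgt _ _)
  exact isIso_of_mono_of_epi ((DerivedCategory.homologyFunctor X.Modules i).map T.mor₂)

lemma isQCohD_trunc {A B L : DCoh.D X} {f : A ⟶ L} {g : L ⟶ B} {h : B ⟶ A⟦(1 : ℤ)⟧}
    (hT : Triangle.mk f g h ∈ distTriang _) {a : ℤ} (hA : A.IsLE (a - 1))
    (hf : ∀ i, i < a → IsIso ((DerivedCategory.homologyFunctor X.Modules i).map f))
    (hq : DCoh.IsQCohD L) : DCoh.IsQCohD A ∧ DCoh.IsQCohD B := by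
  have hqA : DCoh.IsQCohD A := fun i => by
    by_cases hi : i < a
    · haveI := hf i hi
      exact isQCoh_of_iso (asIso ((DerivedCategory.homologyFunctor X.Modules i).map f)).symm (hq i)
    · haveI := hA
      exact isQCoh_of_isZero (DerivedCategory.isZero_of_isLE A (a - 1) i (by omega))
  exact ⟨hqA, isQCohD_obj₃ hT hqA hq⟩

lemma suppOn_trunc {A B L : DCoh.D X} {f : A ⟶ L} {g : L ⟶ B} {h : B ⟶ A⟦(1 : ℤ)⟧}
    (hT : Triangle.mk f g h ∈ distTriang _) {a : ℤ} (hA : A.IsLE (a - 1))
    (hf : ∀ i, i < a → IsIso ((DerivedCategory.homologyFunctor X.Modules i).map f))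
    {S : Set X} (hS : SuppOn L S) : SuppOn A S ∧ SuppOn B S := by
  have hSA : SuppOn A S := fun x hx i => by
    by_cases hi : i < a
    · haveI := hf i hi
      exact (hS x hx i).of_iso ((DerSch.stalkFunctor X x).mapIso
        (asIso ((DerivedCategory.homologyFunctor X.Modules i).map f)))
    · haveI := hA
      exact (DerSch.stalkFunctor X x).map_isZero (DerivedCategory.isZero_of_isLE A (a - 1) i (by omega))
  exact ⟨hSA, suppOn_obj₃ hT hSA hS⟩

/-- On a quasi-compact scheme perfect objects are bounded. -/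
theorem exists_bounds_of_isPerfect [CompactSpace X] {E : DCoh.D X} (hE : DCoh.IsPerfect E) :
    ∃ a b : ℤ, a ≤ b ∧ E.IsGE a ∧ E.IsLE b := by
  classical
  choose V hxV hV using fun x => free_rep_range hE x
  choose P lo hi hab hfree eP using fun x => hV x (DerivedCategory.Q.objPreimage E) ⟨repIso E⟩
  obtain ⟨t, ht⟩ := isCompact_univ.elim_finite_subcover (fun x : X => (V x : Set X))
    (fun x => (V x).2) (fun x _ => Set.mem_iUnion.2 ⟨x, hxV x⟩)
  let N : ℕ := ∑ x ∈ t, ((lo x).natAbs + (hi x).natAbs)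
  have key : ∀ i : ℤ, (i < -(N : ℤ) ∨ (N : ℤ) < i) → IsZero (DCoh.HD E i) := fun i hi' =>
    isZero_of_stalk _ fun y => by
      obtain ⟨x, hxt, hy⟩ := Set.mem_iUnion₂.1 (ht (Set.mem_univ y))
      have hx : (lo x).natAbs + (hi x).natAbs ≤ N :=
        Finset.single_le_sum (f := fun x => (lo x).natAbs + (hi x).natAbs) (fun _ _ => Nat.zero_le _) hxt
      refine isZero_stalk_of_restrict (V x).ι ⟨y, hy⟩ ((DerSch.stalkFunctor _ _).map_isZero ?_)
      refine IsZero.of_iso ?_ ((restrictHDIso (V x).ι E i).symm ≪≫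
        (DerivedCategory.homologyFunctor _ i).mapIso ((rho (V x).ι).mapIso (repIso E).symm ≪≫
          (rhoQ (V x).ι).app _ ≪≫ (eP x).some) ≪≫ (DerivedCategory.homologyFunctorFactors _ i).app (P x))
      exact ((HomologicalComplex.exactAt_iff_isZero_homology _ _).1
        (HomologicalComplex.ExactAt.of_isZero (hab x i (by omega))))
  exact ⟨-(N : ℤ), N, by omega, (DerivedCategory.isGE_iff E _).2 fun i hi => key i (Or.inl hi),
    (DerivedCategory.isLE_iff E _).2 fun i hi => key i (Or.inr hi)⟩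

end Groth.Agent.Perf52
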