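import Groth.Agent.QcqsColim.FTSub
import Groth.Agent.QCoh.VanIdeal
import Groth.Agent.QCoh.CokerQC
import Groth.Agent.QCoh.LocFree
import Groth.Agent.H23.Frame
import Groth.Prelude.Def_PerfAux
import Mathlib.AlgebraicGeometry.Morphisms.Affine

/-!
# The resolution property forces affine diagonal
-/

set_option linter.style.haveILetI false
set_option backward.isDefEq.respectTransparency false
set_option backward.isDefEq.respectTransparency.types false

universe u

open CategoryTheory CategoryTheory.Limits AlgebraicGeometry TopologicalSpace Opposite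

namespace Groth.Agent.Perf52

open Groth.Agent Groth.Agent.QCoh Groth.Agent.QcqsColim

variable {X : Scheme.{u}}

/-- The inclusion of a finite type ideal vanishing off an affine open with support the complement, from a vector
bundle. -/
theorem exists_bundle_to_ideal [CompactSpace X] [QuasiSeparatedSpace X] (hX : PerfAux.HasResolutionProperty X)
    {U : X.Opens} (hU : IsAffineOpen U) :
    ∃ (E : X.Modules) (π : E ⟶ Coh.structureModule X), FlatMod.IsFinLocFree E ∧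
      (∀ (O : X.Opens) (e : Γ(E, O)), X.basicOpen (toFn (π.app O e)) ≤ U) ∧
      ∀ x ∈ U, ∃ (O : X.Opens) (e : Γ(E, O)), x ∈ X.basicOpen (toFn (π.app O e)) := by
  classical
  let Z : Set X := (U : Set X)ᶜ
  let I := vanIdeal (X := X) Z
  have hI : Coh.IsQCoh I.toModules := isQCoh_vanIdeal Z
  have hloc : ∀ W : X.affineOpens, ∃ N : SubMod I.toModules, FTOn N ⊤ ∧ ∀ x ∈ U ⊓ W.1,
      ∃ s ∈ N.mem W.1, x ∈ X.basicOpen (toFn (I.ι.app W.1 s)) := by
    intro W
    have hK : IsCompact ((W.1 ⊓ U : X.Opens) : Set X) :=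
      QuasiSeparatedSpace.inter_isCompact _ _ W.1.2 W.2.isCompact U.2 hU.isCompact
    have hf : ∀ x : (W.1 ⊓ U : X.Opens), ∃ f : Γ(X, W.1), X.basicOpen f ≤ U ∧ x.1 ∈ X.basicOpen f :=
      fun x => W.2.exists_basicOpen_le ⟨x.1, x.2.2⟩ x.2.1
    choose f hfU hxf using hf
    obtain ⟨t, ht⟩ := hK.elim_finite_subcover (fun x : (W.1 ⊓ U : X.Opens) => (X.basicOpen (f x) : Set X))
      (fun x => (X.basicOpen (f x)).2) fun x hx => Set.mem_iUnion.2 ⟨⟨x, hx⟩, hxf _⟩
    have hmem : ∀ x, (show Γ(Coh.structureModule X, W.1) from f x) ∈ I.mem W.1 := fun x z hz hzf =>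
      hz (hfU x hzf)
    choose g hg using fun x => I.exists_app_eq (hmem x)
    obtain ⟨N, hN, hTN⟩ := exists_ftOn_contains hI W.2 (extStep_qcqs W.2.isCompact) (g '' t)
      (t.finite_toSet.image g)
    refine ⟨N, hN, fun x hx => ?_⟩
    obtain ⟨y, hy, hxy⟩ := Set.mem_iUnion₂.1 (ht ⟨hx.2, hx.1⟩)
    refine ⟨g y, hTN ⟨y, hy, rfl⟩, ?_⟩
    rw [hg y]
    exact hxy
  choose N hN hNx using hloc
  obtain ⟨F, hF⟩ := isCompact_univ.elim_finite_subcover (fun V : X.affineOpens => (V.1 : Set X))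
    (fun V => V.1.2) fun x _ => by
      obtain ⟨_, ⟨V, hV, rfl⟩, hxV, -⟩ := X.isBasis_affineOpens.exists_subset_of_mem_open
        (Set.mem_univ x) isOpen_univ
      exact Set.mem_iUnion.2 ⟨⟨V, hV⟩, hxV⟩
  obtain ⟨K, hK⟩ := Finset.exists_le (α := FTIndex I.toModules)
    (F.image fun W => (⟨N W, hN W⟩ : FTIndex I.toModules))
  obtain ⟨E, q, hE, hq⟩ := hX _ (isQCoh_of_ftOn hI K.2) (isFT_of_ftOn hI K.2)
  refine ⟨E, q ≫ K.1.ι ≫ I.ι, hE, fun O e z hz => ?_, fun x hx => ?_⟩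
  · by_contra hzU
    exact I.ι_app_mem O (K.1.ι.app O (q.app O e)) z hzU hz
  · obtain ⟨W, hWF, hxW⟩ := Set.mem_iUnion₂.1 (hF (Set.mem_univ x))
    obtain ⟨s, hs, hxs⟩ := hNx W x ⟨hx, hxW⟩
    obtain ⟨s', hs'⟩ := K.1.exists_app_eq (hK _ (Finset.mem_image_of_mem _ hWF) W.1 hs)
    haveI := hq
    obtain ⟨V, i, hxV, e, he⟩ := exists_local_preimage q s' hxW
    refine ⟨V, e, ?_⟩
    show x ∈ X.basicOpen (toFn (I.ι.app V (K.1.ι.app V (q.app V e))))
    rw [he, rs, map_app_comm, hs', map_app_comm, toFn_map, Scheme.basicOpen_res]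
    exact ⟨hxV, hxs⟩

/-- The global section mapping to `1` on the affine open. -/
theorem exists_section_one {E : X.Modules} (hE : Coh.IsQCoh E) (π : E ⟶ Coh.structureModule X) {U : X.Opens}
    (hU : IsAffineOpen U) (h : ∀ x ∈ U, ∃ (O : X.Opens) (e : Γ(E, O)), x ∈ X.basicOpen (toFn (π.app O e))) :
    ∃ e : Γ(E, U), toFn (π.app U e) = 1 := by
  let J : Ideal Γ(X, U) :=
    { carrier := Set.range fun e : Γ(E, U) => toFn (π.app U e)
      zero_mem' := ⟨0, map_zero (π.app U).hom⟩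
      add_mem' := by
        rintro _ _ ⟨a, rfl⟩ ⟨b, rfl⟩
        exact ⟨a + b, map_add (π.app U).hom a b⟩
      smul_mem' := by
        rintro r _ ⟨a, rfl⟩
        exact ⟨r • a, Scheme.Modules.Hom.app_smul π r a⟩ }
  suffices hJ : J = ⊤ from (Ideal.eq_top_iff_one J).1 hJ
  rw [← Ideal.span_eq J, ← hU.self_le_iSup_basicOpen_iff]
  intro x hx
  obtain ⟨O, e, hxe⟩ := h x hx
  have hxO : x ∈ O := X.basicOpen_le _ hxe
  obtain ⟨f, hfO, hxf⟩ := hU.exists_basicOpen_le (V := O) ⟨x, hxO⟩ hx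
  obtain ⟨n, t, ht⟩ := exists_pow_smul_eq_map hE hU f (E.presheaf.map (homOfLE hfO).op e)
  refine Opens.mem_iSup.2 ⟨⟨toFn (π.app U t), t, rfl⟩, ?_⟩
  have h1 := congrArg (fun z => X.basicOpen (toFn (π.app (X.basicOpen f) z))) ht
  simp only [map_app_comm, toFn_map, Scheme.basicOpen_res, Scheme.Modules.Hom.app_smul, toFn_smul,
    Scheme.basicOpen_mul] at h1
  refine ((h1.symm ▸ ⟨?_, hxf, hxe⟩ : x ∈ X.basicOpen f ⊓ X.basicOpen (toFn (π.app U t)))).2
  show x ∈ X.basicOpen (X.presheaf.map (homOfLE (X.basicOpen_le f)).op f ^ n)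
  rw [X.mem_basicOpen _ x hxf, map_pow]
  refine IsUnit.pow n ?_
  rw [← X.mem_basicOpen _ x hxf, Scheme.basicOpen_res]
  exact ⟨hxf, hxf⟩

/-- The resolution property forces intersections of affine opens to be affine. -/
theorem isAffineOpen_inf_of_resolution [CompactSpace X] [QuasiSeparatedSpace X]
    (hX : PerfAux.HasResolutionProperty X) {U V : X.Opens} (hU : IsAffineOpen U) (hV : IsAffineOpen V) :
    IsAffineOpen (U ⊓ V) := by
  classical
  obtain ⟨E, π, hE, hπU, hπ⟩ := exists_bundle_to_ideal hX hU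
  obtain ⟨e, he⟩ := exists_section_one (isQCoh_of_isFinLocFree hE) π hU hπ
  -- the statement over the basic opens of `V` on which `E` is free
  have hfree : ∀ {W : X.Opens} {n : ℕ} (s : Fin n → Γ(E, W)), IsAffineOpen W → H23.Frame.IsFrame E s →
      IsAffineOpen (U ⊓ W) := by
    intro W n s hW hs
    let f : Fin n → Γ(X, W) := fun i => toFn (π.app W (s i))
    let ρ := X.presheaf.map (homOfLE (inf_le_right : U ⊓ W ≤ W)).op
    refine isAffineOpen_of_isAffineOpen_basicOpen _ (Set.range fun i => ρ (f i)) ?_ ?_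
    · obtain ⟨c, hc⟩ := (hs (U ⊓ W) inf_le_right).2 (E.presheaf.map (homOfLE inf_le_left).op e)
      rw [Ideal.eq_top_iff_one]
      have h1 := congrArg (fun z => toFn (π.app (U ⊓ W) z)) hc
      simp only [map_app_comm, toFn_map, he, map_one, H23.Frame.comb, map_sum,
        Scheme.Modules.Hom.app_smul] at h1
      rw [show (1 : Γ(X, U ⊓ W)) = _ from h1.symm]
      show (∑ i, c i * ρ (f i) : Γ(X, U ⊓ W)) ∈ _
      exact Ideal.sum_mem _ fun i _ => Ideal.mul_mem_left _ _ (Ideal.subset_span ⟨i, rfl⟩)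
    · rintro _ ⟨i, rfl⟩
      show IsAffineOpen (X.basicOpen (ρ (f i)))
      rw [Scheme.basicOpen_res, inf_eq_right.2 (le_inf (hπU W (s i)) (X.basicOpen_le _))]
      exact hW.basicOpen _
  have hloc : ∀ x : V, ∃ g : Γ(X, V), x.1 ∈ X.basicOpen g ∧ IsAffineOpen (U ⊓ X.basicOpen g) := by
    rintro ⟨x, hx⟩
    obtain ⟨O, n, hxO, ⟨φ⟩⟩ := hE x
    obtain ⟨s, hs⟩ := H23.Frame.exists_frame φ
    obtain ⟨g, hgO, hxg⟩ := hV.exists_basicOpen_le (V := O) ⟨x, hxO⟩ hx
    exact ⟨g, hxg, hfree _ (hV.basicOpen g) (hs.res hgO)⟩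
  choose g hxg hg using hloc
  let ρ := X.presheaf.map (homOfLE (inf_le_right : U ⊓ V ≤ V)).op
  refine isAffineOpen_of_isAffineOpen_basicOpen _ (Set.range fun x => ρ (g x)) ?_ ?_
  · have h1 : Ideal.span (Set.range g) = ⊤ := by
      rw [← hV.self_le_iSup_basicOpen_iff]
      intro x hx
      exact Opens.mem_iSup.2 ⟨⟨g ⟨x, hx⟩, ⟨⟨x, hx⟩, rfl⟩⟩, hxg ⟨x, hx⟩⟩
    have h2 := congrArg (Ideal.map ρ.hom) h1
    rw [Ideal.map_span, Ideal.map_top, ← Set.range_comp] at h2
    exact h2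
  · rintro _ ⟨x, rfl⟩
    show IsAffineOpen (X.basicOpen (ρ (g x)))
    rw [Scheme.basicOpen_res]
    have : U ⊓ V ⊓ X.basicOpen (g x) = U ⊓ X.basicOpen (g x) := by
      rw [inf_assoc, inf_eq_right.2 (X.basicOpen_le (g x))]
    rw [this]
    exact hg x

end Groth.Agent.Perf52
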