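import Groth.Agent.KFlatLib.Perfect.Lift
import Groth.Agent.KFlatLib.Perfect.Top
import Groth.Agent.KFlatLib.Perfect.Criterion
import Groth.Agent.KFlatLib.Perfect.Tensor
import Groth.Agent.KFlatLib.Scheme.Amplitude
import Groth.Agent.QCoh.LocFree

/-!
# The bottom cohomology of a truncated resolution of a perfect complex
-/

set_option linter.style.haveILetI false
set_option backward.isDefEq.respectTransparency false

universe u

open CategoryTheory CategoryTheory.Limits AlgebraicGeometry TopologicalSpace Pretriangulated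

attribute [local instance] HasDerivedCategory.standard

namespace Groth.Agent.Perf52.PerfStep

open Groth.Agent Groth.Agent.KFlatLib

variable {X : Scheme.{u}}

lemma isFinLocFree_restrict_opensRange {U : Scheme.{u}} (j : U ⟶ X) [IsOpenImmersion j] {M : X.Modules}
    (h : FlatMod.IsFinLocFree (M.restrict j)) : FlatMod.IsFinLocFree (M.restrict j.opensRange.ι) := by
  haveI : IsOpenImmersion (rangeHom j) := by rw [rangeHom]; infer_instance
  exact H23.PullPush.isFinLocFree_of_iso
    (((Scheme.Modules.restrictFunctorIsoPullback (rangeHom j)).app (M.restrict j)).symm ≪≫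
      restrict₂Iso (rangeHom j) j j.opensRange.ι (rangeHom_fac j) M)
    (isFinLocFree_pullback (rangeHom j) h)

lemma isPerfect_toD_of_isStrictlyPerfect {E : CochainComplex X.Modules ℤ} (hE : DCoh.IsStrictlyPerfect E) :
    DCoh.IsPerfect (DCoh.toD X E) := by
  refine (isPerfect_iff _).2 fun x => ⟨X, 𝟙 X, inferInstance, ⟨x, rfl⟩, _,
    isStrictlyPerfect_restrict (𝟙 X) hE, ⟨((rhoQ (𝟙 X)).app E).symm⟩⟩

/-- The vanishing range of a map of complexes. -/
lemma isZero_cone_X {C : Type*} [Category C] [Preadditive C] [HasBinaryBiproducts C]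
    {E F : CochainComplex C ℤ} (φ : E ⟶ F) {i : ℤ} (hE : IsZero (E.X (i + 1))) (hF : IsZero (F.X i)) :
    IsZero ((CochainComplex.mappingCone φ).X i) :=
  IsZero.of_iso ((biprod_isZero_iff _ _).2 ⟨hE, hF⟩)
    (HomologicalComplex.homotopyCofiber.XIsoBiprod φ i (i + 1) rfl)

variable {E F : CochainComplex X.Modules ℤ} (φ : E ⟶ F) {k : ℤ}

/-- The single cohomology sheaf of the cone of a truncated resolution is finite locally free. -/
theorem isFinLocFree_cycles (hE : DCoh.IsStrictlyPerfect E) (hEk : ∀ i, i ≤ k → IsZero (E.X i))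
    (hFk : ∀ i, i < k → IsZero (F.X i))
    (hFloc : ∀ x : X, ∃ (U : Scheme.{u}) (j : U ⟶ X) (_ : IsOpenImmersion j), x ∈ Set.range j.base ∧
      ∃ P : CochainComplex U.Modules ℤ, DCoh.IsStrictlyPerfect P ∧ (∀ i, i < k → IsZero (P.X i)) ∧
        Nonempty (DerivedCategory.Q.obj P ≅ (rho j).obj (DCoh.toD X F)))
    (hz : ∀ i, i ≠ k → IsZero ((CochainComplex.mappingCone φ).homology i)) :
    FlatMod.IsFinLocFree ((CochainComplex.mappingCone φ).cycles k) ∧
      IsIso ((CochainComplex.mappingCone φ).homologyπ k) := by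
  let C := CochainComplex.mappingCone φ
  let Z := C.cycles k
  haveI hπ : IsIso (C.homologyπ k) := C.isIso_homologyπ (k - 1) k (by simp)
    ((isZero_cone_X φ (hEk (k - 1 + 1) (by omega)) (hFk (k - 1) (by omega))).eq_of_src _ _)
  refine ⟨?_, hπ⟩
  -- the inclusion of the cycles is a quasi-isomorphism
  let S₀ := (HomologicalComplex.single X.Modules (ComplexShape.up ℤ) k).obj Z
  let g : S₀ ⟶ C := HomologicalComplex.mkHomFromSingle (C.iCycles k) (fun j _ => C.iCycles_d k j)
  haveI : QuasiIso g := ⟨fun i => by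
    rw [quasiIsoAt_iff_isIso_homologyMap]
    by_cases hi : i = k
    · rw [hi]
      have hX : ∀ l, l ≠ k → IsZero (S₀.X l) := fun l hl =>
        HomologicalComplex.isZero_single_obj_X (ComplexShape.up ℤ) k Z l hl
      haveI : IsIso (S₀.iCycles k) := S₀.isIso_iCycles k (k + 1) (by simp) ((hX _ (by omega)).eq_of_tgt _ _)
      haveI : IsIso (S₀.homologyπ k) := S₀.isIso_homologyπ (k - 1) k (by simp) ((hX _ (by omega)).eq_of_src _ _)
      let e : S₀.cycles k ≅ Z := asIso (S₀.iCycles k) ≪≫ HomologicalComplex.singleObjXSelf (ComplexShape.up ℤ) k Z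
      have hc : HomologicalComplex.cyclesMap g k = e.hom := by
        rw [← cancel_mono (C.iCycles k), HomologicalComplex.cyclesMap_i]
        simp [g, e]
      have hH : S₀.homologyπ k ≫ HomologicalComplex.homologyMap g k = e.hom ≫ C.homologyπ k := by
        rw [HomologicalComplex.homologyπ_naturality, hc]
      haveI : IsIso (S₀.homologyπ k ≫ HomologicalComplex.homologyMap g k) := by rw [hH]; infer_instance
      exact IsIso.of_isIso_comp_left (S₀.homologyπ k) _
    · exact ⟨0, (ShortComplex.isZero_homology_of_isZero_X₂ _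
        (HomologicalComplex.isZero_single_obj_X (ComplexShape.up ℤ) k Z i hi)).eq_of_src _ _,
        (hz i hi).eq_of_src _ _⟩⟩
  refine isFinLocFree_of_restrict fun x => ?_
  obtain ⟨U, j, _, ⟨z, rfl⟩, P, hP, hPk, ⟨eP⟩⟩ := hFloc x
  let E' := (rCx j).obj E
  let α : DCoh.toD U E' ⟶ DCoh.toD U P :=
    (rhoQ j).inv.app E ≫ (rho j).map (DerivedCategory.Q.map φ) ≫ eP.inv
  obtain ⟨V, β, hzV, hβ⟩ := exists_chain_rep (isStrictlyPerfect_restrict j hE) α z
  let jV : (V : Scheme.{u}) ⟶ X := V.ι ≫ j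
  refine ⟨jV.opensRange, ⟨⟨z, hzV⟩, rfl⟩, isFinLocFree_restrict_opensRange jV ?_⟩
  let S := CochainComplex.mappingCone β
  have hS : DCoh.IsStrictlyPerfect S :=
    isStrictlyPerfect_cone β (isStrictlyPerfect_restrict V.ι (isStrictlyPerfect_restrict j hE))
      (isStrictlyPerfect_restrict V.ι hP)
  have hSk : ∀ i, i < k → IsZero (S.X i) := fun i hi => isZero_cone_X β
    ((Scheme.Modules.restrictFunctor V.ι).map_isZero
      ((Scheme.Modules.restrictFunctor j).map_isZero (hEk (i + 1) (by omega))))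
    ((Scheme.Modules.restrictFunctor V.ι).map_isZero (hPk i hi))
  -- comparison of the two cones
  let T₁ := (rho V.ι).mapTriangle.obj ((rho j).mapTriangle.obj
    (DerivedCategory.Q.mapTriangle.obj (CochainComplex.mappingCone.triangle φ)))
  let T₂ := DerivedCategory.Q.mapTriangle.obj (CochainComplex.mappingCone.triangle β)
  have hT₀ : DerivedCategory.Q.mapTriangle.obj (CochainComplex.mappingCone.triangle φ) ∈ distTriang _ :=
    (DerivedCategory.mem_distTriang_iff _).2 ⟨_, _, φ, ⟨Iso.refl _⟩⟩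
  have hT₁ : T₁ ∈ distTriang _ :=
    (rho V.ι).map_distinguished _ ((rho j).map_distinguished _ hT₀)
  have hT₂ : T₂ ∈ distTriang _ := (DerivedCategory.mem_distTriang_iff _).2 ⟨_, _, β, ⟨Iso.refl _⟩⟩
  let e₁ : T₁.obj₁ ≅ T₂.obj₁ := (rho V.ι).mapIso ((rhoQ j).app E) ≪≫ (rhoQ V.ι).app E'
  let e₂ : T₁.obj₂ ≅ T₂.obj₂ := (rho V.ι).mapIso eP.symm ≪≫ (rhoQ V.ι).app P
  have comm : T₁.mor₁ ≫ e₂.hom = e₁.hom ≫ T₂.mor₁ := by
    change (rho V.ι).map ((rho j).map (DerivedCategory.Q.map φ)) ≫ (rho V.ι).map eP.inv ≫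
        (rhoQ V.ι).hom.app P =
      ((rho V.ι).map ((rhoQ j).hom.app E) ≫ (rhoQ V.ι).hom.app E') ≫ DerivedCategory.Q.map β
    have h1 : (rho j).map (DerivedCategory.Q.map φ) ≫ eP.inv = (rhoQ j).hom.app E ≫ α := by
      simp only [α, Iso.hom_inv_id_app_assoc]
    have hβ' : (rho V.ι).map α = (rhoQ V.ι).hom.app E' ≫ DerivedCategory.Q.map β ≫ (rhoQ V.ι).inv.app P := hβ
    rw [← Category.assoc, ← Functor.map_comp, h1, Functor.map_comp, hβ']
    simp only [Category.assoc, Iso.inv_hom_id_app]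
    erw [Category.comp_id]
  let e₃ : (rho V.ι).obj ((rho j).obj (DCoh.toD X C)) ≅ DCoh.toD _ S :=
    Triangle.π₃.mapIso (isoTriangleOfIso₁₂ T₁ T₂ hT₁ hT₂ e₁ e₂ comm)
  -- the single cohomology sheaf
  let M := (Z.restrict j).restrict V.ι
  let S₁ := (HomologicalComplex.single (V : Scheme.{u}).Modules (ComplexShape.up ℤ) k).obj M
  let eM : DCoh.toD _ S₁ ≅ DCoh.toD _ S :=
    DerivedCategory.Q.mapIso (((HomologicalComplex.singleMapHomologicalComplex
        (Scheme.Modules.restrictFunctor V.ι) (ComplexShape.up ℤ) k).app (Z.restrict j)).symm ≪≫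
      (rCx V.ι).mapIso ((HomologicalComplex.singleMapHomologicalComplex
        (Scheme.Modules.restrictFunctor j) (ComplexShape.up ℤ) k).app Z).symm) ≪≫
    ((rhoQ V.ι).app _).symm ≪≫ (rho V.ι).mapIso (((rhoQ j).app S₀).symm ≪≫
      (rho j).mapIso (asIso (DerivedCategory.Q.map g))) ≪≫ e₃
  have hflat : FlatMod.IsFlat M := by
    obtain ⟨⟨a, b, hab⟩, hf⟩ := hS
    refine isFlat_of_isZero_tor_single M k fun G _ => ?_
    exact torAmplitude_of_flatAmplitude (a := k) (b := b)
      ⟨S, fun i hi => hi.elim (hSk i) fun h => hab i (Or.inr h),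
        fun i => isFlat_of_isFinLocFree (hf i), ⟨eM.symm⟩⟩ G (k - 1) (Or.inl (by omega))
  have hlf : FlatMod.IsFinLocFree M := by
    have hpc : LocPC (k - 1) (DCoh.toD _ S₁) :=
      (((isPerfect_iff _).1 (isPerfect_toD_of_isStrictlyPerfect hS)).of_iso eM.symm).locPC _
    have hz' : ∀ i, k - 1 + 1 < i → IsZero (DCoh.HD (DCoh.toD _ S₁) i) := fun i hi =>
      (ShortComplex.isZero_homology_of_isZero_X₂ _
        (HomologicalComplex.isZero_single_obj_X (ComplexShape.up ℤ) k M i (by omega))).of_iso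
        ((DerivedCategory.homologyFunctorFactors _ i).app S₁)
    have h := isFP_top hpc hz'
    rw [show k - 1 + 1 = k by omega] at h
    let eH := (DerivedCategory.homologyFunctorFactors _ k).app S₁ ≪≫
      HomologicalComplex.singleObjHomologySelfIso _ k M
    exact H23.PullPush.isFinLocFree_of_iso eH
      (QCoh.isFlat_and_isFP_iff.1 ⟨IsFlat.of_iso eH.symm hflat, h⟩)
  exact H23.PullPush.isFinLocFree_of_iso (restrict₂Iso V.ι j jV rfl Z)
    hlf

end Groth.Agent.Perf52.PerfStep
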