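import Groth.Agent.QcqsColim.FTSub
import Groth.Agent.InvX.GenEpi
import Groth.Agent.QCoh.FT
import Groth.Agent.QCoh.Qcqs
import Groth.Agent.KFlatLib.Perfect.Basic
import Groth.Prelude.Def_PerfAux

/-!
# The resolution property passes to affine schemes over the base
-/

set_option linter.style.haveILetI false
set_option backward.isDefEq.respectTransparency false
set_option backward.isDefEq.respectTransparency.types false

universe u

open CategoryTheory CategoryTheory.Limits AlgebraicGeometry TopologicalSpace Opposite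

namespace Groth.Agent.Perf52

open Groth.Agent Groth.Agent.QCoh Groth.Agent.QcqsColim

variable {X Y : Scheme.{u}}

/-- Generators over an affine open generate the germs. -/
lemma span_germ_of_span {F : X.Modules} (hq : Coh.IsQCoh F) {U : X.Opens} (hU : IsAffineOpen U)
    {T : Set Γ(F, U)} (hT : Submodule.span Γ(X, U) T = ⊤) {x : X} (hx : x ∈ U) :
    Submodule.span (X.presheaf.stalk x) ((F.presheaf.germ U x hx).hom '' T) = ⊤ := by
  letI := QCoh.stalkAlg (X := X) hx
  letI := QCoh.stalkModule F hx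
  haveI := QCoh.isScalarTower_stalk F hx
  haveI := QCoh.isLocalization_stalk' hU hx
  haveI := QCoh.isLocalizedModule_germLin hq hU hx
  have h1 : Submodule.localized' (X.presheaf.stalk x) (hU.primeIdealOf ⟨x, hx⟩).asIdeal.primeCompl
      (QCoh.germLin F hx) (Submodule.span Γ(X, U) T) = ⊤ := by
    rw [hT, Submodule.localized'_top]
  rw [Submodule.localized'_span] at h1
  exact h1

/-- Morphisms agreeing on generators over the members of a cover are equal. -/
lemma hom_ext_of_generators {F G : X.Modules} {φ ψ : F ⟶ G}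
    (h : ∀ x : X, ∃ (U : X.Opens) (hx : x ∈ U) (T : Set Γ(F, U)),
      Submodule.span (X.presheaf.stalk x) ((F.presheaf.germ U x hx).hom '' T) = ⊤ ∧
        ∀ t ∈ T, φ.app U t = ψ.app U t) : φ = ψ := by
  refine Scheme.Modules.hom_ext _ _ fun V => ?_
  ext m
  refine TopCat.Presheaf.section_ext ⟨G.presheaf, G.isSheaf⟩ _ _ _ fun x hx => ?_
  let a : KFlatLib.stalkMod x (DCoh.toP.obj F) →ₗ[X.presheaf.stalk x] KFlatLib.stalkMod x (DCoh.toP.obj G) :=
    ((KFlatLib.stalkP x).map (DCoh.toP.map φ)).hom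
  let b : KFlatLib.stalkMod x (DCoh.toP.obj F) →ₗ[X.presheaf.stalk x] KFlatLib.stalkMod x (DCoh.toP.obj G) :=
    ((KFlatLib.stalkP x).map (DCoh.toP.map ψ)).hom
  have hab : a = b := by
    obtain ⟨U, hxU, T, hT, hTe⟩ := h x
    refine LinearMap.ext_on hT ?_
    rintro _ ⟨t, ht, rfl⟩
    refine (KFlatLib.stalkModMap_germ (DCoh.toP.map φ) U hxU t).trans
      (Eq.trans ?_ (KFlatLib.stalkModMap_germ (DCoh.toP.map ψ) U hxU t).symm)
    exact congrArg (KFlatLib.germP (DCoh.toP.obj G) U hxU) (hTe t ht)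
  exact (KFlatLib.stalkModMap_germ (DCoh.toP.map φ) V hx m).symm.trans
    ((LinearMap.congr_fun hab _).trans (KFlatLib.stalkModMap_germ (DCoh.toP.map ψ) V hx m))

/-- A module generated by finitely many sections over preimages of affine opens is a quotient of a pullback of a
locally free module. -/
theorem exists_epi_of_generated_over (f : X ⟶ Y) [QuasiCompact f] [QuasiSeparated f] [CompactSpace Y]
    [QuasiSeparatedSpace Y] (hY : PerfAux.HasResolutionProperty Y) {M : X.Modules} (hq : Coh.IsQCoh M)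
    (hgen : ∀ y : Y, ∃ V : Y.Opens, IsAffineOpen V ∧ y ∈ V ∧ ∃ T : Set Γ(M, f ⁻¹ᵁ V), T.Finite ∧
      ∀ (x : X) (hx : x ∈ f ⁻¹ᵁ V),
        Submodule.span (X.presheaf.stalk x) ((M.presheaf.germ (f ⁻¹ᵁ V) x hx).hom '' T) = ⊤) :
    ∃ (E : X.Modules) (π : E ⟶ M), FlatMod.IsFinLocFree E ∧ Epi π := by
  classical
  let G := (Scheme.Modules.pushforward f).obj M
  have hG : Coh.IsQCoh G := isQCoh_pushforward f hq
  choose V hV hyV T hTf hTs using hgen
  obtain ⟨S, hS⟩ := isCompact_univ.elim_finite_subcover (fun y => (V y : Set Y))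
    (fun y => (V y).2) fun y _ => Set.mem_iUnion.2 ⟨y, hyV y⟩
  have hsub : ∀ y, ∃ N : SubMod G, FTOn N ⊤ ∧ (show Set Γ(G, V y) from T y) ⊆ N.mem (V y) := fun y =>
    exists_ftOn_contains hG (hV y) (extStep_qcqs (hV y).isCompact) (show Set Γ(G, V y) from T y) (hTf y)
  choose N hN hTN using hsub
  obtain ⟨K, hK⟩ := Finset.exists_le (α := FTIndex G) (S.image fun y => (⟨N y, hN y⟩ : FTIndex G))
  obtain ⟨E, q, hE, hq'⟩ := hY _ (isQCoh_of_ftOn hG K.2) (isFT_of_ftOn hG K.2)
  let adj := Scheme.Modules.pullbackPushforwardAdjunction f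
  refine ⟨(Scheme.Modules.pullback f).obj E, (adj.homEquiv _ _).symm (q ≫ K.1.ι),
    KFlatLib.isFinLocFree_pullback f hE, ⟨fun {Z} g h hgh => ?_⟩⟩
  have e1 : q ≫ K.1.ι ≫ (Scheme.Modules.pushforward f).map g =
      q ≫ K.1.ι ≫ (Scheme.Modules.pushforward f).map h := by
    rw [← Category.assoc, ← Category.assoc]
    apply (adj.homEquiv _ _).symm.injective
    rw [Adjunction.homEquiv_naturality_right_symm, Adjunction.homEquiv_naturality_right_symm]
    exact hgh
  haveI := hq'
  have e2 := (cancel_epi q).1 e1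
  refine hom_ext_of_generators fun x => ?_
  obtain ⟨y, hyS, hxV⟩ := Set.mem_iUnion₂.1 (hS (Set.mem_univ (f.base x)))
  refine ⟨f ⁻¹ᵁ V y, hxV, T y, hTs y x hxV, fun t ht => ?_⟩
  obtain ⟨s, hs⟩ := K.1.exists_app_eq (hK _ (Finset.mem_image_of_mem _ hyS) (V y) (hTN y ht))
  have e3 := congrArg (fun φ => Scheme.Modules.Hom.app φ (V y) s) e2
  simp only [Scheme.Modules.Hom.comp_app] at e3
  subst hs
  exact e3

/-- The resolution property passes up along affine morphisms. -/
theorem resolutionProperty_of_affine (f : X ⟶ Y) [IsAffineHom f] [CompactSpace Y] [QuasiSeparatedSpace Y]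
    (hY : PerfAux.HasResolutionProperty Y) : PerfAux.HasResolutionProperty X := fun M hq hft =>
  exists_epi_of_generated_over f hY hq fun y => by
    obtain ⟨_, ⟨(V : Y.Opens), hV, rfl⟩, hyV, -⟩ :=
      Y.isBasis_affineOpens.exists_subset_of_mem_open (Set.mem_univ y) isOpen_univ
    have hW : IsAffineOpen (f ⁻¹ᵁ V) := hV.preimage f
    obtain ⟨T, hT⟩ := (QCoh.finite_of_isFT hq hft hW).fg_top
    exact ⟨V, hV, hyV, T, T.finite_toSet, fun x hx => span_germ_of_span hq hW hT hx⟩

end Groth.Agent.Perf52
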