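import Groth.Agent.Perf52.PerfStep
import Groth.Agent.Perf52.PerfBottom
import Groth.Agent.Perf52.ResAffine
import Groth.Agent.KFlatLib.Scheme.AffinePush
import Groth.Agent.QCoh.Support
import Groth.Agent.KFlatLib.Scheme.PCQCoh
import Groth.Agent.KFlatLib.Scheme.TildePC
import Groth.Agent.KFlatLib.Perfect.Amplitude

/-!
# Strictly perfect resolutions of perfect complexes of quasi-coherent modules
-/

set_option linter.style.haveILetI false
set_option backward.isDefEq.respectTransparency false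

universe u

open CategoryTheory CategoryTheory.Limits AlgebraicGeometry TopologicalSpace Pretriangulated

attribute [local instance] HasDerivedCategory.standard

namespace Groth.Agent.Perf52

open Groth.Agent Groth.Agent.KFlatLib Groth.Agent.QCoh Groth.Agent.QcqsColim

variable {X : Scheme.{u}}

lemma isQCoh_biprod' {M N : X.Modules} (hM : Coh.IsQCoh M) (hN : Coh.IsQCoh N) : Coh.IsQCoh (M ⊞ N) :=
  QCoh.isQCoh_X₂ (ShortComplex.Splitting.ofHasBinaryBiproduct M N).shortExact hM hN

lemma isQCoh_cone_X {E F : CochainComplex X.Modules ℤ} (φ : E ⟶ F) (hE : ∀ i, Coh.IsQCoh (E.X i))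
    (hF : ∀ i, Coh.IsQCoh (F.X i)) (i : ℤ) : Coh.IsQCoh ((CochainComplex.mappingCone φ).X i) :=
  KFlatLib.isQCoh_of_iso (HomologicalComplex.homotopyCofiber.XIsoBiprod φ i (i + 1) rfl).symm
    (isQCoh_biprod' (hE _) (hF _))

/-- Epimorphisms onto finite type modules are hit by finite locally free modules. -/
theorem exists_bundle_lift [CompactSpace X] [QuasiSeparatedSpace X] (hX : PerfAux.HasResolutionProperty X)
    {G H : X.Modules} (hG : Coh.IsQCoh G) (hH : Coh.IsQCoh H) (hft : CohB1.IsFT H) (p : G ⟶ H) [Epi p] :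
    ∃ (E : X.Modules) (s : E ⟶ G), FlatMod.IsFinLocFree E ∧ Epi (s ≫ p) := by
  classical
  have hgen : ∀ W : X.affineOpens, ∃ (T : Set Γ(G, W.1)), T.Finite ∧
      Submodule.span Γ(X, W.1) ((fun t => p.app W.1 t) '' T) = ⊤ := fun W => by
    obtain ⟨T, hT⟩ := (QCoh.finite_of_isFT hH hft W.2).fg_top
    choose g hg using QCoh.app_surjective_of_epi hG hH p W.2
    refine ⟨g '' T, T.finite_toSet.image g, ?_⟩
    rw [Set.image_image]
    simp only [hg, Set.image_id']
    exact hT
  choose T hTf hTs using hgen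
  have hsub : ∀ W : X.affineOpens, ∃ N : SubMod G, FTOn N ⊤ ∧ T W ⊆ N.mem W.1 := fun W =>
    exists_ftOn_contains hG W.2 (extStep_qcqs W.2.isCompact) (T W) (hTf W)
  choose N hN hTN using hsub
  obtain ⟨S, hS⟩ := isCompact_univ.elim_finite_subcover (fun V : X.affineOpens => (V.1 : Set X))
    (fun V => V.1.2) fun x _ => by
      obtain ⟨_, ⟨V, hV, rfl⟩, hxV, -⟩ := X.isBasis_affineOpens.exists_subset_of_mem_open
        (Set.mem_univ x) isOpen_univ
      exact Set.mem_iUnion.2 ⟨⟨V, hV⟩, hxV⟩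
  obtain ⟨K, hK⟩ := Finset.exists_le (α := FTIndex G) (S.image fun W => (⟨N W, hN W⟩ : FTIndex G))
  obtain ⟨E, q, hE, hq⟩ := hX _ (isQCoh_of_ftOn hG K.2) (isFT_of_ftOn hG K.2)
  refine ⟨E, q ≫ K.1.ι, hE, ⟨fun {Z} a b hab => ?_⟩⟩
  haveI := hq
  have e2 : K.1.ι ≫ p ≫ a = K.1.ι ≫ p ≫ b := (cancel_epi q).1 (by simpa using hab)
  refine hom_ext_of_generators fun x => ?_
  obtain ⟨W, hWS, hxW⟩ := Set.mem_iUnion₂.1 (hS (Set.mem_univ x))
  refine ⟨W.1, hxW, _, span_germ_of_span hH W.2 (hTs W) hxW, ?_⟩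
  rintro _ ⟨t, ht, rfl⟩
  obtain ⟨t', rfl⟩ := K.1.exists_app_eq (hK _ (Finset.mem_image_of_mem _ hWS) W.1 (hTN W ht))
  exact congrArg (fun φ => Scheme.Modules.Hom.app φ W.1 t') e2

/-- Uniform ranges for a perfect object. -/
theorem exists_range_of_perfect [CompactSpace X] {K : DCoh.D X} (hK : DCoh.IsPerfect K) :
    ∃ a b : ℤ, (∀ i, b < i → IsZero (DCoh.HD K i)) ∧
      ∀ x : X, ∃ (U : Scheme.{u}) (j : U ⟶ X) (_ : IsOpenImmersion j), x ∈ Set.range j.base ∧
        ∃ P : CochainComplex U.Modules ℤ, DCoh.IsStrictlyPerfect P ∧ (∀ i, i < a → IsZero (P.X i)) ∧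
          Nonempty (DerivedCategory.Q.obj P ≅ (rho j).obj K) := by
  classical
  choose U j hj hx P hP e using (isPerfect_iff K).1 hK
  choose a b hab using fun x => (hP x).1
  obtain ⟨S, hS⟩ := isCompact_univ.elim_finite_subcover
    (fun x => letI := hj x; ((j x).opensRange : Set X)) (fun x => letI := hj x; (j x).opensRange.2)
    fun x _ => Set.mem_iUnion.2 ⟨x, hx x⟩
  obtain ⟨b₀, hb₀⟩ := Finset.exists_le (S.image b)
  obtain ⟨a₀, ha₀⟩ := Finset.exists_le (S.image fun x => -a x)
  refine ⟨-a₀, b₀, fun i hi => isZero_of_stalk _ fun x => ?_, fun x => ?_⟩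
  · obtain ⟨y, hyS, hxy⟩ := Set.mem_iUnion₂.1 (hS (Set.mem_univ x))
    letI := hj y
    obtain ⟨u, rfl⟩ := (hxy : x ∈ Set.range (j y).base)
    have hb := hb₀ (b y) (Finset.mem_image_of_mem _ hyS)
    refine isZero_stalk_of_restrict (j y) u ((DerSch.stalkFunctor (U y) u).map_isZero ?_)
    exact (ShortComplex.isZero_homology_of_isZero_X₂ _ (hab y i (Or.inr (by omega)))).of_iso
      ((restrictHDIso (j y) K i).symm ≪≫
        (DerivedCategory.homologyFunctor _ i).mapIso (e y).some.symm ≪≫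
        (DerivedCategory.homologyFunctorFactors _ i).app (P y))
  · obtain ⟨y, hyS, hxy⟩ := Set.mem_iUnion₂.1 (hS (Set.mem_univ x))
    have ha := ha₀ (-a y) (Finset.mem_image_of_mem (fun x => -a x) hyS)
    exact ⟨U y, j y, hj y, hxy, P y, hP y, fun i hi => hab y i (Or.inl (by omega)), e y⟩

/-- Perfect bounded below complexes of quasi-coherent modules have strictly perfect resolutions. -/
theorem exists_strictlyPerfect_resolution [CompactSpace X] [QuasiSeparatedSpace X]
    (hX : PerfAux.HasResolutionProperty X) (F : CochainComplex X.Modules ℤ)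
    (hFb : ∃ a : ℤ, ∀ n : ℤ, n < a → IsZero (F.X n)) (hFq : ∀ n, Coh.IsQCoh (F.X n))
    (hF : DCoh.IsPerfect (DCoh.toD X F)) :
    ∃ (E : CochainComplex X.Modules ℤ) (φ : E ⟶ F), DCoh.IsStrictlyPerfect E ∧ QuasiIso φ := by
  obtain ⟨aF, haF⟩ := hFb
  obtain ⟨a, b, hb, hloc⟩ := exists_range_of_perfect hF
  let k := min a aF - 1
  let m₀ := max (b + 1) (k + 1)
  have hind : ∀ d : ℕ, ∃ (E : CochainComplex X.Modules ℤ) (φ : E ⟶ F), DCoh.IsStrictlyPerfect E ∧
      (∀ i, i < m₀ - d → IsZero (E.X i)) ∧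
      ∀ i, m₀ - d ≤ i → IsZero ((CochainComplex.mappingCone φ).homology i) := by
    intro d
    induction d with
    | zero =>
      obtain ⟨Z, hZ⟩ := HasZeroObject.zero (C := X.Modules)
      let E := (HomologicalComplex.single X.Modules (ComplexShape.up ℤ) 0).obj Z
      have hE : ∀ i, IsZero (E.X i) := fun i => by
        by_cases hi : i = 0
        · subst hi
          exact hZ.of_iso (HomologicalComplex.singleObjXSelf _ _ _)
        · exact HomologicalComplex.isZero_single_obj_X (ComplexShape.up ℤ) 0 Z i hi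
      refine ⟨E, 0, ⟨⟨0, 0, fun i _ => hE i⟩, fun i => isFinLocFree_of_isZero (hE i)⟩, fun i _ => hE i, ?_⟩
      refine (isPcMap_iff_cone (m₀ - (0 : ℕ)) (0 : E ⟶ F)).1 ⟨fun i hi => ?_, ⟨fun u v _ => ?_⟩⟩
      · exact ⟨0, ((ShortComplex.isZero_homology_of_isZero_X₂ _ (hE i)).of_iso
          ((DerivedCategory.homologyFunctorFactors _ i).app E)).eq_of_src _ _,
          (hb i (by omega)).eq_of_src _ _⟩
      · exact (hb _ (by omega)).eq_of_src u v
    | succ d ih =>
      obtain ⟨E, φ, hE, hlow, hz⟩ := ih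
      let k' := m₀ - d - 1
      let C := CochainComplex.mappingCone φ
      have hEq : ∀ i, Coh.IsQCoh (E.X i) := fun i => QCoh.isQCoh_of_isFinLocFree (hE.2 i)
      have hC := isQCoh_cone_X φ hEq hFq
      have hpc : LocPC k' (DCoh.toD X C) := by
        have h₁ := (isPerfect_iff _).1 (PerfStep.isPerfect_toD_of_isStrictlyPerfect hE)
        exact ((locSP_two_of_three _ ((DerivedCategory.mem_distTriang_iff _).2 ⟨_, _, φ, ⟨Iso.refl _⟩⟩)).1 h₁
          ((isPerfect_iff _).1 hF)).locPC k'
      have hft : CohB1.IsFT (C.homology k') :=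
        isFT_of_iso' ((DerivedCategory.homologyFunctorFactors _ k').app C)
          (isFT_top hpc fun i hi => (hz i (by omega)).of_iso
            ((DerivedCategory.homologyFunctorFactors _ i).app C))
      obtain ⟨E', ψ, hE', hψ⟩ := exists_bundle_lift hX (isQCoh_cycles hC k')
        (isQCoh_homology_of_terms C hC k') hft (C.homologyπ k')
      haveI := hψ
      refine ⟨_, PerfStep.extMap φ k' ψ, ?_, fun i hi => ?_, fun i hi =>
        (PerfStep.isZero_homology_ext φ k' ψ fun i hi => hz i (by omega)).1 i (by omega)⟩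
      · refine isStrictlyPerfect_cone _ ⟨⟨k' + 1, k' + 1, fun i hi =>
          HomologicalComplex.isZero_single_obj_X (ComplexShape.up ℤ) (k' + 1) E' i (by omega)⟩, fun i => ?_⟩ hE
        by_cases hi : i = k' + 1
        · subst hi
          exact H23.PullPush.isFinLocFree_of_iso
            (HomologicalComplex.singleObjXSelf (ComplexShape.up ℤ) (k' + 1) E').symm hE'
        · exact isFinLocFree_of_isZero
            (HomologicalComplex.isZero_single_obj_X (ComplexShape.up ℤ) (k' + 1) E' i hi)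
      · exact PerfStep.isZero_cone_X _
          (HomologicalComplex.isZero_single_obj_X (ComplexShape.up ℤ) (k' + 1) E' (i + 1) (by omega))
          (hlow i (by omega))
  obtain ⟨E, φ, hE, hlow, hz⟩ := hind (m₀ - (k + 1)).toNat
  have hm : m₀ - (m₀ - (k + 1)).toNat = k + 1 := by omega
  rw [hm] at hlow hz
  have hzero : ∀ i, i ≠ k → IsZero ((CochainComplex.mappingCone φ).homology i) := fun i hi => by
    rcases lt_or_gt_of_ne hi with hi' | hi'
    · exact ShortComplex.isZero_homology_of_isZero_X₂ _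
        (PerfStep.isZero_cone_X φ (hlow (i + 1) (by omega)) (haF i (by omega)))
    · exact hz i (by omega)
  obtain ⟨hZ, hπ⟩ := PerfStep.isFinLocFree_cycles φ (k := k) hE (fun i hi => hlow i (by omega))
    (fun i hi => haF i (by omega)) (fun x => by
      obtain ⟨U, j, hj, hx, P, hP, hPa, e⟩ := hloc x
      exact ⟨U, j, hj, hx, P, hP, fun i hi => hPa i (by omega), e⟩) hzero
  let ψ := 𝟙 ((CochainComplex.mappingCone φ).cycles k)
  haveI : IsIso (ψ ≫ (CochainComplex.mappingCone φ).homologyπ k) := by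
    haveI := hπ; infer_instance
  have hall := (PerfStep.isZero_homology_ext φ k ψ fun i hi => hzero i (by omega)).2 inferInstance
    fun i hi => hzero i (by omega)
  refine ⟨_, PerfStep.extMap φ k ψ, isStrictlyPerfect_cone _
    ⟨⟨k + 1, k + 1, fun i hi =>
      HomologicalComplex.isZero_single_obj_X (ComplexShape.up ℤ) (k + 1) _ i (by omega)⟩, fun i => ?_⟩ hE, ?_⟩
  · by_cases hi : i = k + 1
    · subst hi
      exact H23.PullPush.isFinLocFree_of_iso
        (HomologicalComplex.singleObjXSelf (ComplexShape.up ℤ) (k + 1) _).symm hZ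
    · exact isFinLocFree_of_isZero
        (HomologicalComplex.isZero_single_obj_X (ComplexShape.up ℤ) (k + 1) _ i hi)
  · rw [← DerivedCategory.isIso_Q_map_iff_quasiIso, DerivedCategory.isIso_iff]
    exact fun i => ((isPcMap_iff_cone (i - 1) _).2 fun l _ => hall l).1 i (by omega)

end Groth.Agent.Perf52
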