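import Groth.Agent.Perf52.QCInst
import Groth.Agent.Perf52.DQCoh
import Groth.Agent.Perf52.ResDiag
import Groth.Agent.Perf52.ResPerf
import Groth.Agent.Perf52.AffineKill
import Mathlib.Algebra.Homology.DerivedCategory.TStructure

/-!
# Perfect objects are strictly perfect under the resolution property
-/

set_option linter.style.haveILetI false
set_option backward.isDefEq.respectTransparency false

universe u

open CategoryTheory CategoryTheory.Limits AlgebraicGeometry Pretriangulated

attribute [local instance] HasDerivedCategory.standard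

namespace Groth.Agent.Perf52

open Groth.Agent Groth.Agent.KFlatLib

variable {X : Scheme.{u}}

/-- Bounded below objects of `D_QCoh` are represented by bounded below complexes of quasi-coherent modules. -/
theorem exists_qcoh_rep [CompactSpace X]
    (hdiag : ∀ U V : X.Opens, IsAffineOpen U → IsAffineOpen V → IsAffineOpen (U ⊓ V))
    {K : DCoh.D X} (hK : DCoh.IsQCohD K) {a : ℤ} (ha : ∀ i, i < a → IsZero (DCoh.HD K i)) :
    ∃ F : CochainComplex X.Modules ℤ, (∀ n, n < a → IsZero (F.X n)) ∧ (∀ n, Coh.IsQCoh (F.X n)) ∧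
      Nonempty (DCoh.toD X F ≅ K) := by
  obtain ⟨B, ⟨eB⟩⟩ := ((qcιD_equivalence hdiag).2.2 K).1 hK
  let C := DerivedCategory.Q.objPreimage B
  let eC : DerivedCategory.Q.obj C ≅ B := DerivedCategory.Q.objObjPreimageIso B
  have hC : ∀ i, i < a → C.ExactAt i := fun i hi => by
    rw [HomologicalComplex.exactAt_iff_isZero_homology]
    have h : IsZero ((qcι X).obj (C.homology i)) := (ha i hi).of_iso
      ((qcι X).mapIso (((DerivedCategory.homologyFunctorFactors (QC X) i).app C).symm ≪≫
          (DerivedCategory.homologyFunctor (QC X) i).mapIso eC) ≪≫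
        ((mapDCHomologyIso (qcι X) i).app B).symm ≪≫
        (DerivedCategory.homologyFunctor X.Modules i).mapIso eB)
    rw [IsZero.iff_id_eq_zero] at h ⊢
    exact (qcι X).map_injective (by rw [CategoryTheory.Functor.map_id, h, Functor.map_zero])
  haveI : C.IsGE a := (CochainComplex.isGE_iff C a).2 hC
  let F := ((qcι X).mapHomologicalComplex (ComplexShape.up ℤ)).obj (C.truncGE a)
  refine ⟨F, fun n hn => (qcι X).map_isZero (CochainComplex.isZero_of_isStrictlyGE (C.truncGE a) a n hn),
    fun n => ((C.truncGE a).X n).property, ⟨?_⟩⟩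
  exact ((qcι X).mapDerivedCategoryFactors.app (C.truncGE a)).symm ≪≫
    (qcι X).mapDerivedCategory.mapIso ((asIso (DerivedCategory.Q.map (C.πTruncGE a))).symm ≪≫ eC) ≪≫ eB

/-- Perfect objects are bounded below. -/
lemma exists_ge_of_perfect [CompactSpace X] {K : DCoh.D X} (hK : DCoh.IsPerfect K) :
    ∃ a : ℤ, ∀ i, i < a → IsZero (DCoh.HD K i) := by
  obtain ⟨a, b, -, hloc⟩ := exists_range_of_perfect hK
  refine ⟨a, fun i hi => isZero_of_stalk _ fun x => ?_⟩
  obtain ⟨U, j, _, ⟨u, rfl⟩, P, -, hP, ⟨e⟩⟩ := hloc x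
  refine isZero_stalk_of_restrict j u ((DerSch.stalkFunctor U u).map_isZero ?_)
  exact (ShortComplex.isZero_homology_of_isZero_X₂ _ (hP i hi)).of_iso
    ((restrictHDIso j K i).symm ≪≫ (DerivedCategory.homologyFunctor _ i).mapIso e.symm ≪≫
      (DerivedCategory.homologyFunctorFactors _ i).app P)

/-- Perfect objects are strictly perfect under the resolution property. -/
theorem exists_strictlyPerfect_iso [CompactSpace X] [QuasiSeparatedSpace X]
    (hX : PerfAux.HasResolutionProperty X) {K : DCoh.D X} (hK : DCoh.IsPerfect K) :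
    ∃ E : CochainComplex X.Modules ℤ, DCoh.IsStrictlyPerfect E ∧ Nonempty (DCoh.toD X E ≅ K) := by
  obtain ⟨a, ha⟩ := exists_ge_of_perfect hK
  obtain ⟨F, hFb, hFq, ⟨eF⟩⟩ := exists_qcoh_rep (fun U V hU hV => isAffineOpen_inf_of_resolution hX hU hV)
    (isQCohD_of_isPerfect hK) ha
  obtain ⟨E, φ, hE, hφ⟩ := exists_strictlyPerfect_resolution hX F ⟨a, hFb⟩ hFq
    ((isPerfect_iff _).2 (((isPerfect_iff _).1 hK).of_iso eF.symm))
  haveI := hφ
  exact ⟨E, hE, ⟨asIso (DerivedCategory.Q.map φ) ≪≫ eF⟩⟩

end Groth.Agent.Perf52
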