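import Groth.Agent.QCoh.RpushClosed
import Groth.Agent.QCoh.ProperOver2
import Groth.Agent.KFlatLib.Scheme.RpushUnbounded
import Groth.Agent.KFlatLib.Scheme.CohD
import Groth.Agent.Perf52.Trunc
import Groth.Agent.QCohAb92.Abelian

/-!
# Derived direct images of bounded coherent complexes with proper support
-/

set_option linter.style.haveILetI false
set_option backward.isDefEq.respectTransparency false
set_option backward.isDefEq.respectTransparency.types false

universe u

open CategoryTheory CategoryTheory.Limits AlgebraicGeometry Pretriangulated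

attribute [local instance] HasDerivedCategory.standard

namespace Groth.Agent.Perf52

open Groth.Agent Groth.Agent.KFlatLib

variable {X S : Scheme.{u}} [AlgebraicGeometry.IsNoetherian S] (f : X ⟶ S) [LocallyOfFiniteType f]

/-- Coherent with support proper over the base. -/
def IsCohProper (M : X.Modules) : Prop := Coh.IsCoh M ∧ ClSub.IsProperOver f (CohB1.support M)

variable {f}

omit [AlgebraicGeometry.IsNoetherian S] [LocallyOfFiniteType f] in
lemma IsCohProper.of_iso {M N : X.Modules} (e : M ≅ N) (h : IsCohProper f M) : IsCohProper f N := by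
  have : CohB1.support N = CohB1.support M := by
    ext x
    exact not_congr ((((TopCat.Presheaf.stalkFunctor AddCommGrpCat.{u} x).mapIso
      ((Scheme.Modules.toPresheaf X).mapIso e.symm)).addCommGroupIsoToAddEquiv).toEquiv.subsingleton_congr)
  exact ⟨QCohAb92.isCoh_of_iso' e h.1, this ▸ h.2⟩

lemma isCohProper_of_isZero {M : X.Modules} (h : IsZero M) : IsCohProper f M := by
  haveI : IsLocallyNoetherian X := LocallyOfFiniteType.isLocallyNoetherian f
  refine ⟨isCoh_of_isZero h, ?_⟩
  have he : CohB1.support M = ∅ := Set.eq_empty_iff_forall_notMem.2 fun x hx => hx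
    (AddCommGrpCat.subsingleton_of_isZero
      ((TopCat.Presheaf.stalkFunctor AddCommGrpCat.{u} x).map_isZero ((Scheme.Modules.toPresheaf X).map_isZero h)))
  rw [he]
  exact QCoh.isProperOver_empty

variable (f)

/-- Higher direct images of a coherent module with proper support vanish in high degrees. -/
theorem exists_bound_rpush_cohProper [HasInjectiveResolutions X.Modules] {M : X.Modules}
    (hM : IsCohProper f M) :
    ∃ N : ℕ, ∀ p : ℕ, N ≤ p → IsZero ((Coh.Rpush f p).obj M) := by
  obtain ⟨T, i, G, hi, hr, hG, -, ⟨e⟩⟩ := QCoh.exists_closed_model hM.1.1 hM.1.2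
  haveI := hi
  have hs := hM.2
  rw [← hr] at hs
  haveI : IsProper (i ≫ f) := (QCoh.isProperOver_iff i).1 hs
  haveI : HasInjectiveResolutions T.Modules := hasInjectiveResolutions_modules
  obtain ⟨N, hN⟩ := exists_Rpush_bound (i ≫ f)
  exact ⟨N, fun p hp => (hN G hG p hp).of_iso
    ((Coh.Rpush f p).mapIso e.symm ≪≫ (QCoh.nonempty_Rpush_affine_push i f hG p).some)⟩

variable [DCoh.HasRpush f]

/-- `Rf_*` of bounded complexes with coherent cohomology of proper support. -/
theorem rpush_cohProper_bounded : ∀ (m : ℕ) (a : ℤ) (K : DCoh.D X), K.IsGE a → K.IsLE (a + m) →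
    (∀ i, IsCohProper f (DCoh.HD K i)) →
      DCoh.IsCohD ((DCoh.Rpush f).obj K) ∧ ∃ b : ℤ, ((DCoh.Rpush f).obj K).IsLE b := by
  haveI : HasInjectiveResolutions X.Modules := hasInjectiveResolutions_modules
  intro m
  induction m with
  | zero =>
    intro a K hge hle hq
    haveI := hge
    haveI : K.IsLE a := by simpa using hle
    obtain ⟨M, ⟨e⟩⟩ := DerivedCategory.exists_iso_singleFunctor_obj_of_isGE_of_isLE K a
    let es : K ≅ (DCoh.inD X M)⟦(-a : ℤ)⟧ :=
      e ≪≫ (((DerivedCategory.singleFunctors X.Modules).shiftIso (-a) a 0 (by omega)).app M).symm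
    obtain ⟨eS⟩ := nonempty_rpush_shift f (DCoh.inD X M) (-a)
    let eR : (DCoh.Rpush f).obj K ≅ ((DCoh.Rpush f).obj (DCoh.inD X M))⟦(-a : ℤ)⟧ :=
      (DCoh.Rpush f).mapIso es ≪≫ eS
    have hM : IsCohProper f M := (hq a).of_iso
      ((DerivedCategory.homologyFunctor X.Modules a).mapIso e ≪≫
        (DerivedCategory.singleFunctorCompHomologyFunctorIso X.Modules a).app M)
    obtain ⟨N, hN⟩ := exists_bound_rpush_cohProper f hM
    let eH : ∀ i : ℤ, DCoh.HD ((DCoh.Rpush f).obj K) i ≅
        DCoh.HD ((DCoh.Rpush f).obj (DCoh.inD X M)) (i - a) := fun i =>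
      (DerivedCategory.homologyFunctor S.Modules i).mapIso eR ≪≫
        ((DerivedCategory.homologyFunctor S.Modules 0).shiftIso (-a) i (i - a) (by omega)).app _
    refine ⟨fun i => ?_, a + N, (DerivedCategory.isLE_iff _ _).2 fun i hi => ?_⟩
    · refine isCoh_of_iso (eH i).symm ?_
      rcases lt_or_ge (i - a) 0 with h | h
      · exact isCoh_of_isZero (isZero_hd_rpush_of_lt f _ 0 _ h)
      · obtain ⟨n, hn⟩ := Int.eq_ofNat_of_zero_le h
        rw [hn]
        exact isCoh_of_iso (nonempty_hd_rpush_single f M n).some.symm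
          (QCoh.isCoh_Rpush_of_properSupport f hM.1 hM.2 n)
    · obtain ⟨n, hn⟩ := Int.eq_ofNat_of_zero_le (show 0 ≤ i - a by omega)
      refine (hN n (by omega)).of_iso (eH i ≪≫ ?_)
      exact eqToIso (by rw [hn]) ≪≫ (nonempty_hd_rpush_single f M n).some
  | succ m ih =>
    intro a K hge hle hq
    haveI := hge
    haveI := hle
    obtain ⟨A, B, g₁, g₂, h, hT, hA, hB, hf, hg⟩ := exists_trunc K (a + 1)
    haveI := hA
    haveI := hB
    haveI hAge : A.IsGE a := (DerivedCategory.isGE_iff A a).2 fun i hi => by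
      haveI := hf i (by omega)
      exact (DerivedCategory.isZero_of_isGE K a i hi).of_iso
        (asIso ((DerivedCategory.homologyFunctor X.Modules i).map g₁))
    haveI hBle : B.IsLE (a + 1 + m) := (DerivedCategory.isLE_iff B _).2 fun i hi => by
      haveI := hg i (by omega)
      exact (DerivedCategory.isZero_of_isLE K (a + (m + 1 : ℕ)) i (by omega)).of_iso
        (asIso ((DerivedCategory.homologyFunctor X.Modules i).map g₂)).symm
    have hqA : ∀ i, IsCohProper f (DCoh.HD A i) := fun i => by
      by_cases hi : i < a + 1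
      · haveI := hf i hi
        exact (hq i).of_iso (asIso ((DerivedCategory.homologyFunctor X.Modules i).map g₁)).symm
      · exact isCohProper_of_isZero (DerivedCategory.isZero_of_isLE A (a + 1 - 1) i (by omega))
    have hqB : ∀ i, IsCohProper f (DCoh.HD B i) := fun i => by
      by_cases hi : a + 1 ≤ i
      · haveI := hg i hi
        exact (hq i).of_iso (asIso ((DerivedCategory.homologyFunctor X.Modules i).map g₂))
      · exact isCohProper_of_isZero (DerivedCategory.isZero_of_isGE B (a + 1) i (by omega))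
    obtain ⟨r₁, b₁, v₁⟩ := ih a A hAge
      (DerivedCategory.TStructure.t.isLE_of_le _ (a + 1 - 1) _ (by omega)) hqA
    obtain ⟨r₃, b₃, v₃⟩ := ih (a + 1) B hB hBle hqB
    obtain ⟨c, hc⟩ := exists_rpush_triangle f _ hT
    haveI : IsLocallyNoetherian S := inferInstance
    refine ⟨isCohD_obj₂ hc r₁ r₃, max b₁ b₃, (DerivedCategory.isLE_iff _ _).2 fun i hi => ?_⟩
    exact (DerivedCategory.HomologySequence.exact₂ _ hc i).isZero_X₂
      ((@DerivedCategory.isZero_of_isLE _ _ _ _ _ b₁ i (by omega) v₁).eq_of_src _ _)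
      ((@DerivedCategory.isZero_of_isLE _ _ _ _ _ b₃ i (by omega) v₃).eq_of_tgt _ _)

/-- `Rf_*` of bounded below objects with coherent cohomology of proper support is coherent. -/
theorem isCohD_rpush_cohProper (K : DCoh.D X) (a : ℤ) [K.IsGE a]
    (hq : ∀ i, IsCohProper f (DCoh.HD K i)) : DCoh.IsCohD ((DCoh.Rpush f).obj K) := fun i => by
  haveI : IsLocallyNoetherian S := inferInstance
  rcases lt_or_ge i a with h | h
  · exact isCoh_of_isZero (isZero_hd_rpush_of_lt f K a i h)
  obtain ⟨A, B, g₁, g₂, d, hT, hA, hB, hf, -⟩ := exists_trunc K (i + 1)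
  haveI := hA
  haveI := hB
  haveI hAge : A.IsGE a := (DerivedCategory.isGE_iff A a).2 fun j hj => by
    haveI := hf j (by omega)
    exact (DerivedCategory.isZero_of_isGE K a j hj).of_iso
      (asIso ((DerivedCategory.homologyFunctor X.Modules j).map g₁))
  have hqA : ∀ j, IsCohProper f (DCoh.HD A j) := fun j => by
    by_cases hj : j < i + 1
    · haveI := hf j hj
      exact (hq j).of_iso (asIso ((DerivedCategory.homologyFunctor X.Modules j).map g₁)).symm
    · exact isCohProper_of_isZero (DerivedCategory.isZero_of_isLE A (i + 1 - 1) j (by omega))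
  obtain ⟨r₁, -⟩ := rpush_cohProper_bounded f (i - a).toNat a A hAge
    (DerivedCategory.TStructure.t.isLE_of_le _ (i + 1 - 1) _ (by omega)) hqA
  obtain ⟨c, hc⟩ := exists_rpush_triangle f _ hT
  let g := (DerivedCategory.homologyFunctor S.Modules i).map ((DCoh.Rpush f).map g₁)
  haveI : Epi g := (DerivedCategory.HomologySequence.exact₂ _ hc i).epi_f
    ((isZero_hd_rpush_of_lt f B (i + 1) i (by omega)).eq_of_tgt _ _)
  haveI : Mono g := (DerivedCategory.HomologySequence.exact₁ _ hc (i - 1) i (by omega)).mono_g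
    ((isZero_hd_rpush_of_lt f B (i + 1) (i - 1) (by omega)).eq_of_src _ _)
  exact QCohAb92.isCoh_of_iso' (@asIso _ _ _ _ g (isIso_of_mono_of_epi g)) (r₁ i)

end Groth.Agent.Perf52
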