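import Groth.Agent.KFlatLib.Perfect.DLocal
import Groth.Agent.QCoh.LocFree
import Groth.Prelude.Def_DCoh3

/-!
# Perfect objects are relatively perfect for flat morphisms
-/

set_option linter.style.haveILetI false
set_option backward.isDefEq.respectTransparency false
set_option backward.isDefEq.respectTransparency.types false

universe u

open CategoryTheory CategoryTheory.Limits AlgebraicGeometry

attribute [local instance] HasDerivedCategory.standard

namespace Groth.Agent.Perf52

open Groth.Agent.KFlatLib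

variable {X S : Scheme.{u}} (f : X ⟶ S)

/-- Finite locally free modules are flat over the base of a flat morphism. -/
theorem isFlatOver_of_isFinLocFree [Flat f] {H : X.Modules} (hH : FlatMod.IsFinLocFree H) :
    FlatMod.IsFlatOver f H := fun x => by
  unfold FlatMod.IsFlatOverAt
  letI := FlatMod.moduleStalkOver f H x
  letI : Algebra (S.presheaf.stalk (f.base x)) (X.presheaf.stalk x) := (f.stalkMap x).hom.toAlgebra
  haveI : IsScalarTower (S.presheaf.stalk (f.base x)) (X.presheaf.stalk x) (H.presheaf.stalk x) :=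
    IsScalarTower.of_algebraMap_smul fun _ _ => rfl
  haveI : Module.Flat (S.presheaf.stalk (f.base x)) (X.presheaf.stalk x) := Flat.stalkMap f x
  haveI := QCoh.free_stalk_of_isFinLocFree hH x
  exact Module.Flat.trans _ (X.presheaf.stalk x) _

theorem relPerfect_of_isPerfect [Flat f] {E : DCoh.D X} (hE : DCoh.IsPerfect E) :
    (∀ m : ℤ, DCoh.IsPseudoCoherentD m E) ∧ DCoh.LocHasFiniteRelTorDim f E := by
  refine ⟨fun m => (isPseudoCoherentD_iff m E).2 (((isPerfect_iff E).1 hE).locPC m), fun x => ?_⟩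
  obtain ⟨V, hx, hV⟩ := hE x
  obtain ⟨P, ⟨⟨a, b, hab⟩, hP⟩, ⟨e⟩⟩ := hV (DerivedCategory.Q.objPreimage E) ⟨repIso E⟩
  refine ⟨V, a, b, hx, fun F ⟨eF⟩ => ⟨P, hab, fun i => isFlatOver_of_isFinLocFree (V.ι ≫ f) (hP i), ⟨?_⟩⟩⟩
  exact e.symm ≪≫ ((rhoQ V.ι).app _).symm ≪≫ (rho V.ι).mapIso (repIso E ≪≫ eF.symm) ≪≫ (rhoQ V.ι).app F

end Groth.Agent.Perf52
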