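import Groth.Agent.Perf52.CompactRing
import Groth.Agent.Perf52.GeneratorGlobal
import Groth.Prelude.Def_PerfAux

/-!
# Compact objects among those with quasi-coherent cohomology are perfect
-/

set_option linter.style.haveILetI false
set_option backward.isDefEq.respectTransparency false

universe u

open CategoryTheory CategoryTheory.Limits AlgebraicGeometry TopologicalSpace Pretriangulated

attribute [local instance] HasDerivedCategory.standard

namespace Groth.Agent.Perf52

open Groth.Agent.KFlatLib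

/-- `PerfAux` compactness in terms of finite supports. -/
lemma bijective_iff_fixAt {D : Type*} [Category D] [Preadditive D] {K : D} {ι : Type*} (N : ι → D)
    [HasCoproduct N] : Function.Bijective (PerfAux.homSumToHomCoprod K N) ↔ FixAt N K := by
  classical
  let p : ∀ j, ∐ N ⟶ N j := fun j =>
    Sigma.desc fun i => if h : i = j then eqToHom (congrArg N h) else 0
  have hp : ∀ j, Sigma.ι N j ≫ p j = 𝟙 _ := fun j => by simp [p]
  have hp' : ∀ i j, i ≠ j → Sigma.ι N i ≫ p j = 0 := fun i j hij => by simp [p, hij]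
  have hof : ∀ i (g : K ⟶ N i),
      PerfAux.homSumToHomCoprod K N (DirectSum.of _ i g) = g ≫ Sigma.ι N i := fun i g => by
    simp [PerfAux.homSumToHomCoprod, Preadditive.rightComp]
  constructor
  · intro h φ
    obtain ⟨x, rfl⟩ := h.2 φ
    induction x using DirectSum.induction_on with
    | zero => exact ⟨∅, by simp⟩
    | of i g => exact ⟨{i}, by rw [hof, Category.assoc, ι_partProj_mem N (Finset.mem_singleton_self i)]⟩
    | add a b ha hb =>
      obtain ⟨F, hF⟩ := ha
      obtain ⟨G, hG⟩ := hb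
      exact ⟨F ∪ G, by rw [map_add, Preadditive.add_comp, fix_mono Finset.subset_union_left hF,
        fix_mono Finset.subset_union_right hG]⟩
  · intro h
    refine ⟨(injective_iff_map_eq_zero _).2 fun x hx => ?_, fun φ => ?_⟩
    · ext j
      have key : ∀ y, PerfAux.homSumToHomCoprod K N y ≫ p j = y j := fun y => by
        induction y using DirectSum.induction_on with
        | zero => simp
        | of i g =>
          rw [hof, Category.assoc]
          by_cases hij : i = j
          · subst hij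
            simp [hp]
          · rw [hp' i j hij, comp_zero, DirectSum.of_eq_of_ne _ _ _ (Ne.symm hij)]
        | add a b ha hb => rw [map_add, Preadditive.add_comp, ha, hb]; rfl
      rw [← key x, hx, zero_comp]
      rfl
    · obtain ⟨F, hF⟩ := h φ
      refine ⟨∑ i ∈ F, DirectSum.of _ i (φ ≫ p i), ?_⟩
      rw [map_sum]
      simp only [hof, Category.assoc]
      rw [← Preadditive.comp_sum]
      refine (congrArg (φ ≫ ·) ?_).trans hF
      refine Sigma.hom_ext _ _ fun i => ?_
      rw [Preadditive.comp_sum]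
      by_cases hi : i ∈ F
      · rw [ι_partProj_mem N hi, Finset.sum_eq_single i (fun b _ hb => by
          rw [← Category.assoc, hp' i b (Ne.symm hb), zero_comp]) (fun h => absurd hi h),
          ← Category.assoc, hp, Category.id_comp]
      · rw [ι_partProj_not_mem N hi]
        exact Finset.sum_eq_zero fun b hb => by
          rw [← Category.assoc, hp' i b (fun h => hi (h ▸ hb)), zero_comp]

/-- Compact among objects with quasi-coherent cohomology. -/
def QFix {X : Scheme.{u}} (K : DCoh.D X) : Prop :=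
  ∀ (J : Type u) (M : J → DCoh.D X) [HasCoproduct M], (∀ j, DCoh.IsQCohD (M j)) → FixAt M K

variable {X U : Scheme.{u}}

lemma hasCoproduct_D {J : Type u} (M : J → DCoh.D X) : HasCoproduct M :=
  haveI : HasColimitsOfShape (Discrete J) (DCoh.D X) := TriCat.hasColimitsOfShape_derivedCategory
  inferInstance

lemma QFix.shift {K : DCoh.D X} (h : QFix K) (n : ℤ) : QFix (K⟦n⟧) := fun J M _ hM φ => by
  let M' := fun j => (M j)⟦-n⟧
  haveI := hasCoproduct_D M'
  let F := shiftFunctor (DCoh.D X) (-n)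
  let σ : ∐ M' ⟶ F.obj (∐ M) := sigmaComparison F M
  haveI : PreservesColimit (Discrete.functor M) F := inferInstance
  haveI : IsIso σ := inferInstanceAs (IsIso (sigmaComparison F M))
  let s := (shiftFunctorCompIsoId (DCoh.D X) n (-n) (by omega)).app K
  obtain ⟨G, hG⟩ := h J M' (fun j => isQCohD_shift (hM j) (-n)) (s.inv ≫ F.map φ ≫ inv σ)
  refine ⟨G, F.map_injective ?_⟩
  have hσ : partProj M' G ≫ σ = σ ≫ F.map (partProj M G) := by
    refine Sigma.hom_ext _ _ fun j => ?_
    have hj : Sigma.ι M' j ≫ σ = F.map (Sigma.ι M j) := ι_comp_sigmaComparison F M j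
    by_cases hjF : j ∈ G
    · rw [← Category.assoc, ι_partProj_mem M' hjF, hj, ← Category.assoc, hj, ← Functor.map_comp,
        ι_partProj_mem M hjF]
    · rw [← Category.assoc, ι_partProj_not_mem M' hjF, zero_comp, ← Category.assoc, hj,
        ← Functor.map_comp, ι_partProj_not_mem M hjF, Functor.map_zero]
  have h2 := congrArg (fun t => s.hom ≫ t ≫ σ) hG
  simp only [Category.assoc, IsIso.inv_hom_id, Category.comp_id, Iso.hom_inv_id_assoc] at h2
  have h3 : F.map φ ≫ inv σ ≫ (partProj M' G ≫ σ) = F.map φ := h2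
  rw [hσ, IsIso.inv_hom_id_assoc] at h3
  exact (F.map_comp φ (partProj M G)).trans h3

/-- Perfect objects are compact. -/
lemma qfix_of_isPerfect [CompactSpace X] [QuasiSeparatedSpace X] {K : DCoh.D X}
    (h : DCoh.IsPerfect K) : QFix K := fun _ M _ hM => fixAt_qcoh h M hM

/-- Pushing families forward from a quasi-compact open commutes with sums. -/
theorem exists_push_family [CompactSpace X] [QuasiSeparatedSpace X] (V : X.Opens)
    (hV : IsCompact (V : Set X)) {J : Type u} (L : J → DCoh.D (V : Scheme.{u})) [HasCoproduct L]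
    (hL : ∀ j, DCoh.IsQCohD (L j)) :
    ∃ (M : J → DCoh.D X) (_ : HasCoproduct M) (e : ∀ j, (rho V.ι).obj (M j) ≅ L j) (E : DCoh.D X)
      (d : (rho V.ι).obj E ≅ ∐ L) (c : ∐ M ⟶ E),
      (∀ j, DCoh.IsQCohD (M j)) ∧ IsIso c ∧
      (∀ (j : J) (K : DCoh.D X), Function.Bijective (fun φ : K ⟶ M j => (rho V.ι).map φ)) ∧
      (∀ K : DCoh.D X, Function.Bijective (fun φ : K ⟶ E => (rho V.ι).map φ)) ∧
      ∀ j, (rho V.ι).map (Sigma.ι M j ≫ c) ≫ d.hom = (e j).hom ≫ Sigma.ι L j := by
  haveI : QuasiCompact V.ι := QCoh.quasiCompact_ι_of_compact V hV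
  haveI : CompactSpace (V : Scheme.{u}) := isCompact_iff_compactSpace.1 hV
  haveI : QuasiSeparatedSpace (V : Scheme.{u}) := quasiSeparatedSpace_of_quasiSeparated V.ι
  choose M e hMq _ hMb using fun j => exists_push_supp V (T := Set.univ) isClosed_univ (L j) (hL j)
    (fun _ h => absurd trivial h)
  haveI := hasCoproduct_D M
  obtain ⟨E, d, hEq, -, hbij⟩ := exists_push_supp V (T := Set.univ) isClosed_univ (∐ L)
    (isQCohD_sigma L hL) (fun _ h => absurd trivial h)
  choose cj hcj using fun j => (hbij (M j)).2 ((e j).hom ≫ Sigma.ι L j ≫ d.inv)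
  simp only at hcj
  let c : ∐ M ⟶ E := Sigma.desc cj
  have hc : ∀ j, (rho V.ι).map (Sigma.ι M j ≫ c) ≫ d.hom = (e j).hom ≫ Sigma.ι L j := fun j => by
    rw [Sigma.ι_desc, hcj]
    simp
  refine ⟨M, inferInstance, e, E, d, c, hMq, ?_, hMb, hbij, hc⟩
  obtain ⟨P, hP, -, hgen⟩ := genOn_qcqs (X := X) (T := Set.univ) isClosed_univ (by simp)
  have hB : ∀ Q : DCoh.D X, DCoh.IsPerfect Q → Function.Bijective (fun φ : Q ⟶ ∐ M => φ ≫ c) := by
    intro Q hQ
    classical
    let θ : ∀ j, ∐ M ⟶ M j := fun j =>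
      Sigma.desc fun i => if h : i = j then eqToHom (congrArg M h) else 0
    let θ' : ∀ j, ∐ L ⟶ L j := fun j =>
      Sigma.desc fun i => if h : i = j then eqToHom (congrArg L h) else 0
    constructor
    · refine fun a b hab => sub_eq_zero.1 ?_
      have h0 : (a - b) ≫ c = 0 := by
        simp only at hab
        rw [Preadditive.sub_comp, hab, sub_self]
      obtain ⟨F, hF⟩ := fixAt_qcoh hQ M hMq (a - b)
      have hsum : partProj M F = ∑ j ∈ F, θ j ≫ Sigma.ι M j := Sigma.hom_ext _ _ fun i => by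
        rw [Preadditive.comp_sum]
        by_cases hi : i ∈ F
        · rw [ι_partProj_mem M hi, Finset.sum_eq_single i (fun b _ hb => by
            simp [θ, Ne.symm hb]) (fun h => absurd hi h)]
          simp [θ]
        · rw [ι_partProj_not_mem M hi]
          exact (Finset.sum_eq_zero fun b hb => by
            have hib : ¬ i = b := fun h => hi (h ▸ hb)
            simp [θ, hib]).symm
      rw [← hF, hsum, Preadditive.comp_sum]
      refine Finset.sum_eq_zero fun j hj => ?_
      suffices h : (a - b) ≫ θ j = 0 by rw [← Category.assoc, h, zero_comp]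
      refine (hMb j Q).1 ?_
      have h1 := congrArg (fun t => (rho V.ι).map t ≫ d.hom ≫ θ' j) h0
      rw [← hF, hsum] at h1
      simp only [Preadditive.comp_sum, Preadditive.sum_comp, Functor.map_sum, Functor.map_comp,
        Category.assoc, Functor.map_zero, zero_comp] at h1
      rw [Finset.sum_eq_single j (fun i _ hij => ?_) (fun h => absurd hj h)] at h1
      · rw [← Functor.map_comp_assoc (rho V.ι) (Sigma.ι M j) c, reassoc_of% (hc j)] at h1
        simp only [θ', Sigma.ι_desc, dite_true, eqToHom_refl, Category.comp_id] at h1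
        simp only [Functor.map_zero, Functor.map_comp]
        rw [← cancel_mono (e j).hom, zero_comp, Category.assoc]
        exact h1
      · rw [← Functor.map_comp_assoc (rho V.ι) (Sigma.ι M i) c, reassoc_of% (hc i)]
        simp [θ', hij]
    · intro ψ
      obtain ⟨F, hF⟩ := fixAt_qcoh (isPerfect_rho V.ι hQ) L hL ((rho V.ι).map ψ ≫ d.hom)
      choose a ha using fun j => (hMb j Q).2 ((rho V.ι).map ψ ≫ d.hom ≫ θ' j ≫ (e j).inv)
      simp only at ha
      refine ⟨∑ j ∈ F, a j ≫ Sigma.ι M j, (hbij Q).1 ?_⟩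
      change (rho V.ι).map ((∑ j ∈ F, a j ≫ Sigma.ι M j) ≫ c) = (rho V.ι).map ψ
      rw [← cancel_mono d.hom, ← hF, Preadditive.sum_comp, Functor.map_sum, Preadditive.sum_comp]
      have hsum : partProj L F = ∑ j ∈ F, θ' j ≫ Sigma.ι L j := Sigma.hom_ext _ _ fun i => by
        rw [Preadditive.comp_sum]
        by_cases hi : i ∈ F
        · rw [ι_partProj_mem L hi, Finset.sum_eq_single i (fun b _ hb => by
            simp [θ', Ne.symm hb]) (fun h => absurd hi h)]
          simp [θ']
        · rw [ι_partProj_not_mem L hi]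
          exact (Finset.sum_eq_zero fun b hb => by
            have hib : ¬ i = b := fun h => hi (h ▸ hb)
            simp [θ', hib]).symm
      rw [hsum, Preadditive.comp_sum]
      refine Finset.sum_congr rfl fun j _ => ?_
      rw [Category.assoc, Functor.map_comp, Category.assoc, hc, ha]
      simp
  obtain ⟨C, q, d', hT⟩ := distinguished_cocone_triangle c
  refine (Triangle.isZero₃_iff_isIso₁ _ hT).1 (hgen C ?_ (fun _ h => absurd trivial h) fun n => ?_)
  · exact isQCohD_obj₃ hT (isQCohD_sigma M hMq) hEq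
  · refine eq_zero_of_shift' n fun φ => ?_
    obtain ⟨χ, hχ⟩ := (shiftFunctor (DCoh.D X) (1 : ℤ)).map_surjective
      (((shiftFunctorCompIsoId (DCoh.D X) (-1 : ℤ) 1 (by omega)).app (P⟦-n⟧)).hom ≫ φ ≫ d')
    have hχ0 : χ ≫ c = 0 := by
      refine (shiftFunctor (DCoh.D X) (1 : ℤ)).map_injective ?_
      rw [Functor.map_comp, hχ, Functor.map_zero]
      have hz : d' ≫ c⟦(1 : ℤ)⟧' = 0 := comp_distTriang_mor_zero₃₁ _ hT
      simp only [Category.assoc, hz, comp_zero]
    have hP' := isPerfect_shift (isPerfect_shift hP (-n)) (-1)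
    have hχz : χ = 0 := (hB _ hP').1 (hχ0.trans zero_comp.symm)
    have hφd : φ ≫ d' = 0 := by
      rw [hχz, Functor.map_zero] at hχ
      rw [← cancel_epi ((shiftFunctorCompIsoId (DCoh.D X) (-1 : ℤ) 1 (by omega)).app (P⟦-n⟧)).hom,
        ← hχ, comp_zero]
    obtain ⟨ψ, hψ⟩ := Triangle.coyoneda_exact₃ _ hT φ hφd
    obtain ⟨ω, hω⟩ := (hB _ (isPerfect_shift hP (-n))).2 ψ
    have hω' : ω ≫ c = ψ := hω
    have hz : c ≫ q = 0 := comp_distTriang_mor_zero₁₂ _ hT
    rw [hψ, ← hω']
    exact (Category.assoc _ _ _).trans ((congrArg (ω ≫ ·) hz).trans comp_zero)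

/-- Restrictions of compact objects to quasi-compact opens are compact. -/
theorem qfix_rho [CompactSpace X] [QuasiSeparatedSpace X] (V : X.Opens) (hV : IsCompact (V : Set X))
    {K : DCoh.D X} (h : QFix K) : QFix ((rho V.ι).obj K) := fun J L _ hL φ => by
  classical
  obtain ⟨M, _, e, E, d, c, hMq, hc, -, hbij, hcomp⟩ := exists_push_family V hV L hL
  haveI := hc
  obtain ⟨ψ, hψ⟩ := (hbij K).2 (φ ≫ d.inv)
  simp only at hψ
  obtain ⟨F, hF⟩ := h J M hMq (ψ ≫ inv c)
  obtain ⟨w, hw⟩ := (hbij E).2 (d.hom ≫ partProj L F ≫ d.inv)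
  simp only at hw
  have hpc : partProj M F ≫ c = c ≫ w := by
    refine Sigma.hom_ext _ _ fun j => (hbij _).1 ?_
    change (rho V.ι).map _ = (rho V.ι).map _
    rw [← cancel_mono d.hom, ← Category.assoc (Sigma.ι M j) c w, Functor.map_comp _ (_ ≫ c) w, hw]
    simp only [Category.assoc, Iso.inv_hom_id, Category.comp_id]
    rw [reassoc_of% (hcomp j)]
    by_cases hj : j ∈ F
    · rw [← Category.assoc (Sigma.ι M j), ι_partProj_mem M hj, hcomp, ι_partProj_mem L hj]
    · rw [← Category.assoc (Sigma.ι M j), ι_partProj_not_mem M hj, zero_comp, Functor.map_zero,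
        zero_comp, ι_partProj_not_mem L hj, comp_zero]
  refine ⟨F, ?_⟩
  have h2 := congrArg (fun t => (rho V.ι).map (t ≫ c) ≫ d.hom) hF
  simp only [Category.assoc, hpc, IsIso.inv_hom_id, Category.comp_id, IsIso.inv_hom_id_assoc,
    Functor.map_comp, hψ, hw, Iso.inv_hom_id, Iso.inv_hom_id_assoc] at h2
  exact h2

/-- Compactness moves along isomorphisms of schemes. -/
lemma qfix_rho_of_surjective (j : U ⟶ X) [IsOpenImmersion j] [Surjective j] {K : DCoh.D X}
    (h : QFix K) : QFix ((rho j).obj K) := fun J L _ hL φ => by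
  classical
  let M := fun i => (lshD j).obj (L i)
  haveI := hasCoproduct_D M
  haveI : PreservesColimit (Discrete.functor L) (lshD j) :=
    haveI := (lshDAdj j).isLeftAdjoint; inferInstance
  let σ : ∐ M ⟶ (lshD j).obj (∐ L) := sigmaComparison (lshD j) L
  haveI : IsIso σ := inferInstanceAs (IsIso (sigmaComparison (lshD j) L))
  have hMq : ∀ i, DCoh.IsQCohD (M i) := fun i n => isQCoh_HD_of_local _ n fun x => by
    obtain ⟨u, rfl⟩ := j.surjective x
    exact ⟨U, j, inferInstance, ⟨u, rfl⟩,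
      isQCohD_of_iso ((lshDRhoIso j).app (L i)).symm (hL i) n⟩
  haveI := isIso_counit_of_surjective j K
  obtain ⟨F, hF⟩ := h J M hMq (inv ((lshDAdj j).counit.app K) ≫ (lshD j).map φ ≫ inv σ)
  refine ⟨F, ?_⟩
  haveI : (lshD j).Faithful := (lshDAdj j).faithful_L_of_mono_unit_app
  refine (lshD j).map_injective ?_
  have hσ : partProj M F ≫ σ = σ ≫ (lshD j).map (partProj L F) := by
    refine Sigma.hom_ext _ _ fun i => ?_
    have hi : Sigma.ι M i ≫ σ = (lshD j).map (Sigma.ι L i) := ι_comp_sigmaComparison _ _ i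
    by_cases hiF : i ∈ F
    · rw [← Category.assoc, ι_partProj_mem M hiF, hi, ← Category.assoc, hi, ← Functor.map_comp,
        ι_partProj_mem L hiF]
    · rw [← Category.assoc, ι_partProj_not_mem M hiF, zero_comp, ← Category.assoc, hi,
        ← Functor.map_comp, ι_partProj_not_mem L hiF, Functor.map_zero]
  have h2 := congrArg (fun t => (lshDAdj j).counit.app K ≫ t ≫ σ) hF
  simp only [Category.assoc, IsIso.inv_hom_id, Category.comp_id, IsIso.hom_inv_id_assoc] at h2
  rw [hσ, IsIso.inv_hom_id_assoc] at h2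
  exact (Functor.map_comp _ _ _).trans h2

/-- Compact objects are perfect. -/
theorem isPerfect_of_qfix [CompactSpace X] [QuasiSeparatedSpace X] {K : DCoh.D X}
    (hK : DCoh.IsQCohD K) (h : QFix K) : DCoh.IsPerfect K := by
  refine (isPerfect_iff _).2 (LocSP.of_local fun x => ?_)
  obtain ⟨V, hV, hxV⟩ : ∃ V : X.Opens, IsAffineOpen V ∧ x ∈ V := by
    obtain ⟨_, ⟨V, hV, rfl⟩, hxV, -⟩ := X.isBasis_affineOpens.exists_subset_of_mem_open
      (Set.mem_univ x) isOpen_univ
    exact ⟨V, hV, hxV⟩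
  refine ⟨V, V.ι, inferInstance, ⟨⟨x, hxV⟩, rfl⟩, (isPerfect_iff _).1 ?_⟩
  haveI : IsAffine (V : Scheme.{u}) := hV
  let j : Spec Γ(V, ⊤) ⟶ V := (V : Scheme.{u}).isoSpec.inv
  haveI : Surjective j := inferInstance
  haveI : PreservesFiniteLimits (tilde.functor Γ(V, ⊤)) := inferInstance
  refine isPerfect_of_rho j ?_
  have hq := qfix_rho_of_surjective j (qfix_rho V hV.isCompact h)
  obtain ⟨M, ⟨eM⟩⟩ := exists_tildeD_iso (isQCohD_rho j (isQCohD_rho V.ι hK))
  refine isPerfect_of_iso eM (isPerfect_of_rfix fun J N _ n => ?_)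
  haveI := hasCoproduct_D fun i => (DCoh.tildeD Γ(V, ⊤)).obj (N i)
  exact fixAt_of_tildeD N (FixAt.of_iso ((shiftFunctor (DCoh.D (Spec Γ(V, ⊤))) n).mapIso eM.symm ≪≫
    (((DCoh.tildeD Γ(V, ⊤)).commShiftIso n).app M).symm)
    ((hq.shift n) J _ fun i => isQCohD_tildeD _ (N i)))

/-- Compact among supported objects implies compact. -/
theorem qfix_of_supported [CompactSpace X] [QuasiSeparatedSpace X] {T : Set X} (hT : IsClosed T)
    (hTc : IsCompact Tᶜ) {K : DCoh.D X} (hKT : SuppOn K T)
    (h : ∀ (J : Type u) (M : J → DCoh.D X) [HasCoproduct M],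
      (∀ j, DCoh.IsQCohD (M j) ∧ SuppOn (M j) T) → FixAt M K) : QFix K := fun J M _ hM φ => by
  obtain ⟨V, hVe⟩ : ∃ V : X.Opens, (V : Set X) = Tᶜ := ⟨⟨Tᶜ, hT.isOpen_compl⟩, rfl⟩
  let L := fun j => (rho V.ι).obj (M j)
  haveI := hasCoproduct_D L
  obtain ⟨M'', _, e'', E, d, c, hM''q, hc, hMb, hbij, -⟩ :=
    exists_push_family V (hVe ▸ hTc) L fun j => isQCohD_rho V.ι (hM j)
  haveI := hc
  choose u hu using fun j => (hMb j (M j)).2 (e'' j).inv
  simp only at hu
  choose A f g hΔ using fun j => distinguished_cocone_triangle₁ (u j)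
  haveI := hasCoproduct_D A
  have hA : ∀ j, DCoh.IsQCohD (A j) ∧ SuppOn (A j) T := fun j => by
    refine ⟨isQCohD_obj₁ (hΔ j) (hM j) (hM''q j), fun x hx => ?_⟩
    have hiso : IsIso ((rho V.ι).map (u j)) := hu j ▸ inferInstance
    have h1 : IsZero ((rho V.ι).obj (A j)) :=
      (Triangle.isZero₁_iff_isIso₂ _ ((rho V.ι).map_distinguished _ (hΔ j))).2 hiso
    exact (isZero_rho_obj_iff V.ι (A j)).1 h1 ⟨x, hVe.ge hx⟩
  let S : Triangle (DCoh.D X) := Triangle.mk (Limits.Sigma.map f) (Limits.Sigma.map u)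
    (Sigma.desc fun j => g j ≫ (Sigma.ι A j)⟦(1 : ℤ)⟧')
  have hS : S ∈ distTriang (DCoh.D X) := TriCat.distinguished_of_isSum
    (fun j => Triangle.mk (f j) (u j) (g j)) hΔ S
    (fun j =>
      { hom₁ := Sigma.ι A j
        hom₂ := Sigma.ι M j
        hom₃ := Sigma.ι M'' j
        comm₁ := (Limits.Sigma.ι_map f j).symm
        comm₂ := (Limits.Sigma.ι_map u j).symm
        comm₃ := (Sigma.ι_desc (fun j => g j ≫ (Sigma.ι A j)⟦(1 : ℤ)⟧') j).symm })
    (TriCat.isSum_sigma A) (TriCat.isSum_sigma M) (TriCat.isSum_sigma M'')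
  have hz : φ ≫ S.mor₂ = 0 := by
    have hK0 : IsZero ((rho V.ι).obj K) := (isZero_rho_obj_iff V.ι K).2 fun w => hKT _ (hVe.le w.2)
    rw [← cancel_mono c, zero_comp]
    exact (hbij K).1 (hK0.eq_of_src _ _)
  obtain ⟨ψ, hψ⟩ := Triangle.coyoneda_exact₂ _ hS φ hz
  obtain ⟨F, hF⟩ := h J A hA ψ
  refine ⟨F, ?_⟩
  have h3 : φ = ψ ≫ Limits.Sigma.map f := hψ
  rw [h3, Category.assoc, ← sigmaMap_partProj A f F, ← Category.assoc, hF]

end Groth.Agent.Perf52
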