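import Groth.Agent.Perf52.Vanish
import Groth.Agent.Perf52.Trunc

/-!
# Maps out of perfect objects only see a range of degrees
-/

set_option linter.style.haveILetI false
set_option backward.isDefEq.respectTransparency false

universe u

open CategoryTheory CategoryTheory.Limits AlgebraicGeometry TopologicalSpace Pretriangulated

attribute [local instance] HasDerivedCategory.standard

namespace Groth.Agent.Perf52

open Groth.Agent.KFlatLib

variable {X : Scheme.{u}} [CompactSpace X] [QuasiSeparatedSpace X]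

/-- Maps from a perfect object into a quasi-coherent object vanish if the latter has no cohomology in
some range, and sufficiently negative or positive objects receive only zero maps. -/
theorem exists_hom_range {P : DCoh.D X} (hP : DCoh.IsPerfect P) :
    ∃ a b : ℤ, a ≤ b ∧ P.IsLE b ∧
      (∀ L : DCoh.D X, DCoh.IsQCohD L → L.IsLE (a - 1) → ∀ φ : P ⟶ L, φ = 0) ∧
      ∀ L : DCoh.D X, DCoh.IsQCohD L → (∀ i : ℤ, a ≤ i → i ≤ b → IsZero (DCoh.HD L i)) →
        ∀ φ : P ⟶ L, φ = 0 := by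
  obtain ⟨N, hN⟩ := vanBelow_of_isPerfect hP
  obtain ⟨a₀, b₀, -, -, hb₀⟩ := exists_bounds_of_isPerfect hP
  let a : ℤ := min (N + 1) b₀
  haveI := hb₀
  have hlow : ∀ L : DCoh.D X, DCoh.IsQCohD L → L.IsLE (a - 1) → ∀ φ : P ⟶ L, φ = 0 := fun L hq hL φ =>
    hN L hq (DerivedCategory.TStructure.t.isLE_of_le L (a - 1) N (by omega)) φ
  refine ⟨a, b₀, min_le_right _ _, hb₀, hlow, fun L hq hz φ => ?_⟩
  obtain ⟨A, B, f, g, h, hT, hA, hB, hf, hg⟩ := exists_trunc L a
  haveI hB' : B.IsGE (b₀ + 1) := (DerivedCategory.isGE_iff B _).2 fun i hi => by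
    by_cases hia : a ≤ i
    · haveI := hg i hia
      exact (hz i hia (by omega)).of_iso (asIso ((DerivedCategory.homologyFunctor X.Modules i).map g)).symm
    · haveI := hB
      exact DerivedCategory.isZero_of_isGE B a i (by omega)
  obtain ⟨ψ, hψ⟩ := Triangle.coyoneda_exact₂ _ hT φ
    (DerivedCategory.TStructure.t.zero (φ ≫ g) b₀ (b₀ + 1) (by omega))
  rw [hψ, hlow A (isQCohD_trunc hT hA hf hq).1 hA ψ]
  exact zero_comp

omit [CompactSpace X] [QuasiSeparatedSpace X] in
/-- Precomposition with an inverse shift. -/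
lemma eq_zero_of_shift {K L : DCoh.D X} (n : ℤ) (h : ∀ φ : K ⟶ L⟦n⟧, φ = 0) :
    ∀ φ : K⟦-n⟧ ⟶ L, φ = 0 := fun φ => by
  refine (shiftFunctor (DCoh.D X) n).map_injective
    ((cancel_epi ((shiftFunctorCompIsoId (DCoh.D X) (-n) n (by omega)).app K).inv).1 ?_)
  exact (h _).trans (h _).symm

omit [CompactSpace X] [QuasiSeparatedSpace X] in
lemma eq_zero_of_shift' {K L : DCoh.D X} (n : ℤ) (h : ∀ φ : K⟦-n⟧ ⟶ L, φ = 0) :
    ∀ φ : K ⟶ L⟦n⟧, φ = 0 := fun φ => by
  refine (shiftFunctor (DCoh.D X) (-n)).map_injective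
    ((cancel_mono ((shiftFunctorCompIsoId (DCoh.D X) n (-n) (by omega)).app L).hom).1 ?_)
  exact (h _).trans (h _).symm

/-- Shifting away: maps into `L⟦n⟧` vanish for `n` large when `L` is bounded above. -/
theorem exists_bound_shift {P : DCoh.D X} (hP : DCoh.IsPerfect P) :
    ∃ a b : ℤ, (∀ L : DCoh.D X, DCoh.IsQCohD L → ∀ c : ℤ, L.IsLE c → ∀ n : ℤ, c - a < n →
        ∀ φ : P ⟶ L⟦n⟧, φ = 0) ∧
      (∀ L : DCoh.D X, ∀ c : ℤ, L.IsGE c → ∀ n : ℤ, n < c - b → ∀ φ : P ⟶ L⟦n⟧, φ = 0) := by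
  obtain ⟨a, b, -, hb, hlow, -⟩ := exists_hom_range hP
  haveI := hb
  refine ⟨a, b, fun L hq c hc n hn φ => ?_, fun L c hc n hn φ => ?_⟩
  · haveI := hc
    refine hlow _ (isQCohD_shift hq n) ?_ φ
    have h := DerivedCategory.TStructure.t.isLE_shift L c n (c - n) (by omega)
    exact DerivedCategory.TStructure.t.isLE_of_le _ (c - n) (a - 1) (by omega)
  · haveI := hc
    haveI := DerivedCategory.TStructure.t.isGE_shift L c n (c - n) (by omega)
    exact DerivedCategory.TStructure.t.zero φ b (c - n) (by omega)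

end Groth.Agent.Perf52
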