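import Groth.Agent.Perf52.HomRange
import Groth.Agent.KFlatLib.Scheme.CompactGlobal

/-!
# Perfect objects are compact among objects with quasi-coherent cohomology
-/

set_option linter.style.haveILetI false
set_option backward.isDefEq.respectTransparency false

universe u

open CategoryTheory CategoryTheory.Limits AlgebraicGeometry Pretriangulated

attribute [local instance] HasDerivedCategory.standard

namespace Groth.Agent.Perf52

open Groth.Agent.KFlatLib

variable {X : Scheme.{u}}

/-- Perfect objects see finitely many summands of families with quasi-coherent cohomology. -/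
theorem fixAt_qcoh [CompactSpace X] [QuasiSeparatedSpace X] {E : DCoh.D X}
    (hE : DCoh.IsPerfect E) {J : Type u} (M : J → DCoh.D X) [HasCoproduct M]
    (hM : ∀ j, DCoh.IsQCohD (M j)) : FixAt M E := by
  obtain ⟨a₀, b₀, -, -, hlow, -⟩ := exists_hom_range hE
  clear b₀
  let b := a₀ - 1
  haveI : HasColimitsOfShape (Discrete J) (DCoh.D X) := TriCat.hasColimitsOfShape_derivedCategory
  choose A B f g h hT hA hB hf hg using fun j => exists_trunc (M j) (b + 1)
  have hqA : ∀ j, DCoh.IsQCohD (A j) := fun j => (isQCohD_trunc (hT j) (hA j) (hf j) (hM j)).1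
  haveI : ∀ j, (A j).IsLE b := fun j => by
    have := hA j
    rwa [show b + 1 - 1 = b by omega] at this
  haveI : (∐ A).IsLE b := by
    choose K eK hK using fun j => (inferInstance : (A j).IsLE b).le
    haveI : ∀ j, (K j).IsStrictlyLE b := hK
    haveI := preservesColimit_Q K
    haveI : (∐ K).IsStrictlyLE b := (CochainComplex.isStrictlyLE_iff _ b).2 fun k hk => by
      refine IsZero.of_iso ?_ (PreservesCoproduct.iso
        (HomologicalComplex.eval X.Modules (ComplexShape.up ℤ) k) K)
      rw [IsZero.iff_id_eq_zero]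
      exact Sigma.hom_ext _ _ fun j => ((K j).isZero_of_isStrictlyLE b k hk).eq_of_src _ _
    exact ⟨⟨∐ K, Limits.Sigma.mapIso eK ≪≫ (PreservesCoproduct.iso DerivedCategory.Q K).symm,
      inferInstance⟩⟩
  let S : Triangle (DCoh.D X) := Triangle.mk (Limits.Sigma.map f) (Limits.Sigma.map g)
    (Sigma.desc fun j => h j ≫ (Sigma.ι A j)⟦(1 : ℤ)⟧')
  have hS : S ∈ distTriang (DCoh.D X) := TriCat.distinguished_of_isSum
    (fun j => Triangle.mk (f j) (g j) (h j)) hT S
    (fun j =>
      { hom₁ := Sigma.ι A j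
        hom₂ := Sigma.ι M j
        hom₃ := Sigma.ι B j
        comm₁ := (Limits.Sigma.ι_map f j).symm
        comm₂ := (Limits.Sigma.ι_map g j).symm
        comm₃ := (Sigma.ι_desc (fun j => h j ≫ (Sigma.ι A j)⟦(1 : ℤ)⟧') j).symm })
    (TriCat.isSum_sigma A) (TriCat.isSum_sigma M) (TriCat.isSum_sigma B)
  haveI : ∀ j, (B j).IsGE (b + 1) := hB
  intro φ
  obtain ⟨F, hF⟩ := (fix_of_isPerfect hE B (b + 1)).at_zero (φ ≫ S.mor₂)
  obtain ⟨ψ, hψ⟩ := Triangle.coyoneda_exact₂ _ hS (φ - φ ≫ partProj M F) (by
    rw [Preadditive.sub_comp, Category.assoc, sub_eq_zero]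
    exact (((congrArg (φ ≫ ·) (sigmaMap_partProj M g F)).trans (Category.assoc _ _ _).symm).trans hF).symm)
  refine ⟨F, (sub_eq_zero.1 (hψ.trans ?_)).symm⟩
  rw [hlow S.obj₁ (isQCohD_sigma A hqA) (show (∐ A).IsLE b from inferInstance) ψ, zero_comp]

end Groth.Agent.Perf52
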