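import Groth.Agent.Perf52.Push

/-!
# Morphisms in the derived category of a scheme form small types
-/

set_option linter.style.haveILetI false
set_option backward.isDefEq.respectTransparency false

universe u

open CategoryTheory CategoryTheory.Limits AlgebraicGeometry

attribute [local instance] HasDerivedCategory.standard

namespace Groth.Agent.Perf52

open Groth.Agent.KFlatLib

instance small_hom {X : Scheme.{u}} (K L : DCoh.D X) : Small.{u} (K ⟶ L) := by
  obtain ⟨I, s, hI, hs⟩ := exists_kInjective_res (DerivedCategory.Q.objPreimage L)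
  haveI : IsIso (DerivedCategory.Q.map s) := inferInstance
  haveI := hI
  let C := DerivedCategory.Q.objPreimage K
  let eK : DerivedCategory.Q.obj C ≅ K := DerivedCategory.Q.objObjPreimageIso K
  let eI : DerivedCategory.Q.obj I ≅ L :=
    (asIso (DerivedCategory.Q.map s)).symm ≪≫ DerivedCategory.Q.objObjPreimageIso L
  refine small_of_surjective (f := fun g : C ⟶ I => eK.inv ≫ DerivedCategory.Q.map g ≫ eI.hom) ?_
  intro φ
  let q := DerivedCategory.quotientCompQhIso X.Modules
  obtain ⟨h, hh⟩ := (CochainComplex.IsKInjective.Qh_map_bijective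
    ((HomotopyCategory.quotient _ _).obj C) I).2
      (q.hom.app C ≫ eK.hom ≫ φ ≫ eI.inv ≫ q.inv.app I)
  obtain ⟨g, rfl⟩ := (HomotopyCategory.quotient X.Modules (ComplexShape.up ℤ)).map_surjective h
  refine ⟨g, ?_⟩
  have hn := q.hom.naturality g
  simp only [Functor.comp_map] at hn
  rw [hh] at hn
  change eK.inv ≫ DerivedCategory.Q.map g ≫ eI.hom = φ
  rw [← cancel_epi eK.hom, ← cancel_epi (q.hom.app C), Iso.hom_inv_id_assoc, ← Category.assoc (q.hom.app C),
    ← hn]
  simp

end Groth.Agent.Perf52
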