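import Groth.Agent.Perf52.Bdd
import Groth.Agent.Perf52.SmallHom
import Groth.Agent.Perf52.CompactQCoh
import Groth.Agent.TriCat.Hocolim

/-!
# Vanishing against a generator propagates to all perfect objects
-/

set_option linter.style.haveILetI false
set_option backward.isDefEq.respectTransparency false

universe u

open CategoryTheory CategoryTheory.Limits AlgebraicGeometry Pretriangulated Filter

attribute [local instance] HasDerivedCategory.standard

namespace Groth.Agent.Perf52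

open Groth.Agent.KFlatLib

variable {X : Scheme.{u}}

lemma hasCountableCoproducts_D : HasColimitsOfShape (Discrete ℕ) (DCoh.D X) :=
  haveI : HasColimitsOfShape (Discrete (ULift.{u} ℕ)) (DCoh.D X) :=
    TriCat.hasColimitsOfShape_derivedCategory
  hasColimitsOfShape_of_equivalence (Discrete.equivalence (Equiv.ulift.{u} : ULift.{u} ℕ ≃ ℕ))

lemma isQCohD_sigma_nat (P : ℕ → DCoh.D X) [HasCoproduct P] (h : ∀ j, DCoh.IsQCohD (P j)) :
    DCoh.IsQCohD (∐ P) := by
  haveI : HasColimitsOfShape (Discrete (ULift.{u} ℕ)) (DCoh.D X) :=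
    TriCat.hasColimitsOfShape_derivedCategory
  exact isQCohD_of_iso (Sigma.whiskerEquiv Equiv.ulift fun j => Iso.refl (P j.down))
    (isQCohD_sigma (fun j : ULift.{u} ℕ => P j.down) fun j => h _)

variable [CompactSpace X] [QuasiSeparatedSpace X]

lemma finFactor_nat {K : DCoh.D X} (hK : DCoh.IsPerfect K) (P : ℕ → DCoh.D X) [HasCoproduct P]
    (h : ∀ j, DCoh.IsQCohD (P j)) (φ : K ⟶ ∐ P) : TriCat.FinFactor φ := by
  classical
  haveI : HasColimitsOfShape (Discrete (ULift.{u} ℕ)) (DCoh.D X) :=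
    TriCat.hasColimitsOfShape_derivedCategory
  let P' := fun j : ULift.{u} ℕ => P j.down
  let e : ∐ P' ≅ ∐ P := Sigma.whiskerEquiv Equiv.ulift fun j => Iso.refl (P j.down)
  obtain ⟨F, hF⟩ := fixAt_qcoh hK P' (fun j => h _) (φ ≫ e.inv)
  refine ⟨F.image ULift.down, fun j => φ ≫ TriCat.coprodProj P j, ?_⟩
  simp only [Category.assoc]
  rw [← Preadditive.comp_sum]
  have hp : partProj P' F = e.hom ≫
      (∑ j ∈ F.image ULift.down, TriCat.coprodProj P j ≫ Sigma.ι P j) ≫ e.inv := by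
    refine Sigma.hom_ext _ _ fun i => ?_
    have hi : Sigma.ι P' i ≫ e.hom = Sigma.ι P i.down := by
      simp [e, P', Sigma.whiskerEquiv]
      rfl
    have hi' : Sigma.ι P i.down ≫ e.inv = Sigma.ι P' i := by
      rw [← hi, Category.assoc, e.hom_inv_id, Category.comp_id]
    rw [reassoc_of% hi, ← Category.assoc, Preadditive.comp_sum]
    by_cases hiF : i ∈ F
    · rw [ι_partProj_mem P' hiF, Finset.sum_eq_single i.down (fun b _ hb => by
        rw [TriCat.ι_coprodProj_ne_assoc (Ne.symm hb), zero_comp])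
        (fun hh => absurd (Finset.mem_image_of_mem _ hiF) hh),
        TriCat.ι_coprodProj_self_assoc, hi']
    · rw [ι_partProj_not_mem P' hiF, Finset.sum_eq_zero fun b hb => ?_, zero_comp]
      obtain ⟨b', hb', rfl⟩ := Finset.mem_image.1 hb
      rw [TriCat.ι_coprodProj_ne_assoc (fun hh => hiF ((ULift.ext i b' hh).symm ▸ hb')), zero_comp]
  rw [hp] at hF
  simpa using (congrArg (· ≫ e.hom) hF).symm

/-- One step of the tower. -/
lemma exists_kill_all (G : DCoh.D X) (hG : DCoh.IsPerfect G) {P : DCoh.D X} (hP : DCoh.IsQCohD P) :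
    ∃ (P' : DCoh.D X) (f : P ⟶ P'), DCoh.IsQCohD P' ∧ (∀ (k : ℤ) (φ : G⟦k⟧ ⟶ P), φ ≫ f = 0) ∧
      ∃ (J : Type u) (k : J → ℤ) (_ : HasCoproduct fun j => G⟦k j⟧) (s : (∐ fun j => G⟦k j⟧) ⟶ P)
        (d : P' ⟶ (∐ fun j => G⟦k j⟧)⟦(1 : ℤ)⟧), Triangle.mk s f d ∈ distTriang _ := by
  let J := Σ k : ULift.{u} ℤ, Shrink.{u} (G⟦k.down⟧ ⟶ P)
  let k : J → ℤ := fun j => j.1.down
  haveI : HasColimitsOfShape (Discrete J) (DCoh.D X) := TriCat.hasColimitsOfShape_derivedCategory
  let s : (∐ fun j => G⟦k j⟧) ⟶ P := Sigma.desc fun j => (equivShrink _).symm j.2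
  obtain ⟨P', f, d, hT⟩ := distinguished_cocone_triangle s
  refine ⟨P', f, isQCohD_obj₃ hT (isQCohD_sigma _ fun j => isQCohD_shift (isQCohD_of_isPerfect hG) _) hP,
    fun n φ => ?_, J, k, inferInstance, s, d, hT⟩
  let j₀ : J := ⟨⟨n⟩, equivShrink _ φ⟩
  have hj : Sigma.ι (fun j => G⟦k j⟧) j₀ ≫ s = φ :=
    (Sigma.ι_desc _ _).trans ((equivShrink (G⟦n⟧ ⟶ P)).symm_apply_apply φ)
  have hz : s ≫ f = 0 := comp_distTriang_mor_zero₁₂ _ hT
  rw [← hj, Category.assoc, hz, comp_zero]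

lemma EvHom.shift_left {l : Filter ℤ} (hl : TransInv l) {P E : DCoh.D X} (h : EvHom l P E) (k : ℤ) :
    EvHom l (P⟦k⟧) E := ((hl (-k)).eventually h).mono fun n hn φ => by
  refine (shiftFunctor (DCoh.D X) (-k)).map_injective
    ((cancel_epi ((shiftFunctorCompIsoId (DCoh.D X) k (-k) (by omega)).app P).inv).1
      ((cancel_mono (((shiftFunctorAdd' (DCoh.D X) n (-k) (n + -k) rfl).app E).inv)).1 ?_))
  exact (hn _).trans (hn _).symm

/-- Maps killed by finitely many maps to shifts of `G`. -/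
lemma evHom_of_finset {l : Filter ℤ} (hl : TransInv l) {G E P₀ : DCoh.D X} (hG : DCoh.IsPerfect G)
    (hGE : EvHom l G E) {J : Type u} (k : J → ℤ) (F : Finset J) :
    ∀ {c : DCoh.D X}, DCoh.IsPerfect c → ∀ (a : c ⟶ P₀) (g : ∀ j, c ⟶ G⟦k j⟧),
    (∀ (c' : DCoh.D X), DCoh.IsPerfect c' → ∀ p : c' ⟶ c, (∀ j ∈ F, p ≫ g j = 0) →
      ∀ᶠ m in l, ∀ ψ : P₀ ⟶ E⟦m⟧, (p ≫ a) ≫ ψ = 0) →
    ∀ᶠ m in l, ∀ ψ : P₀ ⟶ E⟦m⟧, a ≫ ψ = 0 := by
  classical
  induction F using Finset.induction with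
  | empty =>
    intro c hc a g h
    exact (h c hc (𝟙 c) (by simp)).mono fun m hm ψ => by simpa using hm ψ
  | @insert i F _ ih =>
    intro c hc a g h
    obtain ⟨c', p, q, hT⟩ := distinguished_cocone_triangle₁ (g i)
    have hc' : DCoh.IsPerfect c' := (Groth.Agent.S0887.result _ hT).2.2 hc (isPerfect_shift hG _)
    have h1 : ∀ᶠ m in l, ∀ ψ : P₀ ⟶ E⟦m⟧, (p ≫ a) ≫ ψ = 0 := by
      refine ih hc' (p ≫ a) (fun j => p ≫ g j) fun c'' hc'' p' hp' => ?_
      refine (h c'' hc'' (p' ≫ p) fun j hj => ?_).mono fun m hm ψ => by simpa using hm ψ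
      rcases Finset.mem_insert.1 hj with rfl | hj
      · have hz : p ≫ g j = 0 := comp_distTriang_mor_zero₁₂ _ hT
        rw [Category.assoc, hz, comp_zero]
      · simpa using hp' j hj
    refine (h1.and (hGE.shift_left hl (k i))).mono fun m hm ψ => ?_
    obtain ⟨e, he⟩ := Triangle.yoneda_exact₂ _ hT (a ≫ ψ) ((Category.assoc _ _ _).symm.trans (hm.1 ψ))
    rw [he, hm.2 e]
    exact comp_zero

/-- If maps from a generator into the shifts of `E` vanish eventually, so do maps from all perfect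
objects. -/
theorem evHom_of_generator {l : Filter ℤ} (hl : TransInv l) {G : DCoh.D X} (hG : DCoh.IsPerfect G)
    (hgen : ∀ C : DCoh.D X, DCoh.IsQCohD C → (∀ (n : ℤ) (φ : G⟦n⟧ ⟶ C), φ = 0) → IsZero C)
    {E : DCoh.D X} (hGE : EvHom l G E) {c : DCoh.D X} (hc : DCoh.IsPerfect c) : EvHom l c E := by
  classical
  let Q := {P : DCoh.D X // DCoh.IsQCohD P}
  choose nxt f hnq hkill J k hJ s d hT using fun P : Q => exists_kill_all G hG P.2
  let seq : ℕ → Q := fun n => Nat.rec ⟨c, isQCohD_of_isPerfect hc⟩ (fun _ P => ⟨nxt P, hnq P⟩) n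
  let P : ℕ → DCoh.D X := fun n => (seq n).1
  let fs : ∀ n, P n ⟶ P (n + 1) := fun n => f (seq n)
  haveI := hasCountableCoproducts_D (X := X)
  obtain ⟨C, i, hL⟩ := TriCat.exists_isHocolim P fs
  have hC : IsZero C := by
    obtain ⟨cc, hcc⟩ := id hL
    refine hgen C (isQCohD_obj₃ hcc (isQCohD_sigma_nat P fun n => (seq n).2)
      (isQCohD_sigma_nat P fun n => (seq n).2)) fun n φ => ?_
    have hpn := isPerfect_shift hG n
    obtain ⟨ψ, hψ⟩ := TriCat.IsHocolim.exists_lift_of_injective hL (C := G⟦n⟧) (fun y hy => by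
      let e := (shiftFunctorCompIsoId (DCoh.D X) (-1 : ℤ) 1 (by simp)).app (G⟦n⟧)
      obtain ⟨y0, hy0⟩ := (shiftFunctor (DCoh.D X) (1 : ℤ)).map_surjective (e.hom ≫ y)
      have h0 : y0 ≫ (𝟙 (∐ P) - DerLim.shiftMap P fs) = 0 := by
        apply (shiftFunctor (DCoh.D X) (1 : ℤ)).map_injective
        rw [Functor.map_comp, hy0, Category.assoc, hy, comp_zero, Functor.map_zero]
      have h1 := TriCat.eq_zero_of_finFactor_comp_one_sub_shiftMap P fs
        (finFactor_nat (isPerfect_shift hpn (-1)) P (fun m => (seq m).2) y0) h0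
      rw [← cancel_epi e.hom, ← hy0, h1, Functor.map_zero, comp_zero]) φ
    obtain ⟨S, a, hS⟩ := finFactor_nat hpn P (fun m => (seq m).2) ψ
    rw [hψ, hS, Preadditive.sum_comp]
    refine Finset.sum_eq_zero fun j _ => ?_
    rw [Category.assoc, Sigma.ι_desc, ← TriCat.IsHocolim.comp_i hL j, ← Category.assoc,
      hkill (seq j) n (a j)]
    exact zero_comp
  let b : ∀ n, c ⟶ P n := fun n => Nat.rec (motive := fun n => c ⟶ P n) (𝟙 c) (fun m g => g ≫ fs m) n
  obtain ⟨N, hN⟩ : ∃ N, b N = 0 := by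
    obtain ⟨cc, hcc⟩ := id hL
    obtain ⟨y, hy⟩ := Triangle.coyoneda_exact₂ _ hcc (Sigma.ι P 0) (hC.eq_of_tgt _ _)
    change c ⟶ ∐ P at y
    change Sigma.ι P 0 = y ≫ (𝟙 (∐ P) - DerLim.shiftMap P fs) at hy
    have hb : ∀ n, b n = y ≫ TriCat.coprodProj P n := by
      intro n
      induction n with
      | zero =>
        rw [← TriCat.one_sub_shiftMap_proj_zero P fs, ← Category.assoc, ← hy, TriCat.ι_coprodProj_self]
        rfl
      | succ m ih =>
        have h1 : Sigma.ι P 0 ≫ TriCat.coprodProj P (m + 1) =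
            (y ≫ (𝟙 (∐ P) - DerLim.shiftMap P fs)) ≫ TriCat.coprodProj P (m + 1) :=
          congrArg (· ≫ TriCat.coprodProj P (m + 1)) hy
        rw [TriCat.ι_coprodProj_ne (Nat.succ_ne_zero m).symm, Category.assoc,
          TriCat.one_sub_shiftMap_proj_succ, Preadditive.comp_sub] at h1
        rw [sub_eq_zero.1 h1.symm, ← Category.assoc, ← ih]
    obtain ⟨S, a, hS⟩ := finFactor_nat hc P (fun m => (seq m).2) y
    refine ⟨S.sup id + 1, ?_⟩
    refine (hb (S.sup id + 1)).trans ?_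
    rw [hS, Preadditive.sum_comp]
    refine Finset.sum_eq_zero fun j hj => ?_
    have hle : j ≤ S.sup id := Finset.le_sup (f := id) hj
    rw [Category.assoc, TriCat.ι_coprodProj_ne (by omega), comp_zero]
  have key : ∀ n (c' : DCoh.D X), DCoh.IsPerfect c' → ∀ a : c' ⟶ c, a ≫ b n = 0 →
      ∀ᶠ m in l, ∀ ψ : c ⟶ E⟦m⟧, a ≫ ψ = 0 := by
    intro n
    induction n with
    | zero =>
      intro c' _ a ha
      have : a = 0 := (Category.comp_id a).symm.trans ha
      exact Eventually.of_forall fun m ψ => by rw [this, zero_comp]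
    | succ n ih =>
      intro c' hc' a ha
      haveI := hJ (seq n)
      have hz : (a ≫ b n) ≫ fs n = 0 := (Category.assoc _ _ _).trans ha
      obtain ⟨g, hg⟩ := Triangle.coyoneda_exact₂ _ (hT (seq n)) (a ≫ b n) hz
      change c' ⟶ ∐ fun j => G⟦k (seq n) j⟧ at g
      obtain ⟨F, hF⟩ := fixAt_qcoh hc' (fun j => G⟦k (seq n) j⟧)
        (fun j => isQCohD_shift (isQCohD_of_isPerfect hG) _) g
      refine evHom_of_finset hl hG hGE (k (seq n)) F hc' a
        (fun j => g ≫ TriCat.coprodProj (fun j => G⟦k (seq n) j⟧) j) fun c'' hc'' p hp => ?_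
      refine ih c'' hc'' (p ≫ a) ?_
      have hpg : p ≫ g = 0 := by
        have hsum : partProj (fun j => G⟦k (seq n) j⟧) F = ∑ j ∈ F,
            TriCat.coprodProj (fun j => G⟦k (seq n) j⟧) j ≫ Sigma.ι (fun j => G⟦k (seq n) j⟧) j := by
          refine Sigma.hom_ext _ _ fun i => ?_
          rw [Preadditive.comp_sum]
          by_cases hi : i ∈ F
          · rw [ι_partProj_mem _ hi, Finset.sum_eq_single i (fun b _ hb => by
              rw [TriCat.ι_coprodProj_ne_assoc (Ne.symm hb), zero_comp]) (fun h => absurd hi h),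
              TriCat.ι_coprodProj_self_assoc]
          · rw [ι_partProj_not_mem _ hi]
            exact (Finset.sum_eq_zero fun b hb => by
              rw [TriCat.ι_coprodProj_ne_assoc (fun h : i = b => hi (h ▸ hb)), zero_comp]).symm
        rw [← hF, hsum, Preadditive.comp_sum, Preadditive.comp_sum]
        refine Finset.sum_eq_zero fun j hj => ?_
        rw [← Category.assoc g, ← Category.assoc, hp j hj, zero_comp]
      have hg' : a ≫ b n = g ≫ s (seq n) := hg
      rw [Category.assoc, hg', ← Category.assoc, hpg, zero_comp]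
  exact (key N c hc (𝟙 c) (by rw [hN, comp_zero])).mono fun m hm ψ => by simpa using hm ψ

end Groth.Agent.Perf52
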