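import Groth.Agent.Perf52.AffineKill

/-!
# Lifting maps from an open of an affine scheme
-/

set_option linter.style.haveILetI false
set_option backward.isDefEq.respectTransparency false

universe u

open CategoryTheory CategoryTheory.Limits AlgebraicGeometry TopologicalSpace Pretriangulated

attribute [local instance] HasDerivedCategory.standard

namespace Groth.Agent.Perf52

open Groth.Agent.KFlatLib

variable {X : Scheme.{u}} [IsAffine X]

/-- A map defined on a quasi-compact open of an affine scheme extends after replacing the source. -/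
theorem exists_lift (U : X.Opens) (hU : IsCompact (U : Set X)) {E E' : DCoh.D X}
    (hE : DCoh.IsPerfect E) (hE' : DCoh.IsQCohD E')
    (α : (rho U.ι).obj E ⟶ (rho U.ι).obj E') :
    ∃ (E₁ : DCoh.D X) (β : E₁ ⟶ E) (γ : E₁ ⟶ E'), DCoh.IsPerfect E₁ ∧
      IsIso ((rho U.ι).map β) ∧ (∀ x, Z0 E x → Z0 E₁ x) ∧
      (rho U.ι).map β ≫ α = (rho U.ι).map γ := by
  haveI : QuasiCompact U.ι := QCoh.quasiCompact_ι_of_compact U hU
  obtain ⟨E'', u, hu, hbij, hq⟩ := exists_push U.ι E'
  haveI := hu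
  have hq'' : DCoh.IsQCohD E'' := hq inferInstance inferInstance (isQCohD_rho U.ι hE')
  obtain ⟨C, v, d, hT⟩ := distinguished_cocone_triangle u
  have hCU : SuppOn C (U : Set X)ᶜ := fun x hx => by
    rw [Set.mem_compl_iff, not_not] at hx
    exact (isIso_rho_map_iff U.ι _ hT).1 hu ⟨x, hx⟩
  obtain ⟨a, ha⟩ := (hbij E).2 (α ≫ (rho U.ι).map u)
  obtain ⟨E₁, Q, β, p, e, hΔ, hE₁, -, hQT, hz, hβ⟩ := exists_kill_fibre
    U.isOpen.isClosed_compl (by rwa [compl_compl]) hE
    (isQCohD_obj₃ hT hE' hq'') hCU (a ≫ v)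
  obtain ⟨(γ : E₁ ⟶ E'), (hγ : β ≫ a = γ ≫ u)⟩ :=
    Triangle.coyoneda_exact₂ _ hT (β ≫ a) ((Category.assoc _ _ _).trans hβ)
  refine ⟨E₁, β, γ, hE₁, ?_, hz, ?_⟩
  · exact (isIso_rho_map_iff U.ι _ hΔ).2 fun w => hQT _ (not_not.2 w.2)
  · simp only at ha
    rw [← cancel_mono ((rho U.ι).map u), Category.assoc, ← ha, ← Functor.map_comp,
      ← Functor.map_comp, hγ]

end Groth.Agent.Perf52
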