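import Groth.Agent.Perf52.Generator
import Groth.Agent.KFlatLib.Scheme.CohD
import Groth.Agent.KFlatLib.Ghost

/-!
# Approximation by perfect objects on affine schemes
-/

set_option linter.style.haveILetI false
set_option backward.isDefEq.respectTransparency false

universe u

open CategoryTheory CategoryTheory.Limits AlgebraicGeometry TopologicalSpace Pretriangulated ZeroObject

attribute [local instance] HasDerivedCategory.standard

namespace Groth.Agent.Perf52

open Groth.Agent.KFlatLib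

variable {R : CommRingCat.{u}}

/-- Cohomology in degrees at least `c` is torsion for `f`. -/
def TorsGE (f : R) (c : ℤ) (M : DerivedCategory (ModuleCat.{u} R)) : Prop :=
  ∀ (i : ℤ), c ≤ i → ∀ φ : (DerivedCategory.singleFunctor (ModuleCat.{u} R) i).obj (ModuleCat.of R R) ⟶ M,
    ∃ n : ℕ, f ^ n • φ = 0

lemma torsGE_obj₂ {f : R} {c : ℤ} {T : Triangle (DerivedCategory (ModuleCat.{u} R))}
    (hT : T ∈ distTriang _) (h₁ : TorsGE f c T.obj₁) (h₃ : TorsGE f c T.obj₃) :
    TorsGE f c T.obj₂ := fun i hi φ => by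
  obtain ⟨a, ha⟩ := h₃ i hi (φ ≫ T.mor₂)
  obtain ⟨ψ, hψ⟩ := Triangle.coyoneda_exact₂ _ hT (f ^ a • φ) (by rw [Linear.smul_comp, ha])
  obtain ⟨b, hb⟩ := h₁ i hi ψ
  exact ⟨b + a, by rw [pow_add, mul_smul, hψ, ← Linear.smul_comp, hb, zero_comp]⟩

/-- No maps to objects in degrees at most `n`. -/
def Low (Q : DerivedCategory (ModuleCat.{u} R)) (n : ℤ) : Prop :=
  ∀ L : DerivedCategory (ModuleCat.{u} R), L.IsLE n → ∀ φ : Q ⟶ L, φ = 0

lemma low_single (N : ModuleCat.{u} R) [Projective N] (b : ℤ) :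
    Low ((DerivedCategory.singleFunctor (ModuleCat.{u} R) b).obj N) (b - 1) := fun L hL φ =>
  haveI := hL
  (bijective_psiC_of_projective b L).1 ((L.isZero_of_isLE (b - 1) b (by omega)).eq_of_tgt _ _)

lemma low_obj₃ {T : Triangle (DerivedCategory (ModuleCat.{u} R))} (hT : T ∈ distTriang _) {n : ℤ}
    (h₁ : Low T.obj₁ n) (h₂ : Low T.obj₂ n) : Low T.obj₃ (n - 1) := fun L hL φ => by
  haveI := hL
  let t := DerivedCategory.TStructure.t (C := ModuleCat.{u} R)
  obtain ⟨χ, hχ⟩ := Triangle.yoneda_exact₃ _ hT φ (h₂ L (t.isLE_of_le L (n - 1) n (by omega)) _)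
  suffices χ = 0 by rw [hχ, this, comp_zero]
  let e := shiftFunctorCompIsoId (DerivedCategory (ModuleCat.{u} R)) (-1 : ℤ) 1 (by omega)
  obtain ⟨χ', hχ'⟩ := (shiftFunctor (DerivedCategory (ModuleCat.{u} R)) (1 : ℤ)).map_surjective
    (χ ≫ e.inv.app L)
  rw [← cancel_mono (e.inv.app L), ← hχ', h₁ _ (t.isLE_shift L (n - 1) (-1) n (by omega)) χ',
    Functor.map_zero, zero_comp]

variable [PreservesFiniteLimits (tilde.functor R)]

lemma isPerfect_single_free (k : ℕ) (b : ℤ) :
    DCoh.IsPerfect ((DCoh.tildeD R).obj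
      ((DerivedCategory.singleFunctor (ModuleCat.{u} R) b).obj (ModuleCat.of R (Fin k → R)))) :=
  (perfect_tildeD_iff _).2 (rperf_single_free k b)

omit [PreservesFiniteLimits (tilde.functor R)] in
lemma isLE_single (N : ModuleCat.{u} R) (b : ℤ) :
    ((DerivedCategory.singleFunctor (ModuleCat.{u} R) b).obj N).IsLE b := inferInstance

/-- Factor a map out of a free module in one degree through a supported perfect object. -/
theorem exists_factor_supported (s : Finset R) {M : DerivedCategory (ModuleCat.{u} R)} (b : ℤ)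
    (hM : ∀ f ∈ s, TorsGE f (b - (s.card : ℤ) + 1) M) (k : ℕ)
    (δ : (DerivedCategory.singleFunctor (ModuleCat.{u} R) b).obj (ModuleCat.of R (Fin k → R)) ⟶ M) :
    ∃ (Q : DerivedCategory (ModuleCat.{u} R))
      (p : (DerivedCategory.singleFunctor (ModuleCat.{u} R) b).obj (ModuleCat.of R (Fin k → R)) ⟶ Q)
      (ψ : Q ⟶ M), DCoh.IsPerfect ((DCoh.tildeD R).obj Q) ∧ (∀ f ∈ s, Tors f Q) ∧ Q.IsLE b ∧
        p ≫ ψ = δ := by
  classical
  let t := DerivedCategory.TStructure.t (C := ModuleCat.{u} R)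
  rcases s.eq_empty_or_nonempty with rfl | hne
  · exact ⟨_, 𝟙 _, δ, isPerfect_single_free k b, by simp, isLE_single _ b, Category.id_comp _⟩
  let c := b - (s.card : ℤ) + 1
  let T := (t.triangleLTGE c).obj M
  have hT : T ∈ distTriang _ := t.triangleLTGE_distinguished c M
  have hA : T.obj₁.IsLE (c - 1) := t.isLE_truncLT_obj M _ _ (by omega)
  haveI hB : T.obj₃.IsGE c := t.isGE_truncGE_obj M _ _ le_rfl
  have hA1 : (T.obj₁⟦(1 : ℤ)⟧).IsLE (c - 2) := by
    haveI := hA
    exact t.isLE_shift _ (c - 1) 1 (c - 2) (by omega)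
  have hBT : ∀ f ∈ s, Tors f T.obj₃ := fun f hf i φ => by
    by_cases hi : c ≤ i
    · obtain ⟨φ', hφ'⟩ := Triangle.coyoneda_exact₃ _ hT φ
        (low_single _ i _ (t.isLE_of_le _ (c - 2) (i - 1) (by omega)) _)
      obtain ⟨n, hn⟩ := hM f hf i hi φ'
      exact ⟨n, by rw [hφ', ← Linear.smul_comp]; exact (congrArg (· ≫ T.mor₂) hn).trans zero_comp⟩
    · haveI := isLE_single (ModuleCat.of R R) i
      exact ⟨0, by rw [pow_zero, one_smul]; exact t.zero φ i c (by omega)⟩
  have key : ∀ u : Finset R, u ⊆ s → ∃ (Q : DerivedCategory (ModuleCat.{u} R))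
      (p : (DerivedCategory.singleFunctor (ModuleCat.{u} R) b).obj (ModuleCat.of R (Fin k → R)) ⟶ Q)
      (ψ : Q ⟶ T.obj₃), DCoh.IsPerfect ((DCoh.tildeD R).obj Q) ∧ (∀ f ∈ u, Tors f Q) ∧ Q.IsLE b ∧
        Low Q (b - 1 - (u.card : ℤ)) ∧ p ≫ ψ = δ ≫ T.mor₂ := by
    intro u
    induction u using Finset.induction with
    | empty =>
      intro _
      exact ⟨_, 𝟙 _, δ ≫ T.mor₂, isPerfect_single_free k b, by simp, isLE_single _ b,
        by simpa using low_single (ModuleCat.of R (Fin k → R)) b, Category.id_comp _⟩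
    | @insert g u hgu ih =>
      intro hus
      obtain ⟨Q, p, ψ, hQ, hQu, hQb, hQl, hpψ⟩ := ih ((Finset.subset_insert _ _).trans hus)
      obtain ⟨n, hn⟩ := exists_pow_smul_eq_zero ((isPerfect_iff_dring Q).1 hQ) g T.obj₃
        (hBT g (hus (Finset.mem_insert_self _ _))) ψ
      obtain ⟨Q', q, d, hT'⟩ := distinguished_cocone_triangle (g ^ n • 𝟙 Q)
      obtain ⟨(ψ' : Q' ⟶ T.obj₃), (hψ' : ψ = q ≫ ψ')⟩ := Triangle.yoneda_exact₂ _ hT' ψ
        (by change (g ^ n • 𝟙 Q) ≫ ψ = 0; rw [Linear.smul_comp, Category.id_comp, hn])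
      refine ⟨Q', p ≫ q, ψ', (Groth.Agent.S0887.result _ ((DCoh.tildeD R).map_distinguished _ hT')).1 hQ hQ,
        fun f hf => ?_, ?_, ?_, by rw [Category.assoc, ← hψ', hpψ]⟩
      · rcases Finset.mem_insert.1 hf with rfl | hf
        · exact tors_cone_smul n hT'
        · exact tors_obj₂ (rot_of_distTriang _ hT') (hQu f hf) ((hQu f hf).shift 1)
      · haveI := hQb
        have h1 : (Q⟦(1 : ℤ)⟧).IsLE (b - 1) := t.isLE_shift Q b 1 (b - 1) (by omega)
        exact t.isLE₂ _ (rot_of_distTriang _ hT') b hQb (@Triangulated.TStructure.isLE_of_le _ _ _ _ _ _ _ t (Q⟦(1 : ℤ)⟧) (b - 1) b (by omega) h1)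
      · rw [Finset.card_insert_of_notMem hgu, Nat.cast_add, Nat.cast_one,
          show b - 1 - ((u.card : ℤ) + 1) = b - 1 - (u.card : ℤ) - 1 by omega]
        exact low_obj₃ hT' hQl hQl
  obtain ⟨Q, p, ψB, hQ, hQs, hQb, hQl, hpψ⟩ := key s le_rfl
  obtain ⟨(ψ : Q ⟶ M), (hψ : ψB = ψ ≫ T.mor₂)⟩ := Triangle.coyoneda_exact₃ _ hT ψB
    (hQl _ (t.isLE_of_le _ (c - 2) (b - 1 - (s.card : ℤ)) (by omega)) _)
  refine ⟨Q, p, ψ, hQ, hQs, hQb, ?_⟩
  obtain ⟨χ, hχ⟩ := Triangle.coyoneda_exact₂ _ hT (p ≫ ψ - δ) (by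
    rw [Preadditive.sub_comp, sub_eq_zero]
    exact (Category.assoc _ _ _).trans ((congrArg (p ≫ ·) hψ.symm).trans hpψ))
  have hcard : 1 ≤ s.card := hne.card_pos
  haveI := hA
  rw [low_single (ModuleCat.of R (Fin k → R)) b _ (t.isLE_of_le _ (c - 1) (b - 1) (by omega)) χ] at hχ
  exact sub_eq_zero.1 (hχ.trans zero_comp)

/-- Approximation on `Spec R`. -/
theorem exists_approx_ring (s : Finset R) (m : ℤ) {M : DerivedCategory (ModuleCat.{u} R)}
    (hpc : DCoh.IsPseudoCoherentD m ((DCoh.tildeD R).obj M))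
    (hM : ∀ f ∈ s, TorsGE f (m - (s.card : ℤ) + 1) M) :
    ∃ (P C : DerivedCategory (ModuleCat.{u} R)) (α : P ⟶ M) (q : M ⟶ C) (d : C ⟶ P⟦(1 : ℤ)⟧),
      Triangle.mk α q d ∈ distTriang _ ∧ DCoh.IsPerfect ((DCoh.tildeD R).obj P) ∧
        (∀ f ∈ s, Tors f P) ∧ C.IsLE (m - 1) := by
  let t := DerivedCategory.TStructure.t (C := ModuleCat.{u} R)
  rw [isPseudoCoherentD_iff] at hpc
  obtain ⟨b₀, hb₀⟩ := exists_bound_of_locPC hpc
  let Inv : ℤ → Prop := fun i => ∃ (P C : DerivedCategory (ModuleCat.{u} R)) (α : P ⟶ M) (q : M ⟶ C)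
    (d : C ⟶ P⟦(1 : ℤ)⟧), Triangle.mk α q d ∈ distTriang _ ∧ DCoh.IsPerfect ((DCoh.tildeD R).obj P) ∧
      (∀ f ∈ s, Tors f P) ∧ C.IsLE (i - 1)
  have hM0 : ∀ i, b₀ < i → IsZero ((DerivedCategory.homologyFunctor _ i).obj M) := fun i hi => by
    have h : IsZero ((tilde.functor R).obj ((DerivedCategory.homologyFunctor _ i).obj M)) :=
      (hb₀ i hi).of_iso ((mapDCHomologyIso (tilde.functor R) i).app M).symm
    rw [IsZero.iff_id_eq_zero] at h ⊢
    exact (tilde.functor R).map_injective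
      (by rw [CategoryTheory.Functor.map_id, h, Functor.map_zero])
  have h0 : ∀ i, b₀ < i → Inv i := fun i hi => by
    refine ⟨0, M, 0, 𝟙 M, 0, contractible_distinguished₁ M, ?_, fun f _ j φ => ⟨0, ?_⟩,
      (DerivedCategory.isLE_iff _ _).2 fun j hj => hM0 j (by omega)⟩
    · exact (perfect_tildeD_iff _).2 ⟨0, 0, 0,
        fun i _ => (HomologicalComplex.eval _ _ i).map_isZero (isZero_zero _),
        fun i => by
          have h := finite_free_of_isZero
            ((HomologicalComplex.eval (ModuleCat.{u} R) (ComplexShape.up ℤ) i).map_isZero (isZero_zero _))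
          haveI := h.2
          exact ⟨h.1, @Module.Projective.of_free _ _ _ _ _ h.2⟩,
        ⟨IsZero.iso (DerivedCategory.Q.map_isZero (isZero_zero _)) (isZero_zero _)⟩⟩
    · exact (isZero_zero _).eq_of_tgt _ _
  have hstep : ∀ b, m ≤ b → Inv (b + 1) → Inv b := by
    rintro b hb ⟨P, C, α, q, d, hT, hP, hPs, hC⟩
    haveI := hC
    have hClz : ∀ i, b < i → IsZero (DCoh.HD ((DCoh.tildeD R).obj C) i) := fun i hi =>
      ((tilde.functor R).map_isZero (C.isZero_of_isLE (b + 1 - 1) i (by omega))).of_iso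
        ((mapDCHomologyIso (tilde.functor R) i).app C)
    have hCpc : LocPC b ((DCoh.tildeD R).obj C) :=
      ((locPC_two_of_three m _ ((DCoh.tildeD R).map_distinguished _ hT)).1
        (((isPerfect_iff _).1 hP).locPC (m + 1)) hpc).mono hb
    haveI : Module.Finite R ((DerivedCategory.homologyFunctor (ModuleCat.{u} R) b).obj C) :=
      (QCoh.isFT_tilde_iff _).1 (isFT_of_iso' ((mapDCHomologyIso (tilde.functor R) b).app C)
        (isFT_top hCpc hClz))
    obtain ⟨k, g, hg⟩ := Module.Finite.exists_fin' R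
      ((DerivedCategory.homologyFunctor (ModuleCat.{u} R) b).obj C)
    haveI : Projective (ModuleCat.of R (Fin k → R)) := inferInstance
    obtain ⟨δ, hδ⟩ := (bijective_psiC_of_projective (P := ModuleCat.of R (Fin k → R)) b C).2
      (ModuleCat.ofHom g)
    obtain ⟨Q, p, ψ, hQ, hQs, hQb, hpψ⟩ := exists_factor_supported s b (fun f hf =>
      torsGE_obj₂ (rot_of_distTriang _ hT) (fun i hi => hM f hf i (by omega))
        (fun i _ => ((hPs f hf).shift 1) i)) k δ
    obtain ⟨C', q', d', hT'⟩ := distinguished_cocone_triangle ψ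
    obtain ⟨P', α', d'', hT''⟩ := distinguished_cocone_triangle₁ (q ≫ q')
    let O := Triangulated.someOctahedron (Eq.refl (q ≫ q')) (rot_of_distTriang _ hT)
      (rot_of_distTriang _ hT') (rot_of_distTriang _ hT'')
    have hP1 : DCoh.IsPerfect ((DCoh.tildeD R).obj (P'⟦(1 : ℤ)⟧)) :=
      (Groth.Agent.S0887.result _ ((DCoh.tildeD R).map_distinguished _ O.mem)).2.1
        (isPerfect_of_iso (((DCoh.tildeD R).commShiftIso (1 : ℤ)).app P).symm (isPerfect_shift hP 1))
        (isPerfect_of_iso (((DCoh.tildeD R).commShiftIso (1 : ℤ)).app Q).symm (isPerfect_shift hQ 1))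
    refine ⟨P', C', α', q ≫ q', d'', hT'', ?_, fun f hf => ?_, ?_⟩
    · refine isPerfect_of_iso ?_ (isPerfect_shift hP1 (-1))
      exact (shiftFunctor (DCoh.D (Spec R)) (-1 : ℤ)).mapIso
        (((DCoh.tildeD R).commShiftIso (1 : ℤ)).app P') ≪≫
          (shiftFunctorCompIsoId (DCoh.D (Spec R)) (1 : ℤ) (-1) (by omega)).app _
    · have h1 : Tors f (P'⟦(1 : ℤ)⟧) := tors_obj₂ O.mem ((hPs f hf).shift 1) ((hQs f hf).shift 1)
      intro i φ
      let e := (shiftFunctorCompIsoId (DerivedCategory (ModuleCat.{u} R)) (1 : ℤ) (-1) (by omega))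
      obtain ⟨n, hn⟩ := (h1.shift (-1)) i (φ ≫ e.inv.app P')
      exact ⟨n, by rw [← cancel_mono (e.inv.app P'), Linear.smul_comp, hn, zero_comp]⟩
    · refine (DerivedCategory.isLE_iff _ _).2 fun i hi => ?_
      haveI := hQb
      refine ((DerivedCategory.HomologySequence.exact₃ _ hT' i (i + 1) rfl)).isZero_of_both_zeros ?_
        ((Q.isZero_of_isLE b (i + 1) (by omega)).eq_of_tgt _ _)
      rcases eq_or_lt_of_le (show b ≤ i by omega) with rfl | hlt
      · haveI : Epi ((DerivedCategory.homologyFunctor (ModuleCat.{u} R) b).map ψ) := by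
          have h2 : Epi (psiC b _ C δ) := hδ.symm ▸ (ModuleCat.epi_iff_surjective _).2 hg
          rw [← hpψ, psiC, Functor.map_comp, ← Category.assoc] at h2
          exact epi_of_epi ((hSingle b _).inv ≫ (DerivedCategory.homologyFunctor _ b).map p) _
        refine (cancel_epi ((DerivedCategory.homologyFunctor (ModuleCat.{u} R) b).map ψ)).1 ?_
        rw [comp_zero]
        exact ((DerivedCategory.homologyFunctor (ModuleCat.{u} R) b).map_comp _ _).symm.trans
          ((congrArg _ (comp_distTriang_mor_zero₁₂ _ hT')).trans (Functor.map_zero _ _ _))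
      · exact (C.isZero_of_isLE (b + 1 - 1) i (by omega)).eq_of_src _ _
  have hall : ∀ (n : ℕ) (i : ℤ), m ≤ i → b₀ + 1 - n ≤ i → Inv i := by
    intro n
    induction n with
    | zero => exact fun i _ hi => h0 i (by omega)
    | succ n ih =>
      intro i him hi
      by_cases h : b₀ + 1 - (n : ℤ) ≤ i
      · exact ih i him h
      · exact hstep i him (ih (i + 1) (by omega) (by omega))
  exact hall (b₀ + 1 - m).natAbs m le_rfl (by omega)

end Groth.Agent.Perf52
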