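import Groth.Agent.Perf52.Approx

/-!
# Approximation by perfect objects on affine schemes, geometric form
-/

set_option linter.style.haveILetI false
set_option backward.isDefEq.respectTransparency false

universe u

open CategoryTheory CategoryTheory.Limits AlgebraicGeometry TopologicalSpace Pretriangulated

attribute [local instance] HasDerivedCategory.standard

namespace Groth.Agent.Perf52

open Groth.Agent.KFlatLib

variable {X : Scheme.{u}}

/-- Approximation holds for `(T, E, m)`. -/
def ApproxAt (T : Set X) (E : DCoh.D X) (m : ℤ) : Prop :=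
  ∃ (P : DCoh.D X) (α : P ⟶ E), DCoh.IsPerfect P ∧ SuppOn P T ∧ IsPcMap m α

/-- A cone in degrees below `m` makes an approximation. -/
lemma isPcMap_of_cone {C : Type*} [Category C] [Abelian C] {m : ℤ}
    {T : Triangle (DerivedCategory C)} (hT : T ∈ distTriang _) (h : T.obj₃.IsLE (m - 1)) :
    IsPcMap m T.mor₁ := by
  haveI := h
  have he : ∀ i, m ≤ i → Epi ((DerivedCategory.homologyFunctor C i).map T.mor₁) := fun i hi =>
    (DerivedCategory.HomologySequence.epi_homologyMap_mor₁_iff T hT i).2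
      ((T.obj₃.isZero_of_isLE (m - 1) i (by omega)).eq_of_tgt _ _)
  refine ⟨fun i hi => ?_, he m le_rfl⟩
  haveI := he i (by omega)
  haveI : Mono ((DerivedCategory.homologyFunctor C i).map T.mor₁) :=
    (DerivedCategory.HomologySequence.mono_homologyMap_mor₁_iff T hT (i - 1) i (by omega)).2
      ((T.obj₃.isZero_of_isLE (m - 1) (i - 1) (by omega)).eq_of_src _ _)
  exact isIso_of_mono_of_epi _

variable {R : CommRingCat.{u}}

lemma torsGE_iff (f : R) (c : ℤ) (M : DerivedCategory (ModuleCat.{u} R)) :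
    TorsGE f c M ↔ ∀ i : ℤ, c ≤ i → ∀ m : (DerivedCategory.homologyFunctor (ModuleCat.{u} R) i).obj M,
      ∃ n : ℕ, f ^ n • m = 0 := by
  refine forall_congr' fun i => imp_congr_right fun _ => ?_
  haveI : Projective (ModuleCat.of R R) := inferInstance
  have hb := bijective_psiC_of_projective (P := ModuleCat.of R R) i M
  let E := (Equiv.ofBijective _ hb).trans (evalOne _)
  have hE : ∀ (r : R) φ, E (r • φ) = r • E φ := fun r φ => by
    have h : r • φ = (DerivedCategory.singleFunctor _ i).map (r • 𝟙 (ModuleCat.of R R)) ≫ φ := by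
      rw [Functor.map_smul, CategoryTheory.Functor.map_id, Linear.smul_comp, Category.id_comp]
    change evalOne _ (psiC i _ M (r • φ)) = r • evalOne _ (psiC i _ M φ)
    rw [h, psiC_single_map, Linear.smul_comp, Category.id_comp]
    rfl
  have h0 : E 0 = 0 := by simpa using hE 0 0
  refine E.forall_congr fun φ => exists_congr fun n => ?_
  rw [← hE, ← h0]
  exact E.injective.eq_iff.symm

/-- Approximation on `Spec R` along `V(s)`. -/
theorem approxAt_spec [PreservesFiniteLimits (tilde.functor R)] (s : Finset R) (m : ℤ)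
    {E : DCoh.D (Spec R)} (hq : DCoh.IsQCohD E) (hpc : DCoh.IsPseudoCoherentD m E)
    (hsupp : ∀ i, m - (s.card : ℤ) + 1 ≤ i →
      CohB1.support (DCoh.HD E i) ⊆ (PrimeSpectrum.zeroLocus (s : Set R) : Set (Spec R : Scheme.{u}))) :
    ApproxAt (PrimeSpectrum.zeroLocus (s : Set R) : Set (Spec R : Scheme.{u})) E m := by
  obtain ⟨M, ⟨eM⟩⟩ := exists_tildeD_iso hq
  have hM : ∀ f ∈ s, TorsGE f (m - (s.card : ℤ) + 1) M := fun f hf => (torsGE_iff f _ M).2 fun i hi => by
    have h : Module.support R ((DerivedCategory.homologyFunctor (ModuleCat.{u} R) i).obj M) ⊆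
        PrimeSpectrum.zeroLocus (s : Set R) := fun x hx => by
      refine hsupp i hi ?_
      have h1 := (mem_support_tilde_iff _ x).2 hx
      have e := (DerSch.stalkFunctor (Spec R) x).mapIso
        (((mapDCHomologyIso (tilde.functor R) i).app M).symm ≪≫
          (DerivedCategory.homologyFunctor _ i).mapIso eM)
      by_contra h2
      exact (isZero_stalk_iff _ _).1 (e.isZero_iff.2 ((isZero_stalk_iff _ _).2 h2)) h1
    exact (support_subset_zeroLocus_iff _ _).1 h f hf
  obtain ⟨P, C, α, q, d, hT, hP, hPs, hC⟩ := exists_approx_ring s m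
    ((isPseudoCoherentD_iff _ _).2 (((isPseudoCoherentD_iff _ _).1 hpc).of_iso eM.symm)) hM
  refine ⟨(DCoh.tildeD R).obj P, (DCoh.tildeD R).map α ≫ eM.hom, hP,
    (suppOn_tildeD_iff P _).2 hPs, ?_⟩
  have hpm := isPcMap_of_cone (m := m) ((DCoh.tildeD R).map_distinguished _ hT)
    ((DerivedCategory.isLE_iff _ _).2 fun i hi =>
      haveI := hC
      ((tilde.functor R).map_isZero (C.isZero_of_isLE (m - 1) i hi)).of_iso
        ((mapDCHomologyIso (tilde.functor R) i).app C))
  have := hpm.comp_iso (𝟙 _) eM.hom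
  rw [Category.id_comp] at this
  exact this

lemma approxAt_of_rho {U : Scheme.{u}} (j : U ⟶ X) [IsOpenImmersion j] [Surjective j] {T : Set X}
    {E : DCoh.D X} {m : ℤ} (h : ApproxAt (j.base ⁻¹' T) ((rho j).obj E) m) : ApproxAt T E m := by
  obtain ⟨P, α, hP, hPT, hα⟩ := h
  obtain ⟨P₀, ⟨e⟩⟩ := exists_rho_obj_iso j P
  obtain ⟨α₀, hα₀⟩ := rho_map_surjective j P₀ E (e.hom ≫ α)
  refine ⟨P₀, α₀, isPerfect_of_rho j (isPerfect_of_iso e.symm hP), suppOn_of_rho j (hPT.of_iso e.symm), ?_⟩
  have h1 : IsPcMap m ((rho j).map α₀) := by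
    rw [hα₀]
    have := hα.comp_iso e.hom (𝟙 _)
    rwa [Category.comp_id] at this
  obtain ⟨C, q, d, hT⟩ := distinguished_cocone_triangle α₀
  have hC : ((rho j).obj C).IsLE (m - 1) := (DerivedCategory.isLE_iff _ _).2 fun i hi => by
    have hT' := (rho j).map_distinguished _ hT
    haveI : Mono ((DerivedCategory.homologyFunctor _ (i + 1)).map ((rho j).map α₀)) :=
      haveI := h1.1 (i + 1) (by omega); inferInstance
    haveI : Epi ((DerivedCategory.homologyFunctor _ i).map ((rho j).map α₀)) := by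
      rcases eq_or_lt_of_le (show m ≤ i by omega) with rfl | hlt
      · exact h1.2
      · haveI := h1.1 i hlt; infer_instance
    exact (DerivedCategory.HomologySequence.exact₃ _ hT' i (i + 1) rfl).isZero_of_both_zeros
      ((DerivedCategory.HomologySequence.epi_homologyMap_mor₁_iff _ hT' i).1 ‹_›)
      ((DerivedCategory.HomologySequence.mono_homologyMap_mor₁_iff _ hT' i (i + 1) rfl).1 ‹_›)
  refine isPcMap_of_cone hT (isLE_of_zge fun x => ?_)
  obtain ⟨y, rfl⟩ := j.surjective x
  refine (zge_rho_iff j C y _).1 fun i hi => ?_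
  haveI := hC
  exact (DerSch.stalkFunctor U y).map_isZero (((rho j).obj C).isZero_of_isLE (m - 1) i (by omega))

/-- Approximation on an affine scheme along `V(fs)`. -/
theorem approxAt_affine [IsAffine X] (fs : Finset Γ(X, ⊤)) (m : ℤ) {E : DCoh.D X}
    (hq : DCoh.IsQCohD E) (hpc : DCoh.IsPseudoCoherentD m E)
    (hsupp : ∀ i, m - (fs.card : ℤ) + 1 ≤ i →
      CohB1.support (DCoh.HD E i) ⊆ X.zeroLocus (U := ⊤) (↑fs : Set Γ(X, ⊤))) :
    ApproxAt (X.zeroLocus (U := ⊤) (↑fs : Set Γ(X, ⊤))) E m := by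
  let j : Spec Γ(X, ⊤) ⟶ X := X.isoSpec.inv
  haveI : Surjective j := inferInstance
  haveI : PreservesFiniteLimits (tilde.functor Γ(X, ⊤)) := inferInstance
  refine approxAt_of_rho j ?_
  rw [show j.base ⁻¹' X.zeroLocus (U := ⊤) (↑fs : Set Γ(X, ⊤)) = PrimeSpectrum.zeroLocus (↑fs : Set Γ(X, ⊤))
    from X.isoSpec_inv_preimage_zeroLocus _]
  refine approxAt_spec fs m (isQCohD_rho j hq)
    ((isPseudoCoherentD_iff _ _).2 (((isPseudoCoherentD_iff _ _).1 hpc).restrict j)) fun i hi x hx => ?_
  rw [← X.isoSpec_inv_preimage_zeroLocus]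
  refine hsupp i hi ?_
  by_contra h2
  refine (isZero_stalk_iff _ _).1 ?_ hx
  refine IsZero.of_iso ?_ ((DerSch.stalkFunctor _ x).mapIso (restrictHDIso j E i))
  haveI := ModuleCat.subsingleton_of_isZero ((isZero_stalk_iff (DCoh.HD E i) (j.base x)).2 h2)
  let e := ((Scheme.Modules.restrictStalkNatIso j x).app (DCoh.HD E i)).addCommGroupIsoToAddEquiv
  haveI : Subsingleton ((DerSch.stalkFunctor _ x).obj ((DCoh.HD E i).restrict j) : Type u) :=
    e.toEquiv.injective.subsingleton (β := ((DerSch.stalkFunctor X (j.base x)).obj (DCoh.HD E i) : Type u))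
  exact ModuleCat.isZero_of_subsingleton _

/-- A closed subset with quasi-compact complement in an affine scheme is a finite zero locus. -/
lemma exists_zeroLocus_eq [IsAffine X] {T : Set X} (hT : IsClosed T) (hTc : IsCompact Tᶜ) :
    ∃ fs : Finset Γ(X, ⊤), X.zeroLocus (U := ⊤) (↑fs : Set Γ(X, ⊤)) = T := by
  let j : Spec Γ(X, ⊤) ⟶ X := X.isoSpec.inv
  have hc : IsCompact (j.base ⁻¹' T)ᶜ := (Scheme.homeoOfIso X.isoSpec.symm).isCompact_preimage.2 hTc
  obtain ⟨s, hs⟩ := PrimeSpectrum.isCompact_isOpen_iff.1 ⟨hc, (hT.preimage j.continuous).isOpen_compl⟩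
  refine ⟨s, (Set.preimage_eq_preimage j.surjective).1 ?_⟩
  exact (X.isoSpec_inv_preimage_zeroLocus _).trans (compl_injective hs)

end Groth.Agent.Perf52
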