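import Groth.Agent.Perf52.AffineLift
import Groth.Agent.Perf52.HomRange
import Groth.Agent.QCoh.ExtendFT
import Groth.Agent.QCoh.SpecFT
import Groth.Agent.KFlatLib.Perfect.Top

/-!
# Perfect objects on opens of affine schemes are summands of restrictions
-/

set_option linter.style.haveILetI false
set_option backward.isDefEq.respectTransparency false

universe u

open CategoryTheory CategoryTheory.Limits AlgebraicGeometry TopologicalSpace Pretriangulated ZeroObject

attribute [local instance] HasDerivedCategory.standard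

namespace Groth.Agent.Perf52

open Groth.Agent.KFlatLib

variable {X U : Scheme.{u}}

/-- The cohomology sheaves in degrees at least `m` have zero stalk at `x`. -/
def ZGE (K : DCoh.D X) (x : X) (m : ℤ) : Prop :=
  ∀ i, m ≤ i → IsZero ((DerSch.stalkFunctor X x).obj (DCoh.HD K i))

lemma zge_rho_iff (j : U ⟶ X) [IsOpenImmersion j] (K : DCoh.D X) (u : U) (m : ℤ) :
    ZGE ((rho j).obj K) u m ↔ ZGE K (j.base u) m := by
  refine forall_congr' fun i => imp_congr_right fun _ => ⟨fun h => ?_, fun h => ?_⟩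
  · exact isZero_stalk_of_restrict j u (h.of_iso
      ((DerSch.stalkFunctor U u).mapIso (restrictHDIso j K i).symm))
  · refine IsZero.of_iso ?_ ((DerSch.stalkFunctor U u).mapIso (restrictHDIso j K i))
    haveI := ModuleCat.subsingleton_of_isZero h
    let e := ((Scheme.Modules.restrictStalkNatIso j u).app (DCoh.HD K i)).addCommGroupIsoToAddEquiv
    haveI : Subsingleton ((DerSch.stalkFunctor U u).obj ((DCoh.HD K i).restrict j) : Type u) :=
      e.toEquiv.injective.subsingleton (β := ((DerSch.stalkFunctor X (j.base u)).obj (DCoh.HD K i) : Type u))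
    exact ModuleCat.isZero_of_subsingleton _

lemma isLE_of_zge {K : DCoh.D X} {m : ℤ} (h : ∀ x, ZGE K x (m + 1)) : K.IsLE m :=
  (DerivedCategory.isLE_iff _ _).2 fun i hi => isZero_of_stalk _ fun x => h x i (by omega)

section Spec

variable {R : CommRingCat.{u}} [PreservesFiniteLimits (tilde.functor R)]

/-- Finitely many sections generate a quasi-coherent sheaf on a quasi-compact open where it is of
finite type. -/
lemma exists_free_epi_on {V : (Spec R).Opens} (hV : IsCompact (V : Set (Spec R : Scheme.{u})))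
    (N : ModuleCat.{u} R)
    (hft : CohB1.IsFT (((tilde.functor R).obj N).restrict V.ι)) :
    ∃ (k : ℕ) (φ : ModuleCat.of R (Fin k → R) ⟶ N),
      Epi ((Scheme.Modules.restrictFunctor V.ι).map ((tilde.functor R).map φ)) := by
  let H := (tilde.functor R).obj N
  have hH : Coh.IsQCoh H := QCoh.isQCoh_spec_iff.2 ⟨_, ⟨Iso.refl _⟩⟩
  haveI : QuasiCompact V.ι := QCoh.quasiCompact_ι_of_compact V hV
  obtain ⟨G', i', e, -, hq, hG, he⟩ := QCoh.exists_extension' hH (QCoh.extStep_qcqs hV)
    (𝟙 (H.restrict V.ι)) (QCoh.isQCoh_restrict V.ι hH) hft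
  haveI : IsIso ((Scheme.Modules.restrictFunctor V.ι).map i') :=
    he ▸ (inferInstanceAs (IsIso (e.hom ≫ 𝟙 _)))
  obtain ⟨N', ⟨eN⟩⟩ := QCoh.isQCoh_spec_iff.1 hq
  haveI : Module.Finite R N' := (QCoh.isFT_tilde_iff N').1 (isFT_of_iso' eN.symm hG)
  obtain ⟨k, g, hg⟩ := Module.Finite.exists_fin' R N'
  obtain ⟨φ, hφ⟩ := (tilde.functor R).map_surjective
    ((tilde.functor R).map (ModuleCat.ofHom g) ≫ eN.hom ≫ i')
  haveI : Epi (ModuleCat.ofHom g) := (ModuleCat.epi_iff_surjective _).2 hg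
  haveI : Epi ((tilde.functor R).map (ModuleCat.ofHom g)) :=
    haveI := (tilde.adjunction (R := R)).leftAdjoint_preservesColimits
    inferInstance
  refine ⟨k, φ, ?_⟩
  rw [hφ, Functor.map_comp, Functor.map_comp]
  infer_instance

lemma rperf_single_free (k : ℕ) (m : ℤ) :
    RPerf ((DerivedCategory.singleFunctor (ModuleCat.{u} R) m).obj
      (ModuleCat.of R (Fin k → R))) := by
  obtain ⟨⟨a, b, hz⟩, hf⟩ := isBddFree_single (ModuleCat.of R (Fin k → R)) ⟨inferInstance, inferInstance⟩ m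
  refine ⟨_, a, b, hz, fun i => ⟨(hf i).1, haveI := (hf i).2; inferInstance⟩,
    ⟨((DerivedCategory.singleFunctorIsoCompQ (ModuleCat.{u} R) m).app _).symm⟩⟩

/-- One step of the approximation: kill the top cohomology sheaf on `V`. -/
theorem exists_cover_top {V : (Spec R).Opens} (hV : IsCompact (V : Set (Spec R : Scheme.{u})))
    {C : DCoh.D (Spec R)} (hC : DCoh.IsQCohD C) (m : ℤ)
    (hz : ∀ x ∈ V, ZGE C x (m + 1)) (hft : CohB1.IsFT ((DCoh.HD C m).restrict V.ι)) :
    ∃ (F C' : DCoh.D (Spec R)) (δ : F ⟶ C) (q : C ⟶ C') (d : C' ⟶ F⟦(1 : ℤ)⟧),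
      Triangle.mk δ q d ∈ distTriang _ ∧ DCoh.IsPerfect F ∧ (∀ x ∈ V, ZGE C' x m) ∧
        ∃ N : (Spec R).Modules, FlatMod.IsFinLocFree N ∧
          Nonempty ((DCoh.inD (Spec R) N)⟦-m⟧ ≅ F) := by
  obtain ⟨M, ⟨eM⟩⟩ := exists_tildeD_iso hC
  let H := (DerivedCategory.homologyFunctor (ModuleCat.{u} R) m).obj M
  let eH : (tilde.functor R).obj H ≅ DCoh.HD C m :=
    ((mapDCHomologyIso (tilde.functor R) m).app M).symm ≪≫
      (DerivedCategory.homologyFunctor _ m).mapIso eM
  obtain ⟨k, φ, hφ⟩ := exists_free_epi_on hV H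
    (isFT_of_iso' ((Scheme.Modules.restrictFunctor V.ι).mapIso eH).symm hft)
  haveI : Projective (ModuleCat.of R (Fin k → R)) := inferInstance
  obtain ⟨δ₀, hδ₀⟩ := (bijective_psiC_of_projective (P := ModuleCat.of R (Fin k → R)) m M).2 φ
  let F₀ := (DerivedCategory.singleFunctor (ModuleCat.{u} R) m).obj (ModuleCat.of R (Fin k → R))
  let δ : (DCoh.tildeD R).obj F₀ ⟶ C := (DCoh.tildeD R).map δ₀ ≫ eM.hom
  obtain ⟨C', q, d, hT⟩ := distinguished_cocone_triangle δ
  have hF : ∀ i, i ≠ m → IsZero (DCoh.HD ((DCoh.tildeD R).obj F₀) i) := fun i hi => by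
    refine ((tilde.functor R).map_isZero ?_).of_iso ((mapDCHomologyIso (tilde.functor R) i).app F₀)
    refine IsZero.of_iso ?_ ((DerivedCategory.homologyFunctor _ i).mapIso
      ((DerivedCategory.singleFunctorIsoCompQ _ m).app _) ≪≫
        (DerivedCategory.homologyFunctorFactors _ i).app _)
    exact ShortComplex.isZero_homology_of_isZero_X₂ _
      (HomologicalComplex.isZero_single_obj_X (ComplexShape.up ℤ) m _ i hi)
  have hnat : (DerivedCategory.homologyFunctor _ m).map δ =
      ((mapDCHomologyIso (tilde.functor R) m).hom.app F₀) ≫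
        (tilde.functor R).map ((hSingle m _).hom ≫ φ) ≫ eH.hom := by
    have h : (DerivedCategory.homologyFunctor _ m).map δ₀ = (hSingle m _).hom ≫ φ := by
      rw [← hδ₀, psiC, Iso.hom_inv_id_assoc]
    simp only [δ, eH, Functor.map_comp, Iso.trans_hom, Iso.symm_hom, Iso.app_inv, Functor.mapIso_hom,
      ← h]
    simp only [← Category.assoc]
    refine congrArg (· ≫ _) ?_
    exact (Iso.eq_comp_inv ((mapDCHomologyIso (tilde.functor R) m).app M)).2
      ((mapDCHomologyIso (tilde.functor R) m).hom.naturality δ₀)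
  refine ⟨_, C', δ, q, d, hT, (perfect_tildeD_iff F₀).2 (rperf_single_free k m), fun x hx i hi => ?_,
    (tilde.functor R).obj (ModuleCat.of R (Fin k → R)),
    (QCoh.isFinLocFree_tilde_iff _).2 ⟨inferInstanceAs (Module.Finite R (Fin k → R)), inferInstanceAs (Module.Projective R (Fin k → R))⟩,
    ⟨((SingleFunctors.shiftIso (DerivedCategory.singleFunctors (Spec R).Modules) (-m) m 0
      (by omega)).app _) ≪≫ (((tilde.functor R).mapDerivedCategorySingleFunctor m).app _).symm⟩⟩
  let S := DerSch.stalkFunctor (Spec R) x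
  have hseq := (DerivedCategory.HomologySequence.exact₃ _ hT i (i + 1) rfl).map S
  refine hseq.isZero_of_both_zeros ?_ ((S.map_isZero (hF (i + 1) (by omega))).eq_of_tgt _ _)
  rcases eq_or_lt_of_le hi with rfl | hlt
  · haveI : Epi (S.map ((DerivedCategory.homologyFunctor _ m).map δ)) := by
      have he : Epi (S.map ((tilde.functor R).map φ)) := by
        haveI := hφ
        have h1 : Epi ((DerSch.stalkFunctor (V : Scheme.{u}) ⟨x, hx⟩).map
            ((Scheme.Modules.restrictFunctor V.ι).map ((tilde.functor R).map φ))) := inferInstance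
        exact (ModuleCat.epi_iff_surjective _).2
          (surjective_stalk_of_restrict V.ι _ ⟨x, hx⟩ ((ModuleCat.epi_iff_surjective _).1 h1))
      have h2 : Epi (S.map ((mapDCHomologyIso (tilde.functor R) m).hom.app F₀) ≫
          S.map ((tilde.functor R).map (hSingle m _).hom) ≫ S.map ((tilde.functor R).map φ) ≫
            S.map eH.hom) := inferInstance
      have h3 : S.map ((DerivedCategory.homologyFunctor _ m).map δ) =
          S.map ((mapDCHomologyIso (tilde.functor R) m).hom.app F₀) ≫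
          S.map ((tilde.functor R).map (hSingle m _).hom) ≫ S.map ((tilde.functor R).map φ) ≫
            S.map eH.hom := by
        refine (congrArg S.map hnat).trans ?_
        simp only [Functor.map_comp, Category.assoc]
      exact h3 ▸ h2
    refine (cancel_epi (S.map ((DerivedCategory.homologyFunctor _ m).map δ))).1 ?_
    rw [comp_zero]
    let T := Triangle.mk δ q d
    have h0 : T.mor₁ ≫ T.mor₂ = 0 := comp_distTriang_mor_zero₁₂ _ hT
    refine (S.map_comp _ _).symm.trans (Eq.trans (congrArg S.map ?_) (S.map_zero _ _))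
    exact ((DerivedCategory.homologyFunctor _ m).map_comp T.mor₁ T.mor₂).symm.trans
      ((congrArg _ h0).trans (Functor.map_zero _ _ _))
  · exact (hz x hx i (by omega)).eq_of_src _ _

/-- Every perfect object on a quasi-compact open of `Spec R` is a summand of the restriction of a
perfect object. -/
theorem exists_summand_spec (V : (Spec R).Opens) (hV : IsCompact (V : Set (Spec R : Scheme.{u})))
    (P : DCoh.D (V : Scheme.{u})) (hP : DCoh.IsPerfect P) :
    ∃ (G : DCoh.D (Spec R)) (i : P ⟶ (rho V.ι).obj G) (p : (rho V.ι).obj G ⟶ P),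
      DCoh.IsPerfect G ∧ i ≫ p = 𝟙 P := by
  haveI : CompactSpace (V : Scheme.{u}) := isCompact_iff_compactSpace.1 hV
  haveI : QuasiSeparatedSpace (V : Scheme.{u}) := quasiSeparatedSpace_of_quasiSeparated V.ι
  haveI : QuasiCompact V.ι := QCoh.quasiCompact_ι_of_compact V hV
  let M₀ := (lshD V.ι).obj P
  obtain ⟨M, u, hu, -, hq⟩ := exists_push V.ι M₀
  haveI := hu
  let eM : (rho V.ι).obj M ≅ P := (asIso ((rho V.ι).map u)).symm ≪≫ (lshDRhoIso V.ι).app P
  have hMq : DCoh.IsQCohD M :=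
    hq inferInstance inferInstance (isQCohD_of_iso ((lshDRhoIso V.ι).app P).symm (isQCohD_of_isPerfect hP))
  obtain ⟨a, b, -, ha, hb⟩ := exists_bounds_of_isPerfect hP
  obtain ⟨a₀, b₀, hhigh, -⟩ := exists_bound_shift hP
  let Inv : ℤ → Prop := fun m => ∃ (G C : DCoh.D (Spec R)) (g : G ⟶ M) (q : M ⟶ C)
    (d : C ⟶ G⟦(1 : ℤ)⟧), Triangle.mk g q d ∈ distTriang _ ∧ DCoh.IsPerfect G ∧
      DCoh.IsQCohD C ∧ ∀ x ∈ V, ZGE C x m
  have h0 : ∀ m, b < m → Inv m := fun m hm => by
    refine ⟨0, M, 0, 𝟙 M, 0, ?_, ?_, hMq, fun x hx i hi => ?_⟩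
    · exact contractible_distinguished₁ M
    · refine (isPerfect_iff _).2 fun x => ⟨_, 𝟙 _, inferInstance, ⟨x, rfl⟩, 0,
        ⟨⟨0, 0, fun i _ => (HomologicalComplex.eval _ _ i).map_isZero (isZero_zero _)⟩,
          fun i => isFinLocFree_of_isZero ((HomologicalComplex.eval _ _ i).map_isZero (isZero_zero _))⟩, ⟨?_⟩⟩
      exact IsZero.iso (DerivedCategory.Q.map_isZero (isZero_zero _))
        ((rho _).map_isZero (isZero_zero _))
    · haveI := hb
      have h1 : ZGE ((rho V.ι).obj M) (⟨x, hx⟩ : (V : Scheme.{u})) m := fun i hi =>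
        ((DerSch.stalkFunctor _ _).map_isZero (P.isZero_of_isLE b i (by omega))).of_iso
          ((DerSch.stalkFunctor _ _).mapIso ((DerivedCategory.homologyFunctor _ i).mapIso eM))
      exact (zge_rho_iff V.ι M ⟨x, hx⟩ m).1 h1 i hi
  have hstep : ∀ m, Inv (m + 1) → Inv m := by
    rintro m ⟨G, C, g, q, d, hT, hG, hC, hz⟩
    have hperf : DCoh.IsPerfect ((rho V.ι).obj C) :=
      (Groth.Agent.S0887.result _ ((rho V.ι).map_distinguished _ hT)).1 (isPerfect_rho V.ι hG)
        (isPerfect_of_iso eM.symm hP)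
    have hft : CohB1.IsFT ((DCoh.HD C m).restrict V.ι) :=
      isFT_of_iso' (restrictHDIso V.ι C m)
        (isFT_top (((isPerfect_iff _).1 hperf).locPC m) fun i hi => isZero_of_stalk _ fun w =>
          (zge_rho_iff V.ι C w (m + 1)).2 (hz _ w.2) i (by omega))
    obtain ⟨F, C', δ, q', d', hT', hF, hz', -⟩ := exists_cover_top hV hC m hz hft
    obtain ⟨G', g', d'', hT''⟩ := distinguished_cocone_triangle₁ (q ≫ q')
    let O := Triangulated.someOctahedron (Eq.refl (q ≫ q')) (rot_of_distTriang _ hT)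
      (rot_of_distTriang _ hT') (rot_of_distTriang _ hT'')
    have hG' : DCoh.IsPerfect (G'⟦(1 : ℤ)⟧) :=
      (Groth.Agent.S0887.result _ O.mem).2.1 (isPerfect_shift hG 1) (isPerfect_shift hF 1)
    refine ⟨G', C', g', q ≫ q', d'', hT'', ?_, ?_, hz'⟩
    · exact (isPerfect_iff _).2 (((isPerfect_iff _).1 hG').of_shift 1)
    · exact isQCohD_obj₃ hT' (isQCohD_of_isPerfect hF) hC
  have hall : ∀ (n : ℕ) (m : ℤ), b + 1 - n ≤ m → Inv m := by
    intro n
    induction n with
    | zero => exact fun m hm => h0 m (by omega)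
    | succ n ih =>
      intro m hm
      by_cases h : b + 1 - (n : ℤ) ≤ m
      · exact ih m h
      · exact hstep m (ih (m + 1) (by omega))
  obtain ⟨G, C, g, q, d, hT, hG, hC, hz⟩ := hall (b + 1 - a₀).natAbs a₀ (by omega)
  have hle : ((rho V.ι).obj C).IsLE (a₀ - 1) :=
    isLE_of_zge fun w => (zge_rho_iff V.ι C w _).2 (by rw [sub_add_cancel]; exact hz _ w.2)
  have h0' : eM.inv ≫ (rho V.ι).map q = 0 := by
    have := hhigh _ (isQCohD_rho V.ι hC) (a₀ - 1) hle 0 (by omega)
      (eM.inv ≫ (rho V.ι).map q ≫ (shiftFunctorZero (DCoh.D (V : Scheme.{u})) ℤ).inv.app _)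
    rw [← Category.assoc, ← cancel_mono ((shiftFunctorZero (DCoh.D (V : Scheme.{u})) ℤ).hom.app
      ((rho V.ι).obj C)), Category.assoc, Iso.inv_hom_id_app, zero_comp] at this
    erw [Category.comp_id] at this
    exact this
  obtain ⟨i, (hi : eM.inv = i ≫ (rho V.ι).map g)⟩ :=
    Triangle.coyoneda_exact₂ _ ((rho V.ι).map_distinguished _ hT) eM.inv h0'
  exact ⟨G, i, (rho V.ι).map g ≫ eM.hom, hG, by rw [← Category.assoc, ← hi, Iso.inv_hom_id]⟩

end Spec

/-- Every perfect object on a quasi-compact open of an affine scheme is a summand of a restriction. -/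
theorem exists_summand [IsAffine X] (V : X.Opens) (hV : IsCompact (V : Set X))
    (P : DCoh.D (V : Scheme.{u})) (hP : DCoh.IsPerfect P) :
    ∃ (G : DCoh.D X) (i : P ⟶ (rho V.ι).obj G) (p : (rho V.ι).obj G ⟶ P),
      DCoh.IsPerfect G ∧ i ≫ p = 𝟙 P := by
  let j : Spec Γ(X, ⊤) ⟶ X := X.isoSpec.inv
  haveI : Surjective j := inferInstance
  haveI : PreservesFiniteLimits (tilde.functor Γ(X, ⊤)) := inferInstance
  let V' : (Spec Γ(X, ⊤)).Opens := j ⁻¹ᵁ V
  have hV' : IsCompact (V' : Set (Spec Γ(X, ⊤) : Scheme.{u})) :=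
    (Scheme.homeoOfIso X.isoSpec.symm).isCompact_preimage.2 hV
  let k : (V' : Scheme.{u}) ⟶ V := j ∣_ V
  haveI : Surjective k := inferInstance
  obtain ⟨G', i', p', hG', hip⟩ := exists_summand_spec V' hV' ((rho k).obj P) (isPerfect_rho k hP)
  obtain ⟨G, ⟨eG⟩⟩ := exists_rho_obj_iso j G'
  let e : (rho k).obj ((rho V.ι).obj G) ≅ (rho V'.ι).obj G' :=
    rhoComp k V.ι (V'.ι ≫ j) (morphismRestrict_ι j V) G ≪≫
      (rhoComp V'.ι j (V'.ι ≫ j) rfl G).symm ≪≫ (rho V'.ι).mapIso eG
  obtain ⟨i, hi⟩ := rho_map_surjective k _ _ (i' ≫ e.inv)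
  obtain ⟨p, hp⟩ := rho_map_surjective k _ _ (e.hom ≫ p')
  refine ⟨G, i, p, isPerfect_of_rho j (isPerfect_of_iso eG.symm hG'), rho_map_injective k ?_⟩
  rw [Functor.map_comp, hi, hp, Category.assoc, Iso.inv_hom_id_assoc, hip, CategoryTheory.Functor.map_id]

end Groth.Agent.Perf52
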