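import Groth.Agent.Perf52.CompactQCoh
import Groth.Agent.Perf52.AffineKill
import Groth.Agent.Perf52.Summand
import Groth.Agent.KFlatLib.Perfect.Corollaries
import Groth.Agent.KFlatLib.Ring.DerivedInduction

/-!
# Compact objects over a ring are perfect
-/

set_option linter.style.haveILetI false
set_option backward.isDefEq.respectTransparency false

universe u

open CategoryTheory CategoryTheory.Limits AlgebraicGeometry Pretriangulated ZeroObject

attribute [local instance] HasDerivedCategory.standard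

namespace Groth.Agent.Perf52

open Groth.Agent.KFlatLib

/-- Retracts of perfect objects are perfect. -/
lemma isPerfect_of_retract {X : Scheme.{u}} {K G : DCoh.D X} (i : K ⟶ G) (r : G ⟶ K)
    (h : i ≫ r = 𝟙 K) (hG : DCoh.IsPerfect G) : DCoh.IsPerfect K := by
  obtain ⟨C, q, d, hT⟩ := distinguished_cocone_triangle i
  haveI : Mono i := mono_of_mono_fac h
  obtain ⟨e, -, -⟩ := exists_iso_binaryBiproduct_of_distTriang _ hT
    ((Triangle.mor₃_eq_zero_iff_mono₁ _ hT).2 ‹_›)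
  exact (isPerfect_iff _).2 (locSP_summand K C (((isPerfect_iff _).1 hG).of_iso e)).1

variable {R : CommRingCat.{u}} [PreservesFiniteLimits (tilde.functor R)]


/-- Finite supports are reflected by `tildeD`. -/
lemma fixAt_of_tildeD {J : Type u} (N : J → (DerivedCategory (ModuleCat.{u} R))) [HasCoproduct N] {M : (DerivedCategory (ModuleCat.{u} R))}
    [HasCoproduct fun j => (DCoh.tildeD R).obj (N j)]
    (h : FixAt (fun j => (DCoh.tildeD R).obj (N j)) ((DCoh.tildeD R).obj M)) : FixAt N M := by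
  let T := DCoh.tildeD R
  let N' := fun j => T.obj (N j)
  let σ : ∐ N' ⟶ T.obj (∐ N) := Sigma.desc fun j => T.map (Sigma.ι N j)
  haveI : IsIso σ := by
    obtain ⟨L, ⟨eL⟩⟩ := exists_tildeD_iso (isQCohD_sigma N' fun j => isQCohD_tildeD R (N j))
    choose ι' hι' using fun j => (tildeD_map_bijective (N j) L).2 (Sigma.ι N' j ≫ eL.inv)
    let v : ∐ N ⟶ L := Sigma.desc ι'
    obtain ⟨w, hw⟩ := (tildeD_map_bijective L (∐ N)).2 (eL.hom ≫ σ)
    have hvw : v ≫ w = 𝟙 _ := by
      refine Sigma.hom_ext _ _ fun j => (tildeD_map_bijective (N j) (∐ N)).1 ?_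
      rw [← Category.assoc, Sigma.ι_desc, Functor.map_comp, hι', Category.comp_id]
      refine (Category.assoc _ _ _).trans ((congrArg (fun t => Sigma.ι N' j ≫ eL.inv ≫ t) hw).trans ?_)
      refine Eq.trans ?_ (Sigma.ι_desc (fun j => T.map (Sigma.ι N j)) j)
      simp only [Iso.inv_hom_id_assoc]
      rfl
    have h1 : σ ≫ T.map v ≫ eL.hom = 𝟙 _ := by
      refine Sigma.hom_ext _ _ fun j => ?_
      rw [← Category.assoc]
      erw [Sigma.ι_desc]
      rw [Category.comp_id, ← Functor.map_comp_assoc, Sigma.ι_desc]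
      change T.map (ι' j) ≫ eL.hom = _
      rw [hι', Category.assoc, Iso.inv_hom_id, Category.comp_id]
    refine ⟨T.map v ≫ eL.hom, h1, ?_⟩
    rw [Category.assoc, ← hw]
    exact (T.map_comp v w).symm.trans ((congrArg T.map hvw).trans (T.map_id _))
  intro φ
  obtain ⟨F, hF⟩ := h (T.map φ ≫ inv σ)
  refine ⟨F, (tildeD_map_bijective M (∐ N)).1 ?_⟩
  have hσ : partProj N' F ≫ σ = σ ≫ T.map (partProj N F) := by
    refine Sigma.hom_ext _ _ fun j => ?_
    have hj : Sigma.ι N' j ≫ σ = T.map (Sigma.ι N j) := Sigma.ι_desc _ _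
    by_cases hjF : j ∈ F
    · rw [← Category.assoc, ι_partProj_mem N' hjF, hj, ← Category.assoc, hj, ← Functor.map_comp,
        ι_partProj_mem N hjF]
    · rw [← Category.assoc, ι_partProj_not_mem N' hjF, zero_comp, ← Category.assoc, hj,
        ← Functor.map_comp, ι_partProj_not_mem N hjF, Functor.map_zero]
  have h2 := congrArg (· ≫ σ) hF
  simp only [Category.assoc, IsIso.inv_hom_id, Category.comp_id] at h2
  have h3 : T.map φ ≫ inv σ ≫ (partProj N' F ≫ σ) = T.map φ := h2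
  rw [hσ, IsIso.inv_hom_id_assoc] at h3
  exact (T.map_comp φ (partProj N F)).trans h3

/-- Compactness in the derived category of the ring. -/
def RFix (M : (DerivedCategory (ModuleCat.{u} R))) : Prop := ∀ (J : Type u) (N : J → (DerivedCategory (ModuleCat.{u} R))) [HasCoproduct N], Fix N M

lemma rfix_of_isPerfect {M : (DerivedCategory (ModuleCat.{u} R))} (h : DCoh.IsPerfect ((DCoh.tildeD R).obj M)) : RFix M :=
  fun J N _ n => by
    haveI : HasColimitsOfShape (Discrete J) (DCoh.D (Spec R)) := TriCat.hasColimitsOfShape_derivedCategory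
    exact fixAt_of_tildeD N (fixAt_qcoh (isPerfect_of_iso (((DCoh.tildeD R).commShiftIso n).app M).symm
      (isPerfect_shift h n)) _ fun j => isQCohD_tildeD R (N j))

/-- Every map out of a compact object factors through a perfect one. -/
def FF (Y : (DerivedCategory (ModuleCat.{u} R))) : Prop := ∀ M, RFix M → ∀ φ : M ⟶ Y, ∃ (G : (DerivedCategory (ModuleCat.{u} R))) (g : M ⟶ G) (k : G ⟶ Y),
  DCoh.IsPerfect ((DCoh.tildeD R).obj G) ∧ g ≫ k = φ

omit [PreservesFiniteLimits (tilde.functor R)] in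
lemma RFix.shift' {M : (DerivedCategory (ModuleCat.{u} R))} (h : RFix M) (n : ℤ) : RFix (M⟦n⟧) := fun J N _ => (h J N).shift n

lemma ff_of_iso {Y Y' : (DerivedCategory (ModuleCat.{u} R))} (e : Y ≅ Y') (h : FF Y) : FF Y' := fun M hM φ => by
  obtain ⟨G, g, k, hG, hgk⟩ := h M hM (φ ≫ e.inv)
  exact ⟨G, g, k ≫ e.hom, hG, by rw [← Category.assoc, hgk, Category.assoc, e.inv_hom_id, Category.comp_id]⟩

lemma ff_shift {Y : (DerivedCategory (ModuleCat.{u} R))} (h : FF Y) (n : ℤ) : FF (Y⟦n⟧) := fun M hM φ => by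
  let s := (shiftFunctorCompIsoId (DerivedCategory (ModuleCat.{u} R)) (-n) n (by omega)).app M
  obtain ⟨φ', hφ'⟩ := (shiftFunctor (DerivedCategory (ModuleCat.{u} R)) n).map_surjective (s.hom ≫ φ)
  obtain ⟨G, g, k, hG, hgk⟩ := h _ (hM.shift' (-n)) φ'
  refine ⟨G⟦n⟧, s.inv ≫ g⟦n⟧', k⟦n⟧', isPerfect_of_iso (((DCoh.tildeD R).commShiftIso n).app G).symm
    (isPerfect_shift hG n), ?_⟩
  rw [Category.assoc, ← Functor.map_comp, hgk, hφ', Iso.inv_hom_id_assoc]

lemma ff_factor_add {Y M : (DerivedCategory (ModuleCat.{u} R))} {φ ψ : M ⟶ Y} {G : (DerivedCategory (ModuleCat.{u} R))} (g : M ⟶ G) (k : G ⟶ Y)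
    (hG : DCoh.IsPerfect ((DCoh.tildeD R).obj G)) (hφ : g ≫ k = φ) {G' : (DerivedCategory (ModuleCat.{u} R))} (g' : M ⟶ G')
    (k' : G' ⟶ Y) (hG' : DCoh.IsPerfect ((DCoh.tildeD R).obj G')) (hψ : g' ≫ k' = ψ) :
    ∃ (G₀ : (DerivedCategory (ModuleCat.{u} R))) (g₀ : M ⟶ G₀) (k₀ : G₀ ⟶ Y),
      DCoh.IsPerfect ((DCoh.tildeD R).obj G₀) ∧ g₀ ≫ k₀ = φ + ψ :=
  ⟨G ⊞ G', biprod.lift g g', biprod.desc k k', (Groth.Agent.S0887.result _
    ((DCoh.tildeD R).map_distinguished _ (binaryBiproductTriangle_distinguished G G'))).2.1 hG hG',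
    by rw [biprod.lift_desc, hφ, hψ]⟩

lemma ff_ext (T : Triangle (DerivedCategory (ModuleCat.{u} R))) (hT : T ∈ distTriang (DerivedCategory (ModuleCat.{u} R))) (h₁ : FF T.obj₁) (h₃ : FF T.obj₃) :
    FF T.obj₂ := fun M hM φ => by
  obtain ⟨P₃, a, b, hP₃, hab⟩ := h₃ M hM (φ ≫ T.mor₂)
  obtain ⟨P₁, c, e, hP₁, hce⟩ := ff_shift h₁ 1 P₃ (rfix_of_isPerfect hP₃) (b ≫ T.mor₃)
  obtain ⟨Q, q, d, hQ⟩ := distinguished_cocone_triangle (a ≫ c)
  obtain ⟨(e' : Q ⟶ _), (he' : e = q ≫ e')⟩ := Triangle.yoneda_exact₂ _ hQ e (by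
    change (a ≫ c) ≫ e = 0
    rw [Category.assoc, hce, ← Category.assoc, hab, Category.assoc, comp_distTriang_mor_zero₂₃ _ hT,
      comp_zero])
  obtain ⟨P₁', q', e'', hP₁', hq'⟩ := ff_shift h₁ 1 Q
    (fun J N _ => fix_obj₃ hQ (hM J N) (rfix_of_isPerfect hP₁ J N)) e'
  let c' := c ≫ q ≫ q'
  have hac : a ≫ c' = 0 := by
    change a ≫ c ≫ q ≫ q' = 0
    rw [← Category.assoc, ← Category.assoc (a ≫ c)]
    have : (a ≫ c) ≫ q = 0 := comp_distTriang_mor_zero₁₂ _ hQ
    rw [this, zero_comp]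
  have hc' : c' ≫ e'' = b ≫ T.mor₃ := by simp only [c', Category.assoc, hq', ← he', hce]
  obtain ⟨E, u, d', hE⟩ := distinguished_cocone_triangle₁ c'
  obtain ⟨(k : E ⟶ T.obj₂), (hk : u ≫ b = k ≫ T.mor₂), -⟩ :=
    complete_distinguished_triangle_morphism₁ _ T.rotate hE (rot_of_distTriang _ hT) b e'' hc'
  obtain ⟨(a' : M ⟶ E), (ha' : a = a' ≫ u)⟩ := Triangle.coyoneda_exact₂ _ hE a hac
  obtain ⟨ψ, hψ⟩ := Triangle.coyoneda_exact₂ _ hT (φ - a' ≫ k) (by
    rw [Preadditive.sub_comp, Category.assoc, ← hk, ← Category.assoc, ← ha', hab, sub_self])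
  obtain ⟨P, g, l, hP, hgl⟩ := h₁ M hM ψ
  obtain ⟨G, g₀, k₀, hG, h0⟩ := ff_factor_add a' k
    ((Groth.Agent.S0887.result _ ((DCoh.tildeD R).map_distinguished _ hE)).2.2 hP₃ hP₁') rfl
    g (l ≫ T.mor₁) hP (by rw [← Category.assoc, hgl])
  exact ⟨G, g₀, k₀, hG, h0.trans (by rw [← hψ]; abel)⟩

/-- Every object receives maps from compact objects only through perfect ones. -/
theorem ff_all (Y : (DerivedCategory (ModuleCat.{u} R))) : FF Y := by
  let P : ObjectProperty (DerivedCategory (ModuleCat.{u} R)) := fun Y => FF Y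
  haveI : P.IsClosedUnderIsomorphisms := ⟨fun e h => ff_of_iso e h⟩
  refine derived_induction P (fun T hT h₁ h₂ => ff_ext _ (rot_of_distTriang _ hT) h₂ (ff_shift h₁ 1))
    (fun J K hK M hM φ => ?_) (fun n M _ φ => ?_) Y
  · classical
    haveI : HasColimitsOfShape (Discrete J) (DerivedCategory (ModuleCat.{u} R)) := TriCat.hasColimitsOfShape_derivedCategory
    haveI := preservesColimit_Q K
    let N := fun j => DerivedCategory.Q.obj (K j)
    let e : DerivedCategory.Q.obj (∐ K) ≅ ∐ N := PreservesCoproduct.iso DerivedCategory.Q K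
    obtain ⟨F, hF⟩ := (hM J N).at_zero (φ ≫ e.hom)
    have key : ∀ F : Finset J, ∃ (G : (DerivedCategory (ModuleCat.{u} R))) (g : M ⟶ G) (k : G ⟶ ∐ N),
        DCoh.IsPerfect ((DCoh.tildeD R).obj G) ∧ g ≫ k = (φ ≫ e.hom) ≫ partProj N F := by
      intro F
      induction F using Finset.induction with
      | empty =>
        refine ⟨_, 0, 0, (perfect_tildeD_iff _).2 (rperf_single_free 0 0), ?_⟩
        rw [show partProj N ∅ = 0 from Sigma.hom_ext _ _ fun j => by simp [partProj], comp_zero, comp_zero]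
      | @insert j F hj ih =>
        obtain ⟨G, g, k, hG, hgk⟩ := ih
        let p : ∐ N ⟶ N j := Sigma.desc fun i => if h : i = j then eqToHom (congrArg N h) else 0
        have hp : partProj N (insert j F) = partProj N F + p ≫ Sigma.ι N j := Sigma.hom_ext _ _ fun i => by
          rw [Preadditive.comp_add, ← Category.assoc (Sigma.ι N i) p]
          by_cases hij : i = j
          · subst hij
            simp [p, partProj, hj]
          · simp [p, partProj, hij]
        obtain ⟨G', g', k', hG', hgk'⟩ := hK j M hM ((φ ≫ e.hom) ≫ p)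
        obtain ⟨G₀, g₀, k₀, hG₀, h₀⟩ := ff_factor_add g k hG hgk g' (k' ≫ Sigma.ι N j) hG'
          (ψ := (φ ≫ e.hom) ≫ p ≫ Sigma.ι N j) (by rw [← Category.assoc, hgk', Category.assoc])
        exact ⟨G₀, g₀, k₀, hG₀, h₀.trans (by rw [hp, Preadditive.comp_add])⟩
    obtain ⟨G, g, k, hG, hgk⟩ := key F
    refine ⟨G, g, k ≫ e.inv, hG, ?_⟩
    rw [← Category.assoc, hgk, hF, Category.assoc, e.hom_inv_id, Category.comp_id]
  · refine ⟨_, φ, 𝟙 _, (perfect_tildeD_iff _).2 ?_, Category.comp_id φ⟩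
    obtain ⟨⟨a, b, hz⟩, hf⟩ := isBddFree_single (ModuleCat.of R R) ⟨inferInstance, inferInstance⟩ n
    exact ⟨_, a, b, hz, fun i => ⟨(hf i).1, haveI := (hf i).2; inferInstance⟩, ⟨Iso.refl _⟩⟩

/-- Compact objects are perfect. -/
theorem isPerfect_of_rfix {M : (DerivedCategory (ModuleCat.{u} R))} (h : RFix M) : DCoh.IsPerfect ((DCoh.tildeD R).obj M) := by
  obtain ⟨G, g, k, hG, hgk⟩ := ff_all M M h (𝟙 M)
  exact isPerfect_of_retract ((DCoh.tildeD R).map g) ((DCoh.tildeD R).map k)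
    (by rw [← Functor.map_comp, hgk, CategoryTheory.Functor.map_id]) hG

end Groth.Agent.Perf52
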