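import Groth.Agent.Perf52.Tower
import Groth.Agent.Perf52.GeneratorGlobal
import Groth.Agent.Perf52.CompactRing

/-!
# Perfect objects lie in the thick closure of a perfect generator
-/

set_option linter.style.haveILetI false
set_option backward.isDefEq.respectTransparency false

universe u

open CategoryTheory CategoryTheory.Limits AlgebraicGeometry Pretriangulated

attribute [local instance] HasDerivedCategory.standard

namespace Groth.Agent.Perf52

open Groth.Agent.KFlatLib

variable {X : Scheme.{u}}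

/-- A class closed under retracts and extensions. -/
structure ThickClass (P : DCoh.D X → Prop) : Prop where
  retract : ∀ {K L : DCoh.D X} (i : K ⟶ L) (r : L ⟶ K), i ≫ r = 𝟙 K → P L → P K
  ext : ∀ T : Triangle (DCoh.D X), T ∈ distTriang _ → P T.obj₁ → P T.obj₃ → P T.obj₂

lemma ThickClass.of_iso {P : DCoh.D X → Prop} (h : ThickClass P) {K L : DCoh.D X} (e : K ≅ L)
    (hL : P L) : P K := h.retract e.hom e.inv e.hom_inv_id hL

/-- The morphisms that factor through a member of a class. -/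
def FactorsThrough (P : DCoh.D X → Prop) {A B : DCoh.D X} (a : A ⟶ B) : Prop :=
  ∃ (e : DCoh.D X) (u : A ⟶ e) (v : e ⟶ B), P e ∧ u ≫ v = a

/-- One cone of a shift of the generator is absorbed. -/
lemma factorsThrough_of_comp {P : DCoh.D X → Prop} (hP : ThickClass P) {A A' B Z : DCoh.D X}
    {p : A' ⟶ A} {q : A ⟶ Z} {d : Z ⟶ A'⟦(1 : ℤ)⟧} (hT : Triangle.mk p q d ∈ distTriang _)
    (hZ : P Z) {a : A ⟶ B} (h : FactorsThrough P (p ≫ a)) : FactorsThrough P a := by
  obtain ⟨e, u, v, he, huv⟩ := h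
  let l : A' ⟶ e ⊞ A := biprod.lift (-u) p
  obtain ⟨W, π, w, hW⟩ := distinguished_cocone_triangle l
  have hl : l ≫ biprod.desc v a = 0 := by
    rw [biprod.lift_desc, Preadditive.neg_comp, huv, neg_add_cancel]
  obtain ⟨b, hb⟩ := Triangle.yoneda_exact₂ _ hW (biprod.desc v a) hl
  change biprod.desc v a = π ≫ b at hb
  refine ⟨W, biprod.inr ≫ π, b, ?_, by rw [Category.assoc, ← hb, biprod.inr_desc]⟩
  have h23 := rot_of_distTriang _ (binaryBiproductTriangle_distinguished e A)
  let O := Triangulated.someOctahedron (show l ≫ biprod.snd = p from biprod.lift_snd _ _) hW h23 hT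
  have h := inv_rot_of_distTriang _ O.mem
  refine hP.ext _ h (hP.of_iso ?_ he) hZ
  exact (shiftFunctorCompIsoId (DCoh.D X) (1 : ℤ) (-1) (by omega)).app e

/-- Finitely many maps to shifts of the generator are absorbed. -/
lemma factorsThrough_of_finset {P : DCoh.D X → Prop} (hP : ThickClass P) {G : DCoh.D X}
    (hG : DCoh.IsPerfect G) (hPG : ∀ k : ℤ, P (G⟦k⟧)) {B : DCoh.D X} {J : Type u} (k : J → ℤ)
    (F : Finset J) :
    ∀ {c : DCoh.D X}, DCoh.IsPerfect c → ∀ (a : c ⟶ B) (g : ∀ j, c ⟶ G⟦k j⟧),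
    (∀ (c' : DCoh.D X), DCoh.IsPerfect c' → ∀ p : c' ⟶ c, (∀ j ∈ F, p ≫ g j = 0) →
      FactorsThrough P (p ≫ a)) → FactorsThrough P a := by
  classical
  induction F using Finset.induction with
  | empty =>
    intro c hc a g h
    have h' := h c hc (𝟙 c) (by simp)
    rwa [Category.id_comp] at h'
  | @insert i F _ ih =>
    intro c hc a g h
    obtain ⟨c', p, q, hT⟩ := distinguished_cocone_triangle₁ (g i)
    have hc' : DCoh.IsPerfect c' := (Groth.Agent.S0887.result _ hT).2.2 hc (isPerfect_shift hG _)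
    refine factorsThrough_of_comp hP hT (hPG _) (ih hc' (p ≫ a) (fun j => p ≫ g j)
      fun c'' hc'' p' hp' => ?_)
    rw [← Category.assoc]
    refine h c'' hc'' (p' ≫ p) fun j hj => ?_
    rcases Finset.mem_insert.1 hj with rfl | hj
    · have hz : p ≫ g j = 0 := comp_distTriang_mor_zero₁₂ _ hT
      rw [Category.assoc, hz, comp_zero]
    · simpa using hp' j hj

variable [CompactSpace X] [QuasiSeparatedSpace X]

/-- A thick class containing the shifts of a perfect generator contains all perfect objects. -/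
theorem thick_of_generator {P : DCoh.D X → Prop} (hP : ThickClass P) {G : DCoh.D X}
    (hG : DCoh.IsPerfect G) (hPG : ∀ k : ℤ, P (G⟦k⟧))
    (hgen : ∀ C : DCoh.D X, DCoh.IsQCohD C → (∀ (n : ℤ) (φ : G⟦n⟧ ⟶ C), φ = 0) → IsZero C)
    {c : DCoh.D X} (hc : DCoh.IsPerfect c) : P c := by
  classical
  let Q := {P : DCoh.D X // DCoh.IsQCohD P}
  choose nxt f hnq hkill J k hJ s d hT using fun P : Q => exists_kill_all G hG P.2
  let seq : ℕ → Q := fun n => Nat.rec ⟨c, isQCohD_of_isPerfect hc⟩ (fun _ P => ⟨nxt P, hnq P⟩) n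
  let P' : ℕ → DCoh.D X := fun n => (seq n).1
  let fs : ∀ n, P' n ⟶ P' (n + 1) := fun n => f (seq n)
  haveI := hasCountableCoproducts_D (X := X)
  obtain ⟨C, i, hL⟩ := TriCat.exists_isHocolim P' fs
  have hC : IsZero C := by
    obtain ⟨cc, hcc⟩ := id hL
    refine hgen C (isQCohD_obj₃ hcc (isQCohD_sigma_nat P' fun n => (seq n).2)
      (isQCohD_sigma_nat P' fun n => (seq n).2)) fun n φ => ?_
    have hpn := isPerfect_shift hG n
    obtain ⟨ψ, hψ⟩ := TriCat.IsHocolim.exists_lift_of_injective hL (C := G⟦n⟧) (fun y hy => by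
      let e := (shiftFunctorCompIsoId (DCoh.D X) (-1 : ℤ) 1 (by simp)).app (G⟦n⟧)
      obtain ⟨y0, hy0⟩ := (shiftFunctor (DCoh.D X) (1 : ℤ)).map_surjective (e.hom ≫ y)
      have h0 : y0 ≫ (𝟙 (∐ P') - DerLim.shiftMap P' fs) = 0 := by
        apply (shiftFunctor (DCoh.D X) (1 : ℤ)).map_injective
        rw [Functor.map_comp, hy0, Category.assoc, hy, comp_zero, Functor.map_zero]
      have h1 := TriCat.eq_zero_of_finFactor_comp_one_sub_shiftMap P' fs
        (finFactor_nat (isPerfect_shift hpn (-1)) P' (fun m => (seq m).2) y0) h0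
      rw [← cancel_epi e.hom, ← hy0, h1, Functor.map_zero, comp_zero]) φ
    obtain ⟨S, a, hS⟩ := finFactor_nat hpn P' (fun m => (seq m).2) ψ
    rw [hψ, hS, Preadditive.sum_comp]
    refine Finset.sum_eq_zero fun j _ => ?_
    rw [Category.assoc, Sigma.ι_desc, ← TriCat.IsHocolim.comp_i hL j, ← Category.assoc,
      hkill (seq j) n (a j)]
    exact zero_comp
  let b : ∀ n, c ⟶ P' n := fun n => Nat.rec (motive := fun n => c ⟶ P' n) (𝟙 c) (fun m g => g ≫ fs m) n
  obtain ⟨N, hN⟩ : ∃ N, b N = 0 := by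
    obtain ⟨cc, hcc⟩ := id hL
    obtain ⟨y, hy⟩ := Triangle.coyoneda_exact₂ _ hcc (Sigma.ι P' 0) (hC.eq_of_tgt _ _)
    change c ⟶ ∐ P' at y
    change Sigma.ι P' 0 = y ≫ (𝟙 (∐ P') - DerLim.shiftMap P' fs) at hy
    have hb : ∀ n, b n = y ≫ TriCat.coprodProj P' n := by
      intro n
      induction n with
      | zero =>
        rw [← TriCat.one_sub_shiftMap_proj_zero P' fs, ← Category.assoc, ← hy, TriCat.ι_coprodProj_self]
        rfl
      | succ m ih =>
        have h1 : Sigma.ι P' 0 ≫ TriCat.coprodProj P' (m + 1) =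
            (y ≫ (𝟙 (∐ P') - DerLim.shiftMap P' fs)) ≫ TriCat.coprodProj P' (m + 1) :=
          congrArg (· ≫ TriCat.coprodProj P' (m + 1)) hy
        rw [TriCat.ι_coprodProj_ne (Nat.succ_ne_zero m).symm, Category.assoc,
          TriCat.one_sub_shiftMap_proj_succ, Preadditive.comp_sub] at h1
        rw [sub_eq_zero.1 h1.symm, ← Category.assoc, ← ih]
    obtain ⟨S, a, hS⟩ := finFactor_nat hc P' (fun m => (seq m).2) y
    refine ⟨S.sup id + 1, ?_⟩
    refine (hb (S.sup id + 1)).trans ?_
    rw [hS, Preadditive.sum_comp]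
    refine Finset.sum_eq_zero fun j hj => ?_
    have hle : j ≤ S.sup id := Finset.le_sup (f := id) hj
    rw [Category.assoc, TriCat.ι_coprodProj_ne (by omega), comp_zero]
  obtain ⟨Z, hZ⟩ : ∃ Z : DCoh.D X, P Z :=
    ⟨G⟦(0 : ℤ)⟧, hPG 0⟩
  have key : ∀ n (c' : DCoh.D X), DCoh.IsPerfect c' → ∀ a : c' ⟶ c, a ≫ b n = 0 →
      FactorsThrough P a := by
    intro n
    induction n with
    | zero =>
      intro c' _ a ha
      exact ⟨Z, 0, 0, hZ, by rw [comp_zero]; exact (Category.comp_id a).symm.trans ha |>.symm⟩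
    | succ n ih =>
      intro c' hc' a ha
      haveI := hJ (seq n)
      have hz : (a ≫ b n) ≫ fs n = 0 := (Category.assoc _ _ _).trans ha
      obtain ⟨g, hg⟩ := Triangle.coyoneda_exact₂ _ (hT (seq n)) (a ≫ b n) hz
      change c' ⟶ ∐ fun j => G⟦k (seq n) j⟧ at g
      obtain ⟨F, hF⟩ := fixAt_qcoh hc' (fun j => G⟦k (seq n) j⟧)
        (fun j => isQCohD_shift (isQCohD_of_isPerfect hG) _) g
      refine factorsThrough_of_finset hP hG hPG (k (seq n)) F hc' a
        (fun j => g ≫ TriCat.coprodProj (fun j => G⟦k (seq n) j⟧) j) fun c'' hc'' p hp => ?_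
      refine ih c'' hc'' (p ≫ a) ?_
      have hpg : p ≫ g = 0 := by
        have hsum : partProj (fun j => G⟦k (seq n) j⟧) F = ∑ j ∈ F,
            TriCat.coprodProj (fun j => G⟦k (seq n) j⟧) j ≫ Sigma.ι (fun j => G⟦k (seq n) j⟧) j := by
          refine Sigma.hom_ext _ _ fun i => ?_
          rw [Preadditive.comp_sum]
          by_cases hi : i ∈ F
          · rw [ι_partProj_mem _ hi, Finset.sum_eq_single i (fun b _ hb => by
              rw [TriCat.ι_coprodProj_ne_assoc (Ne.symm hb), zero_comp]) (fun h => absurd hi h),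
              TriCat.ι_coprodProj_self_assoc]
          · rw [ι_partProj_not_mem _ hi]
            exact (Finset.sum_eq_zero fun b hb => by
              rw [TriCat.ι_coprodProj_ne_assoc (fun h : i = b => hi (h ▸ hb)), zero_comp]).symm
        rw [← hF, hsum, Preadditive.comp_sum, Preadditive.comp_sum]
        refine Finset.sum_eq_zero fun j hj => ?_
        rw [← Category.assoc g, ← Category.assoc, hp j hj, zero_comp]
      have hg' : a ≫ b n = g ≫ s (seq n) := hg
      rw [Category.assoc, hg', ← Category.assoc, hpg, zero_comp]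
  obtain ⟨e, u, v, he, huv⟩ := key N c hc (𝟙 c) (by rw [hN, comp_zero])
  exact hP.retract u v huv he

end Groth.Agent.Perf52
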