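import Groth.Agent.Perf52.PerfPushBC
import Groth.Agent.Perf52.ThickGen
import Groth.Agent.Perf52.GeneratorGlobal
import Groth.Agent.Perf52.CompactRing
import Groth.Agent.CohH33.Approx
import Groth.Agent.KFlatLib.Scheme.AffineConservative
import Groth.Agent.KFlatLib.Scheme.RpushRestrict
import Groth.Agent.S2075
import Groth.Agent.DualityLC.FlatProperPerfect

/-!
# Direct images of perfect complexes along flat proper morphisms of finite presentation
-/

set_option linter.style.haveILetI false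

universe u

open CategoryTheory CategoryTheory.Limits CategoryTheory.Pretriangulated AlgebraicGeometry

attribute [local instance] HasDerivedCategory.standard

namespace Groth.Agent.Perf52

open Groth.Agent Groth.Agent.KFlatLib

/-- The class of complexes with perfect direct image is thick. -/
lemma thickClass_perfectPush {X S : Scheme.{u}} (f : X ⟶ S) [DCoh.HasRpush f] :
    ThickClass fun E : DCoh.D X => DCoh.IsPerfect ((DCoh.Rpush f).obj E) where
  retract {K L} i r h hL := isPerfect_of_retract ((DCoh.Rpush f).map i) ((DCoh.Rpush f).map r)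
    (by rw [← Functor.map_comp, h, CategoryTheory.Functor.map_id]) hL
  ext T hT h₁ h₃ := by
    obtain ⟨c, hc⟩ := exists_rpush_triangle f T hT
    exact (Groth.Agent.S0887.result _ hc).2.1 h₁ h₃

/-- An inverse image of a perfect generator along an affine morphism generates. -/
theorem exists_generator_lpull {X X₀ : Scheme.{u}} [CompactSpace X₀] [QuasiSeparatedSpace X₀]
    (g : X ⟶ X₀) [IsAffineHom g] [DCoh.HasLpull g] :
    ∃ G₀ : DCoh.D X₀, DCoh.IsPerfect G₀ ∧ ∀ C : DCoh.D X, DCoh.IsQCohD C →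
      (∀ (n : ℤ) (φ : ((DCoh.Lpull g).obj G₀)⟦n⟧ ⟶ C), φ = 0) → IsZero C := by
  obtain ⟨G₀, hG₀, -, hgen⟩ := genOn_qcqs (X := X₀) (T := Set.univ) isClosed_univ (by simp)
  refine ⟨G₀, hG₀, fun C hC h => ?_⟩
  haveI : DCoh.HasRpush g := hasRpush_scheme g
  refine isZero_of_rpush_isZero g hC (hgen _ (isQCohD_rpush g hC)
    (fun x hx => absurd (Set.mem_univ x) hx) fun n ψ => ?_)
  obtain ⟨adj⟩ := nonempty_lpull_rpush_adj g
  obtain ⟨e⟩ := nonempty_rpush_shift g C n
  have hφ : ∀ φ : (DCoh.Lpull g).obj G₀ ⟶ C⟦n⟧, φ = 0 := fun φ => by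
    have hz : φ⟦(-n)⟧' ≫ (shiftFunctorCompIsoId (DCoh.D X) n (-n) (by omega)).hom.app C = 0 :=
      h (-n) _
    have h0 : φ⟦(-n)⟧' = 0 :=
      (cancel_mono ((shiftFunctorCompIsoId (DCoh.D X) n (-n) (by omega)).hom.app C)).1
        (hz.trans zero_comp.symm)
    refine (shiftFunctor (DCoh.D X) (-n)).map_injective ?_
    rw [h0]
    exact (Functor.map_zero _ _ _).symm
  have hψ : ψ ≫ e.inv = 0 := by
    apply (adj.homEquiv _ _).symm.injective
    rw [hφ ((adj.homEquiv _ _).symm (ψ ≫ e.inv)), hφ ((adj.homEquiv _ _).symm 0)]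
  exact (cancel_mono e.inv).1 (hψ.trans zero_comp.symm)

/-- The direct image of a perfect complex along a flat proper morphism of finite presentation to an
affine scheme is perfect. -/
theorem isPerfect_rpush_flatProper_affine {A : CommRingCat.{u}} {X : Scheme.{u}} (f : X ⟶ Spec A)
    [IsProper f] [Flat f] [LocallyOfFinitePresentation f] [DCoh.HasRpush f] {E : DCoh.D X}
    (hE : DCoh.IsPerfect E) : DCoh.IsPerfect ((DCoh.Rpush f).obj E) := by
  let D := ConsPropLib.NoethApprox.diagram A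
  let c := ConsPropLib.NoethApprox.cone A
  let hc : IsLimit c := ConsPropLib.NoethApprox.isLimit A
  haveI : IsAffine c.pt := isAffine_Spec A
  haveI hD : ∀ i, IsAffine (D.obj i) := fun i => isAffine_Spec _
  haveI : @IsProper X c.pt f := ‹IsProper f›
  haveI : @LocallyOfFinitePresentation X c.pt f := ‹LocallyOfFinitePresentation f›
  haveI : @Flat X c.pt f := ‹Flat f›
  obtain ⟨j, X₁, f₁, g₁, h₁p, h₁f, hsq₁⟩ := CohH33.exists_stage_proper D c hc (f : X ⟶ c.pt)
  haveI := h₁p; haveI := h₁f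
  haveI : ∀ (a b : _) (m : a ⟶ b), IsAffineHom (D.map m) := fun a b m => isAffineHom_of_isAffine _
  haveI : CompactSpace X₁ := QuasiCompact.compactSpace_of_compactSpace f₁
  haveI : QuasiSeparatedSpace X₁ := quasiSeparatedSpace_of_quasiSeparated f₁
  obtain ⟨i, φ, X₂, Y₂, f₂, g₂, pY, pX, hY, hX, h₂⟩ := Groth.Agent.S2075.result D c hc j f₁
    (𝟙 (D.obj j)) f (𝟙 c.pt) (c.π.app j) g₁ IsPullback.of_id_snd hsq₁
  haveI := h₂
  haveI : IsIso g₂ := hY.isIso_snd_of_isIso
  have h5 : IsPullback pX (f₂ ≫ g₂) f₁ (D.map φ) := by simpa using hX.paste_vert hY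
  haveI : IsProper (f₂ ≫ g₂) := MorphismProperty.of_isPullback h5 (inferInstance : IsProper f₁)
  haveI : LocallyOfFiniteType (f₂ ≫ g₂) := inferInstance
  let g : X ⟶ X₂ := h5.lift g₁ (f ≫ c.π.app i) (by rw [← c.w φ] at hsq₁; exact hsq₁.w.trans (Category.assoc (f : X ⟶ c.pt) _ _).symm)
  have hsq : IsPullback g f (f₂ ≫ g₂) (c.π.app i) := by
    refine IsPullback.of_right ?_ (h5.lift_snd _ _ _) h5
    rw [h5.lift_fst]
    exact Eq.mpr (congrArg (IsPullback g₁ (f : X ⟶ c.pt) f₁) (c.w φ)) hsq₁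
  haveI : CompactSpace X₂ := QuasiCompact.compactSpace_of_compactSpace (f₂ ≫ g₂)
  haveI : QuasiSeparatedSpace X₂ := quasiSeparatedSpace_of_quasiSeparated (f₂ ≫ g₂)
  haveI : IsNoetherian (D.obj i) := ConsPropLib.NoethApprox.isNoetherian_obj A i
  let φA : (ConsPropLib.NoethApprox.rings A).obj i.unop ⟶ A :=
    (ConsPropLib.NoethApprox.cocone A).ι.app i.unop
  have hsqA : IsPullback g f (f₂ ≫ g₂) (Spec.map φA) := hsq
  haveI : IsAffineHom g :=
    MorphismProperty.of_isPullback hsqA.flip (inferInstance : IsAffineHom (Spec.map φA))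
  haveI : CompactSpace X := QuasiCompact.compactSpace_of_compactSpace f
  haveI : QuasiSeparatedSpace X := quasiSeparatedSpace_of_quasiSeparated f
  haveI := hasLpull g
  haveI : DCoh.HasRpush (f₂ ≫ g₂) := hasRpush_scheme _
  obtain ⟨G₀, hG₀, hgen⟩ := exists_generator_lpull g
  refine thick_of_generator (thickClass_perfectPush f) (isPerfect_lpull g hG₀) (fun k => ?_) hgen hE
  obtain ⟨ek⟩ := nonempty_rpush_shift f ((DCoh.Lpull g).obj G₀) k
  refine isPerfect_of_iso ek.symm (isPerfect_shift ?_ k)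
  haveI : IsLocallyNoetherian X₂ := LocallyOfFiniteType.isLocallyNoetherian (f₂ ≫ g₂)
  haveI : AlgebraicGeometry.IsNoetherian X₂ := {}
  haveI : Flat g₂ := inferInstance
  let f₀ : X₂ ⟶ Spec ((ConsPropLib.NoethApprox.rings A).obj i.unop) := f₂ ≫ g₂
  haveI : Flat f₀ := (MorphismProperty.comp_mem _ _ _ h₂ ‹Flat g₂› : Flat (f₂ ≫ g₂))
  haveI : IsProper f₀ := ‹IsProper (f₂ ≫ g₂)›
  haveI : AlgebraicGeometry.IsNoetherian (Spec ((ConsPropLib.NoethApprox.rings A).obj i.unop)) :=
    ConsPropLib.NoethApprox.isNoetherian_obj A i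
  haveI : DCoh.HasRpush f₀ := hasRpush_scheme _
  refine isPerfect_rpush_lpull φA (f := f₀) hsqA hG₀ ?_
  -- the Noetherian case
  exact DualityLC.isPerfect_rpush_of_flat_proper f₀ G₀ hG₀

/-- The direct image of a perfect complex along a flat proper morphism of finite presentation is
perfect. -/
theorem isPerfect_rpush_flatProper {X S : Scheme.{u}} (f : X ⟶ S) [IsProper f] [Flat f]
    [LocallyOfFinitePresentation f] [DCoh.HasRpush f] {E : DCoh.D X} (hE : DCoh.IsPerfect E) :
    DCoh.IsPerfect ((DCoh.Rpush f).obj E) := by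
  refine (isPerfect_iff _).2 (LocSP.of_local fun y => ?_)
  obtain ⟨V, hV, hy, -⟩ := exists_isAffineOpen_mem_and_subset (x := y) (U := ⊤) trivial
  refine ⟨_, hV.fromSpec, inferInstance, by rw [hV.range_fromSpec]; exact hy,
    (isPerfect_iff _).1 ?_⟩
  let e := hV.isoSpec
  haveI := hasRpush_scheme (f ∣_ V)
  haveI := hasRpush_scheme e.hom
  haveI := hasRpush_scheme (f ∣_ V ≫ e.hom)
  haveI : IsProper (f ∣_ V) := IsZariskiLocalAtTarget.restrict ‹_› V
  haveI : Flat (f ∣_ V) :=
    MorphismProperty.of_isPullback (isPullback_morphismRestrict f V).flip ‹Flat f›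
  haveI : LocallyOfFinitePresentation (f ∣_ V) :=
    MorphismProperty.of_isPullback (isPullback_morphismRestrict f V).flip ‹LocallyOfFinitePresentation f›
  obtain ⟨rR⟩ := nonempty_rpush_restrictD_iso f V
  obtain ⟨c⟩ := nonempty_rpush_comp (f ∣_ V) e.hom
  obtain ⟨r⟩ := DualityLC.nonempty_rpush_iso_rho e
    ((DCoh.Rpush (f ∣_ V)).obj ((rho (f ⁻¹ᵁ V).ι).obj E))
  exact isPerfect_of_iso ((c.app _).symm ≪≫ r ≪≫ (rho e.inv).mapIso (rR.app E).symm ≪≫
      rhoComp e.inv V.ι hV.fromSpec hV.isoSpec_inv_ι _)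
    (isPerfect_rpush_flatProper_affine (f ∣_ V ≫ e.hom) (isPerfect_rho (f ⁻¹ᵁ V).ι hE))

end Groth.Agent.Perf52
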