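import Groth.Agent.KFlatLib.Scheme.ProjModule
import Groth.Agent.QCoh.TensorSections
import Groth.Agent.QCoh.PullbackBC
import Groth.Agent.QCoh.ClosedPush
import Groth.Agent.QCoh.Qcqs
import Groth.Agent.KFlatLib.Scheme.PullTensorCx

/-!
# The projection formula for modules along affine morphisms
-/

set_option linter.style.haveILetI false
set_option backward.isDefEq.respectTransparency false

universe u

open CategoryTheory CategoryTheory.Limits AlgebraicGeometry TopologicalSpace Opposite
open scoped TensorProduct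

namespace Groth.Agent.Perf52

open Groth.Agent Groth.Agent.KFlatLib

variable {X Y : Scheme.{u}} (f : X ⟶ Y)

lemma counit_pb {M : X.Modules} {V : Y.Opens}
    (s : Γ((Scheme.Modules.pushforward f).obj M, V)) :
    ((Scheme.Modules.pullbackPushforwardAdjunction f).counit.app M).app (f ⁻¹ᵁ V) (pb f s) =
      (show Γ(M, f ⁻¹ᵁ V) from s) :=
  congrArg (fun φ : (Scheme.Modules.pushforward f).obj M ⟶ (Scheme.Modules.pushforward f).obj M =>
    φ.app V s) ((Scheme.Modules.pullbackPushforwardAdjunction f).right_triangle_components M)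

lemma pullSec_self (N : Y.Modules) {V : Y.Opens} (t : Γ(N, V)) :
    QCoh.pullSec f N (le_refl (f ⁻¹ᵁ V)) t = (show Γ((Scheme.Modules.pullback f).obj N, f ⁻¹ᵁ V) from pb f t) :=
  congr($(((Scheme.Modules.pullback f).obj N).presheaf.map_id (op (f ⁻¹ᵁ V))) _)

/-- The projection map on simple tensors. -/
lemma projMod_tmS (M : X.Modules) (N : Y.Modules) {V : Y.Opens}
    (s : Γ((Scheme.Modules.pushforward f).obj M, V)) (t : Γ(N, V)) :
    (show Γ((DCoh.tensorBi.obj M).obj ((Scheme.Modules.pullback f).obj N), f ⁻¹ᵁ V) from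
      (projMod f M N).app V (QCoh.tmS _ N s t)) =
      QCoh.tmS M ((Scheme.Modules.pullback f).obj N) (show Γ(M, f ⁻¹ᵁ V) from s)
        (QCoh.pullSec f N (le_refl (f ⁻¹ᵁ V)) t) := by
  rw [pullSec_self]
  have h : (projMod f M N).app V (QCoh.tmS _ N s t) =
      (projPre f M N).app (f ⁻¹ᵁ V) (pb f (tmSh ((Scheme.Modules.pushforward f).obj M) N s t)) := by
    unfold projMod
    rw [Adjunction.homEquiv_unit]
    rfl
  refine h.trans ?_
  have h2 : (projPre f M N).app (f ⁻¹ᵁ V) (pb f (tmSh ((Scheme.Modules.pushforward f).obj M) N s t)) =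
      (DCoh.toP.map ((DCoh.tensorBi.map
        ((Scheme.Modules.pullbackPushforwardAdjunction f).counit.app M)).app _)).app (op (f ⁻¹ᵁ V))
        ((DCoh.toP.map (pullTensorHom f ((Scheme.Modules.pushforward f).obj M) N)).app (op (f ⁻¹ᵁ V))
          (pb f (tmSh ((Scheme.Modules.pushforward f).obj M) N s t))) := rfl
  rw [h2, pullTensorHom_pb]
  refine (tmSh_naturality_left _ _ _ _).trans ?_
  exact congrArg (fun z => tmSh M _ z _) (counit_pb f s)

/-- The projection formula for modules along an affine morphism. -/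
theorem isIso_projMod_affine [IsAffineHom f] (M : X.Modules) (N : Y.Modules) (hM : Coh.IsQCoh M)
    (hN : Coh.IsQCoh N) : IsIso (projMod f M N) := by
  refine QCoh.isIso_of_isBasis _ Y.isBasis_affineOpens fun V hV => ?_
  let W := f ⁻¹ᵁ V
  have hW : IsAffineOpen W := hV.preimage f
  let fM := (Scheme.Modules.pushforward f).obj M
  let fN := (Scheme.Modules.pullback f).obj N
  letI : Algebra Γ(Y, V) Γ(X, W) := (f.appLE V W le_rfl).hom.toAlgebra
  letI : Module Γ(Y, V) Γ(fN, W) := Module.compHom _ (algebraMap Γ(Y, V) Γ(X, W))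
  haveI : IsScalarTower Γ(Y, V) Γ(X, W) Γ(fN, W) := IsScalarTower.of_algebraMap_smul fun _ _ => rfl
  letI : Module Γ(Y, V) Γ(M, W) := Module.compHom _ (algebraMap Γ(Y, V) Γ(X, W))
  haveI : IsScalarTower Γ(Y, V) Γ(X, W) Γ(M, W) := IsScalarTower.of_algebraMap_smul fun _ _ => rfl
  have happ : ∀ r : Γ(Y, V), algebraMap Γ(Y, V) Γ(X, W) r = f.app V r := fun r => by
    rw [Scheme.Hom.app_eq_appLE]
    rfl
  let l : Γ(N, V) →ₗ[Γ(Y, V)] Γ(fN, W) :=
    { toFun := QCoh.pullSec f N le_rfl
      map_add' := QCoh.pullSec_add f N le_rfl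
      map_smul' := QCoh.pullSec_smul f N le_rfl }
  have hl := QCoh.isBaseChange_pullback hV f hW hN le_rfl (fun _ => rfl) l (fun _ => rfl)
  let eM : Γ(fM, V) ≃ₗ[Γ(Y, V)] Γ(M, W) :=
    { toFun := fun s => s
      invFun := fun s => s
      map_add' := fun _ _ => rfl
      map_smul' := fun r s => by
        change (show Γ(X, W) from f.app V r) • (show Γ(M, W) from s) = algebraMap Γ(Y, V) Γ(X, W) r • _
        rw [happ] }
  let e : Γ(fM, V) ⊗[Γ(Y, V)] Γ(N, V) ≃ₗ[Γ(Y, V)] Γ(M, W) ⊗[Γ(X, W)] Γ(fN, W) :=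
    (TensorProduct.congr eM (LinearEquiv.refl _ _)).trans
      (((TensorProduct.AlgebraTensorModule.cancelBaseChange Γ(Y, V) Γ(X, W) Γ(X, W) Γ(M, W)
          Γ(N, V)).symm.trans
        (TensorProduct.congr (LinearEquiv.refl _ _) hl.equiv)).restrictScalars Γ(Y, V))
  have key : ∀ x, (projMod f M N).app V (QCoh.tmLin fM N V x) = QCoh.tmLin M fN W (e x) := fun x => by
    induction x using TensorProduct.induction_on with
    | zero => simp only [map_zero]
    | tmul s t =>
      refine (projMod_tmS f M N s t).trans ?_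
      change QCoh.tmS M fN (show Γ(M, W) from s) (l t) =
        QCoh.tmS M fN (show Γ(M, W) from s) (hl.equiv (1 ⊗ₜ[Γ(Y, V)] t))
      rw [hl.equiv_tmul, one_smul]
    | add x y hx hy => simp only [map_add, hx, hy]
  have hb : Function.Bijective (fun x => (projMod f M N).app V (QCoh.tmLin fM N V x)) := by
    have := (QCoh.bijective_tmLin hM (QCoh.isQCoh_pullback f hN) hW).comp e.bijective
    refine (congrArg Function.Bijective (funext key)).mpr this
  exact ((QCoh.bijective_tmLin (QCoh.isQCoh_pushforward f hM) hN hV).of_comp_iff _).1 hb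

end Groth.Agent.Perf52
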