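import Groth.Agent.KFlatLib.Scheme.ProjModule
import Groth.Agent.KFlatLib.Scheme.Exact
import Groth.Prelude.Def_FlatMod2
import Mathlib.RingTheory.Flat.CategoryTheory
import Mathlib.Algebra.Category.ModuleCat.Monoidal.Symmetric

/-!
# `W ↦ f^* W ⊗ G` is exact for `G` flat over the base
-/

set_option linter.style.haveILetI false
set_option backward.isDefEq.respectTransparency false

universe u

open CategoryTheory CategoryTheory.Limits AlgebraicGeometry MonoidalCategory
open scoped TensorProduct

namespace Groth.Agent.Perf52

open Groth.Agent Groth.Agent.KFlatLib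

section Ring

variable {A B : Type u} [CommRing A] [CommRing B] (φ : A →+* B)

/-- `(B ⊗_A W) ⊗_B N = W ⊗_A N`, naturally in `W`. -/
noncomputable def extTensorResIso (N : ModuleCat.{u} B) :
    ModuleCat.extendScalars.{u, u, u} φ ⋙ tensorRight N ⋙ ModuleCat.restrictScalars.{u} φ ≅
      tensorLeft ((ModuleCat.restrictScalars.{u} φ).obj N) :=
  letI : Algebra A B := φ.toAlgebra
  letI : Module A N := Module.compHom N φ
  haveI : IsScalarTower A B N := IsScalarTower.of_algebraMap_smul fun _ _ => rfl
  NatIso.ofComponents
    (fun W =>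
      let e0 : (B ⊗[A] W) ⊗[B] N ≃ₗ[B] N ⊗[A] W :=
        (TensorProduct.comm B (B ⊗[A] W) N).trans
          (TensorProduct.AlgebraTensorModule.cancelBaseChange A B B N W)
      LinearEquiv.toModuleIso
      (m₁ := ((ModuleCat.extendScalars.{u, u, u} φ ⋙ tensorRight N ⋙
        ModuleCat.restrictScalars.{u} φ).obj W).isModule)
      (m₂ := ((tensorLeft ((ModuleCat.restrictScalars.{u} φ).obj N)).obj W).isModule)
      { toFun := fun x => e0 x
        invFun := fun y => e0.symm y
        map_add' := fun x y => e0.map_add x y
        map_smul' := fun a x => (e0.map_smul (φ a) x).trans (algebraMap_smul B a (e0 x))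
        left_inv := fun x => e0.symm_apply_apply x
        right_inv := fun y => e0.apply_symm_apply y })
    (fun {W W'} g => by
      ext x
      change TensorProduct.AlgebraTensorModule.cancelBaseChange A B B N W'
          (TensorProduct.comm B (B ⊗[A] W') N
            ((((ModuleCat.extendScalars.{u, u, u} φ).map g).hom.rTensor N) x)) =
        g.hom.lTensor N (TensorProduct.AlgebraTensorModule.cancelBaseChange A B B N W
          (TensorProduct.comm B (B ⊗[A] W) N x))
      change (B ⊗[A] W) ⊗[B] N at x
      induction x using TensorProduct.induction_on with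
      | zero => simp
      | tmul y n =>
        induction y using TensorProduct.induction_on with
        | zero => simp
        | tmul b w => rfl
        | add y z hy hz => simp only [TensorProduct.add_tmul, map_add, hy, hz]
      | add y z hy hz => simp only [map_add, hy, hz])

/-- Exactness of `W ↦ (B ⊗_A W) ⊗_B N` for `N` flat over `A`. -/
lemma exact_extTensor (N : ModuleCat.{u} B)
    [Module.Flat A ((ModuleCat.restrictScalars.{u} φ).obj N)]
    {S : ShortComplex (ModuleCat.{u} A)} (hS : S.Exact) :
    (S.map (ModuleCat.extendScalars.{u, u, u} φ ⋙ tensorRight N)).Exact := by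
  rw [← ShortComplex.exact_map_iff_of_faithful _ (ModuleCat.restrictScalars.{u} φ)]
  refine (ShortComplex.exact_iff_of_iso (S.mapNatIso (extTensorResIso φ N))).2 ?_
  exact (Module.Flat.iff_lTensor_preserves_shortComplex_exact _).1 ‹_› S hS

end Ring

variable {X Y : Scheme.{u}} (f : X ⟶ Y) (G : X.Modules)

/-- `W ↦ f^* W ⊗ G`. -/
noncomputable abbrev pullTensorF : Y.Modules ⥤ X.Modules :=
  Scheme.Modules.pullback f ⋙ DCoh.tensorBi.flip.obj G

/-- `W ↦ f^* W ⊗ G` is exact for `G` flat over the base. -/
theorem exact_pullTensorF (hG : FlatMod.IsFlatOver f G) {S : ShortComplex Y.Modules} (hS : S.Exact) :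
    (S.map (pullTensorF f G)).Exact := by
  rw [exact_iff_stalk]
  intro x
  let e : pullTensorF f G ⋙ DerSch.stalkFunctor X x ≅
      DerSch.stalkFunctor Y (f.base x) ⋙ ModuleCat.extendScalars.{u, u, u} (f.stalkMap x).hom ⋙
        tensorRight ((DerSch.stalkFunctor X x).obj G) :=
    Functor.isoWhiskerLeft (Scheme.Modules.pullback f) (stalkTensorRightIso G x) ≪≫
      Functor.isoWhiskerRight (stalkPullbackIso f x) (tensorRight ((DerSch.stalkFunctor X x).obj G))
  refine (ShortComplex.exact_iff_of_iso (S.mapNatIso e)).2 ?_
  have h : Module.Flat (Y.presheaf.stalk (f.base x))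
      ((ModuleCat.restrictScalars.{u} (f.stalkMap x).hom).obj ((DerSch.stalkFunctor X x).obj G)) :=
    hG x
  exact exact_extTensor (f.stalkMap x).hom ((DerSch.stalkFunctor X x).obj G)
    (S := S.map (DerSch.stalkFunctor Y (f.base x))) ((exact_iff_stalk S).1 hS (f.base x))

end Groth.Agent.Perf52
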