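import Groth.Agent.Perf52.BaseChangeNatG
import Groth.Agent.Perf52.PullTensorExact
import Groth.Agent.KFlatLib.Scheme.TensorAssoc
import Groth.Agent.KFlatLib.Scheme.Amplitude
import Groth.Agent.KFlatLib.SingleIso

/-!
# Projection formula for `(E ⊗ G)` with `G` flat over the base
-/

set_option linter.style.haveILetI false

universe u

open CategoryTheory CategoryTheory.Limits AlgebraicGeometry

attribute [local instance] HasDerivedCategory.standard

namespace Groth.Agent.Perf52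

open Groth.Agent Groth.Agent.KFlatLib

variable {X Y : Scheme.{u}} (f : X ⟶ Y) (G : X.Modules) (R : CochainComplex X.Modules ℤ)

/-- `G[0] ⊗ R`. -/
noncomputable abbrev twistCx : CochainComplex X.Modules ℤ :=
  (DCoh.tensorCx.obj ((sgl X).obj G)).obj R

/-- `(G ⊗ R) ⊗ K ≅ R ⊗ (K ⊗ G)`, naturally in `K`. -/
noncomputable def twistAssoc :
    DCoh.tensorCx.obj (twistCx G R) ≅ tensorModCx G ⋙ DCoh.tensorCx.obj R :=
  (symmIso (tensorBiFlipIso X) (twistCx G R)).symm ≪≫
    (tensorCxFlipCompIso ((sgl X).obj G) R).symm ≪≫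
    Functor.isoWhiskerRight (singleIso DCoh.tensorBi G) (DCoh.tensorCx.flip.obj R) ≪≫
    Functor.isoWhiskerLeft (tensorModCx G) (symmIso (tensorBiFlipIso X) R)

/-- `G ⊗ R` as a termwise tensor product. -/
noncomputable def twistModIso : twistCx G R ≅ (tensorModCx G).obj R :=
  ((symmIso (tensorBiFlipIso X) ((sgl X).obj G)).app R).symm ≪≫ (singleIso DCoh.tensorBi G).app R

/-- `(f^* K) ⊗ G` as one functor. -/
noncomputable def pullModIso :
    pullCx f ⋙ tensorModCx G ≅ (pullTensorF f G).mapHomologicalComplex (ComplexShape.up ℤ) :=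
  NatIso.ofComponents
    (fun K => HomologicalComplex.Hom.isoOfComponents (fun _ => Iso.refl _)
      (fun _ _ _ => (Category.id_comp _).trans (Category.comp_id _).symm))
    (fun a => by
      ext n : 1
      exact (Category.comp_id _).trans (Category.id_comp _).symm)

variable {f G R}

/-- `(G ⊗ R) ⊗ f^*(-)` preserves quasi-isomorphisms. -/
lemma quasiIso_twist_pull (hG : FlatMod.IsFlatOver f G) (hR : DCoh.IsKFlat R)
    {A B : CochainComplex Y.Modules ℤ} (ψ : A ⟶ B) (hψ : QuasiIso ψ) :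
    QuasiIso ((DCoh.tensorCx.obj (twistCx G R)).map ((pullCx f).map ψ)) := by
  haveI := hψ
  let T := pullTensorF f G
  haveI : T.Additive := inferInstanceAs (Scheme.Modules.pullback f ⋙ DCoh.tensorBi.flip.obj G).Additive
  haveI : T.PreservesHomology :=
    ((Functor.exact_tfae T).out 1 2).1 fun S hS => exact_pullTensorF f G hG hS
  haveI : QuasiIso ((T.mapHomologicalComplex (ComplexShape.up ℤ)).map ψ) := inferInstance
  have h : QuasiIso ((DCoh.tensorCx.obj R).map ((T.mapHomologicalComplex (ComplexShape.up ℤ)).map ψ)) :=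
    KFlat.quasiIso_map' (tensorBiFlipIso X) hR _
  let e : pullCx f ⋙ DCoh.tensorCx.obj (twistCx G R) ≅
      T.mapHomologicalComplex (ComplexShape.up ℤ) ⋙ DCoh.tensorCx.obj R :=
    Functor.isoWhiskerLeft (pullCx f) (twistAssoc G R) ≪≫ (Functor.associator _ _ _).symm ≪≫
      Functor.isoWhiskerRight (pullModIso f G) (DCoh.tensorCx.obj R)
  exact (quasiIso_iff_of_arrow_mk_iso _ _
    (((Functor.mapArrowFunctor _ _).mapIso e).app (Arrow.mk ψ))).2 h


/-- The projection formula for `E ⊗ G`, on complexes of tildes. -/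
theorem nonempty_projTildeG {A : CommRingCat.{u}} (f : X ⟶ Spec A) [QuasiCompact f]
    [QuasiSeparated f] [DCoh.HasRpush f] (hG : FlatMod.IsFlatOver f G) (hR : DCoh.IsKFlat R)
    (hRq : DCoh.IsQCohD (DerivedCategory.Q.obj (twistCx G R)))
    {T : CochainComplex (Spec A).Modules ℤ} (hT : DCoh.IsKFlat T)
    (e : Nonempty (DerivedCategory.Q.obj T ≅
      (DCoh.Rpush f).obj (DerivedCategory.Q.obj (twistCx G R)))) :
    Nonempty (tilde.functor A ⋙ sgl (Spec A) ⋙ DCoh.tensorCx.obj T ⋙ DerivedCategory.Q ≅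
      tilde.functor A ⋙ pullTensorF f G ⋙ sgl X ⋙ DCoh.tensorCx.obj R ⋙
        DerivedCategory.Q ⋙ DCoh.Rpush f) := by
  obtain ⟨e⟩ := e
  obtain ⟨R₀, -, ⟨e₀⟩, h⟩ := nonempty_projNat' f (tilde.functor A)
    (fun M => QCoh.isQCoh_spec_iff.2 ⟨M, ⟨Iso.refl _⟩⟩) (fun ψ hψ => quasiIso_twist_pull hG hR ψ hψ) hRq
  obtain ⟨e₁⟩ := h _ hT ⟨e ≪≫ e₀.symm⟩
  exact ⟨e₁ ≪≫ Functor.isoWhiskerLeft (tilde.functor A ⋙ sgl (Spec A) ⋙ pullCx f)
      (Functor.isoWhiskerRight (twistAssoc G R) (DerivedCategory.Q ⋙ DCoh.Rpush f)) ≪≫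
    Functor.isoWhiskerLeft (tilde.functor A ⋙ sgl (Spec A)) (Functor.isoWhiskerRight (pullModIso f G)
      (DCoh.tensorCx.obj R ⋙ DerivedCategory.Q ⋙ DCoh.Rpush f)) ≪≫
    Functor.isoWhiskerLeft (tilde.functor A) (Functor.isoWhiskerRight
      (HomologicalComplex.singleMapHomologicalComplex (pullTensorF f G) (ComplexShape.up ℤ) 0)
      (DCoh.tensorCx.obj R ⋙ DerivedCategory.Q ⋙ DCoh.Rpush f))⟩

end Groth.Agent.Perf52
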