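import Groth.Agent.Perf52.PerfPushBC
import Groth.Agent.Perf52.PullTensorNat
import Groth.Agent.Perf52.ProjModAffine
import Groth.Agent.MorLib.FlatBC

/-!
# Base change of perfect direct images of `E ⊗^L G`, with `G` flat over an affine base
-/

set_option linter.style.haveILetI false

universe u

open CategoryTheory CategoryTheory.Limits AlgebraicGeometry MonoidalCategory

attribute [local instance] HasDerivedCategory.standard

namespace Groth.Agent.Perf52

open Groth.Agent Groth.Agent.KFlatLib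

variable {X S : Scheme.{u}}

/-- `G ⊗ R` computes `R ⊗^L G` for K-flat `R`. -/
noncomputable def twistQIso (G : X.Modules) [DCoh.HasLTensorMod G] {R : CochainComplex X.Modules ℤ}
    (hR : DCoh.IsKFlat R) :
    DerivedCategory.Q.obj (twistCx G R) ≅ (DCoh.LTensorMod G).obj (DerivedCategory.Q.obj R) :=
  haveI := isIso_ltensorModComparison G hR
  DerivedCategory.Q.mapIso (twistModIso G R) ≪≫ (asIso ((ltensorModComparison G).app R)).symm

/-- `- ⊗^L G` preserves quasi-coherence of cohomology. -/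
lemma isQCohD_twist {G : X.Modules} (hG : Coh.IsQCoh G) {R : CochainComplex X.Modules ℤ}
    (hR : DCoh.IsKFlat R) (hRq : DCoh.IsQCohD (DerivedCategory.Q.obj R)) :
    DCoh.IsQCohD (DerivedCategory.Q.obj (twistCx G R)) := by
  haveI := hasLTensorCx ((sgl X).obj G)
  refine isQCohD_of_iso ?_ (isQCohD_ltensor ((sgl X).obj G) (isQCohD_sgl hG) hRq)
  exact ltensorCxIso ((sgl X).obj G) hR ≪≫
    DerivedCategory.Q.mapIso ((symmIso (tensorBiFlipIso X) ((sgl X).obj G)).app R)

/-- Tor amplitude of `E ⊗ G` over the base. -/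
theorem exists_torAmplitude_tensorMod [CompactSpace X] (f : X ⟶ S) {E : DCoh.D X}
    (hE : DCoh.IsPerfect E) {G : X.Modules} (hflat : FlatMod.IsFlatOver f G) :
    ∃ a b : ℤ, a ≤ b ∧ DerSch.HasTorAmplitude f a b ((tensorModCx G).obj (repK E)) := by
  choose U j hj hx P hP e using (isPerfect_iff E).1 hE
  choose a b hab using fun x => (hP x).1
  obtain ⟨s, hs⟩ := isCompact_univ.elim_finite_subcover (fun x => Set.range (j x).base)
    (fun x => haveI := hj x; (j x).opensRange.2) fun x _ => Set.mem_iUnion.2 ⟨x, hx x⟩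
  obtain ⟨A, hA⟩ := (s.image a).bddBelow
  obtain ⟨B, hB⟩ := (s.image b).bddAbove
  refine ⟨A, max A B, le_max_left _ _, fun y => ?_⟩
  obtain ⟨x, hxs, z, rfl⟩ := Set.mem_iUnion₂.1 (hs (Set.mem_univ y))
  haveI := hj x
  have h1 := hA (Finset.mem_coe.2 (Finset.mem_image_of_mem a hxs))
  have h2 := hB (Finset.mem_coe.2 (Finset.mem_image_of_mem b hxs))
  obtain ⟨e'⟩ := e x
  let R := repK E
  let G' := (Scheme.Modules.pullback (j x)).obj G
  haveI := hasLTensorMod G'
  haveI := isIso_ltensorModComparison G' (isKFlat_of_isStrictlyPerfect (hP x))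
  haveI := isIso_ltensorModComparison G' (isKFlat_restrict (j x) (isKFlat_repK E))
  let c₁ : (pullCx (j x)).obj ((tensorModCx G).obj R) ≅ (tensorModCx G').obj ((pullCx (j x)).obj R) :=
    (NatIso.mapHomologicalComplex (pullTensorRightIso (j x) G) (ComplexShape.up ℤ)).app R
  let eC : (rCx (j x)).obj ((tensorModCx G).obj R) ≅ (tensorModCx G').obj ((rCx (j x)).obj R) :=
    (restrictPullCxIso (j x)).app _ ≪≫ c₁ ≪≫
      (tensorModCx G').mapIso ((restrictPullCxIso (j x)).app R).symm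
  let eR : DerivedCategory.Q.obj (P x) ≅ DerivedCategory.Q.obj ((rCx (j x)).obj R) :=
    e' ≪≫ (rho (j x)).mapIso (repKIso E).symm ≪≫ (rhoQ (j x)).app R
  let eL : DerivedCategory.Q.obj ((tensorModCx G').obj (P x)) ≅
      DerivedCategory.Q.obj ((rCx (j x)).obj ((tensorModCx G).obj R)) :=
    (asIso ((ltensorModComparison G').app (P x))).symm ≪≫ (DCoh.LTensorMod G').mapIso eR ≪≫
      asIso ((ltensorModComparison G').app _) ≪≫ DerivedCategory.Q.mapIso eC.symm
  have hG' : FlatMod.IsFlatOver (j x ≫ f) G' := fun w => by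
    exact @flat_of_iso _ _ _ _ ((DerSch.stalkOver (j x ≫ f) w).mapIso
      ((Scheme.Modules.restrictFunctorIsoPullback (j x)).app G).symm ≪≫
        stalkOverRestrictIso f (j x) w G) (hflat ((j x).base w))
  exact (torAmpAt_restrict_iff f (j x) A (max A B) _ z).1 (torAmplitude_of_relFlat (j x ≫ f)
      ⟨(tensorModCx G').obj (P x),
        fun i hi => (DCoh.tensorRightMod G').map_isZero (hab x i (by omega)),
        fun i => isFlatOver_tensor (j x ≫ f) ((hP x).2 i) hG', ⟨eL⟩⟩ z)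

/-- Bounded flat complexes of modules computing `Rf_*` of `E ⊗^L G`. -/
theorem exists_flatRep_rpush_twist {B : CommRingCat.{u}} (f : X ⟶ Spec B) [QuasiCompact f]
    [QuasiSeparated f] [DCoh.HasRpush f] {E : DCoh.D X} (hE : DCoh.IsPerfect E) {G : X.Modules}
    (hG : Coh.IsQCoh G) (hflat : FlatMod.IsFlatOver f G) :
    ∃ (F : CochainComplex (ModuleCat.{u} B) ℤ) (a b : ℤ), (∀ i, i < a ∨ b < i → IsZero (F.X i)) ∧
      (∀ i, Module.Flat B (F.X i)) ∧
      Nonempty (DerivedCategory.Q.obj ((tildeCx B).obj F) ≅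
        (DCoh.Rpush f).obj (DerivedCategory.Q.obj (twistCx G (repK E)))) := by
  haveI : CompactSpace X := QuasiCompact.compactSpace_of_compactSpace f
  obtain ⟨a, b, hab, hT⟩ := exists_torAmplitude_tensorMod f hE hflat
  have hq' := isQCohD_twist hG (isKFlat_repK E)
    (isQCohD_of_iso (repKIso E).symm (isQCohD_of_isPerfect hE))
  obtain ⟨b', hab', hb'⟩ := exists_torAmplitude_rpush f (DerivedCategory.Q.obj (twistCx G (repK E)))
    hq' ((tensorModCx G).obj (repK E)) (DerivedCategory.Q.mapIso (twistModIso G (repK E)).symm)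
    a b hab hT
  have hq := isQCohD_rpush f hq'
  obtain ⟨M, ⟨eM⟩⟩ := exists_tildeD_iso hq
  obtain ⟨L, hL, hL', ⟨eL⟩⟩ := flatAmplitude_of_torAmplitude (fun G => hasLTensorMod G) hab' hb'
  have hM : DCoh.HasFlatAmplitudeIn a b' ((DCoh.tildeD B).obj M) :=
    ⟨L, hL, hL', ⟨eL ≪≫ eM.symm⟩⟩
  obtain ⟨F, hz, hf, ⟨eF⟩⟩ := (flatAmplitude_tildeD_iff M a b').1 hM
  exact ⟨F, a, b', hz, hf, ⟨(toDTildeIso F).symm ≪≫ (DCoh.tildeD B).mapIso eF ≪≫ eM⟩⟩

/-- `f^* g_* M ⊗ G ⟶ g'_*(f'^* M ⊗ g'^* G)`. -/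
noncomputable def bcTensorNat {X' S' : Scheme.{u}} {f : X ⟶ S} {g : S' ⟶ S} {f' : X' ⟶ S'}
    {g' : X' ⟶ X} (h : IsPullback g' f' f g) (G : X.Modules) :
    Scheme.Modules.pushforward g ⋙ pullTensorF f G ⟶
      pullTensorF f' ((Scheme.Modules.pullback g').obj G) ⋙ Scheme.Modules.pushforward g' :=
  Functor.whiskerRight (bcNat h) (DCoh.tensorBi.flip.obj G) ≫
    Functor.whiskerLeft (Scheme.Modules.pullback f')
      ({ app := fun M => projMod g' M G
         naturality := fun _ _ φ => projMod_naturality_left g' φ G } :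
        Scheme.Modules.pushforward g' ⋙ DCoh.tensorBi.flip.obj G ⟶
          DCoh.tensorBi.flip.obj ((Scheme.Modules.pullback g').obj G) ⋙
            Scheme.Modules.pushforward g')

lemma isIso_bcTensorNat {X' S' : Scheme.{u}} {f : X ⟶ S} {g : S' ⟶ S} {f' : X' ⟶ S'}
    {g' : X' ⟶ X} (h : IsPullback g' f' f g) [IsAffineHom g] {G : X.Modules} (hG : Coh.IsQCoh G)
    (M : S'.Modules) (hM : Coh.IsQCoh M) : IsIso ((bcTensorNat h G).app M) := by
  haveI : IsAffineHom g' := MorphismProperty.of_isPullback h.flip ‹IsAffineHom g›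
  haveI := isIso_bcNat h M hM
  have h1 : IsIso ((DCoh.tensorBi.flip.obj G).map ((bcNat h).app M)) := inferInstance
  have h2 := isIso_projMod_affine g' ((Scheme.Modules.pullback f').obj M) G
    (QCoh.isQCoh_pullback f' hM) hG
  exact IsIso.comp_isIso' h1 h2

/-- Base change of a perfect direct image of `E ⊗^L G`. -/
theorem isPerfect_rpush_twist_lpull {A B : CommRingCat.{u}} (φ : A ⟶ B) {X X' : Scheme.{u}}
    {f : X ⟶ Spec A} {f' : X' ⟶ Spec B} {g' : X' ⟶ X} (h : IsPullback g' f' f (Spec.map φ))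
    [QuasiCompact f] [QuasiSeparated f] [DCoh.HasRpush f] [DCoh.HasRpush f']
    [DCoh.HasLpull g'] {G : X.Modules} (hG : Coh.IsQCoh G) (hflat : FlatMod.IsFlatOver f G)
    [DCoh.HasLTensorMod G] [DCoh.HasLTensorMod ((Scheme.Modules.pullback g').obj G)]
    {E : DCoh.D X} (hE : DCoh.IsPerfect E)
    (hP : DCoh.IsPerfect ((DCoh.Rpush f).obj ((DCoh.LTensorMod G).obj E))) :
    DCoh.IsPerfect ((DCoh.Rpush f').obj
      ((DCoh.LTensorMod ((Scheme.Modules.pullback g').obj G)).obj ((DCoh.Lpull g').obj E))) := by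
  haveI : QuasiCompact f' := MorphismProperty.of_isPullback h (inferInstance : QuasiCompact f)
  haveI : QuasiSeparated f' := MorphismProperty.of_isPullback h (inferInstance : QuasiSeparated f)
  haveI : IsAffineHom g' := MorphismProperty.of_isPullback h.flip (inferInstance : IsAffineHom (Spec.map φ))
  haveI : DCoh.HasRpush g' := hasRpush_scheme _
  haveI : DCoh.HasRpush (Spec.map φ) := hasRpush_scheme _
  let G' := (Scheme.Modules.pullback g').obj G
  have hG' : Coh.IsQCoh G' := QCoh.isQCoh_pullback g' hG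
  have hflat' : FlatMod.IsFlatOver f' G' := fun x =>
    MorLib.FlatBC.isFlatOverAt_baseChange f f' g' (Spec.map φ) h G x (hflat _)
  let R := repK E
  have hR : DCoh.IsKFlat R := isKFlat_repK E
  have hRq : DCoh.IsQCohD (DerivedCategory.Q.obj R) :=
    isQCohD_of_iso (repKIso E).symm (isQCohD_of_isPerfect hE)
  let R' := (pullCx g').obj R
  let eR' : DerivedCategory.Q.obj R' ≅ (DCoh.Lpull g').obj E :=
    (lpullIso g' hR).symm ≪≫ (DCoh.Lpull g').mapIso (repKIso E)
  have hR'p : DCoh.IsPerfect (DerivedCategory.Q.obj R') :=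
    isPerfect_of_iso eR'.symm (isPerfect_lpull g' hE)
  -- the model downstairs
  obtain ⟨F₀, a₀, b₀, -, -, ⟨eF₀⟩⟩ := exists_flatRep_rpush_twist f hE hG hflat
  let eE : DerivedCategory.Q.obj (twistCx G R) ≅ (DCoh.LTensorMod G).obj E :=
    twistQIso G hR ≪≫ (DCoh.LTensorMod G).mapIso (repKIso E)
  obtain ⟨P, a₁, b₁, hPz, hPp, ⟨eP⟩⟩ := (perfect_tildeD_iff (DerivedCategory.Q.obj F₀)).1
    (isPerfect_of_iso ((toDTildeIso F₀) ≪≫ eF₀ ≪≫ (DCoh.Rpush f).mapIso eE).symm hP)
  let eA' : DerivedCategory.Q.obj ((tildeCx A).obj P) ≅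
      (DCoh.Rpush f).obj (DerivedCategory.Q.obj (twistCx G R)) :=
    (toDTildeIso P).symm ≪≫ (DCoh.tildeD A).mapIso eP ≪≫ toDTildeIso F₀ ≪≫ eF₀
  have hPf : ∀ i, Module.Flat A (P.X i) := fun i =>
    haveI := (hPp i).2
    inferInstance
  have eA := nonempty_projTildeG f hflat hR (isQCohD_twist hG hR hRq)
    (isKFlat_tildeCx_of_flat hPz hPf) ⟨eA'⟩
  -- the model upstairs
  have hR' : DCoh.IsKFlat R' := isKFlat_pullback g' hR
  have hR'q := isQCohD_of_isPerfect hR'p
  let E' := DerivedCategory.Q.obj R'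
  obtain ⟨F, a, b, hz, hf, ⟨eF⟩⟩ := exists_flatRep_rpush_twist f' (E := E') hR'p hG' hflat'
  let eK : DerivedCategory.Q.obj (twistCx G' (repK E')) ≅ DerivedCategory.Q.obj (twistCx G' R') :=
    twistQIso G' (isKFlat_repK E') ≪≫ (DCoh.LTensorMod G').mapIso (repKIso E') ≪≫
      (twistQIso G' hR').symm
  have eB := nonempty_projTildeG f' hflat' hR' (isQCohD_twist hG' hR' hR'q)
    (isKFlat_tildeCx_of_flat hz hf) ⟨eF ≪≫ (DCoh.Rpush f').mapIso eK⟩
  -- the base change of modules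
  have hqB : ∀ M : ModuleCat.{u} B, Coh.IsQCoh ((tilde.functor B).obj M) := fun M =>
    QCoh.isQCoh_spec_iff.2 ⟨M, ⟨Iso.refl _⟩⟩
  let β := Functor.whiskerLeft (tilde.functor B) (bcTensorNat h G)
  haveI : ∀ M, IsIso (β.app M) := fun M => isIso_bcTensorNat h hG _ (hqB M)
  haveI := NatIso.isIso_of_isIso_app β
  refine isPerfect_of_iso (eF ≪≫ (DCoh.Rpush f').mapIso (eK ≪≫ twistQIso G' hR' ≪≫
      (DCoh.LTensorMod G').mapIso eR')) (isPerfect_of_natIso φ
    (fun n => ?_) a b hz hf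
    (nonempty_bc_homology φ hR hRq h
      (fun M => KFlatLib.isQCoh_tensor (QCoh.isQCoh_pullback _ (hqB M)) hG')
      ⟨(asIso β).symm⟩ eA eB))
  haveI := (hPp n).1
  haveI := (hPp n).2
  exact Module.finitePresentation_of_projective A (P.X n)

end Groth.Agent.Perf52
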