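import Groth.Agent.Perf52.CohD
import Groth.Agent.QCohAb92.Abelian

/-!
# Extending bounded complexes of coherent modules from an open
-/

set_option linter.style.haveILetI false
set_option backward.isDefEq.respectTransparency false
set_option backward.isDefEq.respectTransparency.types false

universe u

open CategoryTheory CategoryTheory.Limits AlgebraicGeometry TopologicalSpace

attribute [local instance] HasDerivedCategory.standard

namespace Groth.Agent.Perf52

open Groth.Agent Groth.Agent.KFlatLib

variable {X : Scheme.{u}} [IsNoetherian X]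

/-- A bounded complex of coherent modules on an open extends. -/
theorem exists_extend_cohCx (U : X.Opens) (F : CochainComplex (U : Scheme.{u}).Modules ℤ) (a b : ℤ)
    [F.IsStrictlyGE a] [F.IsStrictlyLE b] (hF : ∀ n, Coh.IsCoh (F.X n)) :
    ∃ G : CochainComplex X.Modules ℤ, G.IsStrictlyGE a ∧ G.IsStrictlyLE (b + 1) ∧ (∀ n, Coh.IsCoh (G.X n)) ∧
      Nonempty ((DCoh.restrictCx U).obj G ≅ F) := by
  classical
  let adj := Scheme.Modules.restrictAdjunction U.ι
  let J : CochainComplex X.Modules ℤ :=
    ((Scheme.Modules.pushforward U.ι).mapHomologicalComplex (ComplexShape.up ℤ)).obj F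
  let c : ∀ n, (J.X n).restrict U.ι ≅ F.X n := fun n => asIso (adj.counit.app (F.X n))
  have hJ : ∀ n, Coh.IsQCoh (J.X n) := fun n => QCoh.isQCoh_pushforward U.ι (hF n).1
  choose E e eR hE₀ hEq hEf he using fun n => QCoh.exists_extension' (hJ n)
    (QCoh.extStep_noetherian (fun x => ⟨⊤, trivial, (Topology.IsInducing.subtypeVal).noetherianSpace⟩) U)
    (c n).inv (hF n).1 (hF n).2
  let f : ∀ n : ℤ, E n ⊞ E (n - 1) ⟶ J.X n := fun n => biprod.desc (e n) (e (n - 1) ≫ J.d (n - 1) n)
  have hed : ∀ k m : ℤ, (ComplexShape.up ℤ).Rel k m →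
      e k ≫ J.d k m ≫ cokernel.π (f m) = 0 := fun k m h => by
    obtain rfl : k = m - 1 := by simp only [ComplexShape.up_Rel] at h; omega
    have : (biprod.inr : E (m - 1) ⟶ E m ⊞ E (m - 1)) ≫ f m = e (m - 1) ≫ J.d (m - 1) m :=
      biprod.inr_desc _ _
    rw [← Category.assoc, ← this, Category.assoc, cokernel.condition, comp_zero]
  have hlift : ∀ i j, (Abelian.image.ι (f i) ≫ J.d i j) ≫ cokernel.π (f j) = 0 := fun i j => by
    by_cases h : (ComplexShape.up ℤ).Rel i j
    · rw [← cancel_epi (Abelian.factorThruImage (f i)), comp_zero]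
      simp only [← Category.assoc, Abelian.image.fac]
      refine biprod.hom_ext' _ _ ?_ ?_
      · simp only [f, ← Category.assoc, biprod.inl_desc, comp_zero]
        rw [Category.assoc]; exact hed i j h
      · simp only [f, ← Category.assoc, biprod.inr_desc, comp_zero]
        simp
    · rw [J.shape i j h, comp_zero, zero_comp]
  let dG : ∀ i j, Abelian.image (f i) ⟶ Abelian.image (f j) := fun i j => kernel.lift _ _ (hlift i j)
  have hdG : ∀ i j, dG i j ≫ Abelian.image.ι (f j) = Abelian.image.ι (f i) ≫ J.d i j := fun i j =>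
    kernel.lift_ι _ _ _
  let G : CochainComplex X.Modules ℤ :=
    { X := fun n => Abelian.image (f n)
      d := dG
      shape := fun i j h => by
        rw [← cancel_mono (Abelian.image.ι (f j)), hdG, J.shape i j h, comp_zero, zero_comp]
      d_comp_d' := fun i j k _ _ => by
        rw [← cancel_mono (Abelian.image.ι (f k)), Category.assoc, hdG, ← Category.assoc, hdG,
          Category.assoc, J.d_comp_d, comp_zero, zero_comp] }
  let ι : G ⟶ J :=
    { f := fun n => Abelian.image.ι (f n)
      comm' := fun i j _ => (hdG i j).symm }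
  have hz : ∀ n, IsZero (F.X n) → IsZero (G.X n) := fun n h =>
    IsZero.of_mono (Abelian.image.ι (f n)) ((Scheme.Modules.pushforward U.ι).map_isZero h)
  refine ⟨G, (CochainComplex.isStrictlyGE_iff _ a).2 fun n hn => hz n (F.isZero_of_isStrictlyGE a n hn),
    (CochainComplex.isStrictlyLE_iff _ (b + 1)).2 fun n hn => hz n (F.isZero_of_isStrictlyLE b n (by omega)),
    fun n => ?_, ⟨?_⟩⟩
  · haveI : Epi (Abelian.factorThruImage (f n)) := inferInstance
    have hB : Coh.IsCoh (E n ⊞ E (n - 1)) := KZ.isCoh_X₂
      (ShortComplex.Splitting.ofHasBinaryBiproduct (E n) (E (n - 1))).shortExact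
      ⟨hEq n, hEf n⟩ ⟨hEq (n - 1), hEf (n - 1)⟩
    exact QCoh.isCoh_of_epi (Abelian.factorThruImage (f n)) hB
      (QCoh.isQCoh_kernel (hJ n) (QCoh.isQCoh_cokernel hB.1 (hJ n) _) _)
  · haveI : ∀ n, IsIso ((Scheme.Modules.restrictFunctor U.ι).map (ι.f n)) := fun n => by
      haveI : Mono (ι.f n) := inferInstanceAs (Mono (Abelian.image.ι (f n)))
      haveI : Mono ((Scheme.Modules.restrictFunctor U.ι).map (ι.f n)) := QCoh.mono_restrict_map U.ι _
      haveI : IsIso ((Scheme.Modules.restrictFunctor U.ι).map (e n)) := by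
        rw [← he n]; infer_instance
      have h : e n = (biprod.inl ≫ Abelian.factorThruImage (f n)) ≫ ι.f n := by
        rw [Category.assoc]
        show e n = biprod.inl ≫ Abelian.factorThruImage (f n) ≫ Abelian.image.ι (f n)
        rw [Abelian.image.fac]
        exact (biprod.inl_desc _ _).symm
      haveI : Epi ((Scheme.Modules.restrictFunctor U.ι).map (biprod.inl ≫ Abelian.factorThruImage (f n)) ≫
          (Scheme.Modules.restrictFunctor U.ι).map (ι.f n)) := by
        rw [← Functor.map_comp, ← h]; infer_instance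
      haveI := epi_of_epi ((Scheme.Modules.restrictFunctor U.ι).map (biprod.inl ≫ Abelian.factorThruImage (f n)))
        ((Scheme.Modules.restrictFunctor U.ι).map (ι.f n))
      exact isIso_of_mono_of_epi _
    exact HomologicalComplex.Hom.isoOfComponents
      (fun n => asIso ((Scheme.Modules.restrictFunctor U.ι).map (ι.f n)) ≪≫ c n) fun i j _ => by
        simp only [Iso.trans_hom, asIso_hom, c, Category.assoc]
        have h1 : (Scheme.Modules.restrictFunctor U.ι).map (J.d i j) ≫ adj.counit.app (F.X j) =
            adj.counit.app (F.X i) ≫ F.d i j := adj.counit.naturality (F.d i j)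
        have h2 : (Scheme.Modules.restrictFunctor U.ι).map (ι.f i) ≫ (Scheme.Modules.restrictFunctor U.ι).map (J.d i j) =
            ((DCoh.restrictCx U).obj G).d i j ≫ (Scheme.Modules.restrictFunctor U.ι).map (ι.f j) := by
          change _ = (Scheme.Modules.restrictFunctor U.ι).map (G.d i j) ≫ _
          rw [← Functor.map_comp, ← Functor.map_comp, ι.comm i j]
        rw [← h1]
        exact (Category.assoc _ _ _).symm.trans ((congrArg (· ≫ adj.counit.app (F.X j)) h2).trans
          (Category.assoc _ _ _))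

/-- A complex of coherent modules has coherent cohomology. -/
theorem isCohD_of_terms (G : CochainComplex X.Modules ℤ) (hG : ∀ n, Coh.IsCoh (G.X n)) :
    DCoh.IsCohD (DCoh.toD X G) := by
  let G' : CochainComplex (QCohAb92.cohP X).FullSubcategory ℤ :=
    { X := fun n => ⟨G.X n, hG n⟩
      d := fun i j => ObjectProperty.homMk (G.d i j)
      shape := fun i j h => ObjectProperty.hom_ext _ (G.shape i j h)
      d_comp_d' := fun i j k _ _ => ObjectProperty.hom_ext _ (G.d_comp_d i j k) }
  exact fun i => QCohAb92.isCoh_of_iso' ((G'.sc i).mapHomologyIso (QCohAb92.cohP X).ι).symm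
      (G'.homology i).property |> QCohAb92.isCoh_of_iso'
        ((DerivedCategory.homologyFunctorFactors X.Modules i).app G).symm

/-- Bounded objects of `D_Coh` extend from an open. -/
theorem exists_extend_cohD (U : X.Opens) (F : DCoh.D (U : Scheme.{u})) (hF : DCoh.IsCohD F) (a b : ℤ)
    [F.IsGE a] [F.IsLE b] :
    ∃ (G : CochainComplex X.Modules ℤ) (a' b' : ℤ), DCoh.IsCohD (DCoh.toD X G) ∧ (DCoh.toD X G).IsGE a' ∧
      (DCoh.toD X G).IsLE b' ∧ Nonempty (DerivedCategory.Q.obj ((DCoh.restrictCx U).obj G) ≅ F) := by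
  haveI : IsLocallyNoetherian (U : Scheme.{u}) := isLocallyNoetherian_of_isOpenImmersion U.ι
  haveI : CompactSpace (U : Scheme.{u}) := isCompact_iff_compactSpace.1 (NoetherianSpace.isCompact _)
  haveI : IsNoetherian (U : Scheme.{u}) := { }
  let V : Scheme.{u} := U
  obtain ⟨M, hM, ⟨e⟩⟩ := (derivedMinus_cohι V).2 F b inferInstance hF
  haveI := hM
  haveI : M.IsGE a := (DerivedCategory.isGE_iff M a).2 fun i hi => by
    have h1 : IsZero ((cohι V).obj ((DerivedCategory.homologyFunctor _ i).obj M)) :=
      ((DerivedCategory.isGE_iff F a).1 inferInstance i hi).of_iso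
        (((mapDCHomologyIso (cohι V) i).app M).symm ≪≫
          (DerivedCategory.homologyFunctor V.Modules i).mapIso e)
    rw [IsZero.iff_id_eq_zero] at h1 ⊢
    exact (cohι V).map_injective (by rw [CategoryTheory.Functor.map_id, h1, Functor.map_zero])
  obtain ⟨C, hCa, hCb, ⟨eC⟩⟩ := M.exists_iso_Q_obj_of_isGE_of_isLE a b
  let C' : CochainComplex V.Modules ℤ := ((cohι V).mapHomologicalComplex (ComplexShape.up ℤ)).obj C
  haveI : C'.IsStrictlyGE a := (CochainComplex.isStrictlyGE_iff _ a).2 fun i hi =>
    (cohι V).map_isZero (C.isZero_of_isStrictlyGE a i hi)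
  haveI : C'.IsStrictlyLE b := (CochainComplex.isStrictlyLE_iff _ b).2 fun i hi =>
    (cohι V).map_isZero (C.isZero_of_isStrictlyLE b i hi)
  obtain ⟨G, hGa, hGb, hG, ⟨eG⟩⟩ := exists_extend_cohCx U C' a b fun n => (C.X n).property
  exact ⟨G, a, b + 1, isCohD_of_terms G hG, inferInstance, inferInstance,
    ⟨DerivedCategory.Q.mapIso eG ≪≫ ((cohι V).mapDerivedCategoryFactors.app C).symm ≪≫
      (cohι V).mapDerivedCategory.mapIso eC.symm ≪≫ e⟩⟩

end Groth.Agent.Perf52
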