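import Groth.Agent.Perf52.PushPerf
import Groth.Agent.Perf52.RelPerf
import Groth.Agent.Perf52.CohExtend
import Groth.Agent.Lib.CurveTensor
import Groth.Agent.KFlatLib.Perfect.Amplitude
import Groth.Agent.KFlatLib.Perfect.Corollaries
import Groth.Agent.KFlatLib.Scheme.PCQCoh
import Groth.Agent.KFlatLib.Scheme.DualPerfect

/-!
# Direct images of `E ⊗^L G` with `E` perfect and `G` flat with proper support
-/

set_option linter.style.haveILetI false

universe u

open CategoryTheory CategoryTheory.Limits AlgebraicGeometry MonoidalCategory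

attribute [local instance] HasDerivedCategory.standard

namespace Groth.Agent.Perf52

open Groth.Agent Groth.Agent.KFlatLib

variable {X S : Scheme.{u}}

lemma flat_of_iso {A : Type u} [CommRing A] {M N : ModuleCat.{u} A} (e : M ≅ N) [Module.Flat A N] :
    Module.Flat A M :=
  Module.Flat.of_linearEquiv e.toLinearEquiv

lemma flat_of_isZero {A : Type u} [CommRing A] {M : ModuleCat.{u} A} (h : IsZero M) :
    Module.Flat A M := by
  haveI := ModuleCat.subsingleton_of_isZero h
  infer_instance

lemma flat_finsupp {A N : Type u} [CommRing A] [AddCommGroup N] [Module A N] [Module.Flat A N]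
    (ι : Type u) : Module.Flat A (ι →₀ N) := by
  classical exact Module.Flat.of_linearEquiv (finsuppLEquivDirectSum A N ι)

/-- Stalks of a termwise tensor product. -/
noncomputable def stalkTensorTermIso (G : X.Modules) (R : CochainComplex X.Modules ℤ) (x : X) (k : ℤ) :
    (DerSch.stalkFunctor X x).obj (((tensorModCx G).obj R).X k) ≅
      (DerSch.stalkFunctor X x).obj (R.X k) ⊗ (DerSch.stalkFunctor X x).obj G :=
  (stalkTensorRightIso G x).app (R.X k)

/-- A finite locally free module tensored with a module flat over the base is flat over the base. -/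
theorem isFlatOver_tensor (f : X ⟶ S) {M G : X.Modules} (hM : FlatMod.IsFinLocFree M)
    (hG : FlatMod.IsFlatOver f G) : FlatMod.IsFlatOver f ((DCoh.tensorRightMod G).obj M) := fun x => by
  let A := S.presheaf.stalk (f.base x)
  let B := X.presheaf.stalk x
  suffices h : Module.Flat A ((ModuleCat.restrictScalars (f.stalkMap x).hom).obj
      ((DerSch.stalkFunctor X x).obj M ⊗ (DerSch.stalkFunctor X x).obj G)) from
    @flat_of_iso A _ _ _
      ((ModuleCat.restrictScalars (f.stalkMap x).hom).mapIso ((stalkTensorRightIso G x).app M)) h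
  let M' := (DerSch.stalkFunctor X x).obj M
  let N' := (DerSch.stalkFunctor X x).obj G
  letI : Algebra A B := (f.stalkMap x).hom.toAlgebra
  haveI : Module.Free B M' := QCoh.free_stalk_of_isFinLocFree hM x
  letI : Module A N' := Module.compHom N' (f.stalkMap x).hom
  haveI : IsScalarTower A B N' := IsScalarTower.of_algebraMap_smul fun _ _ => rfl
  haveI : Module.Flat A N' := hG x
  let T := TensorProduct B M' N'
  letI : Module A T := Module.compHom T (f.stalkMap x).hom
  haveI : IsScalarTower A B T := IsScalarTower.of_algebraMap_smul fun _ _ => rfl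
  classical
  let bM := Module.Free.chooseBasis B M'
  let eT : T ≃ₗ[B] (Module.Free.ChooseBasisIndex B M' →₀ N') :=
    TensorProduct.congr bM.repr (LinearEquiv.refl B N') ≪≫ₗ TensorProduct.finsuppScalarLeft B N' _
  haveI := flat_finsupp (A := A) (N := N') (Module.Free.ChooseBasisIndex B M')
  exact (Module.Flat.of_linearEquiv (eT.restrictScalars A) : Module.Flat A T)

/-- A complex of coherent modules has coherent cohomology. -/
theorem isCohD_of_terms' [IsLocallyNoetherian X] (G : CochainComplex X.Modules ℤ)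
    (hG : ∀ n, Coh.IsCoh (G.X n)) : DCoh.IsCohD (DCoh.toD X G) := fun i => by
  refine KFlatLib.isCoh_of_local fun x => ?_
  obtain ⟨V, hV, hx, -⟩ := exists_isAffineOpen_mem_and_subset (x := x) (U := ⊤) trivial
  haveI : CompactSpace V := isCompact_iff_compactSpace.1 hV.isCompact
  haveI : AlgebraicGeometry.IsNoetherian (V : Scheme.{u}) := {}
  refine ⟨V, V.ι, inferInstance, ⟨⟨x, hx⟩, rfl⟩, ?_⟩
  exact QCohAb92.isCoh_of_iso' ((DerivedCategory.homologyFunctor (V : Scheme.{u}).Modules i).mapIso
      ((rhoQ V.ι).app G).symm ≪≫ restrictHDIso V.ι _ i)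
    (isCohD_of_terms ((rCx V.ι).obj G) (fun n => isCoh_restrict V.ι (hG n)) i)

variable (f : X ⟶ S) {E : DCoh.D X} {G : X.Modules}

/-- Local structure of a perfect complex tensored with a module flat over the base. -/
theorem exists_chart_tensor [IsLocallyNoetherian X] (hE : DCoh.IsPerfect E) (hG : Coh.IsCoh G)
    (hflat : FlatMod.IsFlatOver f G) (x : X) :
    ∃ (U : Scheme.{u}) (j : U ⟶ X) (_ : IsOpenImmersion j), x ∈ Set.range j.base ∧ ∃ a b : ℤ,
      (∀ z : U, DerSch.HasTorAmplitudeAt f a b ((tensorModCx G).obj (repK E)) (j.base z)) ∧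
      ∀ i, Coh.IsCoh ((Scheme.Modules.restrictFunctor j).obj
        (DCoh.HD (DCoh.toD X ((tensorModCx G).obj (repK E))) i)) := by
  obtain ⟨U, j, hj, hx, P, hP, ⟨e⟩⟩ := (isPerfect_iff E).1 hE x
  obtain ⟨a, b, hab⟩ := hP.1
  let R := repK E
  let G' := (Scheme.Modules.pullback j).obj G
  let L' := (tensorModCx G').obj P
  haveI := hasLTensorMod G'
  haveI := isIso_ltensorModComparison G' (isKFlat_of_isStrictlyPerfect hP)
  haveI := isIso_ltensorModComparison G' (isKFlat_restrict j (isKFlat_repK E))
  let c₁ : (pullCx j).obj ((tensorModCx G).obj R) ≅ (tensorModCx G').obj ((pullCx j).obj R) :=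
    (NatIso.mapHomologicalComplex (pullTensorRightIso j G) (ComplexShape.up ℤ)).app R
  let eC : (rCx j).obj ((tensorModCx G).obj R) ≅ (tensorModCx G').obj ((rCx j).obj R) :=
    (restrictPullCxIso j).app _ ≪≫ c₁ ≪≫ (tensorModCx G').mapIso ((restrictPullCxIso j).app R).symm
  let eR : DerivedCategory.Q.obj P ≅ DerivedCategory.Q.obj ((rCx j).obj R) :=
    e ≪≫ (rho j).mapIso (repKIso E).symm ≪≫ (rhoQ j).app R
  let eL : DerivedCategory.Q.obj L' ≅ DerivedCategory.Q.obj ((rCx j).obj ((tensorModCx G).obj R)) :=
    (asIso ((ltensorModComparison G').app P)).symm ≪≫ (DCoh.LTensorMod G').mapIso eR ≪≫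
      asIso ((ltensorModComparison G').app _) ≪≫ DerivedCategory.Q.mapIso eC.symm
  have hG' : FlatMod.IsFlatOver (j ≫ f) G' := fun z => by
    exact @flat_of_iso _ _ _ _ ((DerSch.stalkOver (j ≫ f) z).mapIso
      ((Scheme.Modules.restrictFunctorIsoPullback j).app G).symm ≪≫
        stalkOverRestrictIso f j z G) (hflat (j.base z))
  refine ⟨U, j, hj, hx, a, b, fun z => ?_, fun i => ?_⟩
  · exact (torAmpAt_restrict_iff f j a b _ z).1 (torAmplitude_of_relFlat (j ≫ f)
      ⟨L', fun i hi => (DCoh.tensorRightMod G').map_isZero (hab i hi),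
        fun i => isFlatOver_tensor (j ≫ f) (hP.2 i) hG', ⟨eL⟩⟩ z)
  · haveI : IsLocallyNoetherian U := isLocallyNoetherian_of_isOpenImmersion j
    have hG'c : Coh.IsCoh G' := QCohAb92.isCoh_of_iso'
      ((Scheme.Modules.restrictFunctorIsoPullback j).app G) (isCoh_restrict j hG)
    refine QCohAb92.isCoh_of_iso' ((DerivedCategory.homologyFunctor U.Modules i).mapIso
      (eL ≪≫ ((rhoQ j).app ((tensorModCx G).obj R)).symm) ≪≫ restrictHDIso j _ i) ?_
    exact isCohD_of_terms' L' (fun n => CurveTensor.isCoh_tensor (hP.2 n) hG'c) i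

/-- Off the support of `G`, the stalks of the cohomology of `E ⊗^L G` vanish. -/
lemma support_tensor_subset (R : CochainComplex X.Modules ℤ) (i : ℤ) :
    CohB1.support (DCoh.HD (DCoh.toD X ((tensorModCx G).obj R)) i) ⊆ CohB1.support G := fun x hx hG => by
  refine hx (ModuleCat.subsingleton_of_isZero (M := (DerSch.stalkFunctor X x).obj
    (DCoh.HD (DCoh.toD X ((tensorModCx G).obj R)) i)) (IsZero.of_iso ?_
      ((DerSch.stalkFunctor X x).mapIso ((DerivedCategory.homologyFunctorFactors X.Modules i).app _) ≪≫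
        ((((tensorModCx G).obj R).sc i).mapHomologyIso (DerSch.stalkFunctor X x)).symm)))
  refine ShortComplex.isZero_homology_of_isZero_X₂ _ ?_
  haveI : Subsingleton ((DerSch.stalkFunctor X x).obj G : Type u) := hG
  exact IsZero.of_iso ((tensorLeft _).map_isZero (ModuleCat.isZero_of_subsingleton _))
    (stalkTensorTermIso G R x i)

/-- `Rf_*(E ⊗^L G)` is perfect for `E` perfect, `G` flat over the Noetherian base with proper support. -/
theorem isPerfect_rpush_ltensorMod [AlgebraicGeometry.IsNoetherian S] [LocallyOfFiniteType f]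
    (hE : DCoh.IsPerfect E) (hG : Coh.IsCoh G) (hflat : FlatMod.IsFlatOver f G)
    (hsupp : ClSub.IsProperOver f (CohB1.support G)) [DCoh.HasLTensorMod G] [DCoh.HasRpush f] :
    DCoh.IsPerfect ((DCoh.Rpush f).obj ((DCoh.LTensorMod G).obj E)) := by
  haveI : IsLocallyNoetherian X := LocallyOfFiniteType.isLocallyNoetherian f
  haveI := isIso_ltensorModComparison G (isKFlat_repK E)
  let L := (tensorModCx G).obj (repK E)
  let e : DCoh.toD X L ≅ (DCoh.LTensorMod G).obj E :=
    (asIso ((ltensorModComparison G).app (repK E))).symm ≪≫ (DCoh.LTensorMod G).mapIso (repKIso E)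
  choose U j hj hxU a b hamp hcoh using exists_chart_tensor f hE hG hflat
  haveI := hj
  obtain ⟨s, hs⟩ := (isCompact_of_isProperOver hsupp).elim_finite_subcover
    (fun x => Set.range (j x).base) (fun x => (j x).opensRange.2)
    fun x _ => Set.mem_iUnion.2 ⟨x, hxU x⟩
  obtain ⟨A, hA⟩ := (s.image a).bddBelow
  obtain ⟨B, hB⟩ := (s.image b).bddAbove
  have hamp' : DerSch.HasTorAmplitude f A (max A B) L := fun y => by
    by_cases hy : y ∈ CohB1.support G
    · obtain ⟨x, hx, z, rfl⟩ := Set.mem_iUnion₂.1 (hs hy)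
      obtain ⟨M, hz, hflat, hM⟩ := hamp x z
      have h1 := hA (Finset.mem_coe.2 (Finset.mem_image_of_mem a hx))
      have h2 := hB (Finset.mem_coe.2 (Finset.mem_image_of_mem b hx))
      exact ⟨M, fun i hi => hz i (by omega), hflat, hM⟩
    · refine ⟨(DerSch.stalkCxOver f y).obj L, fun i _ => ?_, fun i => ?_, ⟨Iso.refl _⟩⟩ <;>
        haveI : Subsingleton ((DerSch.stalkFunctor X y).obj G : Type u) := not_not.1 hy
      · refine (ModuleCat.restrictScalars (f.stalkMap y).hom).map_isZero ?_
        exact IsZero.of_iso ((tensorLeft _).map_isZero (ModuleCat.isZero_of_subsingleton _))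
          (stalkTensorTermIso G (repK E) y i)
      · exact flat_of_isZero ((ModuleCat.restrictScalars (f.stalkMap y).hom).map_isZero
          (IsZero.of_iso ((tensorLeft _).map_isZero (ModuleCat.isZero_of_subsingleton _))
            (stalkTensorTermIso G (repK E) y i)))
  have hbd : ∀ i, (i < A ∨ max A B < i) → IsZero (DCoh.HD ((DCoh.LTensorMod G).obj E) i) := fun i hi => by
    refine IsZero.of_iso ?_ ((DerivedCategory.homologyFunctor X.Modules i).mapIso e.symm ≪≫
      (DerivedCategory.homologyFunctorFactors X.Modules i).app L)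
    refine (HomologicalComplex.exactAt_iff_isZero_homology L i).1 ?_
    refine (KFlatLib.exact_iff_stalk _).2 fun y => ?_
    obtain ⟨M, hz, -, ⟨eM⟩⟩ := hamp' y
    have hL : IsZero (((DerSch.stalkCxOver f y).obj L).homology i) :=
      (ShortComplex.isZero_homology_of_isZero_X₂ (M.sc i) (hz i hi) :
        IsZero (M.homology i)).of_iso
        (((DerivedCategory.homologyFunctorFactors _ i).app _).symm ≪≫
          (DerivedCategory.homologyFunctor _ i).mapIso eM.symm ≪≫
          (DerivedCategory.homologyFunctorFactors _ i).app _)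
    have hL' : (((L.sc i).map (DerSch.stalkFunctor X y)).map
        (ModuleCat.restrictScalars (f.stalkMap y).hom)).Exact :=
      (HomologicalComplex.exactAt_iff_isZero_homology _ _).2 hL
    rwa [ShortComplex.exact_map_iff_of_faithful] at hL'
  refine isPerfect_rpush_of_torAmplitude f _ A (max A B) hbd (fun i => ?_) L e A (max A B) hamp'
  have hc : Coh.IsCoh (DCoh.HD (DCoh.toD X L) i) :=
    KFlatLib.isCoh_of_local fun x => ⟨U x, j x, hj x, hxU x, hcoh x i⟩
  refine ⟨QCohAb92.isCoh_of_iso' ((DerivedCategory.homologyFunctor X.Modules i).mapIso e) hc, ?_⟩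
  have hc' := QCohAb92.isCoh_of_iso' ((DerivedCategory.homologyFunctor X.Modules i).mapIso e) hc
  refine QCoh.IsProperOver.subset hsupp (QCoh.isClosed_support_of_isFT hc'.1 hc'.2)
    (fun x hx => support_tensor_subset (repK E) i ?_)
  intro h
  exact hx ((((TopCat.Presheaf.stalkFunctor AddCommGrpCat.{u} x).mapIso
      ((Scheme.Modules.toPresheaf X).mapIso
        ((DerivedCategory.homologyFunctor X.Modules i).mapIso e))).addCommGroupIsoToAddEquiv.toEquiv.subsingleton_congr).1 h)

end Groth.Agent.Perf52
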