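import Groth.Agent.CohH33.Approx
import Groth.Agent.Perf52.TwistBC
import Groth.Agent.Perf52.FlatProperPush
import Groth.Agent.QCoh.ProperOver2
import Groth.Agent.QCoh.AnnIdeal
import Groth.Agent.S9221
import Groth.Agent.S1061

/-!
# Approximation of flat families with proper support
-/

universe u

set_option backward.isDefEq.respectTransparency.types false
set_option maxHeartbeats 1000000
set_option linter.style.haveILetI false

open CategoryTheory AlgebraicGeometry AlgebraicGeometry.Scheme.Modules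
open TopologicalSpace Opposite
open Groth.Agent.QCoh
open CategoryTheory.Limits (Cone IsLimit)

namespace Groth.Agent.Perf52

open Groth.Agent.CohH33 (overDiag overCone isLimitOverCone isAffine_overDiag)

variable {I : Type u} [SmallCategory I] [IsCofiltered I] (D : I ⥤ Scheme.{u}) (c : Cone D) (hc : IsLimit c)
  [∀ i, IsAffine (D.obj i)]

include hc in
/-- A module of finite presentation over the limit comes from a stage. -/
theorem exists_stage_module_fp [IsAffine c.pt] {U : Scheme.{u}} {π : U ⟶ c.pt} {j : I} {X₁ : Scheme.{u}}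
    {f₁ : X₁ ⟶ D.obj j} {g₁ : U ⟶ X₁} [QuasiCompact f₁] [QuasiSeparated f₁] [LocallyOfFinitePresentation f₁]
    (hsq : IsPullback g₁ π f₁ (c.π.app j)) {G : U.Modules} (hG : CohB1.IsFP G) :
    ∃ (k : I) (X₂ : Scheme.{u}) (f₂ : X₂ ⟶ D.obj k) (g₂ : U ⟶ X₂) (F₂ : X₂.Modules),
      QuasiCompact f₂ ∧ QuasiSeparated f₂ ∧ LocallyOfFinitePresentation f₂ ∧ IsPullback g₂ π f₂ (c.π.app k) ∧ CohB1.IsFP F₂ ∧
        Nonempty ((pullback g₂).obj F₂ ≅ G) := by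
  let D₂ := overDiag D j
  let c₂ := overCone D c j
  have hD₂ := isAffine_overDiag D j
  let e : U ≅ PicF.XT f₁ c₂.pt := hsq.isoPullback
  have he : e.hom ≫ PicF.XTproj f₁ c₂.pt = π := hsq.isoPullback_hom_snd
  let G' := (pullback e.inv).obj G
  haveI : Coh.IsQCoh G' := isQCoh_of_isFP (FlatFun4.isFP_pullback _ hG)
  haveI : ∀ (a b : Over j) (m : a ⟶ b), IsAffineHom ((FlatFun4.XTdiag f₁ D₂).map m) := fun a b m =>
    FlatFun4.isAffineHom_XTdiag_map f₁ D₂ hD₂ m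
  let a₀ : Over j := Over.mk (𝟙 j)
  haveI : CompactSpace ((FlatFun4.XTdiag f₁ D₂).obj a₀) := FlatFun4.compactSpace_XTdiag_obj f₁ D₂ hD₂ a₀
  haveI : QuasiSeparatedSpace ((FlatFun4.XTdiag f₁ D₂).obj a₀) := by
    haveI := hD₂ a₀
    haveI : QuasiSeparated (PicF.XTproj f₁ (D₂.obj a₀)) := MorphismProperty.pullback_snd f₁ _ inferInstance
    have h := quasiSeparatedSpace_of_quasiSeparated (PicF.XTproj f₁ (D₂.obj a₀))
    exact h
  haveI : Coh.IsQCoh (X := (FlatFun4.XTcone f₁ D₂ c₂).pt) G' := ‹Coh.IsQCoh G'›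
  obtain ⟨a, -, F₂, -, hF₂, ⟨i⟩⟩ := Groth.Agent.S4788.result (FlatFun4.XTdiag f₁ D₂) (FlatFun4.XTcone f₁ D₂ c₂)
    (FlatFun4.isLimit_XTcone f₁ D₂ c₂ (isLimitOverCone D c hc j)) a₀ G' (FlatFun4.isFP_pullback _ hG)
  refine ⟨a.left, PicF.XT f₁ (D₂.obj a), PicF.XTproj f₁ (D₂.obj a), e.hom ≫ PicF.XTmap f₁ (c₂.π.app a), F₂,
    MorphismProperty.pullback_snd f₁ _ inferInstance, MorphismProperty.pullback_snd f₁ _ inferInstance,
    MorphismProperty.pullback_snd f₁ _ inferInstance, ?_,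
    hF₂, ⟨?_⟩⟩
  · exact IsPullback.of_iso (HilbDLib.isPullback_XTmap f₁ (c₂.π.app a)) e.symm (Iso.refl _) (Iso.refl _) (Iso.refl _)
      (by simp) (by simp [← he]; rfl) (Category.comp_id _) (by simp; rfl)
  · exact ((pullbackComp e.hom (PicF.XTmap f₁ (c₂.π.app a))).app F₂).symm ≪≫ (pullback e.hom).mapIso i ≪≫
      (pullbackComp e.hom e.inv).app G ≪≫ (pullbackCongr e.hom_inv_id).app G ≪≫ (pullbackId U).app G

include hc in
/-- Flatness over the limit comes from a stage. -/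
theorem exists_stage_flat_fp [IsAffine c.pt] {U : Scheme.{u}} {π : U ⟶ c.pt} {k : I} {X₂ : Scheme.{u}}
    {f₂ : X₂ ⟶ D.obj k} {g₂ : U ⟶ X₂} [QuasiCompact f₂] [QuasiSeparated f₂] [LocallyOfFinitePresentation f₂]
    (hsq : IsPullback g₂ π f₂ (c.π.app k)) {G : U.Modules} (hGflat : FlatMod.IsFlatOver π G) {F₂ : X₂.Modules}
    (hF₂ : CohB1.IsFP F₂) (i : (pullback g₂).obj F₂ ≅ G) :
    ∃ (l : I) (X₃ : Scheme.{u}) (f₃ : X₃ ⟶ D.obj l) (g₃ : U ⟶ X₃) (F₃ : X₃.Modules),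
      QuasiCompact f₃ ∧ QuasiSeparated f₃ ∧ LocallyOfFinitePresentation f₃ ∧ IsPullback g₃ π f₃ (c.π.app l) ∧ CohB1.IsFP F₃ ∧ FlatMod.IsFlatOver f₃ F₃ ∧
        Nonempty ((pullback g₃).obj F₃ ≅ G) := by
  let D₃ := overDiag D k
  let c₃ := overCone D c k
  have hD₃ := isAffine_overDiag D k
  let e : U ≅ PicF.XT f₂ c₃.pt := hsq.isoPullback
  have he : e.hom ≫ PicF.XTproj f₂ c₃.pt = π := hsq.isoPullback_hom_snd
  have hef : e.hom ≫ Limits.pullback.fst f₂ c₃.pt.hom = g₂ := hsq.isoPullback_hom_fst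
  haveI : IsAffine c₃.pt.left := inferInstanceAs (IsAffine c.pt)
  let iT : FGA.ET f₂ F₂ c₃.pt ≅ (pullback e.inv).obj G :=
    (pullbackCongr (show Limits.pullback.fst f₂ c₃.pt.hom = e.inv ≫ g₂ by rw [← hef, Iso.inv_hom_id_assoc])).app F₂ ≪≫
      ((pullbackComp e.inv g₂).app F₂).symm ≪≫ (pullback e.inv).mapIso i
  haveI : IsIso (X := c₃.pt.left) (Y := c.pt) (𝟙 c₃.pt.left) :=
    @IsIso.id Scheme.{u} _ c₃.pt.left
  have hfl : FlatMod.IsFlatOver (PicF.XTproj f₂ c₃.pt) (FGA.ET f₂ F₂ c₃.pt) := fun x =>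
    GrFlat5.isFlatOverAt_of_iso _ iT.symm x
      (MorLib.FlatBC.isFlatOverAt_baseChange π (PicF.XTproj f₂ c₃.pt) e.inv (𝟙 c₃.pt.left)
        (IsPullback.of_horiz_isIso ⟨e.inv_comp_eq.2 (he.symm.trans
          (congrArg (e.hom ≫ ·) (Category.comp_id (PicF.XTproj f₂ c₃.pt)).symm))⟩)
        G x (hGflat _))
  obtain ⟨b, hb⟩ := FlatFun4.exists_stage_isFlatOver f₂ D₃ c₃ (isLimitOverCone D c hc k) hD₃ inferInstance
    F₂ hF₂ hfl
  refine ⟨b.left, PicF.XT f₂ (D₃.obj b), PicF.XTproj f₂ (D₃.obj b), e.hom ≫ PicF.XTmap f₂ (c₃.π.app b),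
    FGA.ET f₂ F₂ (D₃.obj b), MorphismProperty.pullback_snd f₂ _ inferInstance,
    MorphismProperty.pullback_snd f₂ _ inferInstance, MorphismProperty.pullback_snd f₂ _ inferInstance, ?_,
    FlatFun4.isFP_pullback _ hF₂, hb, ⟨?_⟩⟩
  · exact IsPullback.of_iso (HilbDLib.isPullback_XTmap f₂ (c₃.π.app b)) e.symm (Iso.refl _) (Iso.refl _) (Iso.refl _)
      (by simp) (by simp [← he]; rfl) (Category.comp_id _) (by simp; rfl)
  · exact ((pullbackComp e.hom (PicF.XTmap f₂ (c₃.π.app b))).app (FGA.ET f₂ F₂ (D₃.obj b))).symm ≪≫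
      (pullback e.hom).mapIso (FGA.ETiso f₂ F₂ (c₃.π.app b) ≪≫ iT) ≪≫
      (pullbackComp e.hom e.inv).app G ≪≫ (pullbackCongr e.hom_inv_id).app G ≪≫ (pullbackId U).app G

lemma isProperOver_comp_isIso {X Y Z : Scheme.{u}} (f : X ⟶ Y) (e : Y ⟶ Z) [IsIso e] {T : Set X}
    (h : ClSub.IsProperOver f T) : ClSub.IsProperOver (f ≫ e) T := by
  obtain ⟨hT, hp⟩ := h
  refine ⟨hT, ?_⟩
  haveI := hp
  rw [← Category.assoc]
  infer_instance

include hc in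
/-- A flat family with proper support over the limit comes from a stage. -/
theorem exists_stage_family [IsAffine c.pt] {U : Scheme.{u}} (π : U ⟶ c.pt)
    [LocallyOfFinitePresentation π] [QuasiCompact π] [QuasiSeparated π] {G : U.Modules}
    (hG : CohB1.IsFP G) (hflat : FlatMod.IsFlatOver π G)
    (hsupp : ClSub.IsProperOver π (CohB1.support G)) :
    ∃ (l : I) (X₄ : Scheme.{u}) (f₄ : X₄ ⟶ D.obj l) (g₄ : U ⟶ X₄) (F₄ : X₄.Modules),
      QuasiCompact f₄ ∧ QuasiSeparated f₄ ∧ LocallyOfFinitePresentation f₄ ∧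
      IsPullback g₄ π f₄ (c.π.app l) ∧ CohB1.IsFP F₄ ∧ FlatMod.IsFlatOver f₄ F₄ ∧
      ClSub.IsProperOver f₄ (CohB1.support F₄) ∧ Nonempty ((pullback g₄).obj F₄ ≅ G) := by
  haveI : ∀ (a b : I) (m : a ⟶ b), IsAffineHom (D.map m) := fun a b m => isAffineHom_of_isAffine _
  obtain ⟨j, X₁, f₁, g₁, hfp, hqc, hqs, hsq₁⟩ := Groth.Agent.S0591.result D c hc U π
  haveI := hfp; haveI := hqc; haveI := hqs
  obtain ⟨k, X₂, f₂, g₂, F₂, h₂c, h₂s, h₂f, hsq₂, hF₂, ⟨i₂⟩⟩ := exists_stage_module_fp D c hc hsq₁ hG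
  haveI := h₂c; haveI := h₂s; haveI := h₂f
  obtain ⟨l₃, X₃, f₃, g₃, F₃, h₃c, h₃s, h₃f, hsq₃, hF₃, hfl₃, ⟨i₃⟩⟩ :=
    exists_stage_flat_fp D c hc hsq₂ hflat hF₂ i₂
  haveI := h₃c; haveI := h₃s; haveI := h₃f
  haveI : CompactSpace X₃ := QuasiCompact.compactSpace_of_compactSpace f₃
  haveI : QuasiSeparatedSpace X₃ := quasiSeparatedSpace_of_quasiSeparated f₃
  haveI : LocallyOfFiniteType f₃ := inferInstance
  haveI : Coh.IsQCoh F₃ := isQCoh_of_isFP hF₃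
  have hFG : Coh.IsQCoh ((pullback g₃).obj F₃) := isQCoh_pullback g₃ ‹_›
  obtain ⟨l, φ, X₄, Y₄, f₄, e₄, pY, pX, hY, hX, hpr⟩ := Groth.Agent.S9221.result D c hc l₃ f₃
    (𝟙 (D.obj l₃)) F₃ (isFT_of_isFP hF₃) π (𝟙 c.pt) (c.π.app l₃) g₃ IsPullback.of_id_snd hsq₃
    (by rw [support_iso i₃ hFG]; exact hsupp)
  haveI : IsIso e₄ := hY.isIso_snd_of_isIso
  have h5 : IsPullback pX (f₄ ≫ e₄) f₃ (D.map φ) := by simpa using hX.paste_vert hY
  let g₄ : U ⟶ X₄ := h5.lift g₃ (π ≫ c.π.app l) (by rw [Category.assoc, c.w, hsq₃.w])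
  refine ⟨l, X₄, f₄ ≫ e₄, g₄, (pullback pX).obj F₃, MorphismProperty.of_isPullback h5 h₃c,
    MorphismProperty.of_isPullback h5 h₃s, MorphismProperty.of_isPullback h5 h₃f,
    IsPullback.of_right ?_ (h5.lift_snd _ _ _) h5, FlatFun4.isFP_pullback _ hF₃,
    fun x => MorLib.FlatBC.isFlatOverAt_baseChange f₃ _ pX _ h5 F₃ x (hfl₃ _),
    isProperOver_comp_isIso f₄ e₄ hpr, ⟨?_⟩⟩
  · rw [h5.lift_fst, c.w]
    exact hsq₃
  · exact (pullbackComp g₄ pX).app F₃ ≪≫ (pullbackCongr (h5.lift_fst _ _ _)).app F₃ ≪≫ i₃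

end Groth.Agent.Perf52
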