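import Groth.Agent.H9Misc.DRingTor
import Groth.Agent.CAlgUI.Pieces
import Groth.Agent.KFlatLib.Scheme.TildePerf
import Groth.Agent.HorseLib.Basic
import Groth.Agent.S0887
import Groth.Agent.FlatMisc.RingPullback
import Mathlib.RingTheory.Flat.EquationalCriterion
import Mathlib.Algebra.Homology.HomotopyCategory.DegreewiseSplit
import Mathlib.Algebra.Category.ModuleCat.Biproducts

/-!
# Perfectness from commutation with powers

A bounded complex `F` of flat modules such that `F ⊗ R^T → (T → F)` is a quasi-isomorphism for
every set `T` is perfect.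
-/

set_option linter.style.haveILetI false

universe u

open CategoryTheory CategoryTheory.Limits AlgebraicGeometry MonoidalCategory HomologicalComplex
open CochainComplex (mappingCone)

attribute [local instance] HasDerivedCategory.standard

namespace Groth.Agent.Perf52

open Groth.Agent Groth.Agent.KFlatLib Groth.Agent.H9Misc
open scoped TensorProduct

variable {R : Type u} [CommRing R]

/-- `T`-th powers. -/
noncomputable def pow (T : Type u) : ModuleCat.{u} R ⥤ ModuleCat.{u} R where
  obj M := ModuleCat.of R (T → M)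
  map f := ModuleCat.ofHom (f.hom.compLeft T)
  map_id _ := rfl
  map_comp _ _ := rfl

instance additive_pow (T : Type u) : (pow (R := R) T).Additive where
  map_add := rfl

instance preservesHomology_pow (T : Type u) : (pow (R := R) T).PreservesHomology :=
  ((Functor.exact_tfae (pow (R := R) T)).out 1 2).1 fun S hS => by
    rw [ShortComplex.moduleCat_exact_iff] at hS ⊢
    intro x hx
    choose y hy using fun t => hS (x t) (congrFun hx t)
    exact ⟨y, funext hy⟩

/-- `K ↦ (T → K)`. -/
noncomputable abbrev powC (T : Type u) : DRing.Cx R ⥤ DRing.Cx R :=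
  (pow T).mapHomologicalComplex (ComplexShape.up ℤ)

/-- Evaluation at `t`. -/
noncomputable def evP (T : Type u) (t : T) : pow (R := R) T ⟶ 𝟭 (ModuleCat.{u} R) where
  app M := ModuleCat.ofHom (LinearMap.proj t)
  naturality _ _ _ := rfl

/-- Evaluation at `t` on complexes. -/
noncomputable def evC (T : Type u) (t : T) (K : DRing.Cx R) : (powC T).obj K ⟶ K where
  f n := (evP T t).app (K.X n)
  comm' _ _ _ := ((evP T t).naturality _).symm

/-- The `t`-th projection of `R^T`. -/
noncomputable def projT (T : Type u) (t : T) :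
    ModuleCat.of R (T → R) ⟶ ModuleCat.of R R :=
  ModuleCat.ofHom (LinearMap.proj t)

/-- `M ⊗ R^T → (T → M)`. -/
noncomputable def cmpT (T : Type u) :
    tensorRight (ModuleCat.of R (T → R)) ⟶ pow (R := R) T where
  app M := ModuleCat.ofHom (LinearMap.pi fun t : T =>
    (TensorProduct.rid R M).toLinearMap ∘ₗ (LinearMap.proj (R := R) (φ := fun _ : T => R) t).lTensor M)
  naturality _ _ f := ModuleCat.hom_ext (TensorProduct.ext' fun m x => funext fun t => by
    change x t • f.hom m = f.hom (x t • m)
    rw [map_smul])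

/-- `K ⊗ R^T → (T → K)`. -/
noncomputable def cmp (T : Type u) (K : DRing.Cx R) :
    (DRingLTensor.tensC (ModuleCat.of R (T → R))).obj K ⟶ (powC T).obj K :=
  (NatTrans.mapHomologicalComplex (cmpT T) (ComplexShape.up ℤ)).app K

lemma cmp_naturality (T : Type u) {K L : DRing.Cx R} (α : K ⟶ L) :
    (DRingLTensor.tensC (ModuleCat.of R (T → R))).map α ≫ cmp T L = cmp T K ≫ (powC T).map α :=
  (NatTrans.mapHomologicalComplex (cmpT T) (ComplexShape.up ℤ)).naturality α

/-- Commutation with powers. -/
def PowIso (K : DRing.Cx R) : Prop := ∀ T : Type u, QuasiIso (cmp T K)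

lemma bijective_cmpT (T : Type u) (M : ModuleCat.{u} R) [Module.FinitePresentation R M] :
    Function.Bijective ((cmpT T).app M) := by
  have e : ∀ x, ((cmpT T).app M) x =
      fun t => TensorProduct.rid R M (TensorProduct.piRightHom R R M (fun _ : T => R) x t) := fun x =>
    funext fun t => by
      rw [CAlgUI.piRightHom_eq_proj]
      rfl
  have hb := CAlgUI.piRightHom_bijective_of_fp (R := R) (M := M) (ι := T) (Q := fun _ : T => R)
  refine ⟨fun x y hxy => hb.1 (funext fun t => (TensorProduct.rid R M).injective ?_), fun y => ?_⟩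
  · exact congrFun ((e x).symm.trans (hxy.trans (e y))) t
  · obtain ⟨x, hx⟩ := hb.2 fun t => (TensorProduct.rid R M).symm (y t)
    exact ⟨x, (e x).trans (funext fun t => by rw [hx, LinearEquiv.apply_symm_apply])⟩

lemma powIso_of_fp {K : DRing.Cx R} (h : ∀ n, Module.FinitePresentation R (K.X n)) : PowIso K :=
  fun T => by
    haveI : ∀ n, IsIso ((cmp T K).f n) := fun n => by
      haveI := h n
      exact (ConcreteCategory.isIso_iff_bijective _).2 (bijective_cmpT T (K.X n))
    haveI := HomologicalComplex.Hom.isIso_of_components (cmp T K)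
    infer_instance

lemma PowIso.of_iso {K L : DRing.Cx R} (hK : DRingLTensor.IsKF K) (hL : DRingLTensor.IsKF L)
    (h : PowIso K) (e : DerivedCategory.Q.obj K ≅ DerivedCategory.Q.obj L) : PowIso L := fun T => by
  haveI := h T
  obtain ⟨Z, t, ht, u, hu⟩ := DerivedCategory.right_fac e.hom
  haveI : IsIso (DerivedCategory.Q.map t) := ht
  haveI : IsIso (DerivedCategory.Q.map u) := by
    have h : DerivedCategory.Q.map u = DerivedCategory.Q.map t ≫ e.hom := by
      rw [hu, IsIso.hom_inv_id_assoc]
    rw [h]; infer_instance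
  haveI : QuasiIso t := (DerivedCategory.isIso_Q_map_iff_quasiIso _ _).1 inferInstance
  haveI : QuasiIso u := (DerivedCategory.isIso_Q_map_iff_quasiIso _ _).1 inferInstance
  let Z' := (ringCover R).P.obj Z
  have hZ' : DRingLTensor.IsKF Z' := kFlat_ringRes Z
  let ψ : Z' ⟶ Z := (ringCover R).ψ.app Z
  haveI : QuasiIso ψ := (ringCover R).quasiIso_ψ Z
  let t' : Z' ⟶ K := ψ ≫ t
  let u' : Z' ⟶ L := ψ ≫ u
  haveI := DRingLTensor.quasiIso_tensC (ModuleCat.of R (T → R)) t' hZ' hK
  haveI := DRingLTensor.quasiIso_tensC (ModuleCat.of R (T → R)) u' hZ' hL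
  haveI : QuasiIso ((powC T).map t') := inferInstance
  haveI : QuasiIso ((powC T).map u') := inferInstance
  haveI : QuasiIso (cmp T Z') := by
    have : QuasiIso (cmp T Z' ≫ (powC T).map t') := by
      rw [← cmp_naturality]; infer_instance
    exact quasiIso_of_comp_right (cmp T Z') ((powC T).map t')
  have : QuasiIso ((DRingLTensor.tensC (ModuleCat.of R (T → R))).map u' ≫ cmp T L) := by
    rw [cmp_naturality]; infer_instance
  exact quasiIso_of_comp_left ((DRingLTensor.tensC (ModuleCat.of R (T → R))).map u') (cmp T L)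

lemma powIso_cone {L F : DRing.Cx R} (φ : L ⟶ F) (hF : PowIso F)
    (hL : PowIso (L⟦(1 : ℤ)⟧)) : PowIso (mappingCone φ) := fun T => by
  let S := CochainComplex.mappingCone.triangleRotateShortComplex φ
  let Φ := DRingLTensor.tensC (ModuleCat.of R (T → R))
  let Ψ := powC (R := R) T
  have hS : ∀ n, (S.map (eval _ _ n)).Splitting := fun n =>
    CochainComplex.mappingCone.triangleRotateShortComplexSplitting φ n
  have h₁ : (S.map Φ).ShortExact := shortExact_of_degreewise_shortExact _ fun n =>
    ((hS n).map (tensorRight (ModuleCat.of R (T → R)))).shortExact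
  have h₂ : (S.map Ψ).ShortExact := shortExact_of_degreewise_shortExact _ fun n =>
    ((hS n).map (pow T)).shortExact
  exact HorseLib.quasiIso_τ₂ (ShortComplex.Hom.mk (S₁ := S.map Φ) (S₂ := S.map Ψ)
    (cmp T S.X₁) (cmp T S.X₂) (cmp T S.X₃) (cmp_naturality T S.f).symm (cmp_naturality T S.g).symm)
    h₁ h₂ (hF T) (hL T)

lemma finite_top {K : DRing.Cx R} {b : ℤ} (hK : ∀ i, b < i → IsZero (K.X i)) (h : PowIso K) :
    Module.Finite R ((K.X b) ⧸ LinearMap.range (K.d (b - 1) b).hom) := by
  set C := (K.X b) ⧸ LinearMap.range (K.d (b - 1) b).hom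
  refine CAlgUI.finite_of_surjective_powers fun y => ?_
  let q : K.X b →ₗ[R] C := Submodule.mkQ _
  choose x hx using fun c => Submodule.mkQ_surjective (LinearMap.range (K.d (b - 1) b).hom)
    (TensorProduct.rid R C (y c))
  haveI := h C
  let A' := (DRingLTensor.tensC (ModuleCat.of R (C → R))).obj K
  let B' := (powC C).obj K
  have hz : IsZero (B'.X (b + 1)) := (pow C).map_isZero (hK (b + 1) (by omega))
  let z := B'.iCycles b
  let xB : B'.X b := x
  have hzb : IsIso z := B'.isIso_iCycles b (b + 1) (by simp) (hz.eq_of_tgt _ _)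
  obtain ⟨x', hx'⟩ := ((ConcreteCategory.isIso_iff_bijective z).1 hzb).2 xB
  haveI : Epi (homologyMap (cmp C K) b) := inferInstance
  haveI : Epi (A'.homologyπ b ≫ homologyMap (cmp C K) b) := inferInstance
  obtain ⟨w, hw⟩ := (ModuleCat.epi_iff_surjective (A'.homologyπ b ≫ homologyMap (cmp C K) b)).1
    inferInstance (B'.homologyπ b x')
  rw [HomologicalComplex.homologyπ_naturality] at hw
  have hex : (ShortComplex.mk (B'.toCycles (b - 1) b) (B'.homologyπ b) (by simp)).Exact :=
    ShortComplex.exact_of_g_is_cokernel _ (B'.homologyIsCokernel (b - 1) b (by simp))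
  obtain ⟨v, hv⟩ := (ShortComplex.moduleCat_exact_iff _).1 hex
    (x' - cyclesMap (cmp C K) b w) (by
      change (B'.homologyπ b).hom _ = 0
      rw [map_sub, sub_eq_zero]
      exact hw.symm)
  refine ⟨q.rTensor _ (A'.iCycles b w), funext fun c => (TensorProduct.rid R C).injective ?_⟩
  have hv' : B'.d (b - 1) b v = xB - (cmp C K).f b (A'.iCycles b w) := by
    have := congrArg z hv
    rw [map_sub, hx'] at this
    simp only [z] at this
    rw [← ModuleCat.comp_apply, ← ModuleCat.comp_apply, toCycles_i, cyclesMap_i,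
      ModuleCat.comp_apply] at this
    exact this
  have e1 : TensorProduct.rid R C (TensorProduct.piRightHom R R C (fun _ : C => R)
      (q.rTensor _ (A'.iCycles b w)) c) = q ((cmp C K).f b (A'.iCycles b w) c) := by
    rw [CAlgUI.piRightHom_eq_proj]
    generalize A'.iCycles b w = s
    change TensorProduct.rid R C _ = q (((cmpT C).app (K.X b)) s c)
    change (K.X b : Type u) ⊗[R] (C → R) at s
    induction s using TensorProduct.induction_on with
    | zero =>
      simp only [map_zero]
      exact (map_zero q).symm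
    | tmul m r =>
      change r c • q m = q (r c • m)
      rw [map_smul]
    | add s t hs ht => simp only [map_add] at hs ht ⊢; rw [hs, ht]; exact (map_add q _ _).symm
  rw [e1, ← hx c]
  refine ((Submodule.Quotient.eq _).2 (LinearMap.mem_range.2 ⟨v c, ?_⟩)).symm
  exact congrFun hv' c

variable {A : CommRingCat.{u}}

/-- The third object of a triangle of perfect complexes. -/
lemma rperf_of_cone [PreservesFiniteLimits (tilde.functor A)]
    {L F : CochainComplex (ModuleCat.{u} A) ℤ} (φ : L ⟶ F)
    (hL : RPerf (DerivedCategory.Q.obj L)) (hG : RPerf (DerivedCategory.Q.obj (mappingCone φ))) :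
    RPerf (DerivedCategory.Q.obj F) := by
  let T := (DCoh.tildeD A).mapTriangle.obj
    (DerivedCategory.Q.mapTriangle.obj (CochainComplex.mappingCone.triangle φ))
  exact (perfect_tildeD_iff _).1 ((Groth.Agent.S0887.result T
    (Functor.map_distinguished _ _ (DerivedCategory.mappingCone_triangle_distinguished φ))).2.1
      ((perfect_tildeD_iff _).2 hL) ((perfect_tildeD_iff _).2 hG))

/-- A bounded complex of flat modules commuting with powers is perfect. -/
theorem rperf_of_powIso [PreservesFiniteLimits (tilde.functor A)]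
    (F : CochainComplex (ModuleCat.{u} A) ℤ) (a b : ℤ) (hz : ∀ i, i < a ∨ b < i → IsZero (F.X i))
    (hf : ∀ i, Module.Flat A (F.X i)) (h : PowIso F) : RPerf (DerivedCategory.Q.obj F) := by
  induction hn : (b - a).toNat generalizing F b with
  | zero =>
    have hb : b ≤ a := by omega
    rcases lt_or_eq_of_le hb with hb | rfl
    · refine ⟨F, a, b, hz, fun i => ?_, ⟨Iso.refl _⟩⟩
      haveI := ModuleCat.subsingleton_of_isZero (hz i (by omega))
      exact ⟨inferInstance, inferInstance⟩
    haveI hfin : Module.Finite A (F.X b) := by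
      haveI := finite_top (fun i hi => hz i (Or.inr hi)) h
      refine Module.Finite.equiv (Submodule.quotEquivOfEqBot
        (LinearMap.range (F.d (b - 1) b).hom) ?_)
      rw [(hz (b - 1) (Or.inl (by omega))).eq_of_src (F.d (b - 1) b) 0]
      exact LinearMap.range_zero
    haveI hfp : Module.FinitePresentation A (F.X b) := by
      refine CAlgUI.fp_of_bijective_powers fun T x y hxy => ?_
      haveI := h T
      haveI hi : IsIso ((cmp T F).f b) := by
        let A' := (DRingLTensor.tensC (ModuleCat.of A (T → A))).obj F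
        let B' := (powC T).obj F
        have hA : ∀ i, i < b ∨ b < i → IsZero (A'.X i) := fun i hi =>
          (tensorRight (ModuleCat.of A (T → A))).map_isZero (hz i hi)
        have hB : ∀ i, i < b ∨ b < i → IsZero (B'.X i) := fun i hi => (pow T).map_isZero (hz i hi)
        haveI := A'.isIso_iCycles b (b + 1) (by simp) ((hA _ (Or.inr (by omega))).eq_of_tgt _ _)
        haveI := B'.isIso_iCycles b (b + 1) (by simp) ((hB _ (Or.inr (by omega))).eq_of_tgt _ _)
        haveI := A'.isIso_homologyπ (b - 1) b (by simp) ((hA _ (Or.inl (by omega))).eq_of_src _ _)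
        haveI := B'.isIso_homologyπ (b - 1) b (by simp) ((hB _ (Or.inl (by omega))).eq_of_src _ _)
        haveI : IsIso (cyclesMap (cmp T F) b ≫ B'.homologyπ b) := by
          rw [← homologyπ_naturality]; infer_instance
        haveI := IsIso.of_isIso_comp_right (cyclesMap (cmp T F) b) (B'.homologyπ b)
        haveI : IsIso (A'.iCycles b ≫ (cmp T F).f b) := by
          rw [← cyclesMap_i]; infer_instance
        exact IsIso.of_isIso_comp_left (A'.iCycles b) _
      refine ((ConcreteCategory.isIso_iff_bijective ((cmp T F).f b)).1 hi).1 (funext fun t => ?_)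
      change TensorProduct.rid A (F.X b) _ = TensorProduct.rid A (F.X b) _
      rw [← CAlgUI.piRightHom_eq_proj (Q := fun _ : T => A), hxy,
        CAlgUI.piRightHom_eq_proj (Q := fun _ : T => A)]
    refine ⟨F, b, b, hz, fun i => ?_, ⟨Iso.refl _⟩⟩
    rcases eq_or_ne i b with rfl | hi
    · haveI := hf i
      exact ⟨hfin, Module.Flat.projective_of_finitePresentation⟩
    · haveI := ModuleCat.subsingleton_of_isZero (hz i (by omega))
      exact ⟨inferInstance, inferInstance⟩
  | succ n ih =>
    have hab : a < b := by omega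
    haveI := finite_top (fun i hi => hz i (Or.inr hi)) h
    obtain ⟨k, v, hv⟩ := Module.Finite.exists_fin' A
      ((F.X b) ⧸ LinearMap.range (F.d (b - 1) b).hom)
    obtain ⟨φ₀, hφ₀⟩ := Module.projective_lifting_property
      (Submodule.mkQ (LinearMap.range (F.d (b - 1) b).hom)) v (Submodule.mkQ_surjective _)
    let P : ModuleCat.{u} A := ModuleCat.of A (Fin k → A)
    let L := (HomologicalComplex.single (ModuleCat.{u} A) (ComplexShape.up ℤ) b).obj P
    let φ : L ⟶ F := HomologicalComplex.mkHomFromSingle (ModuleCat.ofHom φ₀)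
      fun j (hj : b + 1 = j) => (hz j (Or.inr (by omega))).eq_of_tgt _ _
    have hLp : ∀ i, Module.Finite A (L.X i) ∧ Module.Projective A (L.X i) := fun i => by
      rcases eq_or_ne i b with rfl | hi
      · let e := (singleObjXSelf (ComplexShape.up ℤ) i P).toLinearEquiv
        exact ⟨Module.Finite.equiv e.symm, Module.Projective.of_equiv e.symm⟩
      · haveI := ModuleCat.subsingleton_of_isZero (isZero_single_obj_X (ComplexShape.up ℤ) b P i hi)
        exact ⟨inferInstance, inferInstance⟩
    have hLR : RPerf (DerivedCategory.Q.obj L) :=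
      ⟨L, b, b, fun i hi => isZero_single_obj_X _ _ _ _ (by omega), hLp, ⟨Iso.refl _⟩⟩
    have hL1 : PowIso (L⟦(1 : ℤ)⟧) := powIso_of_fp fun i => by
      haveI := (hLp (i + 1)).1; haveI := (hLp (i + 1)).2
      exact Module.finitePresentation_of_projective A (L.X (i + 1))
    let G := mappingCone φ
    have hsp := fun i => CochainComplex.mappingCone.triangleRotateShortComplexSplitting φ i
    have hGz : ∀ i, i < a ∨ b < i → IsZero (G.X i) := fun i hi =>
      IsZero.of_iso ((IsZero.iff_id_eq_zero _).2 (biprod.hom_ext' _ _ ((hz i hi).eq_of_src _ _)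
        ((isZero_single_obj_X (ComplexShape.up ℤ) b P (i + 1) (by omega)).eq_of_src _ _)))
        (hsp i).isoBinaryBiproduct
    have hGf : ∀ i, Module.Flat A (G.X i) := fun i => by
      haveI := hf i
      haveI := (hLp (i + 1)).2
      haveI hL' : Module.Flat A (L.X (i + 1)) := inferInstance
      let S := (CochainComplex.mappingCone.triangleRotateShortComplex φ).map (eval _ _ i)
      haveI : Module.Flat A S.X₁ := hf i
      haveI : Module.Flat A S.X₃ := hL'
      haveI : Module.Flat A (S.X₁ × S.X₃) := FlatMisc.flat_prod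
      exact Module.Flat.of_linearEquiv
        ((hsp i).isoBinaryBiproduct ≪≫ ModuleCat.biprodIsoProd _ _).toLinearEquiv
    have hGK : DRingLTensor.IsKF G := DRingTor.isKF_of_flat hGf fun i hi => hGz i (Or.inr hi)
    have hsurj : Function.Surjective (G.d (b - 1) b) := fun y => by
      obtain ⟨y₀, rfl⟩ : ∃ y₀, (CochainComplex.mappingCone.inr φ).f b y₀ = y := by
        refine ⟨(CochainComplex.mappingCone.snd φ).v b b (add_zero b) y, ?_⟩
        have := CochainComplex.mappingCone.id_X φ b (b + 1) rfl
        rw [(isZero_single_obj_X (ComplexShape.up ℤ) b P (b + 1) (by omega)).eq_of_tgt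
          ((CochainComplex.mappingCone.fst φ).1.v b (b + 1) rfl) 0, zero_comp, zero_add] at this
        exact congr($this y)
      obtain ⟨p, hp⟩ := hv (Submodule.Quotient.mk y₀)
      obtain ⟨y', hy'⟩ := (Submodule.Quotient.eq _).1
        ((LinearMap.congr_fun hφ₀ p).trans hp).symm
      let p' := (singleObjXSelf (ComplexShape.up ℤ) b P).inv p
      refine ⟨(CochainComplex.mappingCone.inl φ).v b (b - 1) (by omega) p' +
        (CochainComplex.mappingCone.inr φ).f (b - 1) y', ?_⟩
      have e1 := congr($(CochainComplex.mappingCone.inl_v_d φ b (b - 1) (b + 1) (by omega) (by omega)) p')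
      have e2 : φ.f b p' = φ₀ p := by
        simp only [φ]
        erw [HomologicalComplex.mkHomFromSingle_f]
        simp [p']
      have e3 := congr($((CochainComplex.mappingCone.inr φ).comm (b - 1) b) y')
      rw [show L.d b (b + 1) = 0 from single_obj_d _ _ _ _ _, zero_comp, sub_zero] at e1
      simp only [ModuleCat.comp_apply] at e1 e3
      rw [map_add, e1, e3, e2, ← map_add]
      congr 1
      erw [hy']
      abel
    have hvan : DRingTor.Van a (b - 1) G := fun M i hi => by
      by_cases hib : i < a ∨ b < i
      · exact (HomologicalComplex.exactAt_iff_isZero_homology _ i).2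
          (ShortComplex.isZero_homology_of_isZero_X₂ _ ((tensorRight M).map_isZero (hGz i hib)))
      obtain rfl : i = b := by omega
      rw [exactAt_iff' _ (i - 1) i (i + 1) (by simp) (by simp), ShortComplex.moduleCat_exact_iff]
      intro x _
      exact LinearMap.rTensor_surjective M hsurj x
    obtain ⟨G', hG'z, hG'f, ⟨e⟩⟩ := DRingTor.hasTorAmplitudeIn_of_van hGK hvan (Iso.refl _)
    have hG' : RPerf (DerivedCategory.Q.obj G') := ih G' (b - 1) hG'z hG'f
      ((powIso_cone φ h hL1).of_iso hGK
        (DRingTor.isKF_of_flat hG'f fun i hi => hG'z i (Or.inr hi)) e.symm) (by omega)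
    obtain ⟨E, c, d, hE, hE', ⟨eE⟩⟩ := hG'
    exact rperf_of_cone φ hLR ⟨E, c, d, hE, hE', ⟨eE ≪≫ e⟩⟩

end Groth.Agent.Perf52
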