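import Groth.Agent.Perf52.BaseChangeCore
import Groth.Agent.Perf52.PowerCriterion

/-!
# Perfectness after base change, from the natural identification of homologies
-/

set_option linter.style.haveILetI false

universe u

open CategoryTheory CategoryTheory.Limits AlgebraicGeometry MonoidalCategory HomologicalComplex

attribute [local instance] HasDerivedCategory.standard

namespace Groth.Agent.Perf52

open Groth.Agent Groth.Agent.KFlatLib Groth.Agent.H9Misc
open scoped TensorProduct

section

variable {R : Type u} [CommRing R]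

/-- Homology commutes with powers. -/
lemma bijective_homology_ev (T : Type u) (K : DRing.Cx R) (i : ℤ) :
    Function.Bijective (fun (x : ((powC T).obj K).homology i) (t : T) =>
      (homologyMap (evC T t K) i) x) := by
  haveI : (𝟭 (ModuleCat.{u} R)).PreservesHomology := inferInstance
  let e := (K.sc i).mapHomologyIso (pow T)
  let e' := (K.sc i).mapHomologyIso (𝟭 (ModuleCat.{u} R))
  have h : ∀ t x, (homologyMap (evC T t K) i) x = e'.inv ((e.hom x : T → K.homology i) t) := fun t x =>
    congr($(ShortComplex.homologyMap_mapNatTrans (K.sc i) (evP (R := R) T t)) x)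
  refine ⟨fun x y hxy => ?_, fun z => ?_⟩
  · refine (ConcreteCategory.bijective_of_isIso e.hom).1 (funext fun t => ?_)
    exact (ConcreteCategory.bijective_of_isIso e'.inv).1
      ((h t x).symm.trans ((congrFun hxy t).trans (h t y)))
  · obtain ⟨x, hx⟩ := (ConcreteCategory.bijective_of_isIso e.hom).2 (fun t => e'.hom (z t))
    refine ⟨x, funext fun t => (h t x).trans ?_⟩
    rw [hx]
    exact congr($(e'.hom_inv_id) (z t))

end

variable {A B : CommRingCat.{u}} (φ : A ⟶ B)

/-- `M ⊗ res (B^T) → (T → M ⊗ res B)`. -/
noncomputable def thetaT (T : Type u) :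
    tensorRight ((resM φ).obj (ModuleCat.of B (T → B))) ⟶
      tensorRight ((resM φ).obj (ModuleCat.of B B)) ⋙ pow T where
  app M := ModuleCat.ofHom (LinearMap.pi fun t : T =>
    ((resM φ).map (projT T t)).hom.lTensor M)
  naturality _ _ _ := ModuleCat.hom_ext (TensorProduct.ext' fun _ _ => rfl)

lemma bijective_thetaT (T : Type u) (M : ModuleCat.{u} A) [Module.FinitePresentation A M] :
    Function.Bijective ((thetaT φ T).app M) := by
  let Q : T → Type u := fun _ => (resM φ).obj (ModuleCat.of B B)
  let ι : (resM φ).obj (ModuleCat.of B (T → B)) ≃ₗ[A] (∀ t, Q t) :=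
    { toFun := fun x => x
      invFun := fun x => x
      map_add' := fun _ _ => rfl
      map_smul' := fun _ _ => rfl }
  have e : ∀ x, ((thetaT φ T).app M) x =
      TensorProduct.piRightHom A A M Q (ι.toLinearMap.lTensor M x) := fun x => funext fun t => by
    rw [CAlgUI.piRightHom_eq_proj, ← LinearMap.comp_apply, ← LinearMap.lTensor_comp]
    rfl
  have hb := (CAlgUI.piRightHom_bijective_of_fp (R := A) (M := M) (ι := T) (Q := Q)).comp
    (LinearEquiv.lTensor M ι).bijective
  have e' : ⇑((thetaT φ T).app M) = _ := funext e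
  rw [e']
  exact hb

/-- Commutation with powers from the natural identification of homologies. -/
theorem powIso_of_natIso {P : CochainComplex (ModuleCat.{u} A) ℤ} {F : CochainComplex (ModuleCat.{u} B) ℤ}
    (hP : ∀ n, Module.FinitePresentation A (P.X n))
    (N : ∀ i : ℤ, Nonempty (twA F ⋙ HomologicalComplex.homologyFunctor _ _ i ⋙ resM φ ≅
      resM φ ⋙ twA P ⋙ HomologicalComplex.homologyFunctor _ _ i)) : PowIso F := fun T => by
  rw [quasiIso_iff]
  intro i
  rw [quasiIsoAt_iff_isIso_homologyMap, ConcreteCategory.isIso_iff_bijective]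
  obtain ⟨N⟩ := N i
  let U := ModuleCat.of B B
  let KF : ((twA F).obj (ModuleCat.of B (T → B))).homology i → T → ((twA F).obj U).homology i :=
    fun x t => homologyMap ((twA F).map (projT T t)) i x
  let θ : (twA P).obj ((resM φ).obj (ModuleCat.of B (T → B))) ⟶
      (powC T).obj ((twA P).obj ((resM φ).obj U)) :=
    (NatTrans.mapHomologicalComplex (thetaT φ T) (ComplexShape.up ℤ)).app P
  haveI : ∀ n, IsIso (θ.f n) := fun n => by
    haveI := hP n
    exact (ConcreteCategory.isIso_iff_bijective _).2 (bijective_thetaT φ T (P.X n))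
  haveI := HomologicalComplex.Hom.isIso_of_components θ
  haveI : IsIso (homologyMap θ i) :=
    ((HomologicalComplex.homologyFunctor (ModuleCat.{u} A) (ComplexShape.up ℤ) i).map_isIso θ)
  have hθ : ∀ t, θ ≫ evC T t _ = (twA P).map ((resM φ).map (projT T t)) := fun t => by
    ext n : 1
    rfl
  have hKP : Function.Bijective (fun (x : ((twA P).obj ((resM φ).obj (ModuleCat.of B (T → B)))).homology i)
      (t : T) => homologyMap ((twA P).map ((resM φ).map (projT T t))) i x) := by
    have h := (bijective_homology_ev T ((twA P).obj ((resM φ).obj U)) i).comp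
      (ConcreteCategory.bijective_of_isIso (homologyMap θ i))
    convert h using 1
    funext x t
    change _ = homologyMap (evC T t _) i (homologyMap θ i x)
    rw [← ModuleCat.comp_apply, ← homologyMap_comp, hθ]
  let n₁ := N.app (ModuleCat.of B (T → B))
  let n₂ := N.app U
  have hnat : ∀ t x, n₂.hom (KF x t) =
      homologyMap ((twA P).map ((resM φ).map (projT T t))) i (n₁.hom x) := fun t x =>
    congr($(N.hom.naturality (projT T t)) x)
  have hKF : Function.Bijective KF := by
    refine ⟨fun x y hxy => ?_, fun z => ?_⟩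
    · refine (ConcreteCategory.bijective_of_isIso n₁.hom).1 (hKP.1 (funext fun t => ?_))
      exact (hnat t x).symm.trans ((congrArg n₂.hom (congrFun hxy t)).trans (hnat t y))
    · obtain ⟨w, hw⟩ := hKP.2 (fun t => n₂.hom (z t))
      obtain ⟨x, hx⟩ := (ConcreteCategory.bijective_of_isIso n₁.hom).2 w
      refine ⟨x, funext fun t => (ConcreteCategory.bijective_of_isIso n₂.hom).1 ?_⟩
      exact (hnat t x).trans ((congrArg _ hx).trans (congrFun hw t))
  let ρF : (twA F).obj U ≅ F :=
    HomologicalComplex.Hom.isoOfComponents (fun m => ρ_ (F.X m))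
      (fun j k _ => (MonoidalCategory.rightUnitor_naturality (F.d j k)).symm)
  have hc : ∀ t, cmp T F ≫ evC T t F = (twA F).map (projT T t) ≫ ρF.hom := fun t => by
    ext n : 1
    exact ModuleCat.hom_ext (TensorProduct.ext' fun m x => rfl)
  haveI : IsIso (homologyMap ρF.hom i) :=
    ((HomologicalComplex.homologyFunctor (ModuleCat.{u} B) (ComplexShape.up ℤ) i).map_isIso ρF.hom)
  have hρ := ConcreteCategory.bijective_of_isIso (homologyMap ρF.hom i)
  refine Function.Bijective.of_comp_iff' (bijective_homology_ev T F i) _ |>.1 ?_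
  have h := (hρ.comp_left (α := T)).comp hKF
  refine (congrArg Function.Bijective (funext fun x => funext fun t => ?_)).mp h
  have e : homologyMap (cmp T F ≫ evC T t F) i =
      homologyMap ((twA F).map (projT T t) ≫ ρF.hom) i := congrArg (fun z => homologyMap z i) (hc t)
  exact (congr($(homologyMap_comp ((twA F).map (projT T t)) ρF.hom i) x)).symm.trans
    ((congr($e x)).symm.trans (congr($(homologyMap_comp (cmp T F) (evC T t F) i) x)))

/-- Perfectness of `F~` from the natural identification of homologies with those of a complex of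
finitely presented modules. -/
theorem isPerfect_of_natIso {P : CochainComplex (ModuleCat.{u} A) ℤ}
    (hP : ∀ n, Module.FinitePresentation A (P.X n)) {F : CochainComplex (ModuleCat.{u} B) ℤ}
    (a b : ℤ) (hz : ∀ i, i < a ∨ b < i → IsZero (F.X i)) (hf : ∀ i, Module.Flat B (F.X i))
    (N : ∀ i : ℤ, Nonempty (twA F ⋙ HomologicalComplex.homologyFunctor _ _ i ⋙ resM φ ≅
      resM φ ⋙ twA P ⋙ HomologicalComplex.homologyFunctor _ _ i)) :
    DCoh.IsPerfect (DerivedCategory.Q.obj ((tildeCx B).obj F)) :=
  (isPerfect_iff _).2 (LocSP.of_iso (toDTildeIso F)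
    (locSP_of_rperf (rperf_of_powIso F a b hz hf (powIso_of_natIso φ hP N))))

end Groth.Agent.Perf52
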