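import Groth.Agent.Perf52.TildeTensor
import Groth.Agent.KFlatLib.Single

/-!
# `P~ ⊗ M~ ≅ (P ⊗ M)~`, naturally in the module `M`
-/

set_option linter.style.haveILetI false
set_option backward.isDefEq.respectTransparency false

universe u

open CategoryTheory CategoryTheory.Limits AlgebraicGeometry MonoidalCategory

namespace Groth.Agent.Perf52

open Groth.Agent Groth.Agent.KFlatLib

variable {R : CommRingCat.{u}}

/-- `tilde` on complexes. -/
noncomputable abbrev tildeCx (R : CommRingCat.{u}) :
    CochainComplex (ModuleCat.{u} R) ℤ ⥤ CochainComplex (Spec R).Modules ℤ :=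
  (tilde.functor R).mapHomologicalComplex (ComplexShape.up ℤ)

/-- Tensoring a complex with a module, as a functor of the module. -/
noncomputable def twA (P : CochainComplex (ModuleCat.{u} R) ℤ) :
    ModuleCat.{u} R ⥤ CochainComplex (ModuleCat.{u} R) ℤ where
  obj M := ((tensorRight M).mapHomologicalComplex (ComplexShape.up ℤ)).obj P
  map {M N} φ := (NatTrans.mapHomologicalComplex ((tensoringRight _).map φ) (ComplexShape.up ℤ)).app P
  map_id M := by ext n : 1; simp
  map_comp φ ψ := by ext n : 1; simp

lemma twA_obj (P : CochainComplex (ModuleCat.{u} R) ℤ) (M : ModuleCat.{u} R) :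
    (twA P).obj M = ((tensorRight M).mapHomologicalComplex (ComplexShape.up ℤ)).obj P := rfl

/-- The degreewise comparison. -/
noncomputable def tildeTwX (P : CochainComplex (ModuleCat.{u} R) ℤ) (M : ModuleCat.{u} R) (n : ℤ) :
    ((tildeCx R).obj ((twA P).obj M)).X n ⟶
      ((DCoh.tensorCx.obj ((tildeCx R).obj P)).obj
        ((HomologicalComplex.single (Spec R).Modules (ComplexShape.up ℤ) 0).obj
          ((tilde.functor R).obj M))).X n :=
  tildeTensorHom (P.X n) M ≫
    singleSummand (T := DCoh.tensorBi) ((tildeCx R).obj P) ((tilde.functor R).obj M) 0 n n (add_zero n)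

lemma isIso_tildeTwX (P : CochainComplex (ModuleCat.{u} R) ℤ) (M : ModuleCat.{u} R) (n : ℤ) :
    IsIso (tildeTwX P M n) :=
  IsIso.comp_isIso' (isIso_tildeTensorHom _ _) (isIso_singleSummand _ _ _ _ _ _)

/-- The comparison at a module. -/
noncomputable def tildeTwIso (P : CochainComplex (ModuleCat.{u} R) ℤ) (M : ModuleCat.{u} R) :
    (tildeCx R).obj ((twA P).obj M) ≅
      (DCoh.tensorCx.obj ((tildeCx R).obj P)).obj
        ((HomologicalComplex.single (Spec R).Modules (ComplexShape.up ℤ) 0).obj
          ((tilde.functor R).obj M)) :=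
  HomologicalComplex.Hom.isoOfComponents
    (fun n => @asIso _ _ _ _ (tildeTwX P M n) (isIso_tildeTwX P M n))
    (fun i j hij => by
      change i + 1 = j at hij
      simp only [asIso_hom, tildeTwX]
      rw [Category.assoc]
      erw [singleSummand_d (T := DCoh.tensorBi) ((tildeCx R).obj P) ((tilde.functor R).obj M) 0 i j i j
        (add_zero i) (add_zero j) hij]
      rw [← Category.assoc, ← Category.assoc]
      refine congrArg (· ≫ _) ?_
      exact (tildeTensorHom_naturality_left (P.d i j) M).symm)

theorem tildeTwIso_naturality (P : CochainComplex (ModuleCat.{u} R) ℤ) {M N : ModuleCat.{u} R}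
    (φ : M ⟶ N) :
    (tildeCx R).map ((twA P).map φ) ≫ (tildeTwIso P N).hom =
      (tildeTwIso P M).hom ≫ (DCoh.tensorCx.obj ((tildeCx R).obj P)).map
        ((HomologicalComplex.single (Spec R).Modules (ComplexShape.up ℤ) 0).map
          ((tilde.functor R).map φ)) := by
  ext n : 1
  simp only [HomologicalComplex.comp_f, tildeTwIso, HomologicalComplex.Hom.isoOfComponents_hom_f,
    asIso_hom, tildeTwX]
  have h : (tilde.functor R).map (P.X n ◁ φ) ≫ tildeTensorHom (P.X n) N = _ :=
    tildeTensorHom_naturality_right (P.X n) φ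
  refine (Category.assoc _ _ _).symm.trans ?_
  refine (congrArg (· ≫ _) h).trans ?_
  refine (Category.assoc _ _ _).trans (Eq.trans ?_ (Category.assoc _ _ _).symm)
  refine congrArg (_ ≫ ·) ?_
  simp only [singleSummand, Category.assoc]
  erw [HomologicalComplex.ι_mapBifunctorMap, ← Functor.map_comp_assoc]
  simp only [HomologicalComplex.id_f, CategoryTheory.Functor.map_id, NatTrans.id_app,
    Category.id_comp]
  erw [← Functor.map_comp_assoc]
  refine congrArg (fun t => (DCoh.tensorBi.obj _).map t ≫ _) ?_
  rw [HomologicalComplex.single_map_f_self]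
  simp

/-- `tilde ⋙ (P~ ⊗ -) ≅ (P ⊗ -) ⋙ tilde`. -/
noncomputable def tildeTwNatIso (P : CochainComplex (ModuleCat.{u} R) ℤ) :
    tilde.functor R ⋙ HomologicalComplex.single (Spec R).Modules (ComplexShape.up ℤ) 0 ⋙
        DCoh.tensorCx.obj ((tildeCx R).obj P) ≅
      twA P ⋙ tildeCx R :=
  NatIso.ofComponents (fun M => (tildeTwIso P M).symm) (fun {M N} φ => by
    simp only [Functor.comp_map, Iso.symm_hom]
    rw [Iso.eq_inv_comp, ← Category.assoc, Iso.comp_inv_eq]
    exact (tildeTwIso_naturality P φ).symm)

end Groth.Agent.Perf52
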