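import Groth.Agent.Perf52.BaseChangeNat
import Groth.Agent.Perf52.TensorSingleNat
import Groth.Agent.KFlatLib.Scheme.TildePush
import Groth.Agent.KFlatLib.Scheme.TildeD
import Groth.Agent.KFlatLib.Scheme.ProjLocFree
import Groth.Agent.S12131

/-!
# Base change along an affine morphism, in terms of homology of complexes of modules

If `P` and `F` are complexes of modules computing `Rf_*` and `Rf'_*` together with the projection
formulas in a module variable, then `H^i(F ⊗_B M)` restricted to `A` is `H^i(P ⊗_A M)`, naturally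
in the `B`-module `M`.
-/

set_option linter.style.haveILetI false

universe u

open CategoryTheory CategoryTheory.Limits AlgebraicGeometry

attribute [local instance] HasDerivedCategory.standard

namespace Groth.Agent.Perf52

open Groth.Agent Groth.Agent.KFlatLib

/-- Homology commutes with an exact functor, naturally. -/
noncomputable def mapHCHomologyIso {C D : Type*} [Category C] [Category D] [Abelian C] [Abelian D]
    (F : C ⥤ D) [F.Additive] [F.PreservesHomology] (i : ℤ) :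
    F.mapHomologicalComplex (ComplexShape.up ℤ) ⋙ HomologicalComplex.homologyFunctor D _ i ≅
      HomologicalComplex.homologyFunctor C (ComplexShape.up ℤ) i ⋙ F :=
  NatIso.ofComponents (fun K => (K.sc i).mapHomologyIso F)
    (fun φ => ShortComplex.mapHomologyIso_hom_naturality
      ((HomologicalComplex.shortComplexFunctor C (ComplexShape.up ℤ) i).map φ) F)

/-- The module base change, as a natural transformation. -/
noncomputable def bcNat {X X' S S' : Scheme.{u}} {f : X ⟶ S} {g : S' ⟶ S} {f' : X' ⟶ S'}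
    {g' : X' ⟶ X} (h : IsPullback g' f' f g) :
    Scheme.Modules.pushforward g ⋙ Scheme.Modules.pullback f ⟶
      Scheme.Modules.pullback f' ⋙ Scheme.Modules.pushforward g' :=
  Functor.whiskerRight (Functor.whiskerRight
      (Scheme.Modules.pullbackPushforwardAdjunction f').unit (Scheme.Modules.pushforward g) ≫
    Functor.whiskerLeft (Scheme.Modules.pullback f')
      ((Scheme.Modules.pushforwardComp f' g).hom ≫ (Scheme.Modules.pushforwardCongr h.flip.w).hom ≫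
        (Scheme.Modules.pushforwardComp g' f).inv)) (Scheme.Modules.pullback f) ≫
  Functor.whiskerLeft (Scheme.Modules.pullback f' ⋙ Scheme.Modules.pushforward g')
    (Scheme.Modules.pullbackPushforwardAdjunction f).counit

lemma isIso_bcNat {X X' S S' : Scheme.{u}} {f : X ⟶ S} {g : S' ⟶ S} {f' : X' ⟶ S'} {g' : X' ⟶ X}
    (h : IsPullback g' f' f g) [IsAffineHom g] (M : S'.Modules) (hM : Coh.IsQCoh M) :
    IsIso ((bcNat h).app M) := by
  haveI := hM
  have h1 := Groth.Agent.S12131.result g f f' g' h.flip M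
  rw [Adjunction.homEquiv_counit] at h1
  exact h1

variable {A B : CommRingCat.{u}} (φ : A ⟶ B) {X X' : Scheme.{u}} {f : X ⟶ Spec A}
  {f' : X' ⟶ Spec B} {g' : X' ⟶ X}

/-- Restriction of scalars. -/
noncomputable abbrev resM : ModuleCat.{u} B ⥤ ModuleCat.{u} A :=
  ModuleCat.restrictScalars.{u} φ.hom

/-- `Rg_*` of a complex of `tilde`s. -/
theorem nonempty_rpush_tildeCx [DCoh.HasRpush (Spec.map φ)] :
    Nonempty (tildeCx B ⋙ DerivedCategory.Q ⋙ DCoh.Rpush (Spec.map φ) ≅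
      (resM φ).mapHomologicalComplex (ComplexShape.up ℤ) ⋙ tildeCx A ⋙ DerivedCategory.Q) := by
  let η := Functor.whiskerLeft (tildeCx B) (rpushUnit (Spec.map φ))
  haveI : ∀ K, IsIso (η.app K) := fun K =>
    (isIso_rpushUnit_iff (Spec.map φ) _).2 (isIso_unit_of_isAffineHom (Spec.map φ) _
      fun n => QCoh.isQCoh_spec_iff.2 ⟨K.X n, ⟨Iso.refl _⟩⟩)
  haveI := NatIso.isIso_of_isIso_app η
  let e : tildeCx B ⋙ pushCxF (Spec.map φ) ≅
      (resM φ).mapHomologicalComplex (ComplexShape.up ℤ) ⋙ tildeCx A :=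
    NatIso.ofComponents
      (fun K => HomologicalComplex.Hom.isoOfComponents (fun n => (pushTildeIso φ).app (K.X n))
        (fun i j _ => ((pushTildeIso φ).hom.naturality (K.d i j)).symm))
      (fun {K L} a => by
        ext n : 1
        exact (pushTildeIso φ).hom.naturality (a.f n))
  exact ⟨(Functor.associator _ _ _).symm ≪≫ (asIso η).symm ≪≫ (Functor.associator _ _ _).symm ≪≫
    Functor.isoWhiskerRight e DerivedCategory.Q⟩

variable [IsAffineHom g'] [DCoh.HasRpush f]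
  [DCoh.HasRpush f'] [DCoh.HasRpush g'] [DCoh.HasRpush (Spec.map φ)]
  {R : CochainComplex X.Modules ℤ} (hR : DCoh.IsKFlat R)
  (hRq : DCoh.IsQCohD (DerivedCategory.Q.obj R))
  {P : CochainComplex (ModuleCat.{u} A) ℤ} {F : CochainComplex (ModuleCat.{u} B) ℤ}
  {WA : (Spec A).Modules ⥤ X.Modules} {WB : (Spec B).Modules ⥤ X'.Modules}

include hR hRq in
/-- The natural identification of homologies. -/
theorem nonempty_bc_homology (h : IsPullback g' f' f (Spec.map φ))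
    (hWB : ∀ M : ModuleCat.{u} B, Coh.IsQCoh (WB.obj ((tilde.functor B).obj M)))
    (β : Nonempty (tilde.functor B ⋙ WB ⋙ Scheme.Modules.pushforward g' ≅
      tilde.functor B ⋙ Scheme.Modules.pushforward (Spec.map φ) ⋙ WA))
    (eA : Nonempty (tilde.functor A ⋙ sgl (Spec A) ⋙ DCoh.tensorCx.obj ((tildeCx A).obj P) ⋙
        DerivedCategory.Q ≅
      tilde.functor A ⋙ WA ⋙ sgl X ⋙ DCoh.tensorCx.obj R ⋙ DerivedCategory.Q ⋙ DCoh.Rpush f))
    (eB : Nonempty (tilde.functor B ⋙ sgl (Spec B) ⋙ DCoh.tensorCx.obj ((tildeCx B).obj F) ⋙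
        DerivedCategory.Q ≅
      tilde.functor B ⋙ WB ⋙ sgl X' ⋙ DCoh.tensorCx.obj ((pullCx g').obj R) ⋙ DerivedCategory.Q ⋙
        DCoh.Rpush f')) (i : ℤ) :
    Nonempty (twA F ⋙ HomologicalComplex.homologyFunctor _ _ i ⋙ resM φ ≅
      resM φ ⋙ twA P ⋙ HomologicalComplex.homologyFunctor _ _ i) := by
  obtain ⟨β⟩ := β; obtain ⟨eA⟩ := eA; obtain ⟨eB⟩ := eB
  haveI : DCoh.HasRpush (f' ≫ Spec.map φ) := hasRpush_scheme _
  haveI : DCoh.HasRpush (g' ≫ f) := hasRpush_scheme _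
  obtain ⟨c₁⟩ := nonempty_rpush_comp f' (Spec.map φ)
  obtain ⟨c₂⟩ := nonempty_rpush_comp g' f
  obtain ⟨r⟩ := nonempty_rpush_tildeCx φ
  let cc : DCoh.Rpush f' ⋙ DCoh.Rpush (Spec.map φ) ≅ DCoh.Rpush g' ⋙ DCoh.Rpush f :=
    c₁ ≪≫ eqToIso (by congr 1; exact h.w.symm) ≪≫ c₂.symm
  obtain ⟨pn⟩ := nonempty_pushNat g' (tilde.functor B ⋙ WB) hWB hR hRq
  -- the chain
  let s₁ : twA F ⋙ tildeCx B ⋙ DerivedCategory.Q ⋙ DCoh.Rpush (Spec.map φ) ≅
      tilde.functor B ⋙ WB ⋙ sgl X' ⋙ DCoh.tensorCx.obj ((pullCx g').obj R) ⋙ DerivedCategory.Q ⋙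
        DCoh.Rpush f' ⋙ DCoh.Rpush (Spec.map φ) :=
    Functor.isoWhiskerRight (tildeTwNatIso F).symm (DerivedCategory.Q ⋙ DCoh.Rpush (Spec.map φ)) ≪≫
      Functor.isoWhiskerRight eB (DCoh.Rpush (Spec.map φ))
  let s₂ : tilde.functor B ⋙ WB ⋙ sgl X' ⋙ DCoh.tensorCx.obj ((pullCx g').obj R) ⋙ DerivedCategory.Q ⋙
        DCoh.Rpush f' ⋙ DCoh.Rpush (Spec.map φ) ≅
      tilde.functor B ⋙ WB ⋙ sgl X' ⋙ pushCxF g' ⋙ DCoh.tensorCx.obj R ⋙ DerivedCategory.Q ⋙
        DCoh.Rpush f :=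
    Functor.isoWhiskerLeft (tilde.functor B ⋙ WB ⋙ sgl X' ⋙
      DCoh.tensorCx.obj ((pullCx g').obj R) ⋙ DerivedCategory.Q) cc ≪≫
      Functor.isoWhiskerRight pn.symm (DCoh.Rpush f)
  let s₃ : tilde.functor B ⋙ WB ⋙ sgl X' ⋙ pushCxF g' ⋙ DCoh.tensorCx.obj R ⋙ DerivedCategory.Q ⋙
        DCoh.Rpush f ≅
      resM φ ⋙ tilde.functor A ⋙ WA ⋙ sgl X ⋙ DCoh.tensorCx.obj R ⋙ DerivedCategory.Q ⋙
        DCoh.Rpush f :=
    Functor.isoWhiskerLeft (tilde.functor B ⋙ WB) (Functor.isoWhiskerRight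
      (HomologicalComplex.singleMapHomologicalComplex (Scheme.Modules.pushforward g')
        (ComplexShape.up ℤ) 0) (DCoh.tensorCx.obj R ⋙ DerivedCategory.Q ⋙ DCoh.Rpush f)) ≪≫
      Functor.isoWhiskerRight β (sgl X ⋙ DCoh.tensorCx.obj R ⋙ DerivedCategory.Q ⋙ DCoh.Rpush f) ≪≫
      Functor.isoWhiskerRight (pushTildeIso φ)
        (WA ⋙ sgl X ⋙ DCoh.tensorCx.obj R ⋙ DerivedCategory.Q ⋙ DCoh.Rpush f)
  let s₄ : resM φ ⋙ tilde.functor A ⋙ WA ⋙ sgl X ⋙ DCoh.tensorCx.obj R ⋙ DerivedCategory.Q ⋙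
        DCoh.Rpush f ≅
      resM φ ⋙ twA P ⋙ tildeCx A ⋙ DerivedCategory.Q :=
    Functor.isoWhiskerLeft (resM φ)
      (eA.symm ≪≫ Functor.isoWhiskerRight (tildeTwNatIso P) DerivedCategory.Q)
  let e₁ : (twA F ⋙ (resM φ).mapHomologicalComplex (ComplexShape.up ℤ)) ⋙ tildeCx A ⋙
        DerivedCategory.Q ≅ (resM φ ⋙ twA P) ⋙ tildeCx A ⋙ DerivedCategory.Q :=
    Functor.isoWhiskerLeft (twA F) r.symm ≪≫ s₁ ≪≫ s₂ ≪≫ s₃ ≪≫ s₄
  let H := HomologicalComplex.homologyFunctor (Spec A).Modules (ComplexShape.up ℤ) i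
  let e₂ : tildeCx A ⋙ DerivedCategory.Q ⋙ DerivedCategory.homologyFunctor _ i ≅
      HomologicalComplex.homologyFunctor _ _ i ⋙ tilde.functor A :=
    Functor.isoWhiskerLeft (tildeCx A) (DerivedCategory.homologyFunctorFactors _ i) ≪≫
      mapHCHomologyIso (tilde.functor A) i
  let e₃ : (twA F ⋙ (resM φ).mapHomologicalComplex (ComplexShape.up ℤ) ⋙
        HomologicalComplex.homologyFunctor _ _ i) ⋙ tilde.functor A ≅
      (resM φ ⋙ twA P ⋙ HomologicalComplex.homologyFunctor _ _ i) ⋙ tilde.functor A :=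
    Functor.isoWhiskerLeft (twA F ⋙ (resM φ).mapHomologicalComplex (ComplexShape.up ℤ)) e₂.symm ≪≫
      Functor.isoWhiskerRight e₁ (DerivedCategory.homologyFunctor _ i) ≪≫
      Functor.isoWhiskerLeft (resM φ ⋙ twA P) e₂
  exact ⟨Functor.isoWhiskerLeft (twA F) (mapHCHomologyIso (resM φ) i).symm ≪≫
    Functor.fullyFaithfulCancelRight (tilde.functor A) e₃⟩

end Groth.Agent.Perf52
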