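import Groth.Agent.KFlatLib.TotalMap

/-!
# Naturality of the comparison of total complexes in the first variable
-/

set_option linter.style.haveILetI false

universe v₁ u₁ v₂ u₂ v u v₁' u₁' v₂' u₂' v' u'

open CategoryTheory CategoryTheory.Limits

namespace Groth.Agent.Perf52

open Groth.Agent.KFlatLib

variable {A₁ : Type u₁} [Category.{v₁} A₁] [Preadditive A₁]
  {A₂ : Type u₂} [Category.{v₂} A₂] [Preadditive A₂]
  {A : Type u} [Category.{v} A] [Abelian A] [∀ S : Type, HasColimitsOfShape (Discrete S) A]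
  {B₁ : Type u₁'} [Category.{v₁'} B₁] [Preadditive B₁]
  {B₂ : Type u₂'} [Category.{v₂'} B₂] [Preadditive B₂]
  {B : Type u'} [Category.{v'} B] [Abelian B] [∀ S : Type, HasColimitsOfShape (Discrete S) B]
  {Φ₁ : A₁ ⥤ B₁} {Φ₂ : A₂ ⥤ B₂} {Ψ : A ⥤ B} [Φ₁.Additive] [Φ₂.Additive] [Ψ.Additive]
  {T : A₁ ⥤ A₂ ⥤ A} [T.Additive] [∀ X, (T.obj X).Additive]
  {T' : B₁ ⥤ B₂ ⥤ B} [T'.Additive] [∀ X, (T'.obj X).Additive]
  (θ : T ⋙ (Functor.whiskeringRight A₂ A B).obj Ψ ≅
    Φ₁ ⋙ T' ⋙ (Functor.whiskeringLeft A₂ B₂ B).obj Φ₂)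
  {L L' : CochainComplex A₁ ℤ} (K : CochainComplex A₂ ℤ)

lemma totalMapHom_naturality₁ (f : L ⟶ L') :
    (T'.map₂CochainComplex.map ((Φ₁.mapHomologicalComplex (ComplexShape.up ℤ)).map f)).app
        ((Φ₂.mapHomologicalComplex (ComplexShape.up ℤ)).obj K) ≫ totalMapHom θ L' K =
      totalMapHom θ L K ≫
        (Ψ.mapHomologicalComplex (ComplexShape.up ℤ)).map ((T.map₂CochainComplex.map f).app K) := by
  ext n : 1
  refine HomologicalComplex.mapBifunctor.hom_ext (fun p q h => ?_)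
  change p + q = n at h
  simp only [HomologicalComplex.comp_f]
  erw [ι_totalMapHom_assoc θ L K p q n h, HomologicalComplex.ι_mapBifunctorMap_assoc]
  simp only [HomologicalComplex.id_f, CategoryTheory.Functor.map_id,
    Functor.mapHomologicalComplex_map_f, Category.id_comp]
  erw [ι_totalMapHom θ L' K p q n h]
  simp only [totalMapι]
  have e := NatTrans.congr_app (θ.inv.naturality (f.f p)) (K.X q)
  simp only [NatTrans.comp_app, Functor.comp_map] at e
  erw [reassoc_of% e]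
  refine Eq.trans ?_ (Category.assoc _ _ _).symm
  refine congrArg (_ ≫ ·) ?_
  erw [← Ψ.map_comp, ← Ψ.map_comp]
  refine congrArg Ψ.map ?_
  erw [HomologicalComplex.ι_mapBifunctorMap]
  simp

end Groth.Agent.Perf52
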