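import Groth.Agent.KFlatLib.Scheme.ProjFormula
import Groth.Agent.KFlatLib.Scheme.AffinePush
import Groth.Agent.KFlatLib.Scheme.PushKInj
import Groth.Agent.KFlatLib.Scheme.AcyclicPush
import Groth.Agent.KFlatLib.Scheme.Adjoint
import Groth.Agent.Perf52.TotalMapNatLeft

/-!
# The projection formula, naturally in a module

For `f` flat, `R_0 ⊗ W ≅ Rf_*(R ⊗ f^*W)` naturally in the quasi-coherent module `W`; for `g` affine,
`g_*V ⊗ R ≅ Rg_*(V ⊗ g^*R)` naturally in the quasi-coherent module `V`.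
-/

set_option linter.style.haveILetI false

universe w u

open CategoryTheory CategoryTheory.Limits AlgebraicGeometry

attribute [local instance] HasDerivedCategory.standard

namespace Groth.Agent.Perf52

open Groth.Agent Groth.Agent.KFlatLib

variable {X Y : Scheme.{u}}

/-- A module as a complex. -/
noncomputable abbrev sgl (X : Scheme.{u}) : X.Modules ⥤ CochainComplex X.Modules ℤ :=
  HomologicalComplex.single X.Modules (ComplexShape.up ℤ) 0

lemma isQCohD_sgl {M : X.Modules} (hM : Coh.IsQCoh M) :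
    DCoh.IsQCohD (DerivedCategory.Q.obj ((sgl X).obj M)) := (isQCohD_Q_iff _).2 fun j => by
  rcases eq_or_ne j 0 with rfl | hj
  · exact isQCoh_of_iso (HomologicalComplex.singleObjHomologySelfIso _ _ _).symm hM
  · exact isQCoh_of_isZero (HomologicalComplex.isZero_single_obj_homology _ _ _ _ hj)

lemma isQCoh_sgl_X {M : X.Modules} (hM : Coh.IsQCoh M) (n : ℤ) : Coh.IsQCoh (((sgl X).obj M).X n) := by
  rcases eq_or_ne n 0 with rfl | hn
  · exact isQCoh_of_iso (HomologicalComplex.singleObjXSelf _ _ M).symm hM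
  · exact isQCoh_of_isZero (HomologicalComplex.isZero_single_obj_X _ _ M n hn)

/-- Flat pullback preserves quasi-isomorphisms. -/
lemma quasiIso_pullCx_of_flat (f : X ⟶ Y) [Flat f] {A B : CochainComplex Y.Modules ℤ} (φ : A ⟶ B)
    [QuasiIso φ] : QuasiIso ((pullCx f).map φ) :=
  quasiIso_of_acyclic_cone _ (acyclic_of_iso
    (CochainComplex.mappingCone.mapHomologicalComplexIso φ (Scheme.Modules.pullback f))
    fun i => exact_map_pullback f (acyclic_cone_of_quasiIso φ i))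

lemma exists_kFlat_res' (K : CochainComplex Y.Modules ℤ) :
    ∃ (P : CochainComplex Y.Modules ℤ) (a : P ⟶ K), QuasiIso a ∧ DCoh.IsKFlat P :=
  ⟨_, _, (flatCover Y).quasiIso_ψ K, isKFlat_kRes K⟩

lemma exists_kFlat_natRes {𝓒 : Type w} [Category.{u} 𝓒] (S : 𝓒 ⥤ CochainComplex Y.Modules ℤ) :
    ∃ (P : 𝓒 ⥤ CochainComplex Y.Modules ℤ) (ψ : P ⟶ S),
      (∀ M, QuasiIso (ψ.app M)) ∧ ∀ M, DCoh.IsKFlat (P.obj M) :=
  ⟨S ⋙ kRes Y, Functor.whiskerLeft S (flatCover Y).ψ ≫ (Functor.rightUnitor S).hom, fun M => by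
    simp only [NatTrans.comp_app, Functor.whiskerLeft_app, Functor.rightUnitor_hom_app]
    erw [Category.comp_id]
    exact (flatCover Y).quasiIso_ψ _, fun M => isKFlat_kRes _⟩

lemma isIso_projΘ (f : X ⟶ Y) [QuasiCompact f] [QuasiSeparated f] [DCoh.HasRpush f]
    {R : CochainComplex Y.Modules ℤ} {I : CochainComplex X.Modules ℤ} (a : R ⟶ (pushCxF f).obj I)
    (hR : DCoh.IsKFlat R) [QuasiIso a] [I.IsKInjective] (hI : DCoh.IsQCohD (DerivedCategory.Q.obj I))
    {P : CochainComplex Y.Modules ℤ} (hP : DCoh.IsKFlat P)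
    (hPq : DCoh.IsQCohD (DerivedCategory.Q.obj P)) : IsIso ((projΘ f I a).app P) := by
  haveI := isIso_projθ f I a hR hI P hPq
  haveI := isIso_kLiftε (kRespects_tensor R) hP
  haveI := isIso_kLiftε (kRespects_pullTensor f I) hP
  have h : IsIso ((kLiftε (kRespects_tensor R)).app P ≫ (projΘ f I a).app P) := by
    rw [← projθ_comp_ε f I a P]
    infer_instance
  exact IsIso.of_isIso_comp_left ((kLiftε (kRespects_tensor R)).app P) _

section Flat

variable (f : X ⟶ Y) [Flat f] [QuasiCompact f] [QuasiSeparated f] [DCoh.HasRpush f]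
  {𝓒 : Type w} [Category.{u} 𝓒] (W : 𝓒 ⥤ Y.Modules) (hW : ∀ M, Coh.IsQCoh (W.obj M))
  {R : CochainComplex X.Modules ℤ} (hR : DCoh.IsKFlat R)
  (hRq : DCoh.IsQCohD (DerivedCategory.Q.obj R))

include hW hR hRq in
/-- The projection formula for a flat morphism, naturally in a quasi-coherent module. -/
theorem nonempty_projNat :
    ∃ R₀ : CochainComplex Y.Modules ℤ, DCoh.IsKFlat R₀ ∧
      Nonempty (DerivedCategory.Q.obj R₀ ≅ (DCoh.Rpush f).obj (DerivedCategory.Q.obj R)) ∧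
      ∀ (T : CochainComplex Y.Modules ℤ), DCoh.IsKFlat T →
        Nonempty (DerivedCategory.Q.obj T ≅ DerivedCategory.Q.obj R₀) →
        Nonempty (W ⋙ sgl Y ⋙ DCoh.tensorCx.obj T ⋙ DerivedCategory.Q ≅
          W ⋙ sgl Y ⋙ pullCx f ⋙ DCoh.tensorCx.obj R ⋙ DerivedCategory.Q ⋙ DCoh.Rpush f) := by
  obtain ⟨I, s, hI, hs⟩ := exists_kInjective_res R
  obtain ⟨R₀, a, ha, hR₀⟩ := exists_kFlat_res' ((pushCxF f).obj I)
  haveI := ha
  haveI := isIso_Q_map a inferInstance
  haveI := isIso_Q_map s hs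
  haveI := isIso_rpushUnit_of_kInjective f I
  refine ⟨R₀, hR₀, ⟨asIso (DerivedCategory.Q.map a) ≪≫ asIso ((rpushUnit f).app I) ≪≫
    (DCoh.Rpush f).mapIso (asIso (DerivedCategory.Q.map s)).symm⟩, fun T hT ⟨eT⟩ => ?_⟩
  have hIq : DCoh.IsQCohD (DerivedCategory.Q.obj I) :=
    isQCohD_of_iso (asIso (DerivedCategory.Q.map s)) hRq
  let S := W ⋙ sgl Y
  obtain ⟨P, ψ, hψ, hP⟩ := exists_kFlat_natRes S
  -- change of the representative
  obtain ⟨Z, t, ht, u, hu⟩ := DerivedCategory.right_fac eT.hom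
  haveI : IsIso (DerivedCategory.Q.map t) := ht
  haveI : IsIso (DerivedCategory.Q.map u) := by
    have h : DerivedCategory.Q.map u = DerivedCategory.Q.map t ≫ eT.hom := by
      rw [hu, IsIso.hom_inv_id_assoc]
    rw [h]; infer_instance
  haveI : QuasiIso t := (DerivedCategory.isIso_Q_map_iff_quasiIso _ _).1 inferInstance
  haveI : QuasiIso u := (DerivedCategory.isIso_Q_map_iff_quasiIso _ _).1 inferInstance
  obtain ⟨Z', z, hz, hZ'⟩ := exists_kFlat_res' Z
  haveI := hz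
  let t' : Z' ⟶ T := z ≫ t
  let u' : Z' ⟶ R₀ := z ≫ u
  let φ₁ : P ⋙ DCoh.tensorCx.obj T ⋙ DerivedCategory.Q ⟶ S ⋙ DCoh.tensorCx.obj T ⋙ DerivedCategory.Q :=
    Functor.whiskerRight ψ (DCoh.tensorCx.obj T ⋙ DerivedCategory.Q)
  let φ₂ : P ⋙ DCoh.tensorCx.obj Z' ⋙ DerivedCategory.Q ⟶ P ⋙ DCoh.tensorCx.obj T ⋙ DerivedCategory.Q :=
    Functor.whiskerLeft P (Functor.whiskerRight (DCoh.tensorCx.map t') DerivedCategory.Q)
  let φ₂' : P ⋙ DCoh.tensorCx.obj Z' ⋙ DerivedCategory.Q ⟶ P ⋙ DCoh.tensorCx.obj R₀ ⋙ DerivedCategory.Q :=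
    Functor.whiskerLeft P (Functor.whiskerRight (DCoh.tensorCx.map u') DerivedCategory.Q)
  let φ₃ : P ⋙ DCoh.tensorCx.obj R₀ ⋙ DerivedCategory.Q ⟶
      P ⋙ (pullCx f ⋙ DCoh.tensorCx.obj I) ⋙ DerivedCategory.Q ⋙ DCoh.Rpush f :=
    Functor.whiskerLeft P (projΘ f I a)
  let φ₄ : P ⋙ pullCx f ⋙ DCoh.tensorCx.obj R ⋙ DerivedCategory.Q ⋙ DCoh.Rpush f ⟶
      P ⋙ pullCx f ⋙ DCoh.tensorCx.obj I ⋙ DerivedCategory.Q ⋙ DCoh.Rpush f :=
    Functor.whiskerLeft (P ⋙ pullCx f)
      (Functor.whiskerRight (DCoh.tensorCx.map s) (DerivedCategory.Q ⋙ DCoh.Rpush f))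
  let φ₅ : P ⋙ pullCx f ⋙ DCoh.tensorCx.obj R ⋙ DerivedCategory.Q ⋙ DCoh.Rpush f ⟶
      S ⋙ pullCx f ⋙ DCoh.tensorCx.obj R ⋙ DerivedCategory.Q ⋙ DCoh.Rpush f :=
    Functor.whiskerRight ψ (pullCx f ⋙ DCoh.tensorCx.obj R ⋙ DerivedCategory.Q ⋙ DCoh.Rpush f)
  haveI h₁ : ∀ M, IsIso (φ₁.app M) := fun M => by
    haveI := hψ M
    haveI : QuasiIso ((DCoh.tensorCx.obj T).map (ψ.app M)) := KFlat.quasiIso_map' (tensorBiFlipIso Y) hT _
    exact isIso_Q_map _ inferInstance
  haveI h₂ : ∀ M, IsIso (φ₂.app M) := fun M => by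
    haveI : QuasiIso ((DCoh.tensorCx.map t').app (P.obj M)) :=
      KFlat.quasiIso_map (T := DCoh.tensorBi) (hP M) t'
    exact isIso_Q_map _ inferInstance
  haveI h₂' : ∀ M, IsIso (φ₂'.app M) := fun M => by
    haveI : QuasiIso ((DCoh.tensorCx.map u').app (P.obj M)) :=
      KFlat.quasiIso_map (T := DCoh.tensorBi) (hP M) u'
    exact isIso_Q_map _ inferInstance
  haveI h₃ : ∀ M, IsIso (φ₃.app M) := fun M => by
    haveI := hψ M
    exact isIso_projΘ f a hR₀ hIq (hP M)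
      (isQCohD_of_iso (asIso (DerivedCategory.Q.map (ψ.app M))).symm (isQCohD_sgl (hW M)))
  haveI h₄ : ∀ M, IsIso (φ₄.app M) := fun M => by
    haveI : QuasiIso ((DCoh.tensorCx.map s).app ((pullCx f).obj (P.obj M))) :=
      KFlat.quasiIso_map (T := DCoh.tensorBi) (isKFlat_pullback f (hP M)) s
    haveI i : IsIso (DerivedCategory.Q.map ((DCoh.tensorCx.map s).app ((pullCx f).obj (P.obj M)))) :=
      isIso_Q_map _ inferInstance
    change IsIso ((DCoh.Rpush f).map (DerivedCategory.Q.map ((DCoh.tensorCx.map s).app ((pullCx f).obj (P.obj M)))))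
    infer_instance
  haveI h₅ : ∀ M, IsIso (φ₅.app M) := fun M => by
    haveI := hψ M
    haveI := quasiIso_pullCx_of_flat f (ψ.app M)
    haveI : QuasiIso ((DCoh.tensorCx.obj R).map ((pullCx f).map (ψ.app M))) :=
      KFlat.quasiIso_map' (tensorBiFlipIso X) hR _
    haveI : IsIso (DerivedCategory.Q.map ((DCoh.tensorCx.obj R).map ((pullCx f).map (ψ.app M)))) :=
      isIso_Q_map _ inferInstance
    exact inferInstanceAs (IsIso ((DCoh.Rpush f).map (DerivedCategory.Q.map _)))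
  haveI := NatIso.isIso_of_isIso_app φ₁
  haveI := NatIso.isIso_of_isIso_app φ₂
  haveI := NatIso.isIso_of_isIso_app φ₂'
  haveI := NatIso.isIso_of_isIso_app φ₃
  haveI := NatIso.isIso_of_isIso_app φ₄
  haveI := NatIso.isIso_of_isIso_app φ₅
  exact ⟨(asIso φ₁).symm ≪≫ (asIso φ₂).symm ≪≫ asIso φ₂' ≪≫ asIso φ₃ ≪≫ (asIso φ₄).symm ≪≫
    asIso φ₅⟩

end Flat

/-- The projection map is natural in the pair. -/
lemma projCx_naturality_pair (g : X ⟶ Y) {R₁ R₂ : CochainComplex Y.Modules ℤ}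
    {I₁ I₂ : CochainComplex X.Modules ℤ} (a₁ : R₁ ⟶ (pushCxF g).obj I₁) (a₂ : R₂ ⟶ (pushCxF g).obj I₂)
    (h : R₁ ⟶ R₂) (k : I₁ ⟶ I₂) (w : a₁ ≫ (pushCxF g).map k = h ≫ a₂)
    (P : CochainComplex Y.Modules ℤ) :
    (DCoh.tensorCx.map h).app P ≫ projCx g R₂ I₂ a₂ P =
      projCx g R₁ I₁ a₁ P ≫ (pushCxF g).map ((DCoh.tensorCx.map k).app ((pullCx g).obj P)) := by
  refine ((pullPushCxAdj g).homEquiv_naturality_left _ _).symm.trans ?_
  refine Eq.trans (congrArg _ ?_) ((pullPushCxAdj g).homEquiv_naturality_right _ _)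
  have w1 := totalMapHom_naturality₁ (pullTensorBiIso g) P h
  have w1' : (pullCx g).map ((DCoh.tensorCx.map h).app P) ≫ (pullTensorCxIso g R₂ P).inv =
      (pullTensorCxIso g R₁ P).inv ≫ (DCoh.tensorCx.map ((pullCx g).map h)).app ((pullCx g).obj P) := by
    rw [Iso.comp_inv_eq, Category.assoc, Iso.eq_inv_comp]
    exact w1.symm
  refine ((Category.assoc _ _ _).symm.trans (congrArg (· ≫ _) w1')).trans ?_
  refine (Category.assoc _ _ _).trans (Eq.trans ?_ (Category.assoc _ _ _).symm)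
  refine congrArg (_ ≫ ·) ?_
  have w2 : (pullCx g).map h ≫ ((pullPushCxAdj g).homEquiv R₂ I₂).symm a₂ =
      ((pullPushCxAdj g).homEquiv R₁ I₁).symm a₁ ≫ k := by
    rw [← Adjunction.homEquiv_naturality_left_symm, ← Adjunction.homEquiv_naturality_right_symm, w]
  rw [← NatTrans.comp_app, ← NatTrans.comp_app, ← Functor.map_comp, ← Functor.map_comp, w2]

section Affine

variable (g : X ⟶ Y) [IsAffineHom g] [DCoh.HasRpush g]
  {𝓒 : Type w} [Category.{u} 𝓒] (V : 𝓒 ⥤ X.Modules) (hV : ∀ M, Coh.IsQCoh (V.obj M))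
  {R : CochainComplex Y.Modules ℤ} (hR : DCoh.IsKFlat R)
  (hRq : DCoh.IsQCohD (DerivedCategory.Q.obj R))

include hV hR hRq in
/-- The projection formula for an affine morphism, naturally in a quasi-coherent module upstairs. -/
theorem nonempty_pushNat :
    Nonempty (V ⋙ sgl X ⋙ pushCxF g ⋙ DCoh.tensorCx.obj R ⋙ DerivedCategory.Q ≅
      V ⋙ sgl X ⋙ DCoh.tensorCx.obj ((pullCx g).obj R) ⋙ DerivedCategory.Q ⋙ DCoh.Rpush g) := by
  let S := V ⋙ sgl X
  let F₁ := S ⋙ pushCxF g ⋙ DCoh.tensorCx.flip.obj R ⋙ DerivedCategory.Q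
  let F₂ := S ⋙ DCoh.tensorCx.flip.obj ((pullCx g).obj R) ⋙ DerivedCategory.Q ⋙ DCoh.Rpush g
  let η : F₁ ⟶ F₂ :=
    { app := fun M => DerivedCategory.Q.map (projCx g _ (S.obj M) (𝟙 _) R) ≫ (rpushUnit g).app _
      naturality := fun M M' φ => by
        have h := congrArg (fun t => DerivedCategory.Q.map t) (projCx_naturality_pair g (𝟙 _) (𝟙 _)
          ((pushCxF g).map (S.map φ)) (S.map φ) (by rw [Category.id_comp, Category.comp_id]) R)
        simp only [Functor.map_comp] at h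
        simp only [F₁, F₂, Functor.comp_map, Functor.flip_obj_map, Category.assoc]
        erw [reassoc_of% h]
        exact congrArg (_ ≫ ·) ((rpushUnit g).naturality _) }
  haveI : ∀ M, IsIso (η.app M) := fun M => by
    let C := S.obj M
    obtain ⟨I, s, hI, hs⟩ := exists_kInjective_res C
    obtain ⟨R₀, p, hp, hR₀⟩ := exists_kFlat_res' ((pushCxF g).obj C)
    haveI := hp
    haveI hC : IsIso ((rpushUnit g).app C) :=
      (isIso_rpushUnit_iff g C).2 (isIso_unit_of_isAffineHom g C fun n => isQCoh_sgl_X (hV M) n)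
    haveI hI' := isIso_rpushUnit_of_kInjective g I
    haveI := isIso_Q_map s hs
    haveI hps : QuasiIso ((pushCxF g).map s) := by
      refine (DerivedCategory.isIso_Q_map_iff_quasiIso _ _).1 ?_
      have w := (rpushUnit g).naturality s
      simp only [Functor.comp_map] at w
      haveI : IsIso (DerivedCategory.Q.map ((pushCxF g).map s) ≫ (rpushUnit g).app I) := by
        erw [w]
        exact IsIso.comp_isIso' hC inferInstance
      exact IsIso.of_isIso_comp_right _ ((rpushUnit g).app I)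
    haveI : QuasiIso (p ≫ (pushCxF g).map s) := inferInstance
    haveI hΘ : IsIso ((projΘ g I (p ≫ (pushCxF g).map s)).app R) :=
      isIso_projΘ g _ hR₀
        (isQCohD_of_iso (asIso (DerivedCategory.Q.map s)) (isQCohD_sgl (hV M))) hR hRq
    haveI : QuasiIso ((DCoh.tensorCx.map p).app R) := KFlat.quasiIso_map (T := DCoh.tensorBi) hR p
    haveI : QuasiIso ((DCoh.tensorCx.map s).app ((pullCx g).obj R)) :=
      KFlat.quasiIso_map (T := DCoh.tensorBi) (isKFlat_pullback g hR) s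
    haveI i₁ : IsIso (DerivedCategory.Q.map ((DCoh.tensorCx.map p).app R)) := isIso_Q_map _ inferInstance
    haveI i₂ : IsIso ((DCoh.Rpush g).map (DerivedCategory.Q.map
        ((DCoh.tensorCx.map s).app ((pullCx g).obj R)))) :=
      haveI := isIso_Q_map ((DCoh.tensorCx.map s).app ((pullCx g).obj R)) inferInstance
      inferInstance
    have key : DerivedCategory.Q.map ((DCoh.tensorCx.map p).app R) ≫ η.app M ≫
        (DCoh.Rpush g).map (DerivedCategory.Q.map ((DCoh.tensorCx.map s).app ((pullCx g).obj R))) =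
        (projΘ g I (p ≫ (pushCxF g).map s)).app R := by
      have h₁ := projCx_naturality_pair g p (𝟙 _) p (𝟙 C) (by simp) R
      have h₂ := projCx_naturality_pair g p (p ≫ (pushCxF g).map s) (𝟙 R₀) s
        (by rw [Category.id_comp]) R
      simp only [CategoryTheory.Functor.map_id, NatTrans.id_app, Category.id_comp] at h₁ h₂
      have h₁' : (DCoh.tensorCx.map p).app R ≫ projCx g _ C (𝟙 _) R = projCx g R₀ C p R :=
        h₁.trans ((congrArg (projCx g R₀ C p R ≫ ·) ((pushCxF g).map_id _)).trans (Category.comp_id _))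
      have w := (rpushUnit g).naturality ((DCoh.tensorCx.map s).app ((pullCx g).obj R))
      simp only [Functor.comp_map] at w
      change _ ≫ (DerivedCategory.Q.map _ ≫ (rpushUnit g).app _) ≫ _ =
        DerivedCategory.Q.map (projCx g _ _ _ R) ≫ (rpushUnit g).app _
      erw [Category.assoc, ← w, ← Functor.map_comp_assoc, h₁', ← Functor.map_comp_assoc, ← h₂]
    haveI : IsIso (DerivedCategory.Q.map ((DCoh.tensorCx.map p).app R) ≫ η.app M ≫
        (DCoh.Rpush g).map (DerivedCategory.Q.map ((DCoh.tensorCx.map s).app ((pullCx g).obj R)))) := by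
      rw [key]; exact hΘ
    haveI := IsIso.of_isIso_comp_left (DerivedCategory.Q.map ((DCoh.tensorCx.map p).app R))
      (η.app M ≫ (DCoh.Rpush g).map (DerivedCategory.Q.map ((DCoh.tensorCx.map s).app ((pullCx g).obj R))))
    exact IsIso.of_isIso_comp_right _ ((DCoh.Rpush g).map
      (DerivedCategory.Q.map ((DCoh.tensorCx.map s).app ((pullCx g).obj R))))
  haveI := NatIso.isIso_of_isIso_app η
  exact ⟨Functor.isoWhiskerLeft (S ⋙ pushCxF g)
      (Functor.isoWhiskerRight (symmIso (tensorBiFlipIso Y) R).symm DerivedCategory.Q) ≪≫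
    asIso η ≪≫
    Functor.isoWhiskerLeft S (Functor.isoWhiskerRight (symmIso (tensorBiFlipIso X) ((pullCx g).obj R))
      (DerivedCategory.Q ⋙ DCoh.Rpush g))⟩

end Affine

end Groth.Agent.Perf52
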