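import Groth.Agent.Perf52.BaseChangeNat

/-!
# The projection formula, naturally in a module, for complexes flat over the base

As `Perf52.BaseChangeNat.nonempty_projNat`, without flatness of `f`: it is enough that `R ⊗ f^*(-)`
preserves quasi-isomorphisms.
-/

set_option linter.style.haveILetI false

universe w u

open CategoryTheory CategoryTheory.Limits AlgebraicGeometry

attribute [local instance] HasDerivedCategory.standard

namespace Groth.Agent.Perf52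

open Groth.Agent Groth.Agent.KFlatLib

variable {X Y : Scheme.{u}}

section General

variable (f : X ⟶ Y) [QuasiCompact f] [QuasiSeparated f] [DCoh.HasRpush f]
  {𝓒 : Type w} [Category.{u} 𝓒] (W : 𝓒 ⥤ Y.Modules) (hW : ∀ M, Coh.IsQCoh (W.obj M))
  {R : CochainComplex X.Modules ℤ}
  (hR : ∀ {A B : CochainComplex Y.Modules ℤ} (ψ : A ⟶ B), QuasiIso ψ →
    QuasiIso ((DCoh.tensorCx.obj R).map ((pullCx f).map ψ)))
  (hRq : DCoh.IsQCohD (DerivedCategory.Q.obj R))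

include hW hR hRq in
/-- The projection formula, naturally in a quasi-coherent module. -/
theorem nonempty_projNat' :
    ∃ R₀ : CochainComplex Y.Modules ℤ, DCoh.IsKFlat R₀ ∧
      Nonempty (DerivedCategory.Q.obj R₀ ≅ (DCoh.Rpush f).obj (DerivedCategory.Q.obj R)) ∧
      ∀ (T : CochainComplex Y.Modules ℤ), DCoh.IsKFlat T →
        Nonempty (DerivedCategory.Q.obj T ≅ DerivedCategory.Q.obj R₀) →
        Nonempty (W ⋙ sgl Y ⋙ DCoh.tensorCx.obj T ⋙ DerivedCategory.Q ≅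
          W ⋙ sgl Y ⋙ pullCx f ⋙ DCoh.tensorCx.obj R ⋙ DerivedCategory.Q ⋙ DCoh.Rpush f) := by
  obtain ⟨I, s, hI, hs⟩ := exists_kInjective_res R
  obtain ⟨R₀, a, ha, hR₀⟩ := exists_kFlat_res' ((pushCxF f).obj I)
  haveI := ha
  haveI := isIso_Q_map a inferInstance
  haveI := isIso_Q_map s hs
  haveI := isIso_rpushUnit_of_kInjective f I
  refine ⟨R₀, hR₀, ⟨asIso (DerivedCategory.Q.map a) ≪≫ asIso ((rpushUnit f).app I) ≪≫
    (DCoh.Rpush f).mapIso (asIso (DerivedCategory.Q.map s)).symm⟩, fun T hT ⟨eT⟩ => ?_⟩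
  have hIq : DCoh.IsQCohD (DerivedCategory.Q.obj I) :=
    isQCohD_of_iso (asIso (DerivedCategory.Q.map s)) hRq
  let S := W ⋙ sgl Y
  obtain ⟨P, ψ, hψ, hP⟩ := exists_kFlat_natRes S
  -- change of the representative
  obtain ⟨Z, t, ht, u, hu⟩ := DerivedCategory.right_fac eT.hom
  haveI : IsIso (DerivedCategory.Q.map t) := ht
  haveI : IsIso (DerivedCategory.Q.map u) := by
    have h : DerivedCategory.Q.map u = DerivedCategory.Q.map t ≫ eT.hom := by
      rw [hu, IsIso.hom_inv_id_assoc]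
    rw [h]; infer_instance
  haveI : QuasiIso t := (DerivedCategory.isIso_Q_map_iff_quasiIso _ _).1 inferInstance
  haveI : QuasiIso u := (DerivedCategory.isIso_Q_map_iff_quasiIso _ _).1 inferInstance
  obtain ⟨Z', z, hz, hZ'⟩ := exists_kFlat_res' Z
  haveI := hz
  let t' : Z' ⟶ T := z ≫ t
  let u' : Z' ⟶ R₀ := z ≫ u
  let φ₁ : P ⋙ DCoh.tensorCx.obj T ⋙ DerivedCategory.Q ⟶ S ⋙ DCoh.tensorCx.obj T ⋙ DerivedCategory.Q :=
    Functor.whiskerRight ψ (DCoh.tensorCx.obj T ⋙ DerivedCategory.Q)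
  let φ₂ : P ⋙ DCoh.tensorCx.obj Z' ⋙ DerivedCategory.Q ⟶ P ⋙ DCoh.tensorCx.obj T ⋙ DerivedCategory.Q :=
    Functor.whiskerLeft P (Functor.whiskerRight (DCoh.tensorCx.map t') DerivedCategory.Q)
  let φ₂' : P ⋙ DCoh.tensorCx.obj Z' ⋙ DerivedCategory.Q ⟶ P ⋙ DCoh.tensorCx.obj R₀ ⋙ DerivedCategory.Q :=
    Functor.whiskerLeft P (Functor.whiskerRight (DCoh.tensorCx.map u') DerivedCategory.Q)
  let φ₃ : P ⋙ DCoh.tensorCx.obj R₀ ⋙ DerivedCategory.Q ⟶
      P ⋙ (pullCx f ⋙ DCoh.tensorCx.obj I) ⋙ DerivedCategory.Q ⋙ DCoh.Rpush f :=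
    Functor.whiskerLeft P (projΘ f I a)
  let φ₄ : P ⋙ pullCx f ⋙ DCoh.tensorCx.obj R ⋙ DerivedCategory.Q ⋙ DCoh.Rpush f ⟶
      P ⋙ pullCx f ⋙ DCoh.tensorCx.obj I ⋙ DerivedCategory.Q ⋙ DCoh.Rpush f :=
    Functor.whiskerLeft (P ⋙ pullCx f)
      (Functor.whiskerRight (DCoh.tensorCx.map s) (DerivedCategory.Q ⋙ DCoh.Rpush f))
  let φ₅ : P ⋙ pullCx f ⋙ DCoh.tensorCx.obj R ⋙ DerivedCategory.Q ⋙ DCoh.Rpush f ⟶
      S ⋙ pullCx f ⋙ DCoh.tensorCx.obj R ⋙ DerivedCategory.Q ⋙ DCoh.Rpush f :=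
    Functor.whiskerRight ψ (pullCx f ⋙ DCoh.tensorCx.obj R ⋙ DerivedCategory.Q ⋙ DCoh.Rpush f)
  haveI h₁ : ∀ M, IsIso (φ₁.app M) := fun M => by
    haveI := hψ M
    haveI : QuasiIso ((DCoh.tensorCx.obj T).map (ψ.app M)) := KFlat.quasiIso_map' (tensorBiFlipIso Y) hT _
    exact isIso_Q_map _ inferInstance
  haveI h₂ : ∀ M, IsIso (φ₂.app M) := fun M => by
    haveI : QuasiIso ((DCoh.tensorCx.map t').app (P.obj M)) :=
      KFlat.quasiIso_map (T := DCoh.tensorBi) (hP M) t'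
    exact isIso_Q_map _ inferInstance
  haveI h₂' : ∀ M, IsIso (φ₂'.app M) := fun M => by
    haveI : QuasiIso ((DCoh.tensorCx.map u').app (P.obj M)) :=
      KFlat.quasiIso_map (T := DCoh.tensorBi) (hP M) u'
    exact isIso_Q_map _ inferInstance
  haveI h₃ : ∀ M, IsIso (φ₃.app M) := fun M => by
    haveI := hψ M
    exact isIso_projΘ f a hR₀ hIq (hP M)
      (isQCohD_of_iso (asIso (DerivedCategory.Q.map (ψ.app M))).symm (isQCohD_sgl (hW M)))
  haveI h₄ : ∀ M, IsIso (φ₄.app M) := fun M => by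
    haveI : QuasiIso ((DCoh.tensorCx.map s).app ((pullCx f).obj (P.obj M))) :=
      KFlat.quasiIso_map (T := DCoh.tensorBi) (isKFlat_pullback f (hP M)) s
    haveI i : IsIso (DerivedCategory.Q.map ((DCoh.tensorCx.map s).app ((pullCx f).obj (P.obj M)))) :=
      isIso_Q_map _ inferInstance
    change IsIso ((DCoh.Rpush f).map (DerivedCategory.Q.map ((DCoh.tensorCx.map s).app ((pullCx f).obj (P.obj M)))))
    infer_instance
  haveI h₅ : ∀ M, IsIso (φ₅.app M) := fun M => by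
    haveI := hψ M
    haveI : QuasiIso ((DCoh.tensorCx.obj R).map ((pullCx f).map (ψ.app M))) := hR _ (hψ M)
    haveI : IsIso (DerivedCategory.Q.map ((DCoh.tensorCx.obj R).map ((pullCx f).map (ψ.app M)))) :=
      isIso_Q_map _ inferInstance
    exact inferInstanceAs (IsIso ((DCoh.Rpush f).map (DerivedCategory.Q.map _)))
  haveI := NatIso.isIso_of_isIso_app φ₁
  haveI := NatIso.isIso_of_isIso_app φ₂
  haveI := NatIso.isIso_of_isIso_app φ₂'
  haveI := NatIso.isIso_of_isIso_app φ₃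
  haveI := NatIso.isIso_of_isIso_app φ₄
  haveI := NatIso.isIso_of_isIso_app φ₅
  exact ⟨(asIso φ₁).symm ≪≫ (asIso φ₂).symm ≪≫ asIso φ₂' ≪≫ asIso φ₃ ≪≫ (asIso φ₄).symm ≪≫
    asIso φ₅⟩

end General

end Groth.Agent.Perf52
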