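import Groth.Agent.Perf52.Generator

/-!
# Degrees in which cohomology, or maps from perfect objects, eventually vanish
-/

set_option linter.style.haveILetI false
set_option backward.isDefEq.respectTransparency false

universe u

open CategoryTheory CategoryTheory.Limits AlgebraicGeometry TopologicalSpace Pretriangulated Filter

attribute [local instance] HasDerivedCategory.standard

namespace Groth.Agent.Perf52

open Groth.Agent.KFlatLib

variable {X U : Scheme.{u}} {l : Filter ℤ}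

/-- A filter on degrees which is invariant under translation. -/
def TransInv (l : Filter ℤ) : Prop := ∀ k : ℤ, Tendsto (fun n => n + k) l l

lemma transInv_atTop : TransInv (atTop : Filter ℤ) := fun k => tendsto_atTop_add_const_right _ k tendsto_id

lemma transInv_atBot : TransInv (atBot : Filter ℤ) := fun k => tendsto_atBot_add_const_right _ k tendsto_id

/-- Cohomology vanishes eventually. -/
def BddAt (l : Filter ℤ) (E : DCoh.D X) : Prop := ∀ᶠ n in l, IsZero (DCoh.HD E n)

/-- Maps from `P` into the shifts vanish eventually. -/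
def EvHom (l : Filter ℤ) (P E : DCoh.D X) : Prop := ∀ᶠ n in l, ∀ φ : P ⟶ E⟦n⟧, φ = 0

lemma BddAt.of_iso {E E' : DCoh.D X} (e : E ≅ E') (h : BddAt l E) : BddAt l E' :=
  h.mono fun n hn => hn.of_iso ((DerivedCategory.homologyFunctor _ n).mapIso e.symm)

lemma bddAt_of_isZero {E : DCoh.D X} (h : IsZero E) : BddAt l E :=
  Eventually.of_forall fun n => (DerivedCategory.homologyFunctor _ n).map_isZero h

lemma BddAt.shift {E : DCoh.D X} (hl : TransInv l) (h : BddAt l E) (k : ℤ) : BddAt l (E⟦k⟧) :=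
  ((hl k).eventually h).mono fun n hn => hn.of_iso
    (((DerivedCategory.homologyFunctor X.Modules 0).shiftIso k n (n + k) (by omega)).app E)

lemma bddAt_obj₂ {T : Triangle (DCoh.D X)} (hT : T ∈ distTriang _) (h₁ : BddAt l T.obj₁)
    (h₃ : BddAt l T.obj₃) : BddAt l T.obj₂ := (h₁.and h₃).mono fun n hn =>
  (DerivedCategory.HomologySequence.exact₂ _ hT n).isZero_of_both_zeros
    (hn.1.eq_of_src _ _) (hn.2.eq_of_tgt _ _)

lemma BddAt.rho {E : DCoh.D X} (h : BddAt l E) (j : U ⟶ X) [IsOpenImmersion j] :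
    BddAt l ((Groth.Agent.KFlatLib.rho j).obj E) :=
  h.mono fun n hn => ((Scheme.Modules.restrictFunctor j).map_isZero hn).of_iso (restrictHDIso j E n)

lemma bddAt_of_cover {V : Scheme.{u}} (jU : U ⟶ X) (jV : V ⟶ X) [IsOpenImmersion jU]
    [IsOpenImmersion jV] (hcov : Set.range jU.base ∪ Set.range jV.base = Set.univ) {E : DCoh.D X}
    (hU : BddAt l ((rho jU).obj E)) (hV : BddAt l ((rho jV).obj E)) : BddAt l E :=
  (hU.and hV).mono fun n hn => isZero_of_stalk _ fun x =>
    (hcov.symm.subset (Set.mem_univ x)).elim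
      (fun ⟨y, hy⟩ => hy ▸ isZero_stalk_of_restrict jU y
        ((DerSch.stalkFunctor U y).map_isZero (hn.1.of_iso (restrictHDIso jU E n).symm)))
      (fun ⟨y, hy⟩ => hy ▸ isZero_stalk_of_restrict jV y
        ((DerSch.stalkFunctor V y).map_isZero (hn.2.of_iso (restrictHDIso jV E n).symm)))

lemma bddAt_of_rho (j : U ⟶ X) [IsOpenImmersion j] [Surjective j] {E : DCoh.D X}
    (h : BddAt l ((rho j).obj E)) : BddAt l E :=
  bddAt_of_cover j j (by rw [Set.union_self]; exact j.surjective.range_eq) h h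

/-- Bounded objects receive eventually no maps from perfect objects. -/
theorem evHom_of_bddAt [CompactSpace X] [QuasiSeparatedSpace X] (hl : TransInv l) {P E : DCoh.D X}
    (hP : DCoh.IsPerfect P) (hE : DCoh.IsQCohD E) (h : BddAt l E) : EvHom l P E := by
  obtain ⟨a, b, -, -, -, hz⟩ := exists_hom_range hP
  have h' : ∀ᶠ n in l, ∀ i ∈ Finset.Icc a b, IsZero (DCoh.HD E (n + i)) :=
    (Finset.Icc a b).eventually_all.2 fun i _ => (hl i).eventually h
  refine h'.mono fun n hn φ => hz _ (isQCohD_shift hE n) (fun i hia hib => ?_) φ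
  exact (hn i (Finset.mem_Icc.2 ⟨hia, hib⟩)).of_iso
    (((DerivedCategory.homologyFunctor X.Modules 0).shiftIso n i (n + i) rfl).app E)

lemma EvHom.of_iso {P P' E E' : DCoh.D X} (e : P ≅ P') (e' : E ≅ E') (h : EvHom l P E) :
    EvHom l P' E' := h.mono fun n hn φ => by
  rw [← cancel_epi e.hom, ← cancel_mono ((shiftFunctor (DCoh.D X) n).mapIso e').inv,
    Category.assoc, hn (e.hom ≫ φ ≫ ((shiftFunctor (DCoh.D X) n).mapIso e').inv), comp_zero, zero_comp]

lemma bijective_rho_shift (j : U ⟶ X) [IsOpenImmersion j] {M : DCoh.D X}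
    (h : ∀ K : DCoh.D X, Function.Bijective (fun φ : K ⟶ M => (rho j).map φ)) (K : DCoh.D X) (n : ℤ) :
    Function.Bijective (fun φ : K ⟶ M⟦n⟧ => (rho j).map φ) := by
  let s := (shiftFunctorCompIsoId (DCoh.D X) (-n) n (by omega)).app K
  let c := ((rho j).commShiftIso n).app (K⟦-n⟧)
  let c' := ((rho j).commShiftIso n).app M
  have hnat : ∀ w : K⟦-n⟧ ⟶ M, (rho j).map (w⟦n⟧') = c.hom ≫ ((rho j).map w)⟦n⟧' ≫ c'.inv := fun w => by
    rw [← Category.assoc, Iso.eq_comp_inv]
    exact ((rho j).commShiftIso n).hom.naturality w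
  constructor
  · intro φ ψ he
    obtain ⟨a, ha⟩ := (shiftFunctor (DCoh.D X) n).map_surjective (s.hom ≫ φ)
    obtain ⟨b, hb⟩ := (shiftFunctor (DCoh.D X) n).map_surjective (s.hom ≫ ψ)
    rw [← cancel_epi s.hom, ← ha, ← hb]
    refine congrArg _ ((h _).1 ((shiftFunctor (DCoh.D U) n).map_injective ?_))
    rw [← cancel_epi c.hom, ← cancel_mono c'.inv, Category.assoc, Category.assoc, ← hnat, ← hnat,
      ha, hb, Functor.map_comp, Functor.map_comp]
    exact congrArg (_ ≫ ·) he
  · intro y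
    obtain ⟨z, hz⟩ := (shiftFunctor (DCoh.D U) n).map_surjective
      (c.inv ≫ (rho j).map s.hom ≫ y ≫ c'.hom)
    obtain ⟨w, hw⟩ := (h _).2 z
    simp only at hw
    refine ⟨s.inv ≫ w⟦n⟧', ?_⟩
    change (rho j).map _ = y
    rw [Functor.map_comp, hnat, hw, hz]
    simp [← Functor.map_comp_assoc]

/-- Pushing forward from a quasi-compact open has bounded amplitude, seen on affine opens. -/
theorem evHom_push [CompactSpace X] [QuasiSeparatedSpace X] (hl : TransInv l) (W : X.Opens)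
    (hW : IsCompact (W : Set X)) {V : Scheme.{u}} (jV : V ⟶ X) [IsOpenImmersion jV] [IsAffine V]
    {M : DCoh.D X} (hM : DCoh.IsQCohD M)
    (hbij : ∀ K : DCoh.D X, Function.Bijective (fun φ : K ⟶ M => (rho W.ι).map φ))
    (hb : BddAt l ((rho W.ι).obj M)) {Q : DCoh.D V} (hQ : DCoh.IsPerfect Q) :
    EvHom l Q ((rho jV).obj M) := by
  let A := (lshD jV).obj Q
  let O : (W : Scheme.{u}).Opens := W.ι ⁻¹ᵁ jV.opensRange
  let N := (rho W.ι).obj A
  have hN : ∀ w ∉ Set.range O.ι.base, Z0 N w := fun w hw => by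
    refine (z0_rho_iff W.ι A w).2 (z0_lshD jV Q _ fun h => hw ?_)
    rw [Scheme.Opens.range_ι]
    exact h
  have hrange : Set.range (O.ι ≫ W.ι).base ⊆ Set.range jV.base := by
    rintro _ ⟨w, rfl⟩
    exact w.2
  let i : (O : Scheme.{u}) ⟶ V := IsOpenImmersion.lift jV (O.ι ≫ W.ι) hrange
  have hi : i ≫ jV = O.ι ≫ W.ι := IsOpenImmersion.lift_fac _ _ _
  haveI : IsOpenImmersion i := by
    haveI : IsOpenImmersion (i ≫ jV) := hi ▸ inferInstance
    exact IsOpenImmersion.of_comp i jV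
  have hOc : IsCompact (O : Set (W : Scheme.{u})) := by
    refine W.ι.isOpenEmbedding.isInducing.isCompact_iff.2 ?_
    change IsCompact (W.ι.base '' (W.ι.base ⁻¹' Set.range jV.base))
    rw [Set.image_preimage_eq_inter_range, Scheme.Opens.range_ι]
    exact QuasiSeparatedSpace.inter_isCompact _ _ jV.isOpenEmbedding.isOpen_range
      (isCompact_range jV.continuous) W.2 hW
  haveI : CompactSpace (O : Scheme.{u}) := isCompact_iff_compactSpace.1 hOc
  haveI : QuasiSeparatedSpace (O : Scheme.{u}) :=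
    quasiSeparatedSpace_of_quasiSeparated (O.ι ≫ W.ι)
  have hNp : DCoh.IsPerfect ((rho O.ι).obj N) :=
    isPerfect_of_iso (rhoComp O.ι W.ι (O.ι ≫ W.ι) rfl A ≪≫ (rhoComp i jV (O.ι ≫ W.ι) hi A).symm ≪≫
      (rho i).mapIso ((lshDRhoIso jV).app Q)).symm (isPerfect_rho i hQ)
  refine (evHom_of_bddAt hl hNp (isQCohD_rho O.ι (isQCohD_rho W.ι hM)) (hb.rho O.ι)).mono fun n hn φ => ?_
  obtain ⟨ψ, rfl⟩ : ∃ ψ : Q ⟶ (rho jV).obj (M⟦n⟧), φ = ψ ≫ (((rho jV).commShiftIso n).app M).hom :=
    ⟨φ ≫ (((rho jV).commShiftIso n).app M).inv, by simp⟩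
  have h0 : ∀ χ : A ⟶ M⟦n⟧, χ = 0 := fun χ => by
    refine (bijective_rho_shift W.ι hbij A n).1 ((rho_map_bijective_of_z0 O.ι N _ hN).1 ?_)
    change (rho O.ι).map ((rho W.ι).map χ) = (rho O.ι).map ((rho W.ι).map (0 : A ⟶ M⟦n⟧))
    rw [Functor.map_zero, Functor.map_zero,
      ← cancel_mono (((rho O.ι).mapIso (((rho W.ι).commShiftIso n).app M)) ≪≫
        ((rho O.ι).commShiftIso n).app ((rho W.ι).obj M)).hom, zero_comp]
    exact hn _
  rw [((lshDAdj jV).homEquiv Q (M⟦n⟧)).symm.injective ((h0 _).trans (h0 _).symm :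
    ((lshDAdj jV).homEquiv Q (M⟦n⟧)).symm ψ = ((lshDAdj jV).homEquiv Q (M⟦n⟧)).symm 0), zero_comp]

end Groth.Agent.Perf52
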