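import Groth.Agent.KSix54.PCI.Core

/-!
# Pseudo-coherence along closed immersions, without global bounds
-/

set_option linter.style.haveILetI false
set_option backward.isDefEq.respectTransparency false

universe u

open CategoryTheory CategoryTheory.Limits AlgebraicGeometry CategoryTheory.Pretriangulated

attribute [local instance] HasDerivedCategory.standard

namespace Groth.Agent.Perf52

open Groth.Agent.KFlatLib Groth.Agent.KSix54

/-- An `m`-pseudo-coherent object is locally bounded above. -/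
lemma exists_bound_near {X : Scheme.{u}} {K : DCoh.D X} {m : ℤ} (h : LocPC m K) (x : X) :
    ∃ (V : X.Opens) (b : ℤ), x ∈ V ∧ ∀ i, b < i → IsZero (DCoh.HD ((rho V.ι).obj K) i) := by
  obtain ⟨V, hx, hV⟩ := (isPseudoCoherentD_iff m K).2 h x
  obtain ⟨P, α, ⟨⟨a, b, hab⟩, -⟩, hα, -⟩ := hV (DerivedCategory.Q.objPreimage K) ⟨repIso K⟩
  refine ⟨V, max b m, hx, fun i hi => ?_⟩
  haveI := hα i (by omega)
  exact ((ShortComplex.isZero_homology_of_isZero_X₂ _ (hab i (Or.inr (by omega)))).of_iso
    ((DerivedCategory.homologyFunctorFactors (V : Scheme.{u}).Modules i).app P)).of_iso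
      ((DerivedCategory.homologyFunctor _ i).mapIso ((rho V.ι).mapIso (repIso K).symm ≪≫ (rhoQ V.ι).app _) ≪≫
        (asIso ((DerivedCategory.homologyFunctor (V : Scheme.{u}).Modules i).map α)).symm)

variable {Z X : Scheme.{u}} (i : Z ⟶ X) [IsClosedImmersion i]

/-- Pseudo-coherence is detected by the direct image along a closed immersion with pseudo-coherent `i_*O`. -/
theorem locPC_pushD_iff (hO : ∀ s, PushPC i s) (E : DCoh.D Z) (m : ℤ) :
    LocPC m E ↔ LocPC m ((pushD i).obj E) := by
  constructor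
  · intro hE
    refine locPC_pushD_of_cover i fun x => ?_
    obtain ⟨W, b, hxW, hz⟩ := exists_bound_near hE x
    obtain ⟨V, hxV, hVW⟩ := exists_preimage_eq i W hxW
    subst hVW
    refine ⟨V, hxV, ?_⟩
    haveI := restrict_closed i V
    exact (locPC_pushD (i ∣_ V) ((hO (m - b)).restrict i V) (LocPC.restrict hE _) hz).mono (by omega)
  · intro hE
    refine LocPC.of_local fun x => ?_
    obtain ⟨V, b, hxV, hz⟩ := exists_bound_near hE (i.base x)
    haveI := restrict_closed i V
    have h' : LocPC m ((pushD (i ∣_ V)).obj ((rho (i ⁻¹ᵁ V).ι).obj E)) :=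
      LocPC.of_iso (pushRho i V E) (LocPC.restrict hE V.ι)
    have hz' : ∀ j, b < j → IsZero (DCoh.HD ((rho (i ⁻¹ᵁ V).ι).obj E) j) := fun j hj =>
      isZero_of_push (i ∣_ V) (((hz j hj).of_iso ((DerivedCategory.homologyFunctor _ j).mapIso (pushRho i V E).symm)).of_iso
        ((pushHD (i ∣_ V) j).app _).symm)
    exact ⟨_, (i ⁻¹ᵁ V).ι, inferInstance, ⟨⟨x, hxV⟩, rfl⟩,
      locPC_of_pushD (i ∣_ V) ((hO (m + 1 - b)).restrict i V) hz' (by omega) h'⟩

end Groth.Agent.Perf52
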