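import Groth.Agent.Perf52.CohLift
import Groth.Agent.Perf52.DQCohNoeth
import Groth.Agent.Perf52.QCInst

/-!
# `D^b(Coh X) ≃ D^b_Coh(X)` for a Noetherian scheme
-/

set_option linter.style.haveILetI false
set_option linter.unusedSectionVars false
set_option backward.isDefEq.respectTransparency false
set_option backward.isDefEq.respectTransparency.types false

universe u

open CategoryTheory CategoryTheory.Limits AlgebraicGeometry TopologicalSpace

attribute [local instance] HasDerivedCategory.standard

namespace Groth.Agent.Perf52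

open Groth.Agent Groth.Agent.KFlatLib

variable (X : Scheme.{u}) [IsNoetherian X]
  [ObjectProperty.ContainsZero (fun M : X.Modules => Coh.IsCoh M)]
  [ObjectProperty.IsClosedUnderKernels (fun M : X.Modules => Coh.IsCoh M)]
  [ObjectProperty.IsClosedUnderCokernels (fun M : X.Modules => Coh.IsCoh M)]
  [ObjectProperty.IsClosedUnderFiniteProducts (fun M : X.Modules => Coh.IsCoh M)]

/-- The inclusion of coherent modules. -/
abbrev cohι : ObjectProperty.FullSubcategory (fun M : X.Modules => Coh.IsCoh M) ⥤ X.Modules :=
  ObjectProperty.ι (fun M : X.Modules => Coh.IsCoh M)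

variable [PreservesFiniteLimits (cohι X)] [PreservesFiniteColimits (cohι X)]

instance preservesFiniteLimits_cohIncl : PreservesFiniteLimits (cohIncl X) :=
  haveI : PreservesFiniteLimits (cohIncl X ⋙ qcι X) := inferInstanceAs (PreservesFiniteLimits (cohι X))
  haveI : PreservesFiniteLimits (qcι X) := preservesFiniteLimits_qc X
  preservesFiniteLimits_of_reflects_of_preserves (cohIncl X) (qcι X)

instance preservesFiniteColimits_cohIncl : PreservesFiniteColimits (cohIncl X) :=
  haveI : PreservesFiniteColimits (cohIncl X ⋙ qcι X) := inferInstanceAs (PreservesFiniteColimits (cohι X))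
  haveI : PreservesFiniteColimits (qcι X) := preservesFiniteColimits_qc X
  preservesFiniteColimits_of_reflects_of_preserves (cohIncl X) (qcι X)

/-- `D⁻(Coh X) → D(X)` is fully faithful and reaches every bounded above object of `D_Coh(X)`. -/
theorem derivedMinus_cohι :
    (∀ (M N : DerivedCategory (ObjectProperty.FullSubcategory (fun M : X.Modules => Coh.IsCoh M))) (b : ℤ),
      M.IsLE b → Function.Bijective (fun φ : M ⟶ N => (cohι X).mapDerivedCategory.map φ)) ∧
    ∀ (K : DCoh.D X) (b : ℤ), K.IsLE b → DCoh.IsCohD K →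
      ∃ M : DerivedCategory (ObjectProperty.FullSubcategory (fun M : X.Modules => Coh.IsCoh M)), M.IsLE b ∧
        Nonempty ((cohι X).mapDerivedCategory.obj M ≅ K) := by
  haveI : PreservesFiniteLimits (qcι X) := preservesFiniteLimits_qc X
  haveI : PreservesFiniteColimits (qcι X) := preservesFiniteColimits_qc X
  let φ := mapDCComp (cohIncl X) (qcι X) (cohι X) (Iso.refl _)
  obtain ⟨h₁, h₂⟩ := derivedMinus_cohIncl X
  obtain ⟨hfull, hfaith, hess⟩ := qcιD_equivalence_noeth (X := X)
  refine ⟨fun M N b hM => ?_, fun K b hK hC => ?_⟩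
  · have h : (fun f : M ⟶ N => (cohι X).mapDerivedCategory.map f) =
        ((φ.app M).homCongr (φ.app N)) ∘ (fun f => (qcι X).mapDerivedCategory.map f) ∘
          (fun f : M ⟶ N => (cohIncl X).mapDerivedCategory.map f) := funext fun f => (NatIso.naturality_1 φ f).symm
    rw [h]
    exact (Equiv.bijective _).comp (Function.Bijective.comp
      ⟨(qcι X).mapDerivedCategory.map_injective, (qcι X).mapDerivedCategory.map_surjective⟩ (h₁ M N b hM))
  · obtain ⟨B, ⟨e⟩⟩ := (hess K).1 fun i => (hC i).1
    have eh : ∀ i, (qcι X).obj ((DerivedCategory.homologyFunctor (QC X) i).obj B) ≅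
        (DerivedCategory.homologyFunctor X.Modules i).obj K := fun i =>
      ((mapDCHomologyIso (qcι X) i).app B).symm ≪≫ (DerivedCategory.homologyFunctor X.Modules i).mapIso e
    have hB : B.IsLE b := (DerivedCategory.isLE_iff B b).2 fun i hi => by
      have h1 : IsZero ((qcι X).obj ((DerivedCategory.homologyFunctor (QC X) i).obj B)) :=
        ((DerivedCategory.isLE_iff K b).1 hK i hi).of_iso (eh i)
      rw [IsZero.iff_id_eq_zero] at h1 ⊢
      exact (qcι X).map_injective (by rw [CategoryTheory.Functor.map_id, h1, Functor.map_zero])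
    obtain ⟨M, hM, ⟨eM⟩⟩ := h₂ B b hB fun i => QCohAb92.isCoh_of_iso' (eh i).symm (hC i)
    exact ⟨M, hM, ⟨(φ.app M).symm ≪≫ (qcι X).mapDerivedCategory.mapIso eM ≪≫ e⟩⟩

end Groth.Agent.Perf52
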