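import Groth.Agent.Perf52.DerivedEquiv
import Groth.Agent.QCohAb92.Noetherian
import Groth.Agent.QCohAb92.Abelian
import Groth.Agent.KZ.CohClass
import Groth.Agent.Perf52.DQCohAffine

/-!
# Coherent modules inside quasi-coherent modules on a Noetherian scheme
-/

set_option linter.style.haveILetI false
set_option backward.isDefEq.respectTransparency false
set_option backward.isDefEq.respectTransparency.types false

universe u

open CategoryTheory CategoryTheory.Limits AlgebraicGeometry TopologicalSpace ZeroObject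

attribute [local instance] Groth.Agent.QCoh.hasFiniteBiproducts HasDerivedCategory.standard

namespace Groth.Agent.Perf52

open Groth.Agent

variable {X : Scheme.{u}} [IsNoetherian X]

/-- A surjection onto a coherent module is surjective on some coherent submodule. -/
theorem exists_coh_sub_epi {M N : X.Modules} (hM : Coh.IsQCoh M) (hN : Coh.IsCoh N) (π : M ⟶ N) [Epi π] :
    ∃ (M' : X.Modules) (i : M' ⟶ M), Mono i ∧ Coh.IsCoh M' ∧ Epi (i ≫ π) := by
  classical
  obtain ⟨F, hF⟩ := isCompact_univ.elim_finite_subcover (fun V : X.affineOpens => (V.1 : Set X))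
    (fun V => V.1.2) fun x _ => by
      obtain ⟨_, ⟨V, hV, rfl⟩, hxV, -⟩ := X.isBasis_affineOpens.exists_subset_of_mem_open
        (Set.mem_univ x) isOpen_univ
      exact Set.mem_iUnion.2 ⟨⟨V, hV⟩, hxV⟩
  have key : ∀ k : F, ∃ (A : X.Modules) (a : A ⟶ M), Coh.IsCoh A ∧
      Function.Surjective ((a ≫ π).app k.1.1) := fun k => by
    haveI := QCoh.finite_sections hN k.1.2
    obtain ⟨T, hT⟩ := Module.Finite.fg_top (R := Γ(X, k.1.1)) (M := Γ(N, k.1.1))
    choose l hl using fun t : T => QCoh.app_surjective_of_epi hM hN.1 π k.1.2 t.1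
    obtain ⟨S, hS, hlS⟩ := QCoh.exists_ftOn_contains hM k.1.2
      (QCoh.extStep_noetherian (fun x => ⟨⊤, trivial, (Topology.IsInducing.subtypeVal).noetherianSpace⟩) _)
      (Set.range l) (Set.finite_range l)
    refine ⟨S.toModules, S.ι, ⟨QCoh.isQCoh_of_ftOn hM hS, QCoh.isFT_of_ftOn hM hS⟩, ?_⟩
    refine LinearMap.range_eq_top.1 (eq_top_iff.2 (hT.ge.trans (Submodule.span_le.2 fun t ht => ?_)) :
      LinearMap.range (KZ.appLin (S.ι ≫ π) k.1.1) = ⊤)
    obtain ⟨s, hs⟩ := S.exists_app_eq (hlS ⟨⟨t, ht⟩, rfl⟩)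
    exact ⟨s, (congrArg (π.app k.1.1) hs).trans (hl ⟨t, ht⟩)⟩
  choose A a hA hsurj using key
  let d : ⨁ A ⟶ M := biproduct.desc a
  have hB := QCoh.isCoh_biproduct A hA
  have hI : Coh.IsCoh (Abelian.coimage d) :=
    QCoh.isCoh_cokernel (QCoh.isQCoh_kernel hB.1 hM d) hB _
  refine ⟨_, Abelian.factorThruCoimage d, inferInstance, hI, ?_⟩
  let g := Abelian.factorThruCoimage d ≫ π
  have hz : cokernel.π g = 0 := QCoh.hom_eq_zero_of_cover hN.1 (QCoh.isQCoh_cokernel hI.1 hN.1 g) _
    (fun k : F => k.1.1) (fun k => k.1.2)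
    (fun x => by
      obtain ⟨V, hV, hx⟩ := Set.mem_iUnion₂.1 (hF (Set.mem_univ x))
      exact ⟨⟨V, hV⟩, hx⟩) fun k y => by
    obtain ⟨s, hs⟩ := hsurj k y
    have h : (a k ≫ π) ≫ cokernel.π g = 0 := by
      have e : a k ≫ π = (biproduct.ι A k ≫ Abelian.coimage.π d) ≫ g := by
        have h' : Abelian.coimage.π d ≫ Abelian.factorThruCoimage d = d := Abelian.coimage.fac d
        simp only [g, Category.assoc]
        rw [← Category.assoc (Abelian.coimage.π d), h']
        exact (biproduct.ι_desc_assoc a k π).symm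
      rw [e, Category.assoc, cokernel.condition, comp_zero]
    rw [← hs]
    exact congr(($h).app k.1.1 s)
  exact Preadditive.epi_of_cokernel_zero hz

variable (X)

/-- Coherence of quasi-coherent modules. -/
abbrev cohQ : ObjectProperty (QC X) := fun M => Coh.IsCoh M.obj

variable [ObjectProperty.ContainsZero (fun M : X.Modules => Coh.IsQCoh M)]
  [ObjectProperty.IsClosedUnderKernels (fun M : X.Modules => Coh.IsQCoh M)]
  [ObjectProperty.IsClosedUnderCokernels (fun M : X.Modules => Coh.IsQCoh M)]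
  [ObjectProperty.IsClosedUnderFiniteProducts (fun M : X.Modules => Coh.IsQCoh M)]
  [PreservesFiniteLimits (qcι X)] [PreservesFiniteColimits (qcι X)]

instance isSerreClass_cohQ : (cohQ X).IsSerreClass where
  exists_zero := ⟨_, isZero_zero (QC X), QCohAb92.isCoh_isZero' X ((qcι X).map_isZero (isZero_zero _))⟩
  prop_of_mono {M N} f _ hN := QCoh.isCoh_of_mono ((qcι X).map f) hN M.property
  prop_of_epi {M N} f _ hM := QCoh.isCoh_of_epi ((qcι X).map f) hM N.property
  prop_X₂_of_shortExact {S} hS h₁ h₃ := KZ.isCoh_X₂ (hS.map_of_exact (qcι X)) h₁ h₃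

instance isClosedUnderKernels_cohQ : (cohQ X).IsClosedUnderKernels where
  kernels_le := by
    intro K hK
    obtain ⟨f, k, hk, ⟨hM, hN⟩⟩ := hK
    haveI : Mono (Fork.ι k) := mono_of_isLimit_fork hk
    exact (cohQ X).prop_of_mono (Fork.ι k) hM

instance isClosedUnderCokernels_cohQ : (cohQ X).IsClosedUnderCokernels where
  cokernels_le := by
    intro K hK
    obtain ⟨f, k, hk, ⟨hM, hN⟩⟩ := hK
    haveI : Epi (Cofork.π k) := epi_of_isColimit_cofork hk
    exact (cohQ X).prop_of_epi (Cofork.π k) hN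

theorem exists_coh_sub_epi_qc (M N : QC X) (π : M ⟶ N) (hπ : Epi π) (hN : cohQ X N) :
    ∃ (M' : QC X) (i : M' ⟶ M), Mono i ∧ cohQ X M' ∧ Epi (i ≫ π) := by
  haveI : Epi ((qcι X).map π) := inferInstance
  obtain ⟨M', i, hi, hM', he⟩ := exists_coh_sub_epi M.property hN ((qcι X).map π)
  let i' : (⟨M', hM'.1⟩ : QC X) ⟶ M := ObjectProperty.homMk i
  exact ⟨_, i', (qcι X).mono_of_mono_map hi, hM', (qcι X).epi_of_epi_map he⟩

instance isClosedUnderFiniteProducts_cohQ : (cohQ X).IsClosedUnderFiniteProducts :=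
  haveI : (cohQ X).IsClosedUnderBinaryProducts := .mk' <| by
    rintro _ ⟨F, hF⟩
    refine (cohQ X).prop_of_iso ((biprod.isoProd _ _) ≪≫ (HasLimit.isoOfNatIso (diagramIsoPair F)).symm) ?_
    exact (cohQ X).prop_X₂_of_shortExact
      ((ShortComplex.Splitting.ofHasBinaryBiproduct (F.obj ⟨.left⟩) (F.obj ⟨.right⟩)).shortExact) (hF _) (hF _)
  .mk'

instance preservesFiniteLimits_cohQ :
    PreservesFiniteLimits (cohQ X).ι :=
  haveI : ∀ {A B : (cohQ X).FullSubcategory} (f : A ⟶ B), PreservesLimit (parallelPair f 0) (cohQ X).ι :=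
    fun f => (cohQ X).preservesKernels_ι f
  Functor.preservesFiniteLimits_of_preservesKernels _

instance preservesFiniteColimits_cohQ :
    PreservesFiniteColimits (cohQ X).ι :=
  haveI : ∀ {A B : (cohQ X).FullSubcategory} (f : A ⟶ B), PreservesColimit (parallelPair f 0) (cohQ X).ι :=
    fun f => (cohQ X).preservesCokernels_ι f
  Functor.preservesFiniteColimits_of_preservesCokernels _


variable [ObjectProperty.ContainsZero (fun M : X.Modules => Coh.IsCoh M)]
  [ObjectProperty.IsClosedUnderKernels (fun M : X.Modules => Coh.IsCoh M)]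
  [ObjectProperty.IsClosedUnderCokernels (fun M : X.Modules => Coh.IsCoh M)]
  [ObjectProperty.IsClosedUnderFiniteProducts (fun M : X.Modules => Coh.IsCoh M)]

/-- Coherent modules as quasi-coherent modules. -/
noncomputable abbrev cohIncl :
    ObjectProperty.FullSubcategory (fun M : X.Modules => Coh.IsCoh M) ⥤ QC X :=
  ObjectProperty.lift (fun M : X.Modules => Coh.IsQCoh M)
    (ObjectProperty.ι (fun M : X.Modules => Coh.IsCoh M)) (fun M => M.property.1)

variable [PreservesFiniteLimits (cohIncl X)] [PreservesFiniteColimits (cohIncl X)]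

/-- `D⁻(Coh X) ≃ D⁻_Coh(QCoh X)`. -/
theorem derivedMinus_cohIncl :
    (∀ (M N : DerivedCategory (ObjectProperty.FullSubcategory (fun M : X.Modules => Coh.IsCoh M))) (b : ℤ),
      M.IsLE b → Function.Bijective (fun φ : M ⟶ N => (cohIncl X).mapDerivedCategory.map φ)) ∧
    ∀ (K : DerivedCategory (QC X)) (b : ℤ), K.IsLE b →
      (∀ i : ℤ, cohQ X ((DerivedCategory.homologyFunctor (QC X) i).obj K)) →
      ∃ M, M.IsLE b ∧ Nonempty ((cohIncl X).mapDerivedCategory.obj M ≅ K) :=
  haveI : (cohIncl X).Full := ⟨fun g => ⟨ObjectProperty.homMk g.hom, rfl⟩⟩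
  haveI : (cohIncl X).Faithful := ⟨fun h => ObjectProperty.hom_ext _ (congrArg (fun f => f.hom) h :)⟩
  derivedMinus_transfer (cohIncl X) (cohQ X) (fun M => M.property)
    (fun Y hY => ⟨⟨Y.obj, hY⟩, ⟨Iso.refl _⟩⟩) (exists_coh_sub_epi_qc X)

end Groth.Agent.Perf52
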