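import Groth.Agent.Perf52.Tower
import Groth.Agent.Perf52.GeneratorGlobal

/-!
# The derived coherator: `D_QCoh(X)` is coreflective in `D(X)`
-/

set_option linter.style.haveILetI false
set_option linter.unusedSectionVars false
set_option backward.isDefEq.respectTransparency false

universe u

open CategoryTheory CategoryTheory.Limits AlgebraicGeometry Pretriangulated

attribute [local instance] HasDerivedCategory.standard

namespace Groth.Agent.Perf52

open Groth.Agent.KFlatLib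

variable {X : Scheme.{u}}

/-- No maps from `P` to any shift of `C`. -/
def Orth (P C : DCoh.D X) : Prop := ∀ (n : ℤ) (φ : P ⟶ C⟦n⟧), φ = 0

lemma Orth.of_shift {P C : DCoh.D X} {k : ℤ} (h : Orth P C) : Orth (P⟦k⟧) C := fun n φ => by
  refine (shiftFunctor (DCoh.D X) (-k)).map_injective
    ((cancel_epi ((shiftFunctorCompIsoId (DCoh.D X) k (-k) (by omega)).app P).inv).1
      ((cancel_mono (((shiftFunctorAdd' (DCoh.D X) n (-k) (n + -k) rfl).app C).inv)).1 ?_))
  exact (h _ _).trans (h _ _).symm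

lemma orth_sigma {J : Type*} {P : J → DCoh.D X} [HasCoproduct P] {C : DCoh.D X} (h : ∀ j, Orth (P j) C) :
    Orth (∐ P) C := fun n φ => Sigma.hom_ext _ _ fun j => by rw [comp_zero]; exact h j n _

lemma Orth.of_iso {P P' C : DCoh.D X} (e : P ≅ P') (h : Orth P C) : Orth P' C := fun n φ => by
  rw [← cancel_epi e.hom, comp_zero]; exact h n _

lemma orth_obj₃ {T : Triangle (DCoh.D X)} (hT : T ∈ distTriang _) {C : DCoh.D X} (h₁ : Orth T.obj₁ C)
    (h₂ : Orth T.obj₂ C) : Orth T.obj₃ C := fun n φ => by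
  obtain ⟨ψ, hψ⟩ := Triangle.yoneda_exact₃ _ hT φ (h₂ n _)
  rw [hψ, (h₁.of_shift (k := 1)) n ψ, comp_zero]

/-- All maps from shifts of `G` factor through the map `p` uniquely. -/
def GBij (G : DCoh.D X) {Q K : DCoh.D X} (p : Q ⟶ K) : Prop :=
  ∀ n : ℤ, Function.Bijective (fun φ : G⟦n⟧ ⟶ Q => φ ≫ p)

variable [CompactSpace X] [QuasiSeparatedSpace X]

/-- One step: kill the maps from shifts of `G` which die in `K`. -/
lemma exists_coref_step {G : DCoh.D X} (hG : DCoh.IsPerfect G) {P K : DCoh.D X} (hP : DCoh.IsQCohD P)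
    (p : P ⟶ K) :
    ∃ (P' : DCoh.D X) (f : P ⟶ P') (p' : P' ⟶ K), DCoh.IsQCohD P' ∧ f ≫ p' = p ∧
      (∀ (k : ℤ) (φ : G⟦k⟧ ⟶ P), φ ≫ p = 0 → φ ≫ f = 0) ∧
      ∀ C, Orth G C → Orth P C → Orth P' C := by
  let J := Σ k : ULift.{u} ℤ, Shrink.{u} {φ : G⟦k.down⟧ ⟶ P // φ ≫ p = 0}
  let k : J → ℤ := fun j => j.1.down
  haveI : HasColimitsOfShape (Discrete J) (DCoh.D X) := TriCat.hasColimitsOfShape_derivedCategory
  let s : (∐ fun j => G⟦k j⟧) ⟶ P := Sigma.desc fun j => ((equivShrink _).symm j.2).1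
  have hs : s ≫ p = 0 := Sigma.hom_ext _ _ fun j => by
    rw [comp_zero, Sigma.ι_desc_assoc]; exact ((equivShrink _).symm j.2).2
  obtain ⟨P', f, d, hT⟩ := distinguished_cocone_triangle s
  obtain ⟨p', hp'⟩ := Triangle.yoneda_exact₂ _ hT p hs
  refine ⟨P', f, p', isQCohD_obj₃ hT (isQCohD_sigma _ fun j => isQCohD_shift (isQCohD_of_isPerfect hG) _) hP,
    hp'.symm, fun n φ hφ => ?_, fun C hGC hPC => orth_obj₃ hT (orth_sigma fun j => hGC.of_shift) hPC⟩
  let j₀ : J := ⟨⟨n⟩, equivShrink {φ : G⟦n⟧ ⟶ P // φ ≫ p = 0} ⟨φ, hφ⟩⟩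
  have hj : Sigma.ι (fun j => G⟦k j⟧) j₀ ≫ s = φ :=
    (Sigma.ι_desc _ _).trans (congrArg Subtype.val
      ((equivShrink {φ : G⟦n⟧ ⟶ P // φ ≫ p = 0}).symm_apply_apply ⟨φ, hφ⟩))
  have hz : s ≫ f = 0 := comp_distTriang_mor_zero₁₂ _ hT
  rw [← hj, Category.assoc, hz, comp_zero]

/-- Cellular approximations by a perfect object. -/
theorem exists_cellular {G : DCoh.D X} (hG : DCoh.IsPerfect G) (K : DCoh.D X) :
    ∃ (Q : DCoh.D X) (p : Q ⟶ K), DCoh.IsQCohD Q ∧ GBij G p ∧ ∀ C, Orth G C → Orth Q C := by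
  classical
  let J := Σ k : ULift.{u} ℤ, Shrink.{u} (G⟦k.down⟧ ⟶ K)
  let k : J → ℤ := fun j => j.1.down
  haveI : HasColimitsOfShape (Discrete J) (DCoh.D X) := TriCat.hasColimitsOfShape_derivedCategory
  let Q₀ : DCoh.D X := ∐ fun j => G⟦k j⟧
  let p₀ : Q₀ ⟶ K := Sigma.desc fun j => (equivShrink _).symm j.2
  let S := {P : Σ P : DCoh.D X, P ⟶ K // DCoh.IsQCohD P.1}
  choose nxt f p' hnq hcomp hkill horth using fun P : S => exists_coref_step hG P.2 P.1.2
  let seq : ℕ → S := fun n => Nat.rec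
    ⟨⟨Q₀, p₀⟩, isQCohD_sigma _ fun j => isQCohD_shift (isQCohD_of_isPerfect hG) _⟩
    (fun _ P => ⟨⟨nxt P, p' P⟩, hnq P⟩) n
  let P : ℕ → DCoh.D X := fun n => (seq n).1.1
  let ps : ∀ n, P n ⟶ K := fun n => (seq n).1.2
  let fs : ∀ n, P n ⟶ P (n + 1) := fun n => f (seq n)
  haveI := hasCountableCoproducts_D (X := X)
  obtain ⟨Q, i, hL⟩ := TriCat.exists_isHocolim P fs
  obtain ⟨p, hp⟩ := TriCat.IsHocolim.exists_desc hL ps fun n => hcomp (seq n)
  obtain ⟨cc, hcc⟩ := id hL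
  have hPq : ∀ n, DCoh.IsQCohD (P n) := fun n => (seq n).2
  refine ⟨Q, p, isQCohD_obj₃ hcc (isQCohD_sigma_nat P hPq) (isQCohD_sigma_nat P hPq), fun n => ?_, ?_⟩
  · refine ⟨fun a b hab => sub_eq_zero.1 ?_, fun φ => ?_⟩
    · have h0 : (a - b) ≫ p = 0 := by rw [Preadditive.sub_comp]; exact sub_eq_zero.2 hab
      have hpn := isPerfect_shift hG n
      obtain ⟨ψ, hψ⟩ := TriCat.IsHocolim.exists_lift_of_injective hL (C := G⟦n⟧) (fun y hy => by
        let e := (shiftFunctorCompIsoId (DCoh.D X) (-1 : ℤ) 1 (by simp)).app (G⟦n⟧)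
        obtain ⟨y0, hy0⟩ := (shiftFunctor (DCoh.D X) (1 : ℤ)).map_surjective (e.hom ≫ y)
        have h1 : y0 ≫ (𝟙 (∐ P) - DerLim.shiftMap P fs) = 0 := by
          apply (shiftFunctor (DCoh.D X) (1 : ℤ)).map_injective
          rw [Functor.map_comp, hy0, Category.assoc, hy, comp_zero, Functor.map_zero]
        have h2 := TriCat.eq_zero_of_finFactor_comp_one_sub_shiftMap P fs
          (finFactor_nat (isPerfect_shift hpn (-1)) P hPq y0) h1
        rw [← cancel_epi e.hom, ← hy0, h2, Functor.map_zero, comp_zero]) (a - b)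
      obtain ⟨F, c, hF⟩ := finFactor_nat hpn P hPq ψ
      let N := F.sup id
      have htr : ∀ m, m ≤ N → ∀ x : G⟦n⟧ ⟶ P m, ∃ y : G⟦n⟧ ⟶ P N, x ≫ i m = y ≫ i N := by
        intro m hm
        induction hm using Nat.decreasingInduction with
        | self => exact fun x => ⟨x, rfl⟩
        | of_succ m _ ih =>
          intro x
          obtain ⟨y, hy⟩ := ih (x ≫ fs m)
          refine ⟨y, ?_⟩
          rw [← hy, Category.assoc, TriCat.IsHocolim.comp_i hL]
      choose! y hy using fun j (hj : j ∈ F) => htr j (Finset.le_sup (f := id) hj) (c j)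
      let z : G⟦n⟧ ⟶ P N := ∑ j ∈ F, y j
      have hz : a - b = z ≫ i N := by
        rw [hψ, hF, Preadditive.sum_comp, Preadditive.sum_comp]
        exact Finset.sum_congr rfl fun j hj => by rw [Category.assoc, Sigma.ι_desc, hy j hj]
      have hzp : z ≫ ps N = 0 := by
        rw [← hp N, ← Category.assoc, ← hz, h0]
      rw [hz, ← TriCat.IsHocolim.comp_i hL N, ← Category.assoc, hkill (seq N) n z hzp]
      exact zero_comp
    · let j₀ : J := ⟨⟨n⟩, equivShrink _ φ⟩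
      refine ⟨Sigma.ι (fun j => G⟦k j⟧) j₀ ≫ i 0, ?_⟩
      show (Sigma.ι (fun j => G⟦k j⟧) j₀ ≫ i 0) ≫ p = φ
      rw [Category.assoc, hp 0]
      exact (Sigma.ι_desc _ _).trans ((equivShrink (G⟦n⟧ ⟶ K)).symm_apply_apply φ)
  · intro C hGC
    have hPC : ∀ m, Orth (P m) C := by
      intro m
      induction m with
      | zero => exact orth_sigma fun j => hGC.of_shift
      | succ m ih => exact horth (seq m) C hGC ih
    exact orth_obj₃ hcc (orth_sigma hPC) (orth_sigma hPC)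

/-- The cone of a cellular approximation receives no maps from `G`. -/
lemma orth_cone {G Q K C : DCoh.D X} {p : Q ⟶ K} (hp : GBij G p) {g : K ⟶ C} {d : C ⟶ Q⟦(1 : ℤ)⟧}
    (hT : Triangle.mk p g d ∈ distTriang _) : ∀ (n : ℤ) (φ : G⟦n⟧ ⟶ C), φ = 0 := fun n φ => by
  let e := (shiftFunctorCompIsoId (DCoh.D X) (-1 : ℤ) 1 (by simp)).app (G⟦n⟧)
  obtain ⟨y0, hy0⟩ := (shiftFunctor (DCoh.D X) (1 : ℤ)).map_surjective (e.hom ≫ φ ≫ d)
  have h1 : y0 = 0 := by
    let e' := (shiftFunctorAdd' (DCoh.D X) n (-1) (n + -1) rfl).app G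
    rw [← cancel_epi e'.hom, comp_zero]
    refine (hp (n + -1)).1 ?_
    simp only [zero_comp, Category.assoc]
    have : y0 ≫ p = 0 := by
      apply (shiftFunctor (DCoh.D X) (1 : ℤ)).map_injective
      have hd : d ≫ p⟦(1 : ℤ)⟧' = 0 := comp_distTriang_mor_zero₃₁ _ hT
      rw [Functor.map_comp, hy0, Functor.map_zero, Category.assoc, Category.assoc, hd, comp_zero, comp_zero]
    rw [this, comp_zero]
  have h2 : φ ≫ d = 0 := by
    rw [← cancel_epi e.hom, ← hy0, h1, Functor.map_zero, comp_zero]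
  obtain ⟨ψ, hψ⟩ := Triangle.coyoneda_exact₃ _ hT φ h2
  obtain ⟨χ, hχ⟩ := (hp n).2 ψ
  have hpg : p ≫ g = 0 := comp_distTriang_mor_zero₁₂ _ hT
  rw [hψ, ← hχ]
  exact (Category.assoc _ _ _).trans ((congrArg (χ ≫ ·) hpg).trans comp_zero)

/-- Coreflections into `D_QCoh`. -/
theorem exists_coreflection (K : DCoh.D X) :
    ∃ (Q : DCoh.D X) (p : Q ⟶ K), DCoh.IsQCohD Q ∧
      ∀ B : DCoh.D X, DCoh.IsQCohD B → Function.Bijective (fun φ : B ⟶ Q => φ ≫ p) := by
  obtain ⟨G, hG, -, hgen⟩ := genOn_qcqs (X := X) (T := Set.univ) isClosed_univ (by simp)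
  have hgen' : ∀ E : DCoh.D X, DCoh.IsQCohD E → (∀ (n : ℤ) (φ : G⟦n⟧ ⟶ E), φ = 0) → IsZero E := by
    intro E hE h
    refine hgen E hE (suppOn_univ E) fun n φ => ?_
    refine (shiftFunctor (DCoh.D X) (-n)).map_injective
      ((cancel_mono (((shiftFunctorCompIsoId (DCoh.D X) n (-n) (by omega)).app E)).hom).1 ?_)
    exact (h _ _).trans (h _ _).symm
  obtain ⟨Q, p, hQ, hp, -⟩ := exists_cellular hG K
  obtain ⟨C, g, d, hT⟩ := distinguished_cocone_triangle p
  have hC : Orth G C := fun n φ => by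
    refine (shiftFunctor (DCoh.D X) (-n)).map_injective
      ((cancel_mono (((shiftFunctorCompIsoId (DCoh.D X) n (-n) (by omega)).app C)).hom).1 ?_)
    exact (orth_cone hp hT _ _).trans (orth_cone hp hT _ _).symm
  refine ⟨Q, p, hQ, fun B hB => ?_⟩
  obtain ⟨Q', p', hQ', hp', horth⟩ := exists_cellular hG B
  obtain ⟨C', g', d', hT'⟩ := distinguished_cocone_triangle p'
  have hC' : IsZero C' := hgen' C' (isQCohD_obj₃ hT' hQ' hB) (orth_cone hp' hT')
  haveI : IsIso p' := (Triangle.isZero₃_iff_isIso₁ _ hT').1 hC'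
  have hBC : Orth B C := (horth C hC).of_iso (asIso p')
  refine ⟨fun a b hab => sub_eq_zero.1 ?_, fun y => ?_⟩
  · have h0 : (a - b) ≫ p = 0 := by rw [Preadditive.sub_comp]; exact sub_eq_zero.2 hab
    obtain ⟨ψ, hψ⟩ := Triangle.coyoneda_exact₂ _ (inv_rot_of_distTriang _ hT) (a - b) h0
    rw [hψ]
    have : ψ = 0 := hBC (-1) ψ
    rw [this, zero_comp]
  · have h0 : y ≫ g = 0 := by
      rw [← cancel_mono ((shiftFunctorZero (DCoh.D X) ℤ).inv.app C), zero_comp]
      exact hBC 0 _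
    obtain ⟨φ, hφ⟩ := Triangle.coyoneda_exact₂ _ hT y h0
    exact ⟨φ, hφ.symm⟩

/-- `D_QCoh(X) → D(X)` is a left adjoint. -/
theorem isLeftAdjoint_qcohι : (ObjectProperty.ι (DCoh.IsQCohD (X := X))).IsLeftAdjoint := by
  choose Q p hQ hb using exists_coreflection (X := X)
  have hb' : ∀ (B : (DCoh.IsQCohD (X := X)).FullSubcategory) (K : DCoh.D X),
      Function.Bijective (fun φ : B ⟶ (⟨Q K, hQ K⟩ : (DCoh.IsQCohD (X := X)).FullSubcategory) => φ.hom ≫ p K) :=
    fun B K => ⟨fun a b h => ObjectProperty.hom_ext _ ((hb K B.obj B.property).1 h), fun y => by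
      obtain ⟨φ, hφ⟩ := (hb K B.obj B.property).2 y
      exact ⟨ObjectProperty.homMk φ, hφ⟩⟩
  exact (Adjunction.adjunctionOfEquivRight (F := ObjectProperty.ι (DCoh.IsQCohD (X := X)))
    (G_obj := fun K => (⟨Q K, hQ K⟩ : (DCoh.IsQCohD (X := X)).FullSubcategory))
    (fun B K => (Equiv.ofBijective _ (hb' B K)).symm)
    (fun B' B K f g => by
      refine (hb' B' K).1 ?_
      have h1 := Equiv.ofBijective_apply_symm_apply _ (hb' B' K) ((ObjectProperty.ι _).map f ≫ g)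
      have h2 := Equiv.ofBijective_apply_symm_apply _ (hb' B K) g
      simp only at h1 h2 ⊢
      refine h1.trans (Eq.trans ?_ (Category.assoc _ _ _).symm)
      exact congrArg ((ObjectProperty.ι _).map f ≫ ·) h2.symm)).isLeftAdjoint

end Groth.Agent.Perf52
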