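import Groth.Agent.H9Misc.SerreMinus
import Mathlib.CategoryTheory.Localization.LocalizerMorphism

/-!
# Derived categories along equivalences, and bounded above objects of thick subcategories
-/

set_option linter.style.haveILetI false
set_option backward.isDefEq.respectTransparency false
set_option backward.isDefEq.respectTransparency.types false

universe w w' w'' v v' v'' u u' u''

open CategoryTheory CategoryTheory.Limits

namespace Groth.Agent.Perf52

variable {A : Type u} [Category.{v} A] [Abelian A] [HasDerivedCategory.{w} A]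
  {B : Type u'} [Category.{v'} B] [Abelian B] [HasDerivedCategory.{w'} B]
  {C : Type u''} [Category.{v''} C] [Abelian C] [HasDerivedCategory.{w''} C]

/-- An equivalence of abelian categories induces one on derived categories. -/
theorem isEquivalence_mapDerivedCategory (E : A ⥤ B) [E.IsEquivalence] [E.Additive]
    [PreservesFiniteLimits E] [PreservesFiniteColimits E] : E.mapDerivedCategory.IsEquivalence := by
  let G := E.mapHomologicalComplex (ComplexShape.up ℤ)
  haveI : G.EssSurj := ⟨fun K => by
    let K' : CochainComplex A ℤ :=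
      { X := fun i => E.objPreimage (K.X i)
        d := fun i j => E.preimage ((E.objObjPreimageIso (K.X i)).hom ≫ K.d i j ≫ (E.objObjPreimageIso (K.X j)).inv)
        shape := fun i j h => E.map_injective (by simp [K.shape i j h])
        d_comp_d' := fun i j k _ _ => E.map_injective (by simp) }
    exact ⟨K', ⟨HomologicalComplex.Hom.isoOfComponents (fun i => E.objObjPreimageIso (K.X i))
      fun i j _ => by simp [G, K']⟩⟩⟩
  haveI : G.IsEquivalence := { }
  have hq : ∀ {X Y : CochainComplex A ℤ} (f : X ⟶ Y), QuasiIso (G.map f) ↔ QuasiIso f := fun f =>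
    HomologicalComplex.quasiIso_map_iff_of_preservesHomology f E
  let Φ : LocalizerMorphism (HomologicalComplex.quasiIso A (ComplexShape.up ℤ))
      (HomologicalComplex.quasiIso B (ComplexShape.up ℤ)) :=
    { functor := G
      map := fun X Y f hf => (hq f).2 hf }
  haveI : Φ.functor.IsEquivalence := inferInstanceAs G.IsEquivalence
  haveI : Φ.IsLocalizedEquivalence := by
    refine LocalizerMorphism.IsLocalizedEquivalence.of_equivalence _ fun X Y f hf => ?_
    let eX := G.objObjPreimageIso X
    let eY := G.objObjPreimageIso Y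
    haveI : QuasiIso f := hf
    refine ⟨G.objPreimage X, G.objPreimage Y, G.preimage (eX.hom ≫ f ≫ eY.inv), ?_,
      ⟨Arrow.isoMk eX eY (by simp [Φ, G.map_preimage])⟩⟩
    refine (hq _).1 ?_
    rw [G.map_preimage]
    infer_instance
  letI : CatCommSq Φ.functor DerivedCategory.Q DerivedCategory.Q E.mapDerivedCategory :=
    ⟨E.mapDerivedCategoryFactors.symm⟩
  exact Φ.isEquivalence DerivedCategory.Q DerivedCategory.Q _

variable (F : A ⥤ B) [F.Additive] [PreservesFiniteLimits F] [PreservesFiniteColimits F]
  (G : B ⥤ C) [G.Additive] [PreservesFiniteLimits G] [PreservesFiniteColimits G]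
  (H : A ⥤ C) [H.Additive] [PreservesFiniteLimits H] [PreservesFiniteColimits H]

/-- The functor on derived categories of a composition. -/
noncomputable def mapDCComp (e : F ⋙ G ≅ H) :
    F.mapDerivedCategory ⋙ G.mapDerivedCategory ≅ H.mapDerivedCategory :=
  let L := DerivedCategory.Q (C := A)
  let F₁ := (F.mapHomologicalComplex (ComplexShape.up ℤ) ⋙ G.mapHomologicalComplex (ComplexShape.up ℤ)) ⋙
    DerivedCategory.Q
  let e₁ : L ⋙ F.mapDerivedCategory ⋙ G.mapDerivedCategory ≅ F₁ :=
    (Functor.associator _ _ _).symm ≪≫ Functor.isoWhiskerRight F.mapDerivedCategoryFactors _ ≪≫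
      Functor.associator _ _ _ ≪≫ Functor.isoWhiskerLeft _ G.mapDerivedCategoryFactors ≪≫
      (Functor.associator _ _ _).symm
  let e₀ : F.mapHomologicalComplex (ComplexShape.up ℤ) ⋙ G.mapHomologicalComplex (ComplexShape.up ℤ) ≅
      H.mapHomologicalComplex (ComplexShape.up ℤ) :=
    NatIso.ofComponents (fun K => HomologicalComplex.Hom.isoOfComponents (fun i => e.app (K.X i))
      fun i j _ => (e.hom.naturality (K.d i j)).symm)
      fun f => HomologicalComplex.hom_ext _ _ fun i => e.hom.naturality (f.f i)
  letI : Localization.Lifting L (HomologicalComplex.quasiIso A (ComplexShape.up ℤ)) F₁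
      (F.mapDerivedCategory ⋙ G.mapDerivedCategory) := ⟨e₁⟩
  Localization.liftNatIso L (HomologicalComplex.quasiIso A (ComplexShape.up ℤ)) F₁
    (H.mapHomologicalComplex (ComplexShape.up ℤ) ⋙ DerivedCategory.Q) _ _
    (Functor.isoWhiskerRight e₀ _)

section Transfer

variable [F.Full] [F.Faithful] (P : ObjectProperty B) [P.IsSerreClass] [P.IsClosedUnderKernels]
  [P.IsClosedUnderCokernels] [P.IsClosedUnderFiniteProducts]
  [PreservesFiniteLimits P.ι] [PreservesFiniteColimits P.ι]
  (hF : ∀ X, P (F.obj X)) (hP : ∀ Y, P Y → ∃ X, Nonempty (F.obj X ≅ Y))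
  (hlift : ∀ (X Y : B) (π : X ⟶ Y), Epi π → P Y → ∃ (X' : B) (i : X' ⟶ X), Mono i ∧ P X' ∧ Epi (i ≫ π))

include hF hP hlift

/-- `D⁻(A) ≃ D⁻_P(B)` for `A` equivalent to a Serre class of `B` with enough lifts. -/
theorem derivedMinus_transfer :
    (∀ (M N : DerivedCategory A) (b : ℤ), M.IsLE b →
      Function.Bijective (fun φ : M ⟶ N => F.mapDerivedCategory.map φ)) ∧
    ∀ (K : DerivedCategory B) (b : ℤ), K.IsLE b →
      (∀ n : ℤ, P ((DerivedCategory.homologyFunctor B n).obj K)) →
      ∃ M : DerivedCategory A, M.IsLE b ∧ Nonempty (F.mapDerivedCategory.obj M ≅ K) := by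
  letI : HasDerivedCategory P.FullSubcategory := HasDerivedCategory.standard _
  let E : A ⥤ P.FullSubcategory := P.lift F hF
  haveI : E.Faithful := ⟨fun h => F.map_injective (congrArg (fun f => f.hom) h)⟩
  haveI : E.Full := ⟨fun g => ⟨F.preimage g.hom, ObjectProperty.hom_ext _ (F.map_preimage g.hom)⟩⟩
  haveI : E.EssSurj := ⟨fun Y => by
    obtain ⟨X, ⟨e⟩⟩ := hP Y.obj Y.property
    exact ⟨X, ⟨ObjectProperty.isoMk _ e⟩⟩⟩
  haveI : E.IsEquivalence := { }
  haveI : E.Additive := ⟨fun {X Y} f g => ObjectProperty.hom_ext _ (F.map_add)⟩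
  haveI : PreservesFiniteLimits E := inferInstance
  haveI : PreservesFiniteColimits E := inferInstance
  haveI := isEquivalence_mapDerivedCategory E
  let φ := mapDCComp E P.ι F (Iso.refl _)
  have hle : ∀ (M : DerivedCategory A) (b : ℤ), M.IsLE b → (E.mapDerivedCategory.obj M).IsLE b := fun M b hM => by
    obtain ⟨K, hK, ⟨e⟩⟩ := M.exists_iso_Q_obj_of_isLE b
    haveI : CochainComplex.IsStrictlyLE
        ((E.mapHomologicalComplex (ComplexShape.up ℤ)).obj K : CochainComplex P.FullSubcategory ℤ) b :=
      (CochainComplex.isStrictlyLE_iff _ b).2 fun i hi => E.map_isZero (K.isZero_of_isStrictlyLE b i hi)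
    haveI : (DerivedCategory.Q.obj ((E.mapHomologicalComplex (ComplexShape.up ℤ)).obj K)).IsLE b := inferInstance
    exact @Triangulated.TStructure.isLE_of_iso _ _ _ _ _ _ _ (DerivedCategory.TStructure.t (C := P.FullSubcategory)) _ _
      ((E.mapDerivedCategory.mapIso e ≪≫ E.mapDerivedCategoryFactors.app K).symm) b ‹_›
  refine ⟨fun M N b hM => ?_, fun K b hK hH => ?_⟩
  · have h : (fun f : M ⟶ N => F.mapDerivedCategory.map f) =
        ((φ.app M).homCongr (φ.app N)) ∘ (fun f => P.ι.mapDerivedCategory.map f) ∘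
          (fun f : M ⟶ N => E.mapDerivedCategory.map f) := funext fun f => (NatIso.naturality_1 φ f).symm
    rw [h]
    exact (Equiv.bijective _).comp ((H9Misc.SerreMinus.bijective P hlift _ _ b (hle M b hM)).comp
      ⟨E.mapDerivedCategory.map_injective, E.mapDerivedCategory.map_surjective⟩)
  · obtain ⟨Y, hY, ⟨e⟩⟩ := H9Misc.SerreMinus.exists_preimage P hlift K b hK hH
    let M := E.mapDerivedCategory.objPreimage Y
    let eM := E.mapDerivedCategory.objObjPreimageIso Y
    refine ⟨M, (DerivedCategory.isLE_iff M b).2 fun i hi => ?_,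
      ⟨(φ.app M).symm ≪≫ P.ι.mapDerivedCategory.mapIso eM ≪≫ e⟩⟩
    obtain ⟨C, ⟨eC⟩⟩ : ∃ C, Nonempty (DerivedCategory.Q.obj C ≅ M) := ⟨_, ⟨DerivedCategory.Q.objObjPreimageIso M⟩⟩
    have hY' : IsZero ((DerivedCategory.homologyFunctor P.FullSubcategory i).obj (E.mapDerivedCategory.obj M)) :=
      ((DerivedCategory.isLE_iff Y b).1 hY i hi).of_iso ((DerivedCategory.homologyFunctor _ i).mapIso eM)
    have h1 : IsZero (E.obj (C.homology i)) :=
      hY'.of_iso ((((C.sc i).mapHomologyIso E).symm :
          E.obj (C.homology i) ≅ ((E.mapHomologicalComplex (ComplexShape.up ℤ)).obj C).homology i) ≪≫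
        ((DerivedCategory.homologyFunctorFactors P.FullSubcategory i).app
          ((E.mapHomologicalComplex (ComplexShape.up ℤ)).obj C)).symm ≪≫
        (DerivedCategory.homologyFunctor _ i).mapIso
          ((E.mapDerivedCategoryFactors.app C).symm ≪≫ E.mapDerivedCategory.mapIso eC))
    have h2 : IsZero (C.homology i) := by
      rw [IsZero.iff_id_eq_zero] at h1 ⊢
      exact E.map_injective (by rw [E.map_id, h1, E.map_zero])
    exact h2.of_iso ((DerivedCategory.homologyFunctor _ i).mapIso eC.symm ≪≫
      (DerivedCategory.homologyFunctorFactors A i).app C)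

end Transfer

end Groth.Agent.Perf52
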