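import Groth.Agent.Perf52.ExtendStep

/-!
# Extending perfect objects from quasi-compact opens
-/

set_option linter.style.haveILetI false
set_option backward.isDefEq.respectTransparency false

universe u

open CategoryTheory CategoryTheory.Limits AlgebraicGeometry TopologicalSpace Pretriangulated

attribute [local instance] HasDerivedCategory.standard

namespace Groth.Agent.Perf52

open Groth.Agent.KFlatLib

variable {X : Scheme.{u}} [CompactSpace X] [QuasiSeparatedSpace X]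

lemma isCompact_preimage_compl (W : X.Opens) (hW : IsCompact (W : Set X)) {T : Set X}
    (hT : IsClosed T) (hTc : IsCompact Tᶜ) : IsCompact (W.ι.base ⁻¹' T)ᶜ := by
  refine W.ι.isOpenEmbedding.isInducing.isCompact_iff.2 ?_
  rw [← Set.preimage_compl, Set.image_preimage_eq_inter_range, Scheme.Opens.range_ι]
  exact QuasiSeparatedSpace.inter_isCompact _ _ hT.isOpen_compl hTc W.2 hW

/-- What has been extended to `W`. -/
def ExtTo (U : X.Opens) (T : Set X) (E : DCoh.D X) {P : DCoh.D (U : Scheme.{u})}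
    (α : P ⟶ (rho U.ι).obj E) (W : X.Opens) : Prop :=
  ∃ (l : (U : Scheme.{u}) ⟶ W) (_ : IsOpenImmersion l) (_hl : l ≫ W.ι = U.ι)
    (η : rho W.ι ⋙ rho l ≅ rho U.ι) (R : DCoh.D (W : Scheme.{u})) (β : R ⟶ (rho W.ι).obj E)
    (i : P ⟶ (rho l).obj R) (p : (rho l).obj R ⟶ P),
      DCoh.IsPerfect R ∧ SuppOn R (W.ι.base ⁻¹' T) ∧ i ≫ p = 𝟙 P ∧
        i ≫ (rho l).map β ≫ η.hom.app E = α

lemma extTo_self (U : X.Opens) (T : Set X) (E : DCoh.D X) {P : DCoh.D (U : Scheme.{u})}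
    (hP : DCoh.IsPerfect P) (hPT : SuppOn P (U.ι.base ⁻¹' T)) (α : P ⟶ (rho U.ι).obj E) :
    ExtTo U T E α U := by
  let l := 𝟙 (U : Scheme.{u})
  let η := rhoC l U.ι U.ι (Category.id_comp _)
  let e : (rho l).obj ((lshD l).obj P) ≅ P := (lshDRhoIso l).app P
  obtain ⟨β, hβ⟩ := rho_map_surjective l _ ((rho U.ι).obj E) (e.hom ≫ α ≫ η.inv.app E)
  refine ⟨l, inferInstance, Category.id_comp _, η, (lshD l).obj P, β, e.inv, e.hom,
    isPerfect_of_rho l (isPerfect_of_iso e.symm hP),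
    suppOn_of_rho l (hPT.of_iso e.symm), e.inv_hom_id, ?_⟩
  rw [hβ]
  simp

lemma extTo_sup {U : X.Opens} (hU : IsCompact (U : Set X)) {T : Set X} (hT : IsClosed T)
    (hTc : IsCompact Tᶜ) {E : DCoh.D X} (hE : DCoh.IsQCohD E) {P : DCoh.D (U : Scheme.{u})}
    {α : P ⟶ (rho U.ι).obj E} {W V : X.Opens} (hW : IsCompact (W : Set X)) (hV : IsAffineOpen V)
    (h : ExtTo U T E α W) : ExtTo U T E α (W ⊔ V) := by
  obtain ⟨l, _, hl, η, R, β, i, p, hR, hRT, hip, heq⟩ := h
  let S := W ⊔ V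
  have hS : IsCompact (S : Set X) := by simpa [S] using hW.union hV.isCompact
  haveI : QuasiSeparatedSpace (S : Scheme.{u}) := quasiSeparatedSpace_of_quasiSeparated S.ι
  haveI : CompactSpace (W : Scheme.{u}) := isCompact_iff_compactSpace.1 hW
  haveI : IsAffine (V : Scheme.{u}) := hV
  let jW : (W : Scheme.{u}) ⟶ S := X.homOfLE le_sup_left
  let jV : (V : Scheme.{u}) ⟶ S := X.homOfLE le_sup_right
  have hcov : Set.range jW.base ∪ Set.range jV.base = Set.univ := by
    refine Set.eq_univ_of_forall fun x => (Opens.mem_sup.1 x.2).imp (fun h => ⟨⟨x.1, h⟩, ?_⟩)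
      (fun h => ⟨⟨x.1, h⟩, ?_⟩)
    · exact Subtype.ext (by simp [jW])
    · exact Subtype.ext (by simp [jV])
  let C3 := rhoC jW S.ι W.ι (X.homOfLE_ι le_sup_left)
  obtain ⟨R', β', i', p', hR', hR'T, hip', heq'⟩ := exists_extend_step jW jV hcov
    (hT.preimage S.ι.continuous) (isCompact_preimage_compl S hS hT hTc) (isQCohD_rho S.ι hE) hR
    (fun x hx => hRT x (by simpa [jW, ← Scheme.Hom.comp_apply] using hx)) (β ≫ C3.inv.app E)
  let C1 := rhoC l jW (l ≫ jW) rfl
  let η' : rho S.ι ⋙ rho (l ≫ jW) ≅ rho U.ι :=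
    Functor.isoWhiskerLeft (rho S.ι) C1.symm ≪≫ (Functor.associator _ _ _).symm ≪≫
      Functor.isoWhiskerRight C3 (rho l) ≪≫ η
  refine ⟨l ≫ jW, inferInstance, by rw [Category.assoc, X.homOfLE_ι, hl], η', R', β',
    i ≫ (rho l).map i' ≫ C1.hom.app R', C1.inv.app R' ≫ (rho l).map p' ≫ p, hR', hR'T, ?_, ?_⟩
  · simp only [Category.assoc, Iso.hom_inv_id_app_assoc]
    rw [← Functor.map_comp_assoc, hip', CategoryTheory.Functor.map_id, Category.id_comp, hip]
  · have hn := C1.hom.naturality β'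
    simp only [Functor.comp_map] at hn
    simp only [η', Iso.trans_hom, Functor.isoWhiskerLeft_hom, Functor.isoWhiskerRight_hom,
      NatTrans.comp_app, Functor.whiskerLeft_app, Functor.whiskerRight_app, Iso.symm_hom,
      Functor.associator_inv_app, Category.assoc, ← reassoc_of% hn]
    have key := congrArg (fun t => i ≫ (rho l).map (t ≫ C3.hom.app E) ≫ η.hom.app E) heq'
    simp only [Functor.map_comp, Category.assoc, Iso.inv_hom_id_app] at key
    erw [Iso.hom_inv_id_app_assoc, Category.id_comp]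
    refine key.trans ?_
    simpa using heq

/-- Thomason's extension theorem. -/
theorem exists_extend (U : X.Opens) (hU : IsCompact (U : Set X)) {T : Set X} (hT : IsClosed T)
    (hTc : IsCompact Tᶜ) {E : DCoh.D X} (hE : DCoh.IsQCohD E) {P : DCoh.D (U : Scheme.{u})}
    (hP : DCoh.IsPerfect P) (hPT : SuppOn P (U.ι.base ⁻¹' T)) (α : P ⟶ (rho U.ι).obj E) :
    ∃ (R : DCoh.D X) (β : R ⟶ E) (i : P ⟶ (rho U.ι).obj R) (p : (rho U.ι).obj R ⟶ P),
      DCoh.IsPerfect R ∧ SuppOn R T ∧ i ≫ p = 𝟙 P ∧ i ≫ (rho U.ι).map β = α := by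
  classical
  obtain ⟨s, hs⟩ := isCompact_univ.elim_finite_subcover (fun V : X.affineOpens => (V.1 : Set X))
    (fun V => V.1.2) fun x _ => by
      obtain ⟨_, ⟨V, hV, rfl⟩, hxV, -⟩ := X.isBasis_affineOpens.exists_subset_of_mem_open
        (Set.mem_univ x) isOpen_univ
      exact Set.mem_iUnion.2 ⟨⟨V, hV⟩, hxV⟩
  have key : ∀ t : Finset X.affineOpens, ∃ W : X.Opens, IsCompact (W : Set X) ∧ U ≤ W ∧
      (∀ V ∈ t, V.1 ≤ W) ∧ ExtTo U T E α W := by
    intro t
    induction t using Finset.induction with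
    | empty => exact ⟨U, hU, le_rfl, by simp, extTo_self U T E hP hPT α⟩
    | @insert V t _ ih =>
      obtain ⟨W, hWc, hUW, hW, hext⟩ := ih
      refine ⟨W ⊔ V.1, by simpa using hWc.union V.2.isCompact, hUW.trans le_sup_left, ?_,
        extTo_sup hU hT hTc hE hWc V.2 hext⟩
      intro V' hV'
      rcases Finset.mem_insert.1 hV' with rfl | hV'
      · exact le_sup_right
      · exact (hW V' hV').trans le_sup_left
  obtain ⟨W, -, -, hW, l, _, hl, η, R, β, i, p, hR, hRT, hip, heq⟩ := key s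
  haveI : Surjective W.ι := ⟨fun x => by
    obtain ⟨V, hV, hx⟩ := Set.mem_iUnion₂.1 (hs (Set.mem_univ x))
    exact ⟨⟨x, hW V hV hx⟩, rfl⟩⟩
  obtain ⟨R₀, ⟨e⟩⟩ := exists_rho_obj_iso W.ι R
  obtain ⟨β₀, hβ₀⟩ := rho_map_surjective W.ι R₀ E (e.hom ≫ β)
  refine ⟨R₀, β₀, i ≫ (rho l).map e.inv ≫ η.hom.app R₀, η.inv.app R₀ ≫ (rho l).map e.hom ≫ p,
    isPerfect_of_rho W.ι (isPerfect_of_iso e.symm hR), suppOn_of_rho W.ι (hRT.of_iso e.symm), ?_, ?_⟩
  · simp [← Functor.map_comp_assoc, hip]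
  · have hn := η.hom.naturality β₀
    simp only [Functor.comp_map] at hn
    rw [Category.assoc, Category.assoc, ← hn, ← Functor.map_comp_assoc, hβ₀, Iso.inv_hom_id_assoc, heq]

end Groth.Agent.Perf52
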