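import Groth.Agent.Perf52.OneDegree

/-!
# Extending perfect objects up to a shifted locally free summand
-/

set_option linter.style.haveILetI false
set_option backward.isDefEq.respectTransparency false

universe u

open CategoryTheory CategoryTheory.Limits AlgebraicGeometry TopologicalSpace Pretriangulated

attribute [local instance] HasDerivedCategory.standard

namespace Groth.Agent.Perf52

open Groth.Agent.KFlatLib

variable {X : Scheme.{u}}

theorem exists_extend_shift [IsAffine X] (U : X.Opens) (hU : IsCompact (U : Set X))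
    {E : DCoh.D (U : Scheme.{u})} (hE : DCoh.IsPerfect E)
    [∀ (A B : DCoh.D (U : Scheme.{u})), HasBinaryBiproduct A B] :
    ∃ (r : ℤ) (F : (U : Scheme.{u}).Modules) (G : DCoh.D X), FlatMod.IsFinLocFree F ∧ DCoh.IsPerfect G ∧
      Nonempty ((rho U.ι).obj G ≅ (DCoh.inD (U : Scheme.{u}) F)⟦-r⟧ ⊞ E) := by
  haveI : CompactSpace (U : Scheme.{u}) := isCompact_iff_compactSpace.1 hU
  haveI : QuasiSeparatedSpace (U : Scheme.{u}) := quasiSeparatedSpace_of_quasiSeparated U.ι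
  let t := DerivedCategory.TStructure.t (C := (U : Scheme.{u}).Modules)
  obtain ⟨a₁, b, -, hge, hle⟩ := exists_bounds_of_isPerfect hE
  obtain ⟨a, -, -, -, hlow, -⟩ := exists_hom_range hE
  have hloc : ∀ x : (U : Scheme.{u}), ∃ (S : CommRingCat.{u}) (j : Spec S ⟶ (U : Scheme.{u}))
      (_ : IsOpenImmersion j) (c : ℤ), x ∈ Set.range j.base ∧ ∀ L : DCoh.D (Spec S), DCoh.IsQCohD L →
        L.IsLE (c - 1) → ∀ φ : (rho j).obj E ⟶ L, φ = 0 := fun x => by
    obtain ⟨W, hW, hxW⟩ : ∃ W : (U : Scheme.{u}).Opens, IsAffineOpen W ∧ x ∈ W := by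
      obtain ⟨_, ⟨W, hW, rfl⟩, hxW, -⟩ := (U : Scheme.{u}).isBasis_affineOpens.exists_subset_of_mem_open
        (Set.mem_univ x) isOpen_univ
      exact ⟨W, hW, hxW⟩
    haveI : IsAffine (W : Scheme.{u}) := hW
    let j : Spec Γ(W, ⊤) ⟶ (U : Scheme.{u}) := (W : Scheme.{u}).isoSpec.inv ≫ W.ι
    obtain ⟨c, -, -, -, hc, -⟩ := exists_hom_range (isPerfect_rho j hE)
    refine ⟨Γ(W, ⊤), j, inferInstance, c, ⟨(W : Scheme.{u}).isoSpec.hom.base ⟨x, hxW⟩, ?_⟩, hc⟩
    rw [← Scheme.Hom.comp_apply, Iso.hom_inv_id_assoc]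
    rfl
  choose S j hj c hx hc using hloc
  haveI := hj
  obtain ⟨s, hs⟩ := isCompact_univ.elim_finite_subcover
    (fun x : (U : Scheme.{u}) => Set.range (j x).base) (fun x => (j x).isOpenEmbedding.isOpen_range)
    (fun x _ => Set.mem_iUnion.2 ⟨x, hx x⟩)
  obtain ⟨k, hk₁, hka, hkc⟩ : ∃ k : ℤ, k ≤ a₁ ∧ k ≤ a - 1 ∧ ∀ y ∈ s, k ≤ c y :=
    ⟨min (min a₁ (a - 1)) (-∑ y ∈ s, |c y|), by omega, by omega, fun y hy => by
      have h1 := Finset.single_le_sum (f := fun y => |c y|) (fun z _ => abs_nonneg (c z)) hy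
      have h2 := neg_abs_le (c y)
      omega⟩
  obtain ⟨G, C, α, q, d, hT, hG, hGlow, hGge, hC⟩ :=
    approxOpenAt_affine U hU hle (fun m => (isPseudoCoherentD_iff _ _).2 (((isPerfect_iff _).1 hE).locPC m)) (k + 1)
  rw [add_sub_cancel_right] at hC
  haveI := hC
  have hGU : ((rho U.ι).obj G).IsGE (k + 1) := (DerivedCategory.isGE_iff _ _).2 fun i hi =>
    haveI := hGge
    ((Scheme.Modules.restrictFunctor U.ι).map_isZero (G.isZero_of_isGE (k + 1) i hi)).of_iso
      (restrictHDIso U.ι G i)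
  haveI hCge : C.IsGE k := by
    haveI := hGU
    haveI := hge
    exact isGE_obj₂ (rot_of_distTriang _ hT) (t.isGE_of_ge E k a₁ hk₁)
      (t.isGE_shift ((rho U.ι).obj G) (k + 1) 1 k (by omega))
  have hCq : DCoh.IsQCohD C :=
    isQCohD_obj₃ hT (isQCohD_rho U.ι (isQCohD_of_isPerfect hG)) (isQCohD_of_isPerfect hE)
  have hCp : DCoh.IsPerfect C :=
    (Groth.Agent.S0887.result _ hT).1 (isPerfect_rho U.ι hG) hE
  obtain ⟨F, ⟨eF⟩⟩ := C.exists_iso_singleFunctor_obj_of_isGE_of_isLE k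
  let eC : C ≅ (DCoh.inD (U : Scheme.{u}) F)⟦-k⟧ := eF ≪≫
    ((SingleFunctors.shiftIso (DerivedCategory.singleFunctors (U : Scheme.{u}).Modules) (-k) k 0
      (by omega)).app F).symm
  let eH : DCoh.HD C k ≅ F := (DerivedCategory.homologyFunctor _ k).mapIso eF ≪≫ hSingle k F
  have hFq : Coh.IsQCoh F := isQCoh_of_iso eH (hCq k)
  have hFft : CohB1.IsFT F := isFT_of_iso' eH (isFT_top (((isPerfect_iff _).1 hCp).locPC k)
    fun i hi => C.isZero_of_isLE k i hi)
  have hF : FlatMod.IsFinLocFree F := by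
    refine isFinLocFree_of_vanishing hFq hFft fun x => ?_
    obtain ⟨y, hy, hxy⟩ := Set.mem_iUnion₂.1 (hs (Set.mem_univ x))
    refine ⟨S y, j y, hj y, hxy, fun L hL hL' φ => ?_⟩
    have h0 : ∀ L' : DCoh.D (Spec (S y)), DCoh.IsQCohD L' → L'.IsLE (k - 1) →
        ∀ ψ : (rho (j y)).obj C ⟶ L', ψ = 0 := fun L' hL₁ hL₂ ψ => by
      have hT' := (rho (j y)).map_distinguished _ (rot_of_distTriang _ hT)
      obtain ⟨χ, hχ⟩ := Triangle.yoneda_exact₂ _ hT' ψ
        (hc y L' hL₁ (DerivedCategory.TStructure.t.isLE_of_le L' (k - 1) (c y - 1)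
          (by linarith [hkc y hy])) _)
      rw [hχ, show χ = 0 from ((hGlow.rho U.ι).shift 1) (Spec (S y)) (j y) L' hL₁
        (by rwa [add_sub_cancel_right]) χ]
      exact comp_zero
    haveI := hL'
    let e := ((rho (j y)).mapIso eC) ≪≫ ((rho (j y)).commShiftIso (-k)).app _
    refine (shiftFunctor (DCoh.D (Spec (S y))) (-k)).map_injective
      ((cancel_epi e.hom).1 ?_)
    rw [Functor.map_zero, comp_zero]
    exact h0 _ (isQCohD_shift hL _)
      (DerivedCategory.TStructure.t.isLE_shift L (-1) (-k) (k - 1) (by omega)) _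
  have hq : q = 0 := hlow C hCq (t.isLE_of_le C k (a - 1) hka) q
  have hTi := inv_rot_of_distTriang _ hT
  obtain ⟨e, -⟩ := exists_iso_binaryBiproduct_of_distTriang _ hTi (by
    subst hq
    exact zero_comp)
  refine ⟨k + 1, F, G, hF, hG, ⟨e ≪≫ biprod.mapIso ?_ (Iso.refl E)⟩⟩
  exact (shiftFunctor (DCoh.D (U : Scheme.{u})) (-1 : ℤ)).mapIso eC ≪≫
    ((shiftFunctorAdd' (DCoh.D (U : Scheme.{u})) (-k) (-1) (-(k + 1)) (by omega)).app _).symm

end Groth.Agent.Perf52
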