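import Groth.Agent.Perf52.AffineExtend
import Groth.Agent.Perf52.RhoComp

/-!
# Extending perfect objects across one affine open
-/

set_option linter.style.haveILetI false
set_option backward.isDefEq.respectTransparency false

universe u

open CategoryTheory CategoryTheory.Limits AlgebraicGeometry TopologicalSpace Pretriangulated

attribute [local instance] HasDerivedCategory.standard

namespace Groth.Agent.Perf52

open Groth.Agent.KFlatLib

variable {S U V : Scheme.{u}}

lemma isPerfect_of_cover (jU : U ⟶ S) (jV : V ⟶ S) [IsOpenImmersion jU] [IsOpenImmersion jV]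
    (hcov : Set.range jU.base ∪ Set.range jV.base = Set.univ) {K : DCoh.D S}
    (hU : DCoh.IsPerfect ((rho jU).obj K)) (hV : DCoh.IsPerfect ((rho jV).obj K)) :
    DCoh.IsPerfect K := by
  rw [isPerfect_iff] at hU hV ⊢
  exact LocSP.of_local fun x => (hcov.symm.subset (Set.mem_univ x)).elim
    (fun h => ⟨U, jU, inferInstance, h, hU⟩) (fun h => ⟨V, jV, inferInstance, h, hV⟩)

/-- Extension of `P ⊞ P⟦1⟧` and of `(α, 0)` across one affine open. -/
theorem exists_extend_step_sum (jU : U ⟶ S) (jV : V ⟶ S) [IsOpenImmersion jU]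
    [IsOpenImmersion jV] [IsAffine V]
    (hcov : Set.range jU.base ∪ Set.range jV.base = Set.univ)
    (hUV : IsCompact (Set.range jU.base ∩ Set.range jV.base))
    {T : Set S} (hT : IsClosed T) (hTV' : IsCompact (Tᶜ ∩ Set.range jV.base))
    {E : DCoh.D S} (hE : DCoh.IsQCohD E) {P : DCoh.D U} (hP : DCoh.IsPerfect P)
    (hPT : SuppOn P (jU.base ⁻¹' T)) (α : P ⟶ (rho jU).obj E) :
    ∃ (R : DCoh.D S) (β : R ⟶ E) (e : P ⊞ P⟦(1 : ℤ)⟧ ≅ (rho jU).obj R),
      DCoh.IsPerfect R ∧ SuppOn R T ∧ e.hom ≫ (rho jU).map β = biprod.desc α 0 := by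
  let W : V.Opens := jV ⁻¹ᵁ jU.opensRange
  let k : (W : Scheme.{u}) ⟶ V := W.ι
  have hrange : Set.range (k ≫ jV).base ⊆ Set.range jU.base := by
    rintro _ ⟨w, rfl⟩
    exact w.2
  let l : (W : Scheme.{u}) ⟶ U := IsOpenImmersion.lift jU (k ≫ jV) hrange
  have hl : l ≫ jU = k ≫ jV := IsOpenImmersion.lift_fac _ _ _
  haveI : IsOpenImmersion l := by
    haveI : IsOpenImmersion (l ≫ jU) := hl ▸ inferInstance
    exact IsOpenImmersion.of_comp l jU
  have hbase : ∀ w, jU.base (l.base w) = jV.base (k.base w) := fun w => by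
    have := congrArg (fun f : (W : Scheme.{u}) ⟶ S => f.base w) hl
    simpa using this
  have hWc : IsCompact (W : Set V) := by
    refine jV.isOpenEmbedding.isInducing.isCompact_iff.2 ?_
    change IsCompact (jV.base '' (jV.base ⁻¹' Set.range jU.base))
    rwa [Set.image_preimage_eq_inter_range]
  have hTV : IsCompact (jV.base ⁻¹' T)ᶜ := by
    refine jV.isOpenEmbedding.isInducing.isCompact_iff.2 ?_
    rwa [← Set.preimage_compl, Set.image_preimage_eq_inter_range]
  haveI := preservesBinaryBiproducts_of_preservesBiproducts (rho l)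
  let A := P ⊞ P⟦(1 : ℤ)⟧
  have hA : DCoh.IsPerfect A := (Groth.Agent.S0887.result _
    (binaryBiproductTriangle_distinguished P (P⟦(1 : ℤ)⟧))).2.1 hP (isPerfect_shift hP 1)
  have hAT : SuppOn A (jU.base ⁻¹' T) := suppOn_obj₂
    (binaryBiproductTriangle_distinguished P (P⟦(1 : ℤ)⟧)) hPT (hPT.shift 1)
  let M := (lshD jU).obj A
  let P' := (rho l).obj P
  obtain ⟨G, hG, hGT, ⟨eG⟩⟩ := exists_extend_sum_affine (hT.preimage jV.continuous) hTV W hWc
    (isPerfect_rho l hP) (fun w hw => (z0_rho_iff l P w).2 (hPT _ fun h => hw (by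
      change jV.base (k.base w) ∈ T
      rw [← hbase]
      exact h)))
  let PW := (rho k).obj ((rho jV).obj M)
  let eA : (rho jU).obj M ≅ A := (lshDRhoIso jU).app A
  let φ : PW ≅ (rho k).obj G :=
    (rhoC k jV (k ≫ jV) rfl).app M ≪≫ ((rhoC l jU (k ≫ jV) hl).app M).symm ≪≫
      (rho l).mapIso eA ≪≫ (rho l).mapBiprod P (P⟦(1 : ℤ)⟧) ≪≫
      biprod.mapIso (Iso.refl _) (((rho l).commShiftIso (1 : ℤ)).app P) ≪≫ eG.symm
  let αM : M ⟶ E := ((lshDAdj jU).homEquiv A E).symm (biprod.desc α 0)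
  let a := (rho k).map ((rho jV).map αM)
  obtain ⟨G₁, β₁, γ, hG₁, hβ₁, hz, hγ⟩ := exists_lift W hWc hG (isQCohD_rho jV hE) (φ.inv ≫ a)
  haveI := hβ₁
  have hM0 : ∀ y ∉ Set.range k.base, Z0 ((rho jV).obj M) y := fun y hy => by
    refine (z0_rho_iff jV M y).2 (z0_lshD jU A _ fun h => hy ?_)
    rw [Scheme.Opens.range_ι]
    exact h
  obtain ⟨v, hv⟩ := (rho_map_bijective_of_z0 k ((rho jV).obj M) G₁ hM0).2
    (φ.hom ≫ inv ((rho k).map β₁))
  simp only at hv
  have hcond : v ≫ γ = (rho jV).map αM := by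
    refine (rho_map_bijective_of_z0 k _ _ hM0).1 ?_
    change (rho k).map (v ≫ γ) = a
    rw [Functor.map_comp, hv, ← hγ]
    simp
  obtain ⟨F, m, g, hg, hvg, hiso, hext⟩ := exists_pushout jV M G₁ v
  haveI := hg
  obtain ⟨β, hmβ, -⟩ := hext E αM γ hcond
  haveI hm : IsIso ((rho jU).map m) := by
    refine hiso jU ?_
    obtain ⟨C, b, c, hΔ⟩ := distinguished_cocone_triangle v
    refine (isIso_rho_map_iff jU ((lshD jV).mapTriangle.obj (Triangle.mk v b c))
      ((lshD jV).map_distinguished _ hΔ)).2 fun x => ?_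
    by_cases hx : jU.base x ∈ Set.range jV.base
    · obtain ⟨y, hy⟩ := hx
      refine hy ▸ (z0_lshD_iff jV C y).2 ?_
      have hiv : IsIso ((rho k).map v) := hv.symm ▸ inferInstance
      exact (isIso_rho_map_iff k _ hΔ).1 hiv ⟨y, show jV.base y ∈ Set.range jU.base from hy ▸ ⟨x, rfl⟩⟩
    · exact z0_lshD jV C _ hx
  let η := (lshDAdj jU).unit.app A
  haveI : IsIso η := inferInstance
  have hβA : η ≫ (rho jU).map m ≫ (rho jU).map β = biprod.desc α 0 := by
    rw [← Functor.map_comp, hmβ]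
    exact ((lshDAdj jU).homEquiv_unit A E αM).symm.trans (Equiv.apply_symm_apply _ _)
  let e : A ≅ (rho jU).obj F := asIso (η ≫ (rho jU).map m)
  refine ⟨F, β, e, ?_, ?_, (Category.assoc _ _ _).trans hβA⟩
  · exact isPerfect_of_cover jU jV hcov (isPerfect_of_iso e hA) (isPerfect_of_iso (asIso g) hG₁)
  · intro x hx
    rcases hcov.symm.subset (Set.mem_univ x) with ⟨y, rfl⟩ | ⟨y, rfl⟩
    · exact (z0_rho_iff jU F y).1 ((hAT y hx).of_iso e)
    · exact (z0_rho_iff jV F y).1 ((hz y (hGT y hx)).of_iso (asIso g))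

/-- Thomason's extension across one affine open. -/
theorem exists_extend_step [QuasiSeparatedSpace S] (jU : U ⟶ S) (jV : V ⟶ S) [IsOpenImmersion jU]
    [IsOpenImmersion jV] [CompactSpace U] [IsAffine V]
    (hcov : Set.range jU.base ∪ Set.range jV.base = Set.univ)
    {T : Set S} (hT : IsClosed T) (hTc : IsCompact Tᶜ)
    {E : DCoh.D S} (hE : DCoh.IsQCohD E) {P : DCoh.D U} (hP : DCoh.IsPerfect P)
    (hPT : SuppOn P (jU.base ⁻¹' T)) (α : P ⟶ (rho jU).obj E) :
    ∃ (R : DCoh.D S) (β : R ⟶ E) (i : P ⟶ (rho jU).obj R) (p : (rho jU).obj R ⟶ P),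
      DCoh.IsPerfect R ∧ SuppOn R T ∧ i ≫ p = 𝟙 P ∧ i ≫ (rho jU).map β = α := by
  have hV := isCompact_range jV.continuous
  obtain ⟨R, β, e, hR, hRT, he⟩ := exists_extend_step_sum jU jV hcov
    (QuasiSeparatedSpace.inter_isCompact _ _ jU.isOpenEmbedding.isOpen_range
      (isCompact_range jU.continuous) jV.isOpenEmbedding.isOpen_range hV) hT
    (QuasiSeparatedSpace.inter_isCompact _ _ hT.isOpen_compl hTc jV.isOpenEmbedding.isOpen_range hV)
    hE hP hPT α
  exact ⟨R, β, biprod.inl ≫ e.hom, e.inv ≫ biprod.fst, hR, hRT, by simp, by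
    rw [Category.assoc, he, biprod.inl_desc]⟩

end Groth.Agent.Perf52
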