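import Groth.Agent.KSix54.FlatAmp
import Groth.Agent.H9Misc.DRingTorTriangle
import Groth.Agent.AssLib.OpenRestrict
import Groth.Agent.KFlatLib.Perfect.Retract
import Groth.Agent.Perf52.RelPerf

/-!
# Relative flat amplitude is stalkwise tor amplitude for flat morphisms
-/

set_option linter.style.haveILetI false
set_option backward.isDefEq.respectTransparency false
set_option backward.isDefEq.respectTransparency.types false

universe u

open CategoryTheory CategoryTheory.Limits AlgebraicGeometry Pretriangulated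

attribute [local instance] HasDerivedCategory.standard

namespace Groth.Agent.Perf52

open Groth.Agent.KFlatLib

variable {X U S : Scheme.{u}} (f : X ⟶ S)

section Stalk

variable (j : U ⟶ X) [IsOpenImmersion j]

/-- The stalk comparison along an open immersion, as an additive equivalence. -/
noncomputable def restrictStalkEquiv (M : X.Modules) (z : U) :
    (M.restrict j).presheaf.stalk z ≃+ M.presheaf.stalk (j.base z) :=
  ((Scheme.Modules.restrictStalkNatIso j z).app M).addCommGroupIsoToAddEquiv

/-- The stalk comparison along an open immersion is semilinear. -/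
theorem restrictStalk_semilinear (M : X.Modules) (z : U) (a : X.presheaf.stalk (j.base z))
    (m : (M.restrict j).presheaf.stalk z) :
    restrictStalkEquiv j M z ((j.stalkMap z).hom a • m) = a • restrictStalkEquiv j M z m := by
  let η := (Scheme.Modules.restrictStalkNatIso j z).app M
  have hg : ∀ (V : U.Opens) (hV : z ∈ V) (s : Γ(M, j ''ᵁ V)),
      η.hom ((M.restrict j).presheaf.germ V z hV s) =
        M.presheaf.germ (j ''ᵁ V) (j.base z) ⟨z, hV, rfl⟩ s := fun V hV s =>
    ConcreteCategory.congr_hom (Scheme.Modules.germ_restrictStalkNatIso_hom_app j z M hV) s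
  obtain ⟨V, hV, s, rfl⟩ := (M.restrict j).presheaf.germ_exist m
  obtain ⟨W, hW, t, rfl⟩ := X.presheaf.germ_exist a
  let V' : U.Opens := V ⊓ j ⁻¹ᵁ W
  have hV' : z ∈ V' := ⟨hV, hW⟩
  have hle : j ''ᵁ V' ≤ W := by rintro _ ⟨y, ⟨-, hy⟩, rfl⟩; exact hy
  have hz' : j.base z ∈ j ''ᵁ V' := ⟨z, hV', rfl⟩
  have hsm : (j.stalkMap z).hom (X.presheaf.germ W (j.base z) hW t) =
      U.presheaf.germ V' z hV'
        ((j.appIso V').hom (X.presheaf.map (homOfLE hle).op t)) := by
    rw [← X.presheaf.germ_res_apply (homOfLE hle) (j.base z) hz' t]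
    erw [Scheme.Hom.germ_stalkMap_apply]
    rw [Scheme.Hom.appIso_hom']
    erw [← U.presheaf.germ_res_apply (homOfLE (show V' ≤ j ⁻¹ᵁ (j ''ᵁ V') from
      (j.preimage_image_eq V').ge)) z hV']
    rfl
  rw [hsm, ← (M.restrict j).presheaf.germ_res_apply (homOfLE (inf_le_left : V' ≤ V)) z hV' s,
    ← QCoh.germ_smul' (M.restrict j) hV']
  change η.hom _ = (_ : X.presheaf.stalk (j.base z)) • (show M.presheaf.stalk (j.base z) from η.hom _)
  rw [hg, hg, ← X.presheaf.germ_res_apply (homOfLE hle) (j.base z) hz' t, ← QCoh.germ_smul' M hz']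
  congr 1
  have := ConcreteCategory.congr_hom (Scheme.Modules.smul_restrictAppIso_hom j M V'
    ((j.appIso V').hom (X.presheaf.map (homOfLE hle).op t)))
    ((M.restrict j).presheaf.map (homOfLE (inf_le_left : V' ≤ V)).op s)
  refine this.trans ?_
  simp only [Iso.hom_inv_id_apply]
  rfl

/-- Stalks over the base of a restriction. -/
noncomputable def stalkOverRestrictIso (z : U) (M : X.Modules) :
    (DerSch.stalkOver (j ≫ f) z).obj (M.restrict j) ≅ (DerSch.stalkOver f (j.base z)).obj M :=
  LinearEquiv.toModuleIso (R := S.presheaf.stalk (f.base (j.base z)))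
    (X₁ := (DerSch.stalkOver (j ≫ f) z).obj (M.restrict j)) (X₂ := (DerSch.stalkOver f (j.base z)).obj M)
    { restrictStalkEquiv j M z with
      map_smul' := fun r m => by
        change restrictStalkEquiv j M z
          (((j ≫ f).stalkMap z).hom r • (show (M.restrict j).presheaf.stalk z from m)) =
            (f.stalkMap (j.base z)).hom r • restrictStalkEquiv j M z m
        rw [Scheme.Hom.stalkMap_comp j f z]
        exact restrictStalk_semilinear j M z _ _ }

/-- Stalk complexes over the base of a restriction. -/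
noncomputable def stalkCxRestrictIso (z : U) (F : CochainComplex X.Modules ℤ) :
    (DerSch.stalkCxOver (j ≫ f) z).obj ((rCx j).obj F) ≅ (DerSch.stalkCxOver f (j.base z)).obj F :=
  HomologicalComplex.Hom.isoOfComponents (fun i => stalkOverRestrictIso f j z (F.X i))
    fun i k _ => by
      ext m
      exact (ConcreteCategory.congr_hom ((Scheme.Modules.restrictStalkNatIso j z).hom.naturality (F.d i k)) m).symm

lemma torAmpAt_restrict_iff (a b : ℤ) (F : CochainComplex X.Modules ℤ) (z : U) :
    DerSch.HasTorAmplitudeAt (j ≫ f) a b ((rCx j).obj F) z ↔ DerSch.HasTorAmplitudeAt f a b F (j.base z) :=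
  ⟨H9Misc.DRingTor.of_iso (DerivedCategory.Q.mapIso (stalkCxRestrictIso f j z F)),
    H9Misc.DRingTor.of_iso (DerivedCategory.Q.mapIso (stalkCxRestrictIso f j z F)).symm⟩

end Stalk

/-- A relatively flat representative bounds the stalkwise tor amplitude. -/
lemma torAmplitude_of_relFlat {a b : ℤ} {F : CochainComplex X.Modules ℤ}
    (h : DCoh.HasRelFlatAmplitudeIn f a b (DCoh.toD X F)) : DerSch.HasTorAmplitude f a b F := by
  obtain ⟨E, hz, hf, ⟨e⟩⟩ := h
  exact KSix54.torAmplitude_congr _ e fun x =>
    ⟨(DerSch.stalkCxOver f x).obj E, fun i hi => (DerSch.stalkOver f x).map_isZero (hz i hi),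
      fun i => hf i x, ⟨Iso.refl _⟩⟩

/-- For flat morphisms stalkwise tor amplitude gives a relatively flat representative. -/
theorem relFlat_of_torAmplitude [Flat f] {a b : ℤ} (F : CochainComplex X.Modules ℤ)
    (h : DerSch.HasTorAmplitude f a b F) : DCoh.HasRelFlatAmplitudeIn f a b (DCoh.toD X F) := by
  have hzero : ∀ i, i < a ∨ b < i → IsZero (F.homology i) := fun i hi => by
    rw [← HomologicalComplex.exactAt_iff_isZero_homology]
    refine (KFlatLib.exact_iff_stalk _).2 fun x => ?_
    obtain ⟨E, hz, -, ⟨e⟩⟩ := h x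
    have hF : IsZero (((DerSch.stalkCxOver f x).obj F).homology i) :=
      (ShortComplex.isZero_homology_of_isZero_X₂ (E.sc i) (hz i hi) :
        IsZero (E.homology i)).of_iso
        (((DerivedCategory.homologyFunctorFactors _ i).app _).symm ≪≫
          (DerivedCategory.homologyFunctor _ i).mapIso e.symm ≪≫
          (DerivedCategory.homologyFunctorFactors _ i).app _)
    have hF' : (((F.sc i).map (DerSch.stalkFunctor X x)).map (ModuleCat.restrictScalars (f.stalkMap x).hom)).Exact :=
      (HomologicalComplex.exactAt_iff_isZero_homology _ _).2 hF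
    rwa [ShortComplex.exact_map_iff_of_faithful] at hF'
  obtain ⟨P, ψ, hψ, hflat, hz⟩ :=
    (KFlatLib.flatCover X).exists_bounded_resolution F b (fun m hm => hzero m (Or.inr hm))
  haveI := hψ
  let e : DCoh.toD X P ≅ DCoh.toD X F :=
    @asIso _ _ _ _ (DerivedCategory.Q.map ψ) (KFlatLib.isIso_Q_map ψ hψ)
  have hP : DerSch.HasTorAmplitude f a b P := KSix54.torAmplitude_congr _ e.symm h
  have hflat' : ∀ n, FlatMod.IsFlatOver f (P.X n) := fun n x => by
    unfold FlatMod.IsFlatOverAt
    letI := FlatMod.moduleStalkOver f (P.X n) x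
    letI : Algebra (S.presheaf.stalk (f.base x)) (X.presheaf.stalk x) := (f.stalkMap x).hom.toAlgebra
    haveI : IsScalarTower (S.presheaf.stalk (f.base x)) (X.presheaf.stalk x) ((P.X n).presheaf.stalk x) :=
      IsScalarTower.of_algebraMap_smul fun _ _ => rfl
    haveI : Module.Flat (S.presheaf.stalk (f.base x)) (X.presheaf.stalk x) := Flat.stalkMap f x
    haveI : Module.Flat (X.presheaf.stalk x) ((P.X n).presheaf.stalk x) := hflat n x
    exact Module.Flat.trans _ (X.presheaf.stalk x) _
  have hop : FlatMod.IsFlatOver f (P.opcycles a) := fun x => by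
    let Px := (DerSch.stalkCxOver f x).obj P
    have hPx : ∀ n, Module.Flat (S.presheaf.stalk (f.base x)) (Px.X n) := fun n => hflat' n x
    have hKF : H9Misc.DRingLTensor.IsKF Px := H9Misc.DRingTor.isKF_of_flat hPx (b := b)
      fun n hn => (DerSch.stalkOver f x).map_isZero (hz n hn)
    have hvan := (H9Misc.DRingTor.iff_van hKF (Iso.refl _)).1 (hP x)
    haveI := H9Misc.DRingTor.flat_opcycles (P := Px) hPx a fun M => hvan M (a - 1) (Or.inl (by omega))
    let k' : (DerSch.stalkOver f x).obj (P.opcycles a) ≅ Px.opcycles a :=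
      (DerSch.stalkOver f x).mapIso (IsColimit.coconePointUniqueUpToIso
        (P.opcyclesIsCokernel (a - 1) a (by simp)) (cokernelIsCokernel _)) ≪≫
      PreservesCokernel.iso (DerSch.stalkOver f x) (P.d (a - 1) a) ≪≫
      IsColimit.coconePointUniqueUpToIso (cokernelIsCokernel _)
        (Px.opcyclesIsCokernel (a - 1) a (by simp))
    exact (Module.Flat.of_linearEquiv k'.toLinearEquiv :
      Module.Flat (S.presheaf.stalk (f.base x)) ((DerSch.stalkOver f x).obj (P.opcycles a)))
  have hiso : ∀ {M N : X.Modules}, (M ≅ N) → FlatMod.IsFlatOver f M → FlatMod.IsFlatOver f N :=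
    fun {M N} e hM x => by
      haveI : Module.Flat (S.presheaf.stalk (f.base x)) ((DerSch.stalkOver f x).obj M) := hM x
      exact (Module.Flat.of_linearEquiv ((DerSch.stalkOver f x).mapIso e).toLinearEquiv.symm :
        Module.Flat (S.presheaf.stalk (f.base x)) ((DerSch.stalkOver f x).obj N))
  have hzf : ∀ {M : X.Modules}, IsZero M → FlatMod.IsFlatOver f M := fun {M} hM x => by
    haveI := ModuleCat.subsingleton_of_isZero ((DerSch.stalkOver f x).map_isZero hM)
    exact (inferInstance : Module.Flat (S.presheaf.stalk (f.base x)) ((DerSch.stalkOver f x).obj M))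
  haveI : CochainComplex.IsGE P a := (CochainComplex.isGE_iff P a).2 fun i hi =>
    (HomologicalComplex.exactAt_iff_isZero_homology _ _).2
      ((hzero i (Or.inl hi)).of_iso (asIso (HomologicalComplex.homologyMap ψ i)))
  haveI : QuasiIso (P.πTruncGE a) := inferInstance
  refine ⟨P.truncGE a, ?_, fun i => ?_, ⟨(@asIso _ _ _ _ (DerivedCategory.Q.map (P.πTruncGE a))
    (KFlatLib.isIso_Q_map _ inferInstance)).symm ≪≫ e⟩⟩
  · rintro i (hi | hi)
    · exact (P.truncGE a).isZero_of_isStrictlyGE a i hi
    · rcases lt_trichotomy i a with hia | rfl | hia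
      · exact (P.truncGE a).isZero_of_isStrictlyGE a i hia
      · exact (IsZero.of_epi (P.pOpcycles i) (hz i hi)).of_iso (P.truncGEXIsoOpcycles i)
      · exact (hz i hi).of_iso (P.truncGEXIso a i hia)
  · rcases lt_trichotomy i a with hia | rfl | hia
    · exact hzf ((P.truncGE a).isZero_of_isStrictlyGE a i hia)
    · exact hiso (P.truncGEXIsoOpcycles i).symm hop
    · exact hiso (P.truncGEXIso a i hia).symm (hflat' i)

/-- Locally finite relative tor dimension, stalkwise. -/
theorem locRelTor_iff [Flat f] (K : DCoh.D X) :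
    DCoh.LocHasFiniteRelTorDim f K ↔ ∀ x : X, ∃ (V : X.Opens) (a b : ℤ), x ∈ V ∧ ∀ y ∈ V,
      DRing.HasTorAmplitudeIn (S.presheaf.stalk (f.base y)) a b ((KSix54.stalkD f y).obj K) := by
  let F := DerivedCategory.Q.objPreimage K
  refine ⟨fun h x => ?_, fun h x => ?_⟩
  · obtain ⟨V, a, b, hx, hV⟩ := h x
    refine ⟨V, a, b, hx, fun y hy => ?_⟩
    have h1 := torAmplitude_of_relFlat (V.ι ≫ f) (hV F ⟨repIso K⟩) ⟨y, hy⟩
    exact H9Misc.DRingTor.of_iso ((KSix54.stalkD f y).mapIso (repIso K))
      ((KSix54.torAmplitudeAt_iff f a b F y).1 ((torAmpAt_restrict_iff f V.ι a b F ⟨y, hy⟩).1 h1))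
  · obtain ⟨V, a, b, hx, hV⟩ := h x
    refine ⟨V, a, b, hx, fun F' ⟨e'⟩ => relFlat_of_torAmplitude (V.ι ≫ f) _ fun z => ?_⟩
    exact (torAmpAt_restrict_iff f V.ι a b F' z).2 ((KSix54.torAmplitudeAt_iff f a b F' _).2
      (H9Misc.DRingTor.of_iso ((KSix54.stalkD f _).mapIso e'.symm) (hV z.1 z.2)))

end Groth.Agent.Perf52
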