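import Groth.Agent.KFlatLib.Scheme.TorQCoh
import Groth.Agent.KFlatLib.Scheme.ProjFormula
import Groth.Agent.KFlatLib.Scheme.CohD
import Groth.Agent.KFlatLib.Scheme.RpushUnbounded
import Groth.Agent.KFlatLib.Scheme.SupportPush
import Groth.Agent.KFlatLib.Scheme.PullCx
import Groth.Agent.KFlatLib.Perfect.Criterion
import Groth.Agent.H9Misc.DRingTorLTensor
import Groth.Agent.Perf52.RelTor
import Groth.Agent.Perf52.ProperPush

/-!
# Perfectness of derived direct images

`Rf_*E` is perfect on a Noetherian base when `E` has coherent cohomology with proper support and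
finite tor amplitude over the base.
-/

set_option linter.style.haveILetI false

universe u

open CategoryTheory CategoryTheory.Limits AlgebraicGeometry MonoidalCategory

attribute [local instance] HasDerivedCategory.standard

namespace Groth.Agent.Perf52

open Groth.Agent Groth.Agent.KFlatLib

variable {X S : Scheme.{u}}

/-- A flat resolution of a module. -/
lemma exists_flat_resolution (G : S.Modules) : ∃ (P : CochainComplex S.Modules ℤ)
    (η : P ⟶ (HomologicalComplex.single S.Modules (ComplexShape.up ℤ) 0).obj G),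
      QuasiIso η ∧ DCoh.IsKFlat P := by
  obtain ⟨P, η, hη, hflat, hz⟩ := (flatCover S).exists_bounded_resolution
    ((HomologicalComplex.single S.Modules (ComplexShape.up ℤ) 0).obj G) 0 fun m hm =>
      HomologicalComplex.isZero_single_obj_homology _ _ _ _ (by omega)
  haveI : CochainComplex.IsStrictlyLE P 0 :=
    (CochainComplex.isStrictlyLE_iff P 0).2 fun i hi => hz i hi
  exact ⟨P, η, hη, isKFlat_of_isStrictlyLE P 0 hflat⟩

/-- Tensoring with the pullback of a flat resolution keeps the relative tor amplitude. -/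
theorem exactAt_tensor_pull (f : X ⟶ S) {a b : ℤ} {L : CochainComplex X.Modules ℤ}
    (h : DerSch.HasTorAmplitude f a b L) {G : S.Modules} {P : CochainComplex S.Modules ℤ}
    (η : P ⟶ (HomologicalComplex.single S.Modules (ComplexShape.up ℤ) 0).obj G) [QuasiIso η]
    (hP : DCoh.IsKFlat P) (i : ℤ) (hi : i < a ∨ b < i) :
    ((DCoh.tensorCx.obj L).obj ((pullCx f).obj P)).ExactAt i := by
  refine (exact_iff_stalk _).2 fun x => ?_
  let φ := (f.stalkMap x).hom
  let A := S.presheaf.stalk (f.base x)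
  let Lx := (stalkCx x).obj L
  let LA : DRing.Cx A :=
    ((ModuleCat.restrictScalars φ).mapHomologicalComplex (ComplexShape.up ℤ)).obj Lx
  let Px : DRing.Cx A := (stalkCx (f.base x)).obj P
  have hPx : H9Misc.DRingLTensor.IsKF Px := (kFlat_iff_stalk P).1 hP (f.base x)
  let ηx : Px ⟶ (HomologicalComplex.single (ModuleCat.{u} A) (ComplexShape.up ℤ) 0).obj
      ((DerSch.stalkFunctor S (f.base x)).obj G) :=
    (stalkCx (f.base x)).map η ≫ ((HomologicalComplex.singleMapHomologicalComplex
      (DerSch.stalkFunctor S (f.base x)) (ComplexShape.up ℤ) 0).app G).hom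
  haveI : QuasiIso ηx := inferInstance
  let RA := (ringCover A).P.obj LA
  haveI := (ringCover A).quasiIso_ψ LA
  haveI : IsIso (DerivedCategory.Q.map ((ringCover A).ψ.app LA)) :=
    (DerivedCategory.isIso_Q_map_iff_quasiIso _ _).2 inferInstance
  have hRA : H9Misc.DRingLTensor.IsKF RA := kFlat_ringRes LA
  have hvan := (H9Misc.DRingTor.iff_van hRA
    (asIso (DerivedCategory.Q.map ((ringCover A).ψ.app LA)))).1 (h x)
  have h1 := (H9Misc.DRingTorLTensor.exactAt_projection φ Lx Px i).2
    ((H9Misc.DRingTorLTensor.exactAt_balance ((ringCover A).ψ.app LA) hRA hPx ηx i).2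
      (hvan _ i hi))
  exact h1.of_iso
    (((curriedTensor (ModuleCat.{u} (X.presheaf.stalk x))).map₂CochainComplex.obj Lx).mapIso
      (stalkPullCxIso f x P).symm ≪≫ stalkTensorCxIso x L ((pullCx f).obj P))

/-- Derived tensoring with a module is computed by a flat resolution of the module. -/
lemma nonempty_ltensorMod_iso_ltensorCx (G : S.Modules) [DCoh.HasLTensorMod G]
    {P : CochainComplex S.Modules ℤ}
    (η : P ⟶ (HomologicalComplex.single S.Modules (ComplexShape.up ℤ) 0).obj G) [QuasiIso η]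
    (hP : DCoh.IsKFlat P) [DCoh.HasLTensorCx P] (K : DCoh.D S) :
    Nonempty ((DCoh.LTensorMod G).obj K ≅ (DCoh.LTensorCx P).obj K) := by
  let R := repK K
  have hR : DCoh.IsKFlat R := isKFlat_repK K
  haveI := isIso_ltensorModComparison G hR
  haveI := isIso_LTensorCx_counit_of_isKFlat_right P hP R
  haveI : QuasiIso ((DCoh.tensorCx.obj R).map η) := KFlat.quasiIso_map' (tensorBiFlipIso S) hR η
  haveI : IsIso (DerivedCategory.Q.map ((DCoh.tensorCx.obj R).map η)) := isIso_Q_map _ inferInstance
  exact ⟨(DCoh.LTensorMod G).mapIso (repKIso K).symm ≪≫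
    asIso ((ltensorModComparison G).app R) ≪≫
    DerivedCategory.Q.mapIso ((singleIso DCoh.tensorBi G).app R).symm ≪≫
    (asIso (DerivedCategory.Q.map ((DCoh.tensorCx.obj R).map η))).symm ≪≫
    (asIso (((DCoh.tensorCxQ P).totalLeftDerivedCounit DerivedCategory.Q (qisX S)).app R)).symm ≪≫
    (DCoh.LTensorCx P).mapIso (repKIso K)⟩

/-- `Rf_*E` has finite tor amplitude when `E` does over the base. -/
theorem exists_torAmplitude_rpush [CompactSpace S] [QuasiSeparatedSpace S] (f : X ⟶ S)
    [QuasiCompact f] [QuasiSeparated f] [DCoh.HasRpush f] (E : DCoh.D X) (hq : DCoh.IsQCohD E)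
    (L : CochainComplex X.Modules ℤ) (e : DCoh.toD X L ≅ E) (a b : ℤ) (hab : a ≤ b)
    (h : DerSch.HasTorAmplitude f a b L) :
    ∃ b' : ℤ, a ≤ b' ∧ DCoh.HasTorAmplitudeIn a b' ((DCoh.Rpush f).obj E) := by
  haveI : HasInjectiveResolutions X.Modules := hasInjectiveResolutions_modules
  obtain ⟨N, hN⟩ := exists_Rpush_bound f
  refine ⟨b + N, by omega, torAmplitude_of_qcoh _ a (b + N) fun G hG inst i hi => ?_⟩
  obtain ⟨P, η, hη, hP⟩ := exists_flat_resolution G
  haveI := hη
  haveI := hasLTensorCx P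
  obtain ⟨e₁⟩ := nonempty_ltensorMod_iso_ltensorCx G η hP ((DCoh.Rpush f).obj E)
  let M := (pullCx f).obj P
  have hM : DCoh.IsKFlat M := isKFlat_pullback f hP
  haveI := hasLTensorCx M
  haveI := hasLpull f
  haveI := isIso_lpullComparison f hP
  have hPq : DCoh.IsQCohD (DCoh.toD S P) := (isQCohD_Q_iff P).2 fun j => by
    refine isQCoh_of_iso (asIso (HomologicalComplex.homologyMap η j)).symm ?_
    rcases eq_or_ne j 0 with rfl | hj
    · exact isQCoh_of_iso (HomologicalComplex.singleObjHomologySelfIso _ _ _).symm hG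
    · exact isQCoh_of_isZero (HomologicalComplex.isZero_single_obj_homology _ _ _ _ hj)
  obtain ⟨e₂⟩ := nonempty_projection_DQCoh f E hq P hPq M
    ⟨(asIso ((lpullComparison f).app P)).symm⟩
  let Z := (DCoh.LTensorCx M).obj E
  haveI := isIso_LTensorCx_counit_of_isKFlat_right M hM L
  let eZ : DerivedCategory.Q.obj ((DCoh.tensorCx.obj L).obj M) ≅ Z :=
    (asIso (((DCoh.tensorCxQ M).totalLeftDerivedCounit DerivedCategory.Q (qisX X)).app L)).symm ≪≫
      (DCoh.LTensorCx M).mapIso e
  have hZ : ∀ j, (j < a ∨ b < j) → IsZero (DCoh.HD Z j) := fun j hj =>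
    ((HomologicalComplex.exactAt_iff_isZero_homology _ j).1
      (exactAt_tensor_pull f h η hP j hj)).of_iso
      ((DerivedCategory.homologyFunctor X.Modules j).mapIso eZ.symm ≪≫
        (DerivedCategory.homologyFunctorFactors X.Modules j).app _)
  haveI : Z.IsLE b := (DerivedCategory.isLE_iff Z b).2 fun j hj => hZ j (Or.inr hj)
  haveI : Z.IsGE a := (DerivedCategory.isGE_iff Z a).2 fun j hj => hZ j (Or.inl hj)
  have hZq : DCoh.IsQCohD Z := isQCohD_ltensor M
    (isQCohD_of_iso (asIso ((lpullComparison f).app P)) (isQCohD_lpull f hPq)) hq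
  refine IsZero.of_iso ?_ ((DerivedCategory.homologyFunctor S.Modules i).mapIso (e₁ ≪≫ e₂))
  rcases hi with hi | hi
  · haveI := isGE_rpush f Z a
    exact DerivedCategory.isZero_of_isGE _ a i hi
  · exact isZero_of_isZero_restrict _ fun y => ⟨⊤, trivial, isZero_restrict_hd_rpush f hZq b ⊤ N
      (fun M hM p hp => Functor.map_isZero _ (hN M hM p hp)) i (by omega)⟩

lemma isCompact_of_isProperOver [CompactSpace S] {f : X ⟶ S} {Z : Set X} (h : ClSub.IsProperOver f Z) :
    IsCompact Z := by
  obtain ⟨hZ, hp⟩ := h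
  let I := Scheme.IdealSheafData.vanishingIdeal ⟨Z, hZ⟩
  haveI : IsProper (I.subschemeι ≫ f) := hp
  haveI : CompactSpace I.subscheme := QuasiCompact.compactSpace_of_compactSpace (I.subschemeι ≫ f)
  have hr : Set.range I.subschemeι.base = Z := by
    rw [Scheme.IdealSheafData.range_subschemeι, Scheme.IdealSheafData.coe_support_vanishingIdeal]
    rfl
  exact hr ▸ isCompact_range I.subschemeι.continuous

/-- Perfectness from tor amplitude and coherence on a Noetherian scheme. -/
theorem isPerfect_of_coh_torAmplitude [AlgebraicGeometry.IsNoetherian S] (K : DCoh.D S)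
    (hK : DCoh.IsCohD K) (a b : ℤ) (hab : a ≤ b) (h : DCoh.HasTorAmplitudeIn a b K) :
    DCoh.IsPerfect K := by
  have hfl := flatAmplitude_of_torAmplitude (fun G => hasLTensorMod G) hab h
  obtain ⟨E, hv, -, ⟨e⟩⟩ := id hfl
  rw [isPerfect_iff]
  exact locSP_of_flat_pc hab hfl (locPC_of_coh (fun i => (hK i).1) (fun i _ => hK i) b fun i hi =>
    (ShortComplex.isZero_homology_of_isZero_X₂ (E.sc i) (hv i (Or.inr hi)) :
      IsZero (E.homology i)).of_iso ((DerivedCategory.homologyFunctor S.Modules i).mapIso e.symm ≪≫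
        (DerivedCategory.homologyFunctorFactors S.Modules i).app E))

/-- The derived direct image of a bounded complex with coherent cohomology of proper support and
finite tor amplitude over a Noetherian base is perfect. -/
theorem isPerfect_rpush_of_torAmplitude [AlgebraicGeometry.IsNoetherian S] (f : X ⟶ S)
    [LocallyOfFiniteType f] [DCoh.HasRpush f] (E : DCoh.D X) (c d : ℤ)
    (hbd : ∀ i, (i < c ∨ d < i) → IsZero (DCoh.HD E i)) (hq : ∀ i, IsCohProper f (DCoh.HD E i))
    (L : CochainComplex X.Modules ℤ) (e : DCoh.toD X L ≅ E) (a b : ℤ)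
    (h : DerSch.HasTorAmplitude f a b L) : DCoh.IsPerfect ((DCoh.Rpush f).obj E) := by
  haveI : IsLocallyNoetherian X := LocallyOfFiniteType.isLocallyNoetherian f
  haveI : E.IsGE c := (DerivedCategory.isGE_iff E c).2 fun i hi => hbd i (Or.inl hi)
  have hcoh : DCoh.IsCohD ((DCoh.Rpush f).obj E) := isCohD_rpush_cohProper f E c hq
  have h' : DerSch.HasTorAmplitude f a (max a b) L := fun x => by
    obtain ⟨M, hz, hflat, hM⟩ := h x
    exact ⟨M, fun i hi => hz i (by omega), hflat, hM⟩
  -- the supports lie in a quasi-compact open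
  let T : Set X := ⋃ i ∈ Finset.Icc c d, CohB1.support (DCoh.HD E i)
  have hT : IsCompact T ∧ IsClosed T := by
    refine ⟨(Finset.Icc c d).finite_toSet.isCompact_biUnion fun i _ => ?_,
      (Finset.Icc c d).finite_toSet.isClosed_biUnion fun i _ => (hq i).2.fst⟩
    exact isCompact_of_isProperOver (hq i).2
  have hsupp : ∀ i, CohB1.support (DCoh.HD E i) ⊆ T := fun i x hx => by
    by_cases hi : i < c ∨ d < i
    · exact absurd (AddCommGrpCat.subsingleton_of_isZero
        ((TopCat.Presheaf.stalkFunctor AddCommGrpCat.{u} x).map_isZero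
          ((Scheme.Modules.toPresheaf X).map_isZero (hbd i hi)))) hx
    · exact Set.mem_biUnion (Finset.mem_Icc.2 (by omega)) hx
  obtain ⟨U, hU, hTU⟩ : ∃ U : X.Opens, IsCompact (U : Set X) ∧ T ⊆ (U : Set X) := by
    obtain ⟨s, hs⟩ := hT.1.elim_finite_subcover (fun V : X.affineOpens => ((V.1 : X.Opens) : Set X))
      (fun V => V.1.2) fun x _ => by
        obtain ⟨V, hV, hx, -⟩ := exists_isAffineOpen_mem_and_subset (x := x) (U := ⊤) trivial
        exact Set.mem_iUnion.2 ⟨⟨V, hV⟩, hx⟩
    refine ⟨⨆ V ∈ s, V.1, ?_, hs.trans fun x hx => ?_⟩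
    · simp only [TopologicalSpace.Opens.coe_iSup]
      exact s.finite_toSet.isCompact_biUnion fun V _ => V.2.isCompact
    · simpa using hx
  haveI : CompactSpace U := isCompact_iff_compactSpace.1 hU
  haveI : AlgebraicGeometry.IsNoetherian (U : Scheme.{u}) := {}
  haveI := hasRpush_scheme U.ι
  haveI := hasRpush_scheme (U.ι ≫ f)
  obtain ⟨e₁⟩ := nonempty_iso_rpush_restrict U T hT.2 hTU E hsupp
  obtain ⟨e₂⟩ := nonempty_rpush_comp U.ι f
  let E' := (DCoh.restrictD U.ι).obj E
  let eR : (DCoh.Rpush f).obj E ≅ (DCoh.Rpush (U.ι ≫ f)).obj E' :=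
    (DCoh.Rpush f).mapIso e₁ ≪≫ e₂.app E'
  let e' : DCoh.toD _ ((rCx U.ι).obj L) ≅ E' := (rhoQ U.ι).symm.app L ≪≫ (rho U.ι).mapIso e
  have hq' : DCoh.IsQCohD E' := isQCohD_rho U.ι fun i => (hq i).1.1
  obtain ⟨b', hab', hamp⟩ := exists_torAmplitude_rpush (U.ι ≫ f) E' hq' ((rCx U.ι).obj L) e'
    a (max a b) (le_max_left a b) fun z => (torAmpAt_restrict_iff f U.ι a (max a b) L z).2 (h' _)
  exact isPerfect_of_coh_torAmplitude _ hcoh a b' hab' fun G _ i hi =>
    (hamp G i hi).of_iso ((DerivedCategory.homologyFunctor S.Modules i).mapIso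
      ((DCoh.LTensorMod G).mapIso eR))

end Groth.Agent.Perf52
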