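import Groth.Agent.Perf52.LTensorBound
import Groth.Agent.Perf52.ClosedPushPC
import Groth.Agent.Perf52.Trunc

/-!
# Pseudo-coherence of `Rf_*` from the bounded case
-/

set_option linter.style.haveILetI false
set_option backward.isDefEq.respectTransparency false

universe u

open CategoryTheory CategoryTheory.Limits AlgebraicGeometry Pretriangulated

attribute [local instance] HasDerivedCategory.standard

namespace Groth.Agent.Perf52

open Groth.Agent.KFlatLib

variable {X Y : Scheme.{u}}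

/-- On a quasi-compact scheme pseudo-coherent objects are bounded above. -/
lemma exists_bound_of_pc [CompactSpace X] {K : DCoh.D X} {m : ℤ} (h : LocPC m K) :
    ∃ b : ℤ, K.IsLE b := by
  choose V b hx hV using exists_bound_near h
  obtain ⟨s, hs⟩ := isCompact_univ.elim_finite_subcover (fun x => (V x : Set X)) (fun x => (V x).2)
    fun x _ => Set.mem_iUnion.2 ⟨x, hx x⟩
  obtain ⟨B, hB⟩ := Finset.exists_le (s.image b)
  refine ⟨B, (DerivedCategory.isLE_iff K B).2 fun i hi => isZero_of_stalk _ fun y => ?_⟩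
  obtain ⟨x, hxs, hyx⟩ := Set.mem_iUnion₂.1 (hs (Set.mem_univ y))
  exact isZero_stalk_of_restrict (V x).ι ⟨y, hyx⟩ ((DerSch.stalkFunctor _ _).map_isZero
    ((hV x i (lt_of_le_of_lt (hB _ (Finset.mem_image_of_mem b hxs)) hi)).of_iso (hdRhoIso (V x).ι K i).symm))

theorem pc_rpush_of_bounded (f : X ⟶ Y) [QuasiCompact f] [QuasiSeparated f] [CompactSpace Y] [DCoh.HasRpush f]
    (k : ℤ)
    (hK : ∀ (F : DCoh.D X) (n a b : ℤ), F.IsGE a → F.IsLE b → DCoh.IsPseudoCoherentD n F →
      DCoh.IsPseudoCoherentD (n + k) ((DCoh.Rpush f).obj F))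
    (F : DCoh.D X) (hF : ∀ m : ℤ, DCoh.IsPseudoCoherentD m F) (m : ℤ) :
    DCoh.IsPseudoCoherentD m ((DCoh.Rpush f).obj F) := by
  haveI : HasInjectiveResolutions X.Modules := hasInjectiveResolutions_modules
  haveI : CompactSpace X := QuasiCompact.compactSpace_of_compactSpace f
  obtain ⟨b, hb⟩ := exists_bound_of_pc ((isPseudoCoherentD_iff (m - k) F).1 (hF _))
  refine (isPseudoCoherentD_iff m _).2 (LocPC.of_local fun y => ?_)
  obtain ⟨_, ⟨(W : Y.Opens), hW, rfl⟩, hyW, -⟩ :=
    Y.isBasis_affineOpens.exists_subset_of_mem_open (Set.mem_univ y) isOpen_univ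
  obtain ⟨N, hN⟩ := exists_Rpush_bound_near f hW
  refine ⟨_, W.ι, inferInstance, ⟨⟨y, hyW⟩, rfl⟩, ?_⟩
  let c : ℤ := min (m - k) (m - N - 1)
  obtain ⟨A, B, ι', g, d, hT, hA, hB, hι, hg⟩ := exists_trunc F c
  obtain ⟨hAq, hBq⟩ := isQCohD_trunc hT hA hι (isQCohD_of_pc hF)
  haveI := hA
  have hBle : B.IsLE (max b c) := (DerivedCategory.isLE_iff B _).2 fun i hi => by
    haveI := hg i (by omega)
    exact (haveI := hb; DerivedCategory.isZero_of_isLE F b i (by omega)).of_iso
      (asIso ((DerivedCategory.homologyFunctor X.Modules i).map g)).symm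
  have hBpc : DCoh.IsPseudoCoherentD (m - k) B := by
    refine (isPseudoCoherentD_iff _ _).2 fun x => ?_
    obtain ⟨U, j, _, hx, Q, β, hQ, hβ⟩ := (isPseudoCoherentD_iff (m - k) F).1 (hF _) x
    exact ⟨U, j, inferInstance, hx, Q, β ≫ (rho j).map g, hQ, IsPcMap.comp hβ
      ((show IsPcMap (m - k) g from ⟨fun i hi => hg i (by omega),
        haveI := hg (m - k) (by omega); inferInstance⟩).map_exact _)⟩
  have h1 : LocPC m ((rho W.ι).obj ((DCoh.Rpush f).obj B)) := by
    have := (isPseudoCoherentD_iff _ _).1 (hK B (m - k) c (max b c) hB hBle hBpc)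
    rw [sub_add_cancel] at this
    exact this.restrict W.ι
  obtain ⟨d', hT'⟩ := exists_rpush_triangle f _ hT
  have hT'' := (rho W.ι).map_distinguished _ hT'
  have hA' : LocPC m ((rho W.ι).obj ((DCoh.Rpush f).obj A)) := locPC_of_isZero m _ fun i hi =>
    (isZero_restrict_hd_rpush f hAq (c - 1) W N hN i (by omega)).of_iso (hdRhoIso W.ι _ i)
  exact (locPC_two_of_three m _ hT'').2.1 hA' h1

end Groth.Agent.Perf52
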