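import Groth.Agent.Perf52.FlatProperPush
import Groth.Agent.Perf52.RpushPC
import Groth.Agent.Perf52.ApproxGlue
import Groth.Agent.Perf52.RelTor
import Groth.Agent.Perf52.PushPerf
import Groth.Agent.KSix54.AmpLocal

/-!
# Direct images of pseudo-coherent and relatively perfect complexes along flat proper morphisms
-/

set_option linter.style.haveILetI false

universe u

open CategoryTheory CategoryTheory.Limits CategoryTheory.Pretriangulated AlgebraicGeometry

attribute [local instance] HasDerivedCategory.standard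

namespace Groth.Agent.Perf52

open Groth.Agent Groth.Agent.KFlatLib

variable {X S : Scheme.{u}}

/-- Restriction of a flat module along a flat ring map. -/
lemma flat_restrictScalars_of_flat {A A' : Type u} [CommRing A] [CommRing A'] {σ : A →+* A'}
    (hσ : σ.Flat) (M : ModuleCat.{u} A') [Module.Flat A' M] :
    Module.Flat A ((ModuleCat.restrictScalars σ).obj M) := by
  letI : Algebra A A' := σ.toAlgebra
  haveI : Module.Flat A A' := hσ
  letI : Module A M := Module.compHom _ σ
  haveI : IsScalarTower A A' M := IsScalarTower.of_algebraMap_smul fun _ _ => rfl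
  exact (Module.Flat.trans A A' M : Module.Flat A M)

/-- Amplitude over the local rings of an open subscheme. -/
theorem torAmpAt_of_comp_openImm {Y Z : Scheme.{u}} {f : X ⟶ Y} {j : Y ⟶ Z} [IsOpenImmersion j]
    {a b : ℤ} {F : CochainComplex X.Modules ℤ} {x : X}
    (h : DerSch.HasTorAmplitudeAt (f ≫ j) a b F x) : DerSch.HasTorAmplitudeAt f a b F x := by
  obtain ⟨E, hz, hf, ⟨e⟩⟩ := h
  let φ := j.stalkMap (f.base x)
  let F₁ := ModuleCat.restrictScalars.{u} (inv φ).hom
  have hinv : ((inv φ).hom).Flat :=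
    RingHom.Flat.of_bijective (ConcreteCategory.bijective_of_isIso (inv φ))
  refine ⟨(F₁.mapHomologicalComplex _).obj E, fun i hi => F₁.map_isZero (hz i hi), fun i => ?_,
    ⟨(F₁.mapDerivedCategoryFactors.app E).symm ≪≫ F₁.mapDerivedCategory.mapIso e ≪≫
      F₁.mapDerivedCategoryFactors.app _ ≪≫ DerivedCategory.Q.mapIso ?_⟩⟩
  · exact @flat_restrictScalars_of_flat _ _ _ _ (inv φ).hom hinv (E.X i) (hf i)
  have hφ : φ.hom.comp (inv φ).hom = RingHom.id _ :=
    congrArg CommRingCat.Hom.hom (IsIso.inv_hom_id φ)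
  let S := (DRing.restrictCx (f.stalkMap x).hom).obj ((stalkCx x).obj F)
  let c : (DerSch.stalkCxOver (f ≫ j) x).obj F ≅ (DRing.restrictCx φ.hom).obj S :=
    HomologicalComplex.Hom.isoOfComponents (fun i => (KSix54.stalkOverCompIso f j x).app (F.X i))
      fun i k _ => ((KSix54.stalkOverCompIso f j x).hom.naturality (F.d i k)).symm
  exact (F₁.mapHomologicalComplex _).mapIso c ≪≫ HomologicalComplex.Hom.isoOfComponents
    (fun i => ((ModuleCat.restrictScalarsComp' (inv φ).hom φ.hom _ hφ.symm).app (S.X i)).symm ≪≫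
      (ModuleCat.restrictScalarsId' (RingHom.id _) rfl).app (S.X i))
    fun i k _ => by
      simp only [Iso.trans_hom, Category.assoc]
      ext m
      rfl

/-- On an affine base. -/
theorem locPC_rpush_flatProper_affine [IsAffine S] (f : X ⟶ S) [IsProper f] [Flat f]
    [LocallyOfFinitePresentation f] [DCoh.HasRpush f] (E : DCoh.D X)
    (hE : ∀ m : ℤ, DCoh.IsPseudoCoherentD m E) (m : ℤ) : LocPC m ((DCoh.Rpush f).obj E) := by
  haveI : HasInjectiveResolutions X.Modules := hasInjectiveResolutions_modules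
  haveI : CompactSpace X := QuasiCompact.compactSpace_of_compactSpace f
  haveI : QuasiSeparatedSpace X := quasiSeparatedSpace_of_quasiSeparated f
  obtain ⟨N, hN⟩ := exists_Rpush_bound_near f (isAffineOpen_top S)
  obtain ⟨r, hr⟩ := approxOn_qcqs (X := X) (T := Set.univ) isClosed_univ (by simp)
  have hq := isQCohD_of_pc hE
  obtain ⟨P, α, hP, -, hα⟩ := hr (m - N) E hq (hE _) (fun i _ => Set.subset_univ _)
  obtain ⟨C, g, d, hT⟩ := distinguished_cocone_triangle α
  haveI hC : C.IsLE (m - N - 1) := isLE_cone hT hα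
  have hCq : DCoh.IsQCohD C := isQCohD_obj₃ hT (isQCohD_of_isPerfect hP) hq
  obtain ⟨c, hT'⟩ := exists_rpush_triangle f _ hT
  refine (locPC_two_of_three m _ hT').2.1
    (((isPerfect_iff _).1 (isPerfect_rpush_flatProper f hP)).locPC m) ?_
  refine locPC_of_isZero m _ fun i hi => ?_
  exact isZero_of_isZero_restrict _ fun y => ⟨⊤, trivial,
    isZero_restrict_hd_rpush f hCq (m - N - 1) ⊤ N hN i (by omega)⟩

/-- Pseudo-coherence of the direct image. -/
theorem isPseudoCoherentD_rpush_flatProper (f : X ⟶ S) [IsProper f] [Flat f]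
    [LocallyOfFinitePresentation f] [DCoh.HasRpush f] (E : DCoh.D X)
    (hE : ∀ m : ℤ, DCoh.IsPseudoCoherentD m E) (m : ℤ) :
    DCoh.IsPseudoCoherentD m ((DCoh.Rpush f).obj E) := by
  refine (isPseudoCoherentD_iff m _).2 (LocPC.of_local fun y => ?_)
  obtain ⟨V, hV, hy, -⟩ := exists_isAffineOpen_mem_and_subset (x := y) (U := ⊤) trivial
  refine ⟨_, V.ι, inferInstance, ⟨⟨y, hy⟩, rfl⟩, ?_⟩
  haveI := hasRpush_scheme (f ∣_ V)
  haveI : IsAffine (V : Scheme.{u}) := hV
  haveI : IsProper (f ∣_ V) := IsZariskiLocalAtTarget.restrict ‹_› V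
  haveI : Flat (f ∣_ V) :=
    MorphismProperty.of_isPullback (isPullback_morphismRestrict f V).flip ‹Flat f›
  haveI : LocallyOfFinitePresentation (f ∣_ V) :=
    MorphismProperty.of_isPullback (isPullback_morphismRestrict f V).flip ‹LocallyOfFinitePresentation f›
  obtain ⟨rR⟩ := nonempty_rpush_restrictD_iso f V
  exact (locPC_rpush_flatProper_affine (f ∣_ V) _ (fun k => (isPseudoCoherentD_iff k _).2
    (((isPseudoCoherentD_iff k E).1 (hE k)).restrict (f ⁻¹ᵁ V).ι)) m).of_iso (rR.app E).symm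

/-- Perfectness of the direct image of a relatively perfect complex. -/
theorem isPerfect_rpush_of_relPerfect (f : X ⟶ S) [IsProper f] [Flat f]
    [LocallyOfFinitePresentation f] [DCoh.HasRpush f] (E : DCoh.D X)
    (hpc : ∀ m : ℤ, DCoh.IsPseudoCoherentD m E) (htor : DCoh.LocHasFiniteRelTorDim f E) :
    DCoh.IsPerfect ((DCoh.Rpush f).obj E) := by
  refine (isPerfect_iff _).2 (LocSP.of_local fun y => ?_)
  obtain ⟨V, hV, hy, -⟩ := exists_isAffineOpen_mem_and_subset (x := y) (U := ⊤) trivial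
  refine ⟨_, V.ι, inferInstance, ⟨⟨y, hy⟩, rfl⟩, ?_⟩
  haveI := hasRpush_scheme (f ∣_ V)
  haveI : IsAffine (V : Scheme.{u}) := hV
  haveI : IsProper (f ∣_ V) := IsZariskiLocalAtTarget.restrict ‹_› V
  obtain ⟨rR⟩ := nonempty_rpush_restrictD_iso f V
  let E' := (rho (f ⁻¹ᵁ V).ι).obj E
  haveI : CompactSpace (f ⁻¹ᵁ V : Scheme.{u}) :=
    QuasiCompact.compactSpace_of_compactSpace (f ∣_ V)
  let F := DerivedCategory.Q.objPreimage E
  let L := (rCx (f ⁻¹ᵁ V).ι).obj F
  let eL : DCoh.toD _ L ≅ E' := ((rhoQ (f ⁻¹ᵁ V).ι).app F).symm ≪≫ (rho _).mapIso (repIso E)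
  choose U a b hx hU using (locRelTor_iff f E).1 htor
  obtain ⟨s, hs⟩ := (f.isCompact_preimage hV.isCompact).elim_finite_subcover
    (fun x => (U x : Set X)) (fun x => (U x).2) fun x _ => Set.mem_iUnion.2 ⟨x, hx x⟩
  obtain ⟨A, hA⟩ := (s.image a).bddBelow
  obtain ⟨B, hB⟩ := (s.image b).bddAbove
  have hamp : DerSch.HasTorAmplitude (f ∣_ V) A (max A B) L := fun z => by
    obtain ⟨x, hxs, hz⟩ := Set.mem_iUnion₂.1 (hs z.2)
    have h1 := hA (Finset.mem_coe.2 (Finset.mem_image_of_mem a hxs))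
    have h2 := hB (Finset.mem_coe.2 (Finset.mem_image_of_mem b hxs))
    have h := (KSix54.torAmplitudeAt_iff f (a x) (b x) F z.1).2
      (H9Misc.DRingTor.of_iso ((KSix54.stalkD f _).mapIso (repIso E).symm) (hU x z.1 hz))
    obtain ⟨M, hz', hf, hM⟩ : DerSch.HasTorAmplitudeAt (f ∣_ V) (a x) (b x) L z :=
      torAmpAt_of_comp_openImm (j := V.ι) (KSix54.torAmplitudeAt_congr_hom
        (morphismRestrict_ι f V).symm ((torAmpAt_restrict_iff f (f ⁻¹ᵁ V).ι (a x) (b x) F z).2 h))
    exact ⟨M, fun i hi => hz' i (by omega), hf, hM⟩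
  have hq : DCoh.IsQCohD E' := isQCohD_of_pc fun m => (isPseudoCoherentD_iff m _).2
    (((isPseudoCoherentD_iff m E).1 (hpc m)).restrict _)
  obtain ⟨b', hab', hb'⟩ := exists_torAmplitude_rpush (f ∣_ V) E' hq L eL A (max A B)
    (le_max_left _ _) hamp
  refine (locSP_of_flat_pc hab' (flatAmplitude_of_torAmplitude (fun G => hasLTensorMod G) hab' hb')
    ?_).of_iso (rR.app E).symm
  exact (((isPseudoCoherentD_iff _ _).1 (isPseudoCoherentD_rpush_flatProper f E hpc (A - 1))).restrict
    V.ι).of_iso (rR.app E)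

end Groth.Agent.Perf52
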