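import Groth.Agent.Perf52.Bdd
import Groth.Agent.Perf52.GeneratorGlobal

/-!
# A perfect object detecting boundedness
-/

set_option linter.style.haveILetI false
set_option backward.isDefEq.respectTransparency false

universe u

open CategoryTheory CategoryTheory.Limits AlgebraicGeometry TopologicalSpace Pretriangulated Filter ZeroObject

attribute [local instance] HasDerivedCategory.standard

namespace Groth.Agent.Perf52

open Groth.Agent.KFlatLib

/-- A perfect object supported in `T` detects in which degrees objects supported in `T` are bounded. -/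
def GenBdd (X : Scheme.{u}) (T : Set X) : Prop :=
  ∃ P : DCoh.D X, DCoh.IsPerfect P ∧ SuppOn P T ∧ ∀ (l : Filter ℤ), TransInv l → ∀ E : DCoh.D X,
    DCoh.IsQCohD E → SuppOn E T → EvHom l P E → BddAt l E

variable {R : CommRingCat.{u}} [PreservesFiniteLimits (tilde.functor R)]

/-- The affine case, on `Spec R`. -/
theorem genBdd_spec {T : Set (Spec R : Scheme.{u})} (hT : IsClosed T) (hTc : IsCompact Tᶜ) :
    GenBdd (Spec R) T := by
  obtain ⟨s, hs⟩ := PrimeSpectrum.isCompact_isOpen_iff.1 ⟨hTc, hT.isOpen_compl⟩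
  have hTs : T = PrimeSpectrum.zeroLocus (s : Set R) := compl_injective hs.symm
  subst hTs
  obtain ⟨K, hK, hKs, hgen⟩ := exists_koszul s
  refine ⟨_, hK, (suppOn_tildeD_iff K _).2 hKs, fun l _ E hE hET h => ?_⟩
  obtain ⟨M, ⟨eM⟩⟩ := exists_tildeD_iso hE
  refine h.mono fun n hn => ?_
  have hM := hgen M (fun f hf => (suppOn_tildeD_iff M _).1 (hET.of_iso eM.symm) f hf) n fun φ => by
    refine (tildeD_map_bijective K _).1 ?_
    rw [Functor.map_zero]
    let e := ((DCoh.tildeD R).commShiftIso n).app M ≪≫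
      (shiftFunctor (DCoh.D (Spec R)) n).mapIso eM
    rw [← cancel_mono e.hom, zero_comp]
    exact hn _
  haveI : Projective (ModuleCat.of R R) := inferInstance
  refine IsZero.of_iso ?_ ((DerivedCategory.homologyFunctor _ n).mapIso eM.symm ≪≫
    (mapDCHomologyIso (tilde.functor R) n).app M)
  refine (tilde.functor R).map_isZero ?_
  haveI : Subsingleton ((DerivedCategory.homologyFunctor (ModuleCat.{u} R) n).obj M) := by
    refine ⟨fun a b => ?_⟩
    have h0 : ∀ φ : (DerivedCategory.singleFunctor (ModuleCat.{u} R) n).obj (ModuleCat.of R R) ⟶ M,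
        φ = 0 := fun φ => by
      let e := ((DerivedCategory.singleFunctors (ModuleCat.{u} R)).shiftIso n 0 n (add_zero n)).app
        (ModuleCat.of R R)
      refine (shiftFunctor (DerivedCategory (ModuleCat.{u} R)) n).map_injective
        ((cancel_epi e.inv).1 ?_)
      exact (hM _).trans (hM _).symm
    let E := (Equiv.ofBijective _ (bijective_psiC_of_projective (P := ModuleCat.of R R) n M)).trans
      (evalOne _)
    exact E.symm.injective ((h0 _).trans (h0 _).symm)
  exact ModuleCat.isZero_of_subsingleton _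

omit [PreservesFiniteLimits (tilde.functor R)] in
lemma genBdd_of_rho {X U : Scheme.{u}} (j : U ⟶ X) [IsOpenImmersion j] [Surjective j] {T : Set X}
    (h : GenBdd U (j.base ⁻¹' T)) : GenBdd X T := by
  obtain ⟨P, hP, hPT, hgen⟩ := h
  obtain ⟨P₀, ⟨e⟩⟩ := exists_rho_obj_iso j P
  refine ⟨P₀, isPerfect_of_rho j (isPerfect_of_iso e.symm hP), suppOn_of_rho j (hPT.of_iso e.symm),
    fun l hl E hE hET h => bddAt_of_rho j (hgen l hl _ (isQCohD_rho j hE) (hET.rho j)
      (EvHom.of_iso e (Iso.refl _) (h.mono fun n hn φ => ?_)))⟩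
  let c := ((rho j).commShiftIso n).app E
  obtain ⟨ψ, hψ⟩ := rho_map_surjective j P₀ (E⟦n⟧) (φ ≫ c.inv)
  rw [hn ψ, Functor.map_zero] at hψ
  rw [← cancel_mono c.inv, ← hψ, zero_comp]

omit [PreservesFiniteLimits (tilde.functor R)] in
theorem genBdd_affine {X : Scheme.{u}} [IsAffine X] {T : Set X} (hT : IsClosed T)
    (hTc : IsCompact Tᶜ) : GenBdd X T := by
  let j : Spec Γ(X, ⊤) ⟶ X := X.isoSpec.inv
  haveI : Surjective j := inferInstance
  haveI : PreservesFiniteLimits (tilde.functor Γ(X, ⊤)) := inferInstance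
  exact genBdd_of_rho j (genBdd_spec (hT.preimage j.continuous)
    (show IsCompact (j.base ⁻¹' T)ᶜ from (Scheme.homeoOfIso X.isoSpec.symm).isCompact_preimage.2 hTc))

omit [PreservesFiniteLimits (tilde.functor R)] in
/-- Gluing. -/
theorem genBdd_step {S V : Scheme.{u}} [CompactSpace S] [QuasiSeparatedSpace S] (U : S.Opens)
    (hU : IsCompact (U : Set S)) (jV : V ⟶ S) [IsOpenImmersion jV] [IsAffine V]
    (hcov : (U : Set S) ∪ Set.range jV.base = Set.univ)
    {T : Set S} (hT : IsClosed T) (hTc : IsCompact Tᶜ) (h : GenBdd (U : Scheme.{u}) (U.ι.base ⁻¹' T)) :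
    GenBdd S T := by
  obtain ⟨PU, hPU, hPUT, hgenU⟩ := h
  haveI : QuasiCompact U.ι := QCoh.quasiCompact_ι_of_compact U hU
  have hZ : IsClosed (jV.base ⁻¹' (T ∩ (U : Set S)ᶜ)) :=
    (hT.inter U.2.isClosed_compl).preimage jV.continuous
  have hZc : IsCompact (jV.base ⁻¹' (T ∩ (U : Set S)ᶜ))ᶜ := by
    refine jV.isOpenEmbedding.isInducing.isCompact_iff.2 ?_
    rw [← Set.preimage_compl, Set.image_preimage_eq_inter_range, Set.compl_inter, compl_compl]
    exact QuasiSeparatedSpace.inter_isCompact _ _ (hT.isOpen_compl.union U.2) (hTc.union hU)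
      jV.isOpenEmbedding.isOpen_range (isCompact_range jV.continuous)
  obtain ⟨Q, hQ, hQT, hgenV⟩ := genBdd_affine hZ hZc
  obtain ⟨QV, hQV, -, hgenV'⟩ :=
    genBdd_affine (X := V) (T := jV.base ⁻¹' T) (hT.preimage jV.continuous) (by
      refine jV.isOpenEmbedding.isInducing.isCompact_iff.2 ?_
      rw [← Set.preimage_compl, Set.image_preimage_eq_inter_range]
      exact QuasiSeparatedSpace.inter_isCompact _ _ hT.isOpen_compl hTc
        jV.isOpenEmbedding.isOpen_range (isCompact_range jV.continuous))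
  let Q' := (lshD jV).obj Q
  have hQ'U : ∀ x ∈ U, Z0 Q' x := fun x hxU => by
    by_cases hx : x ∈ Set.range jV.base
    · obtain ⟨y, rfl⟩ := hx
      exact (z0_lshD_iff jV Q y).2 (hQT y fun h => h.2 hxU)
    · exact z0_lshD jV Q _ hx
  have hQ'p : DCoh.IsPerfect Q' := by
    refine isPerfect_of_cover U.ι jV (by rw [Scheme.Opens.range_ι]; exact hcov) ?_
      (isPerfect_of_iso ((lshDRhoIso jV).app Q).symm hQ)
    refine (isPerfect_iff _).2 fun u => ⟨U, 𝟙 _, inferInstance, ⟨u, rfl⟩, 0,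
      ⟨⟨0, 0, fun i _ => (HomologicalComplex.eval _ _ i).map_isZero (isZero_zero _)⟩,
        fun i => isFinLocFree_of_isZero ((HomologicalComplex.eval _ _ i).map_isZero (isZero_zero _))⟩,
      ⟨IsZero.iso (DerivedCategory.Q.map_isZero (isZero_zero _))
        ((rho _).map_isZero ((isZero_rho_obj_iff U.ι Q').2 fun w => hQ'U _ w.2))⟩⟩
  have hQ'T : SuppOn Q' T := fun x hx => by
    by_cases hxV : x ∈ Set.range jV.base
    · obtain ⟨y, rfl⟩ := hxV
      exact (z0_lshD_iff jV Q y).2 (hQT y fun h => hx h.1)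
    · exact z0_lshD jV Q _ hxV
  obtain ⟨R, -, i, p, hR, hRT, hip, -⟩ := exists_extend U hU hT hTc
    (E := Q') (isQCohD_of_isPerfect hQ'p) hPU hPUT 0
  have hbt := binaryBiproductTriangle_distinguished R Q'
  refine ⟨R ⊞ Q', (Groth.Agent.S0887.result _ hbt).2.1 hR hQ'p, suppOn_obj₂ hbt hRT hQ'T,
    fun l hl E hE hET h => ?_⟩
  obtain ⟨E'', e, hE''q, hE''T, hbij⟩ :=
    exists_push_supp U hT ((rho U.ι).obj E) (isQCohD_rho U.ι hE) (hET.rho U.ι)
  obtain ⟨u, hu⟩ := (hbij E).2 e.inv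
  simp only at hu
  obtain ⟨E', a, d, hΔ⟩ := distinguished_cocone_triangle₁ u
  have hE'U : ∀ x ∈ U, Z0 E' x := fun x hx => by
    have h1 : IsZero ((rho U.ι).obj E') := by
      haveI : IsIso ((rho U.ι).map u) := hu ▸ inferInstance
      exact (Triangle.isZero₁_iff_isIso₂ _ ((rho U.ι).map_distinguished _ hΔ)).2 ‹_›
    exact (isZero_rho_obj_iff U.ι E').1 h1 ⟨x, hx⟩
  have hE'q : DCoh.IsQCohD E' := isQCohD_obj₁ hΔ hE hE''q
  have hE'T : SuppOn E' T := suppOn_obj₁ hΔ hET hE''T
  have hQ'E'' : ∀ (n : ℤ) (φ : Q' ⟶ E''⟦n⟧), φ = 0 := fun n φ =>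
    (bijective_rho_shift U.ι hbij Q' n).1 (((isZero_rho_obj_iff U.ι Q').2 fun w => hQ'U _ w.2).eq_of_src _ _)
  have hQE' : EvHom l Q' E' := h.mono fun n hn φ => by
    have hs := inv_rot_of_distTriang _ (Triangle.shift_distinguished _ hΔ n)
    have hQE : ∀ φ : Q' ⟶ E⟦n⟧, φ = 0 := fun φ => by
      have := hn (biprod.snd ≫ φ)
      rw [← cancel_epi (biprod.snd : R ⊞ Q' ⟶ Q'), this, comp_zero]
    obtain ⟨ψ, hψ⟩ := Triangle.coyoneda_exact₂ _ hs φ (hQE _)
    rw [hψ]
    refine (congrArg (· ≫ _) ?_).trans zero_comp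
    rw [← cancel_mono (((shiftFunctorAdd' (DCoh.D S) n (-1) (n - 1) (by omega)).app E'').inv), zero_comp]
    exact hQ'E'' _ _
  have hbV : BddAt l ((rho jV).obj E') := by
    refine hgenV l hl _ (isQCohD_rho jV hE'q) (fun y hy => (z0_rho_iff jV E' y).2 ?_) (hQE'.mono fun n hn φ => ?_)
    · by_cases hyT : jV.base y ∈ T
      · exact hE'U _ (not_not.1 fun hyU => hy ⟨hyT, hyU⟩)
      · exact hE'T _ hyT
    · obtain ⟨ψ, hψ⟩ : ∃ ψ : Q ⟶ (rho jV).obj (E'⟦n⟧), φ = ψ ≫ (((rho jV).commShiftIso n).app E').hom :=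
        ⟨φ ≫ (((rho jV).commShiftIso n).app E').inv, by simp⟩
      have h0 : ψ = 0 := ((lshDAdj jV).homEquiv Q (E'⟦n⟧)).symm.injective
        ((hn (((lshDAdj jV).homEquiv Q (E'⟦n⟧)).symm ψ)).trans
          (hn (((lshDAdj jV).homEquiv Q (E'⟦n⟧)).symm 0)).symm)
      rw [hψ, h0, zero_comp]
  have hcov' : Set.range U.ι.base ∪ Set.range jV.base = Set.univ := by
    rw [Scheme.Opens.range_ι]; exact hcov
  have hE'b : BddAt l E' := bddAt_of_cover U.ι jV hcov'
    (bddAt_of_isZero ((isZero_rho_obj_iff U.ι E').2 fun w => hE'U _ w.2)) hbV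
  have hRE'' : EvHom l R E'' := (h.and ((hl 1).eventually (evHom_of_bddAt hl hR hE'q hE'b))).mono
    fun n hn φ => by
      have hs := rot_of_distTriang _ (rot_of_distTriang _ (Triangle.shift_distinguished _ hΔ n))
      obtain ⟨ψ, hψ⟩ := Triangle.coyoneda_exact₂ _
        (rot_of_distTriang _ (Triangle.shift_distinguished _ hΔ n)) φ (by
          rw [← cancel_mono (((shiftFunctorAdd' (DCoh.D S) n 1 (n + 1) rfl).app E').inv), zero_comp]
          exact hn.2 _)
      have h0 : ψ = 0 := by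
        have := hn.1 (biprod.fst ≫ ψ)
        rwa [← cancel_epi (biprod.fst : R ⊞ Q' ⟶ R), comp_zero]
      rw [hψ, h0]
      exact zero_comp
  have hbU : BddAt l ((rho U.ι).obj E) := by
    refine hgenU l hl _ (isQCohD_rho U.ι hE) (hET.rho U.ι)
      (EvHom.of_iso (Iso.refl _) e (hRE''.mono fun n hn φ => ?_))
    obtain ⟨ψ, hψ⟩ := (bijective_rho_shift U.ι hbij R n).2
      (p ≫ φ ≫ (((rho U.ι).commShiftIso n).app E'').inv)
    simp only [hn ψ, Functor.map_zero] at hψ
    rw [← cancel_mono (((rho U.ι).commShiftIso n).app E'').inv, zero_comp,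
      ← Category.id_comp (φ ≫ _), ← hip, Category.assoc, ← hψ, comp_zero]
  have hbE''U : BddAt l ((rho U.ι).obj E'') := hbU.of_iso e.symm
  exact bddAt_obj₂ hΔ hE'b (bddAt_of_cover U.ι jV hcov' hbE''U
    (hgenV' l hl _ (isQCohD_rho jV hE''q) (hE''T.rho jV) (evHom_push hl U hU jV hE''q hbij hbE''U hQV)))

omit [PreservesFiniteLimits (tilde.functor R)] in
theorem genBdd_qcqs {X : Scheme.{u}} [CompactSpace X] [QuasiSeparatedSpace X] {T : Set X}
    (hT : IsClosed T) (hTc : IsCompact Tᶜ) : GenBdd X T := by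
  classical
  obtain ⟨s, hs⟩ := isCompact_univ.elim_finite_subcover (fun V : X.affineOpens => (V.1 : Set X))
    (fun V => V.1.2) fun x _ => by
      obtain ⟨_, ⟨V, hV, rfl⟩, hxV, -⟩ := X.isBasis_affineOpens.exists_subset_of_mem_open
        (Set.mem_univ x) isOpen_univ
      exact Set.mem_iUnion.2 ⟨⟨V, hV⟩, hxV⟩
  have key : ∀ t : Finset X.affineOpens, ∃ W : X.Opens, IsCompact (W : Set X) ∧
      (∀ V ∈ t, V.1 ≤ W) ∧ GenBdd (W : Scheme.{u}) (W.ι.base ⁻¹' T) := by
    intro t
    induction t using Finset.induction with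
    | empty =>
      haveI : IsAffine ((⊥ : X.Opens) : Scheme.{u}) := isAffineOpen_bot X
      exact ⟨⊥, by simp, by simp, genBdd_affine (hT.preimage (Scheme.Hom.continuous _))
        (isCompact_preimage_compl ⊥ (by simp) hT hTc)⟩
    | @insert V t _ ih =>
      obtain ⟨W, hWc, hW, hgen⟩ := ih
      let S := W ⊔ V.1
      have hS : IsCompact (S : Set X) := by simpa [S] using hWc.union V.2.isCompact
      refine ⟨S, hS, fun V' hV' => ?_, ?_⟩
      · rcases Finset.mem_insert.1 hV' with rfl | hV'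
        · exact le_sup_right
        · exact (hW V' hV').trans le_sup_left
      haveI : QuasiSeparatedSpace (S : Scheme.{u}) := quasiSeparatedSpace_of_quasiSeparated S.ι
      haveI : CompactSpace (S : Scheme.{u}) := isCompact_iff_compactSpace.1 hS
      haveI : CompactSpace (W : Scheme.{u}) := isCompact_iff_compactSpace.1 hWc
      haveI : IsAffine (V.1 : Scheme.{u}) := V.2
      let jW : (W : Scheme.{u}) ⟶ S := X.homOfLE le_sup_left
      let jV : (V.1 : Scheme.{u}) ⟶ S := X.homOfLE le_sup_right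
      haveI : IsIso (rangeHom jW) := by unfold rangeHom; infer_instance
      refine genBdd_step jW.opensRange (isCompact_range jW.continuous) jV ?_
        (hT.preimage S.ι.continuous) (isCompact_preimage_compl S hS hT hTc)
        (genBdd_of_rho (inv (rangeHom jW)) ?_)
      · refine Set.eq_univ_of_forall fun x => (Opens.mem_sup.1 x.2).imp (fun h => ⟨⟨x.1, h⟩, ?_⟩)
          (fun h => ⟨⟨x.1, h⟩, ?_⟩)
        · exact Subtype.ext (by simp [jW])
        · exact Subtype.ext (by simp [jV])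
      · convert hgen using 1
        ext w
        have h1 : inv (rangeHom jW) ≫ jW.opensRange.ι ≫ S.ι = W.ι := by
          rw [IsIso.inv_comp_eq, ← rangeHom_fac jW, Category.assoc, X.homOfLE_ι]
        simp only [Set.mem_preimage, ← h1, Scheme.Hom.comp_apply]
  obtain ⟨W, -, hW, hgen⟩ := key s
  haveI : Surjective W.ι := ⟨fun x => by
    obtain ⟨V, hV, hx⟩ := Set.mem_iUnion₂.1 (hs (Set.mem_univ x))
    exact ⟨⟨x, hW V hV hx⟩, rfl⟩⟩
  exact genBdd_of_rho W.ι hgen

end Groth.Agent.Perf52
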