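import Groth.Agent.Perf52.ExtendGlobal

/-!
# A perfect generator with prescribed support
-/

set_option linter.style.haveILetI false
set_option backward.isDefEq.respectTransparency false

universe u

open CategoryTheory CategoryTheory.Limits AlgebraicGeometry TopologicalSpace Pretriangulated ZeroObject

attribute [local instance] HasDerivedCategory.standard

namespace Groth.Agent.Perf52

open Groth.Agent.KFlatLib

/-- A perfect object supported in `T` detects the quasi-coherent objects supported in `T`. -/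
def GenOn (X : Scheme.{u}) (T : Set X) : Prop :=
  ∃ P : DCoh.D X, DCoh.IsPerfect P ∧ SuppOn P T ∧ ∀ E : DCoh.D X, DCoh.IsQCohD E → SuppOn E T →
    (∀ (n : ℤ) (φ : P ⟶ E⟦n⟧), φ = 0) → IsZero E

variable {R : CommRingCat.{u}} [PreservesFiniteLimits (tilde.functor R)]

/-- Koszul objects generate the torsion objects. -/
theorem exists_koszul (s : Finset R) : ∃ K : DerivedCategory (ModuleCat.{u} R),
    DCoh.IsPerfect ((DCoh.tildeD R).obj K) ∧ (∀ f ∈ s, Tors f K) ∧
      ∀ E, (∀ f ∈ s, Tors f E) → ∀ n : ℤ, (∀ φ : K ⟶ E⟦n⟧, φ = 0) →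
        ∀ φ : (DerivedCategory.singleFunctor (ModuleCat.{u} R) 0).obj (ModuleCat.of R R) ⟶
          E⟦n⟧, φ = 0 := by
  classical
  induction s using Finset.induction with
  | empty =>
    refine ⟨_, (perfect_tildeD_iff _).2 ?_, by simp, fun E _ n h => h⟩
    obtain ⟨⟨a, b, hz⟩, hf⟩ := isBddFree_single (ModuleCat.of R R) ⟨inferInstance, inferInstance⟩ 0
    exact ⟨_, a, b, hz, fun i => ⟨(hf i).1, haveI := (hf i).2; inferInstance⟩,
      ⟨((DerivedCategory.singleFunctorIsoCompQ (ModuleCat.{u} R) 0).app _).symm⟩⟩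
  | @insert g s _ ih =>
    obtain ⟨K, hK, hKs, hgen⟩ := ih
    obtain ⟨K', q, d, hT⟩ := distinguished_cocone_triangle (g ^ 1 • 𝟙 K)
    refine ⟨K', (Groth.Agent.S0887.result _ ((DCoh.tildeD R).map_distinguished _ hT)).1 hK hK, ?_, ?_⟩
    · intro f hf
      rcases Finset.mem_insert.1 hf with rfl | hf
      · exact tors_cone_smul 1 hT
      · exact tors_obj₂ (rot_of_distTriang _ hT) (hKs f hf) ((hKs f hf).shift 1)
    · intro E hE n h
      refine hgen E (fun f hf => hE f (Finset.mem_insert_of_mem hf)) n fun φ => ?_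
      have hg : ∀ ψ : K ⟶ E⟦n⟧, g • ψ = 0 → ψ = 0 := fun ψ hψ => by
        obtain ⟨ψ', (hψ' : ψ = q ≫ ψ')⟩ := Triangle.yoneda_exact₂ _ hT ψ
          (by change (g ^ 1 • 𝟙 K) ≫ ψ = 0; rw [Linear.smul_comp, Category.id_comp, pow_one, hψ])
        rw [hψ', h ψ']
        exact comp_zero
      obtain ⟨k, hk⟩ := exists_pow_smul_eq_zero ((isPerfect_iff_dring K).1 hK) g (E⟦n⟧)
        ((hE g (Finset.mem_insert_self _ _)).shift n) φ
      induction k with
      | zero => simpa using hk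
      | succ k ihk =>
        apply ihk
        apply hg
        rwa [smul_smul, ← pow_succ']

/-- The affine case, on `Spec R`. -/
theorem genOn_spec {T : Set (Spec R : Scheme.{u})} (hT : IsClosed T) (hTc : IsCompact Tᶜ) :
    GenOn (Spec R) T := by
  obtain ⟨s, hs⟩ := PrimeSpectrum.isCompact_isOpen_iff.1 ⟨hTc, hT.isOpen_compl⟩
  have hTs : T = PrimeSpectrum.zeroLocus (s : Set R) := compl_injective hs.symm
  subst hTs
  obtain ⟨K, hK, hKs, hgen⟩ := exists_koszul s
  refine ⟨_, hK, (suppOn_tildeD_iff K _).2 hKs, fun E hE hET h => ?_⟩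
  obtain ⟨M, ⟨eM⟩⟩ := exists_tildeD_iso hE
  have hM := fun n => hgen M (fun f hf => (suppOn_tildeD_iff M _).1 (hET.of_iso eM.symm) f hf) n fun φ => by
    refine (tildeD_map_bijective K _).1 ?_
    rw [Functor.map_zero]
    let e := ((DCoh.tildeD R).commShiftIso n).app M ≪≫
      (shiftFunctor (DCoh.D (Spec R)) n).mapIso eM
    rw [← cancel_mono e.hom, zero_comp]
    exact h n _
  refine ((DCoh.tildeD R).map_isZero ?_).of_iso eM.symm
  haveI : Projective (ModuleCat.of R R) := inferInstance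
  haveI : IsIso (0 : M ⟶ M) := (DerivedCategory.isIso_iff _ _).2 fun i => by
    have hz : IsZero ((DerivedCategory.homologyFunctor (ModuleCat.{u} R) i).obj M) := by
      haveI : Subsingleton ((DerivedCategory.homologyFunctor (ModuleCat.{u} R) i).obj M) := by
        refine ⟨fun a b => ?_⟩
        have h0 : ∀ φ : (DerivedCategory.singleFunctor (ModuleCat.{u} R) i).obj (ModuleCat.of R R) ⟶ M,
            φ = 0 := fun φ => by
          let e := ((DerivedCategory.singleFunctors (ModuleCat.{u} R)).shiftIso i 0 i (add_zero i)).app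
            (ModuleCat.of R R)
          refine (shiftFunctor (DerivedCategory (ModuleCat.{u} R)) i).map_injective
            ((cancel_epi e.inv).1 ?_)
          exact (hM i _).trans (hM i _).symm
        let E := (Equiv.ofBijective _ (bijective_psiC_of_projective (P := ModuleCat.of R R) i M)).trans
          (evalOne _)
        exact E.symm.injective ((h0 _).trans (h0 _).symm)
      exact ModuleCat.isZero_of_subsingleton _
    exact ⟨0, hz.eq_of_src _ _, hz.eq_of_src _ _⟩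
  exact (IsZero.iff_id_eq_zero _).2 ((isIsoZeroEquiv M M).toFun inferInstance).1

omit [PreservesFiniteLimits (tilde.functor R)] in
/-- Generators move along isomorphisms. -/
lemma genOn_of_rho {X U : Scheme.{u}} (j : U ⟶ X) [IsOpenImmersion j] [Surjective j] {T : Set X}
    (h : GenOn U (j.base ⁻¹' T)) : GenOn X T := by
  obtain ⟨P, hP, hPT, hgen⟩ := h
  obtain ⟨P₀, ⟨e⟩⟩ := exists_rho_obj_iso j P
  refine ⟨P₀, isPerfect_of_rho j (isPerfect_of_iso e.symm hP), suppOn_of_rho j (hPT.of_iso e.symm),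
    fun E hE hET h => ?_⟩
  refine isZero_of_z0 fun x => ?_
  obtain ⟨y, rfl⟩ := j.surjective x
  refine (z0_rho_iff j E y).1 (z0_of_isZero (hgen _ (isQCohD_rho j hE) (hET.rho j) fun n φ => ?_) y)
  obtain ⟨ψ, hψ⟩ := rho_map_surjective j P₀ (E⟦n⟧) (e.hom ≫ φ ≫ (((rho j).commShiftIso n).app E).inv)
  rw [h n ψ, Functor.map_zero] at hψ
  rw [← cancel_epi e.hom, ← cancel_mono (((rho j).commShiftIso n).app E).inv, Category.assoc, ← hψ]
  simp

omit [PreservesFiniteLimits (tilde.functor R)] in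
/-- Affine schemes have generators. -/
theorem genOn_affine {X : Scheme.{u}} [IsAffine X] {T : Set X} (hT : IsClosed T)
    (hTc : IsCompact Tᶜ) : GenOn X T := by
  let j : Spec Γ(X, ⊤) ⟶ X := X.isoSpec.inv
  haveI : Surjective j := inferInstance
  haveI : PreservesFiniteLimits (tilde.functor Γ(X, ⊤)) := inferInstance
  exact genOn_of_rho j (genOn_spec (hT.preimage j.continuous)
    (show IsCompact (j.base ⁻¹' T)ᶜ from (Scheme.homeoOfIso X.isoSpec.symm).isCompact_preimage.2 hTc))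

omit [PreservesFiniteLimits (tilde.functor R)] in
/-- Gluing generators. -/
theorem genOn_step {S V : Scheme.{u}} [CompactSpace S] [QuasiSeparatedSpace S] (U : S.Opens)
    (hU : IsCompact (U : Set S)) (jV : V ⟶ S) [IsOpenImmersion jV] [IsAffine V]
    (hcov : (U : Set S) ∪ Set.range jV.base = Set.univ)
    {T : Set S} (hT : IsClosed T) (hTc : IsCompact Tᶜ) (h : GenOn (U : Scheme.{u}) (U.ι.base ⁻¹' T)) :
    GenOn S T := by
  obtain ⟨PU, hPU, hPUT, hgenU⟩ := h
  haveI : QuasiCompact U.ι := QCoh.quasiCompact_ι_of_compact U hU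
  have hZ : IsClosed (jV.base ⁻¹' (T ∩ (U : Set S)ᶜ)) :=
    (hT.inter U.2.isClosed_compl).preimage jV.continuous
  have hZc : IsCompact (jV.base ⁻¹' (T ∩ (U : Set S)ᶜ))ᶜ := by
    refine jV.isOpenEmbedding.isInducing.isCompact_iff.2 ?_
    rw [← Set.preimage_compl, Set.image_preimage_eq_inter_range, Set.compl_inter, compl_compl]
    exact QuasiSeparatedSpace.inter_isCompact _ _ (hT.isOpen_compl.union U.2) (hTc.union hU)
      jV.isOpenEmbedding.isOpen_range (isCompact_range jV.continuous)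
  obtain ⟨Q, hQ, hQT, hgenV⟩ := genOn_affine hZ hZc
  let Q' := (lshD jV).obj Q
  have hQ'U : ∀ x ∈ U, Z0 Q' x := fun x hxU => by
    by_cases hx : x ∈ Set.range jV.base
    · obtain ⟨y, rfl⟩ := hx
      exact (z0_lshD_iff jV Q y).2 (hQT y fun h => h.2 hxU)
    · exact z0_lshD jV Q _ hx
  have hQ'p : DCoh.IsPerfect Q' := by
    refine isPerfect_of_cover U.ι jV (by rw [Scheme.Opens.range_ι]; exact hcov) ?_
      (isPerfect_of_iso ((lshDRhoIso jV).app Q).symm hQ)
    refine (isPerfect_iff _).2 fun u => ⟨U, 𝟙 _, inferInstance, ⟨u, rfl⟩, 0,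
      ⟨⟨0, 0, fun i _ => (HomologicalComplex.eval _ _ i).map_isZero (isZero_zero _)⟩,
        fun i => isFinLocFree_of_isZero ((HomologicalComplex.eval _ _ i).map_isZero (isZero_zero _))⟩,
      ⟨IsZero.iso (DerivedCategory.Q.map_isZero (isZero_zero _))
        ((rho _).map_isZero ((isZero_rho_obj_iff U.ι Q').2 fun w => hQ'U _ w.2))⟩⟩
  have hQ'T : SuppOn Q' T := fun x hx => by
    by_cases hxV : x ∈ Set.range jV.base
    · obtain ⟨y, rfl⟩ := hxV
      exact (z0_lshD_iff jV Q y).2 (hQT y fun h => hx h.1)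
    · exact z0_lshD jV Q _ hxV
  obtain ⟨R, -, i, p, hR, hRT, hip, -⟩ := exists_extend U hU hT hTc
    (E := Q') (isQCohD_of_isPerfect hQ'p) hPU hPUT 0
  have hbt := binaryBiproductTriangle_distinguished R Q'
  refine ⟨R ⊞ Q', (Groth.Agent.S0887.result _ hbt).2.1 hR hQ'p, suppOn_obj₂ hbt hRT hQ'T,
    fun E hE hET h => ?_⟩
  obtain ⟨E'', e, hE''q, hE''T, hbij⟩ :=
    exists_push_supp U hT ((rho U.ι).obj E) (isQCohD_rho U.ι hE) (hET.rho U.ι)
  obtain ⟨u, hu⟩ := (hbij E).2 e.inv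
  simp only at hu
  obtain ⟨E', a, d, hΔ⟩ := distinguished_cocone_triangle₁ u
  have hE'U : ∀ x ∈ U, Z0 E' x := fun x hx => by
    have h1 : IsZero ((rho U.ι).obj E') := by
      haveI : IsIso ((rho U.ι).map u) := hu ▸ inferInstance
      exact (Triangle.isZero₁_iff_isIso₂ _ ((rho U.ι).map_distinguished _ hΔ)).2 ‹_›
    exact (isZero_rho_obj_iff U.ι E').1 h1 ⟨x, hx⟩
  have hE'q : DCoh.IsQCohD E' := isQCohD_obj₁ hΔ hE hE''q
  have hE'T : SuppOn E' T := suppOn_obj₁ hΔ hET hE''T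
  have hzero : ∀ (n : ℤ) (φ : Q' ⟶ E''⟦n⟧), φ = 0 := fun n φ => by
    obtain ⟨φ', hφ'⟩ := (shiftFunctor (DCoh.D S) n).map_surjective
      ((shiftFunctorCompIsoId (DCoh.D S) (-n) n (by omega)).hom.app Q' ≫ φ)
    have h0 : φ' = 0 := (hbij _).1 (((isZero_rho_obj_iff U.ι _).2
      fun w => (hQ'U _ w.2).shift (-n)).eq_of_src _ _)
    rw [← cancel_epi ((shiftFunctorCompIsoId (DCoh.D S) (-n) n (by omega)).hom.app Q'), ← hφ', h0,
      Functor.map_zero, comp_zero]
  have hQE : ∀ (n : ℤ) (φ : Q' ⟶ E⟦n⟧), φ = 0 := fun n φ => by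
    have := h n (biprod.snd ≫ φ)
    rw [← cancel_epi (biprod.snd : R ⊞ Q' ⟶ Q'), this, comp_zero]
  have hQE' : ∀ (n : ℤ) (φ : Q' ⟶ E'⟦n⟧), φ = 0 := fun n φ => by
    have hs := inv_rot_of_distTriang _ (Triangle.shift_distinguished _ hΔ n)
    obtain ⟨ψ, hψ⟩ := Triangle.coyoneda_exact₂ _ hs φ (hQE n _)
    rw [hψ]
    refine (congrArg (· ≫ _) ?_).trans zero_comp
    rw [← cancel_mono (((shiftFunctorAdd' (DCoh.D S) n (-1) (n - 1) (by omega)).app E'').inv), zero_comp]
    exact hzero _ _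
  have hzV : IsZero ((rho jV).obj E') := by
    refine hgenV _ (isQCohD_rho jV hE'q) (fun y hy => (z0_rho_iff jV E' y).2 ?_) fun n φ => ?_
    · by_cases hyT : jV.base y ∈ T
      · exact hE'U _ (not_not.1 fun hyU => hy ⟨hyT, hyU⟩)
      · exact hE'T _ hyT
    · obtain ⟨ψ, hψ⟩ : ∃ ψ : Q ⟶ (rho jV).obj (E'⟦n⟧), φ = ψ ≫ (((rho jV).commShiftIso n).app E').hom :=
        ⟨φ ≫ (((rho jV).commShiftIso n).app E').inv, by simp⟩
      have h0 : ψ = 0 := ((lshDAdj jV).homEquiv Q (E'⟦n⟧)).symm.injective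
        ((hQE' n (((lshDAdj jV).homEquiv Q (E'⟦n⟧)).symm ψ)).trans
          (hQE' n (((lshDAdj jV).homEquiv Q (E'⟦n⟧)).symm 0)).symm)
      rw [hψ, h0, zero_comp]
  haveI : IsIso u := (Triangle.isZero₁_iff_isIso₂ _ hΔ).1 (isZero_of_z0 fun x =>
    (hcov.symm.subset (Set.mem_univ x)).elim (hE'U x) fun ⟨y, hy⟩ =>
      hy ▸ (isZero_rho_obj_iff jV E').1 hzV y)
  have hUz : IsZero ((rho U.ι).obj E) := by
    refine hgenU _ (isQCohD_rho U.ι hE) (hET.rho U.ι) fun n φ => ?_
    let c := ((rho U.ι).commShiftIso n).app E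
    let c'' := ((rho U.ι).commShiftIso n).app E''
    let y : (rho U.ι).obj R ⟶ (rho U.ι).obj (E''⟦n⟧) := p ≫ φ ≫ e.inv⟦n⟧' ≫ c''.inv
    obtain ⟨ψ, hψ⟩ : ∃ ψ : R ⟶ E''⟦n⟧, (rho U.ι).map ψ = y := by
      let s := (shiftFunctorCompIsoId (DCoh.D S) (-n) n (by omega)).app R
      obtain ⟨z, hz⟩ := (shiftFunctor (DCoh.D (U : Scheme.{u})) n).map_surjective
        ((((rho U.ι).commShiftIso n).app (R⟦-n⟧)).inv ≫ (rho U.ι).map s.hom ≫ y ≫ c''.hom)
      obtain ⟨w, hw⟩ := (hbij (R⟦-n⟧)).2 z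
      simp only at hw
      refine ⟨s.inv ≫ w⟦n⟧', ?_⟩
      have hn : (rho U.ι).map (w⟦n⟧') = (((rho U.ι).commShiftIso n).app (R⟦-n⟧)).hom ≫
          ((rho U.ι).map w)⟦n⟧' ≫ c''.inv := by
        rw [← Category.assoc, Iso.eq_comp_inv]
        exact ((rho U.ι).commShiftIso n).hom.naturality w
      rw [Functor.map_comp, hn, hw, hz]
      simp [← Functor.map_comp_assoc]
    have hψ0 : ψ = 0 := by
      haveI : IsIso (u⟦n⟧') := inferInstance
      rw [← cancel_mono (inv (u⟦n⟧')), zero_comp]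
      have := h n (biprod.fst ≫ ψ ≫ inv (u⟦n⟧'))
      rwa [← cancel_epi (biprod.fst : R ⊞ Q' ⟶ R), comp_zero]
    rw [hψ0, Functor.map_zero] at hψ
    have h2 := congrArg (fun t => i ≫ t ≫ c''.hom ≫ e.hom⟦n⟧') hψ
    simp only [y, Category.assoc, reassoc_of% hip, zero_comp, comp_zero, Iso.inv_hom_id_assoc,
      ← Functor.map_comp, Iso.inv_hom_id, CategoryTheory.Functor.map_id] at h2
    exact (Category.comp_id φ).symm.trans h2.symm
  have huz : u = 0 := (hbij E).1 (hUz.eq_of_src _ _)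
  exact (IsZero.iff_id_eq_zero _).2 ((cancel_mono u).1 (by rw [huz]; simp))

end Groth.Agent.Perf52
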