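import Groth.Agent.Perf52.ApproxGlue
import Groth.Agent.Perf52.HomRange
import Groth.Agent.Perf52.Bdd
import Groth.Agent.Perf52.Tower
import Groth.Agent.Perf52.ApproxOpen
import Groth.Agent.H9Misc.TFactor
import Groth.Agent.KFlatLib.Scheme.RpushCoprodQCoh
import Groth.Agent.TriCat.HocolimHomological
import Groth.Agent.TriCat.CellResolution

/-!
# Pseudo-coherent objects as homotopy colimits of perfect objects
-/

set_option linter.style.haveILetI false
set_option backward.isDefEq.respectTransparency false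

universe u

open CategoryTheory CategoryTheory.Limits AlgebraicGeometry Pretriangulated ZeroObject

attribute [local instance] HasDerivedCategory.standard

namespace Groth.Agent.Perf52

open Groth.Agent.KFlatLib

variable {X : Scheme.{u}}

local notation "tD" => (DerivedCategory.TStructure.t : Triangulated.TStructure (DCoh.D X))

lemma isIso_truncGE_map {P K C : DCoh.D X} {α : P ⟶ K} {q : K ⟶ C} {d : C ⟶ P⟦(1 : ℤ)⟧}
    (hT : Triangle.mk α q d ∈ distTriang _) {a : ℤ} (hC : C.IsLE (a - 2)) :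
    IsIso ((tD).truncGE a |>.map α) :=
  (tD).isIso₂_truncGE_map_of_isLE _ (inv_rot_of_distTriang _ hT) (a - 1) a (by omega)
    (haveI := hC; (tD).isLE_shift C (a - 2) (-1) (a - 1) (by omega))

lemma isIso_homology_of_truncGE {P K : DCoh.D X} (α : P ⟶ K) {a : ℤ}
    (h : IsIso ((tD).truncGE a |>.map α)) (i : ℤ) (hi : a ≤ i) :
    IsIso ((DerivedCategory.homologyFunctor X.Modules i).map α) := by
  haveI := H9Misc.isIso_map_truncGEπ a i hi P
  haveI := H9Misc.isIso_map_truncGEπ a i hi K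
  have e : (DerivedCategory.homologyFunctor X.Modules i).map α ≫
      (DerivedCategory.homologyFunctor X.Modules i).map (((tD).truncGEπ a).app K) =
      (DerivedCategory.homologyFunctor X.Modules i).map (((tD).truncGEπ a).app P) ≫
        (DerivedCategory.homologyFunctor X.Modules i).map ((tD).truncGE a |>.map α) := by
    rw [← Functor.map_comp, ← Functor.map_comp]
    exact congrArg _ (((tD).truncGEπ a).naturality α)
  haveI : IsIso ((DerivedCategory.homologyFunctor X.Modules i).map α ≫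
      (DerivedCategory.homologyFunctor X.Modules i).map (((tD).truncGEπ a).app K)) :=
    e ▸ inferInstance
  exact IsIso.of_isIso_comp_right _ ((DerivedCategory.homologyFunctor X.Modules i).map (((tD).truncGEπ a).app K))

/-- An object with perfect approximations of all orders is pseudo-coherent. -/
lemma pc_of_approx {K : DCoh.D X} (h : ∀ n : ℕ, ∃ (P : DCoh.D X) (α : P ⟶ K), DCoh.IsPerfect P ∧
      IsIso ((tD).truncGE (-(n : ℤ)) |>.map α)) (m : ℤ) : DCoh.IsPseudoCoherentD m K := by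
  obtain ⟨P, α, hP, hα⟩ := h m.natAbs
  haveI h1 := fun i (hi : -(m.natAbs : ℤ) ≤ i) => isIso_homology_of_truncGE α hα i hi
  have hpc : IsPcMap (-(m.natAbs : ℤ)) α := ⟨fun i hi => h1 i hi.le, haveI := h1 _ le_rfl; inferInstance⟩
  obtain ⟨C, q, d, hT⟩ := distinguished_cocone_triangle α
  have hC : C.IsLE (-(m.natAbs : ℤ) - 1) := isLE_cone hT hpc
  refine (isPseudoCoherentD_iff _ _).2 (((locPC_two_of_three (-(m.natAbs : ℤ)) _ hT).2.1
    (((isPerfect_iff _).1 hP).locPC _) ?_).mono (by omega))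
  intro x
  refine ⟨X, 𝟙 X, inferInstance, ⟨x, rfl⟩, 0, 0,
    ⟨⟨0, 0, fun i _ => (HomologicalComplex.eval _ _ i).map_isZero (isZero_zero _)⟩,
      fun i => isFinLocFree_of_isZero ((HomologicalComplex.eval _ _ i).map_isZero (isZero_zero _))⟩, ?_⟩
  haveI := hC
  have hz : ∀ i, -(m.natAbs : ℤ) ≤ i → IsZero ((DerivedCategory.homologyFunctor X.Modules i).obj
      ((rho (𝟙 X)).obj C)) := fun i hi =>
    ((Scheme.Modules.restrictFunctor (𝟙 X)).map_isZero (C.isZero_of_isLE (-(m.natAbs : ℤ) - 1) i (by omega))).of_iso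
      (restrictHDIso (𝟙 X) C i)
  have hz0 : ∀ i, IsZero ((DerivedCategory.homologyFunctor X.Modules i).obj
      (DerivedCategory.Q.obj (0 : CochainComplex X.Modules ℤ))) := fun i =>
    Functor.map_isZero _ (DerivedCategory.Q.map_isZero (isZero_zero _))
  exact ⟨fun i hi => ⟨0, (hz0 i).eq_of_src _ _, (hz i hi.le).eq_of_src _ _⟩,
    ⟨fun _ _ _ => (hz _ le_rfl).eq_of_src _ _⟩⟩

lemma preservesColimitsOfShape_homology_nat (i : ℤ) :
    PreservesColimitsOfShape (Discrete ℕ) (DerivedCategory.homologyFunctor X.Modules i) := by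
  haveI : HasColimitsOfShape (Discrete ℕ) (DCoh.D X) := hasCountableCoproducts_D
  refine ⟨fun {F} => ?_⟩
  haveI : PreservesColimit (Discrete.functor (F.obj ∘ Discrete.mk))
      (DerivedCategory.homologyFunctor X.Modules i) := preservesColimit_homology (fun n : ℕ => F.obj ⟨n⟩) i
  exact preservesColimit_of_iso_diagram _ (Discrete.natIsoFunctor (F := F)).symm

variable [CompactSpace X] [QuasiSeparatedSpace X]

theorem exists_hocolim_of_pc [HasColimitsOfShape (Discrete ℕ) (DCoh.D X)] {T : Set X}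
    (hT : IsClosed T) (hTc : IsCompact Tᶜ) {K : DCoh.D X} (hKT : SuppOn K T)
    (hK : ∀ m : ℤ, DCoh.IsPseudoCoherentD m K) :
    ∃ (E : ℕ → DCoh.D X) (f : ∀ n, E n ⟶ E (n + 1)) (i : ∀ n, E n ⟶ K),
      (∀ n, DCoh.IsPerfect (E n)) ∧ (∀ n, SuppOn (E n) T) ∧ DerLim.IsHocolim E f K i ∧
      ∀ n : ℕ, IsIso ((tD).truncGE (-(n : ℤ)) |>.map (i n)) := by
  obtain ⟨r, hr⟩ := approxOn_qcqs (X := X) hT hTc
  have hKq : DCoh.IsQCohD K := isQCohD_of_pc hK
  have happ : ∀ m, ApproxAt T K m := fun m => hr m K hKq (hK _) fun i _ => (suppOn_iff K T).1 hKT i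
  let St := Σ P : DCoh.D X, (P ⟶ K)
  let Good : ℕ → St → Prop := fun n p => DCoh.IsPerfect p.1 ∧ SuppOn p.1 T ∧ IsPcMap (-(n : ℤ) - 1) p.2
  have hnext : ∀ (n : ℕ) (p : St), Good n p →
      ∃ p' : St, Good (n + 1) p' ∧ ∃ f : p.1 ⟶ p'.1, f ≫ p'.2 = p.2 := by
    rintro n ⟨P, α⟩ ⟨hP, -, -⟩
    obtain ⟨a, -, -, -, ha, -⟩ := exists_hom_range hP
    obtain ⟨P', α', hP', hP'T, hα'⟩ := happ (min a (-((n + 1 : ℕ) : ℤ) - 1))
    obtain ⟨C, q, d, hC⟩ := distinguished_cocone_triangle α'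
    obtain ⟨f, hf⟩ := Triangle.coyoneda_exact₂ _ hC α
      (ha C (isQCohD_obj₃ hC (isQCohD_of_isPerfect hP') hKq)
        (haveI : C.IsLE (min a (-((n + 1 : ℕ) : ℤ) - 1) - 1) := isLE_cone hC hα'
         (tD).isLE_of_le C (min a (-((n + 1 : ℕ) : ℤ) - 1) - 1) (a - 1) (by omega)) _)
    refine ⟨⟨P', α'⟩, ⟨hP', hP'T, fun i hi => hα'.1 i (by omega), ?_⟩, f, hf.symm⟩
    rcases eq_or_lt_of_le (show min a (-((n + 1 : ℕ) : ℤ) - 1) ≤ -((n + 1 : ℕ) : ℤ) - 1 from min_le_right _ _)
      with h | h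
    · exact h ▸ hα'.2
    · haveI := hα'.1 _ h; infer_instance
  obtain ⟨P₀, α₀, hP₀, hP₀T, hα₀⟩ := happ (-((0 : ℕ) : ℤ) - 1)
  choose nxt hnxt f hf using hnext
  let seq : ∀ n, {p : St // Good n p} := fun n => Nat.rec (motive := fun n => {p : St // Good n p})
    ⟨⟨P₀, α₀⟩, hP₀, hP₀T, hα₀⟩ (fun n p => ⟨nxt n p.1 p.2, hnxt n p.1 p.2⟩) n
  let E : ℕ → DCoh.D X := fun n => (seq n).1.1
  let fs : ∀ n, E n ⟶ E (n + 1) := fun n => f n (seq n).1 (seq n).2
  let αs : ∀ n, E n ⟶ K := fun n => (seq n).1.2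
  have hfα : ∀ n, fs n ≫ αs (n + 1) = αs n := fun n => hf n (seq n).1 (seq n).2
  obtain ⟨L, inc, hL⟩ := TriCat.exists_isHocolim E fs
  obtain ⟨h, hh⟩ := TriCat.IsHocolim.exists_desc hL αs hfα
  haveI : IsIso h := (DerivedCategory.isIso_iff _ _).2 fun i => by
    let H := DerivedCategory.homologyFunctor X.Modules i
    haveI := preservesColimitsOfShape_homology_nat (X := X) i
    obtain ⟨e, he⟩ := TriCat.exists_colimit_iso H E fs L inc hL
    let F := Functor.ofSequence fun n => H.map (fs n)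
    let g : colimit F ⟶ H.obj K := e.hom ≫ H.map h
    have hg : ∀ n, colimit.ι F n ≫ g = H.map (αs n) := fun n => by
      rw [← Category.assoc, he, ← Functor.map_comp, hh]
    let N := i.natAbs + 1
    have hiso : ∀ n, N ≤ n → IsIso (H.map (αs n)) := fun n hn => (seq n).2.2.2.1 i (by omega)
    have hcc : ∀ {p q : ℕ} (hpq : p ≤ q), F.map (homOfLE hpq) ≫ H.map (αs q) = H.map (αs p) :=
      fun hpq => by rw [← hg, ← hg, ← Category.assoc, colimit.w]
    haveI := hiso N le_rfl
    haveI : IsIso g := by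
      refine ⟨inv (H.map (αs N)) ≫ colimit.ι F N, colimit.hom_ext fun n => ?_, ?_⟩
      · rw [reassoc_of% (hg n), Category.comp_id]
        rcases le_total n N with hn | hn
        · rw [← hcc hn, Category.assoc, IsIso.hom_inv_id_assoc, colimit.w]
        · haveI := hiso n hn
          have h1 : F.map (homOfLE hn) = H.map (αs N) ≫ inv (H.map (αs n)) := by
            rw [IsIso.eq_comp_inv, hcc]
          rw [← colimit.w F (homOfLE hn), h1, Category.assoc, IsIso.inv_hom_id_assoc,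
            IsIso.hom_inv_id_assoc]
      · rw [Category.assoc, hg, IsIso.inv_hom_id]
    exact (show IsIso (e.hom ≫ H.map h) from ‹IsIso g›) |> fun _ => IsIso.of_isIso_comp_left e.hom (H.map h)
  refine ⟨E, fs, αs, fun n => (seq n).2.1, fun n => (seq n).2.2.1, ?_, fun n => ?_⟩
  · have h2 := TriCat.IsHocolim.of_iso hL (asIso h)
    have h3 : (fun n => inc n ≫ (asIso h).hom) = αs := funext fun n => hh n
    exact h3 ▸ h2
  · obtain ⟨C, q, d, hC⟩ := distinguished_cocone_triangle (αs n)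
    haveI : C.IsLE (-(n : ℤ) - 1 - 1) := isLE_cone hC (seq n).2.2.2
    exact isIso_truncGE_map hC ((tD).isLE_of_le C (-(n : ℤ) - 1 - 1) (-(n : ℤ) - 2) (by omega))

end Groth.Agent.Perf52
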