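import Groth.Agent.Perf52.HomRange
import Groth.Agent.Perf52.Affine

/-!
# A bound, uniform in the finite locally free module, for maps into objects in low degrees
-/

set_option linter.style.haveILetI false
set_option backward.isDefEq.respectTransparency false

universe u

open CategoryTheory CategoryTheory.Limits AlgebraicGeometry TopologicalSpace Pretriangulated

attribute [local instance] HasDerivedCategory.standard

namespace Groth.Agent.Perf52

open Groth.Agent.KFlatLib

theorem exists_vanBelow_locFree (X : Scheme.{u}) [CompactSpace X] [QuasiSeparatedSpace X] :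
    ∃ N : ℤ, ∀ (F : X.Modules), FlatMod.IsFinLocFree F → ∀ L : DCoh.D X, DCoh.IsQCohD L → L.IsLE N →
      ∀ φ : DCoh.inD X F ⟶ L, φ = 0 := by
  let G : X.Opens → Prop := fun W => ∃ N : ℤ, ∀ (F : X.Modules), FlatMod.IsFinLocFree F →
    ∀ L : DCoh.D X, DCoh.IsQCohD L → L.IsLE N →
      ∀ φ : (lshD W.ι).obj ((rho W.ι).obj (DCoh.inD X F)) ⟶ L, φ = 0
  have hbot : G ⊥ := ⟨0, fun F _ L _ _ φ => (Functor.map_isZero _ ((isZero_rho_obj_iff (⊥ : X.Opens).ι _).2
    fun w => (show w.1 ∈ (∅ : Set X) from w.2).elim)).eq_of_src _ _⟩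
  have hsmall : ∀ x : X, ∃ V : X.Opens, x ∈ V ∧ ∀ W : X.Opens, IsAffineOpen W → W ≤ V → G W := by
    refine fun x => ⟨⊤, trivial, fun W hW _ => ⟨-1, fun F hF L hq hL φ => ?_⟩⟩
    haveI : IsAffine (W : Scheme.{u}) := hW
    haveI : ((rho W.ι).obj L).IsLE (-1) := (DerivedCategory.isLE_iff _ _).2 fun i hi =>
      ((Scheme.Modules.restrictFunctor W.ι).map_isZero (L.isZero_of_isLE (-1) i hi)).of_iso
        (restrictHDIso W.ι L i)
    let e := ((Scheme.Modules.restrictFunctor W.ι).mapDerivedCategorySingleFunctor 0).app F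
    have h0 : (lshDAdj W.ι).homEquiv _ _ φ = 0 := by
      rw [← cancel_epi e.inv, comp_zero]
      exact eq_zero_of_isFinLocFree_affine
        (H23.PullPush.isFinLocFree_of_iso ((Scheme.Modules.restrictFunctorIsoPullback W.ι).app F).symm
          (isFinLocFree_pullback W.ι hF)) (isQCohD_rho W.ι hq) _
    have h1 := congrArg ((lshDAdj W.ι).homEquiv _ _).symm h0
    rw [Equiv.symm_apply_apply, Adjunction.homEquiv_counit, Functor.map_zero, zero_comp] at h1
    exact h1
  have hstep : ∀ U V : X.Opens, IsCompact (U : Set X) → IsCompact (V : Set X) →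
      IsCompact ((U ⊓ V : X.Opens) : Set X) → G U → G V → G (U ⊓ V) → G (U ⊔ V) := by
    rintro U V - - - ⟨NU, hU⟩ ⟨NV, hV⟩ ⟨NW, hW⟩
    refine ⟨min (min NU NV) (NW - 1), fun F hF L hq hL φ => ?_⟩
    have hle : ∀ n, min (min NU NV) (NW - 1) ≤ n → L.IsLE n := fun n hn =>
      DerivedCategory.TStructure.t.isLE_of_le L _ n hn
    let C := DerivedCategory.Q.objPreimage (DCoh.inD X F)
    let e : ∀ W : X.Opens, (lshD W.ι).obj ((rho W.ι).obj (DCoh.inD X F)) ≅
        DerivedCategory.Q.obj ((mapCx (lshRes W)).obj C) := fun W =>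
      (lshD W.ι).mapIso ((rho W.ι).mapIso (repIso (DCoh.inD X F)).symm ≪≫ (rhoQ W.ι).app C) ≪≫
        (lsh W.ι).mapDerivedCategoryFactors.app _
    obtain ⟨a, b, c, hT⟩ := exists_mv_triangle' U V (U ⊔ V) le_sup_left le_sup_right le_rfl C
    rw [← cancel_epi (e _).inv, comp_zero]
    have hb : b ≫ (e (U ⊔ V)).inv ≫ φ = 0 := by
      apply biprod.hom_ext'
      · rw [comp_zero, ← cancel_epi (e U).hom, comp_zero]
        exact hU F hF L hq (hle _ (by omega)) _
      · rw [comp_zero, ← cancel_epi (e V).hom, comp_zero]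
        exact hV F hF L hq (hle _ (by omega)) _
    obtain ⟨ψ, hψ⟩ := Triangle.yoneda_exact₂ _ (rot_of_distTriang _ hT) _ hb
    refine hψ.trans ?_
    have hψ0 : ψ = 0 := by
      haveI := hL
      have hL' : (L⟦(-1 : ℤ)⟧).IsLE NW := by
        haveI := hle (NW - 1) (by omega)
        exact DerivedCategory.TStructure.t.isLE_shift L (NW - 1) (-1) NW (by omega)
      refine (shiftFunctor (DCoh.D X) (-1 : ℤ)).map_injective
        ((cancel_epi ((shiftFunctorCompIsoId (DCoh.D X) 1 (-1) (by omega)).app _).inv).1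
          ((cancel_epi (e (U ⊓ V)).hom).1 ?_))
      exact (hW F hF _ (isQCohD_shift hq (-1)) hL' _).trans
        (hW F hF _ (isQCohD_shift hq (-1)) hL' _).symm
    rw [hψ0]
    exact comp_zero
  obtain ⟨N, hN⟩ := qc_induction G hbot hsmall hstep ⊤ (by simpa using isCompact_univ)
  refine ⟨N, fun F hF L hq hL φ => ?_⟩
  haveI : Surjective (⊤ : X.Opens).ι := ⟨fun x => ⟨⟨x, trivial⟩, rfl⟩⟩
  haveI := isIso_counit_of_surjective (⊤ : X.Opens).ι (DCoh.inD X F)
  exact (cancel_epi ((lshDAdj (⊤ : X.Opens).ι).counit.app (DCoh.inD X F))).1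
    ((hN F hF L hq hL _).trans comp_zero.symm)

end Groth.Agent.Perf52
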