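import Mathlib.AlgebraicGeometry.AffineScheme
import Mathlib.AlgebraicGeometry.Morphisms.QuasiSeparated

/-!
# Induction on quasi-compact opens, subordinate to a family of small affine opens
-/

universe u

open CategoryTheory AlgebraicGeometry TopologicalSpace Opposite

namespace Groth.Agent.Perf52

variable {X : Scheme.{u}}

/-- The finite unions of basic opens of an affine open. -/
lemma qc_induction_affine (P : X.Opens → Prop) {U₀ : X.Opens} (hU₀ : IsAffineOpen U₀)
    (hbase : ∀ W : X.Opens, IsAffineOpen W → W ≤ U₀ → P W)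
    (hstep : ∀ U V : X.Opens, IsCompact (U : Set X) → IsCompact (V : Set X) →
      IsCompact ((U ⊓ V : X.Opens) : Set X) → P U → P V → P (U ⊓ V) → P (U ⊔ V))
    {W : X.Opens} (hW : IsCompact (W : Set X)) (hWU : W ≤ U₀) : P W := by
  classical
  have hqc : ∀ (n : ℕ) (s : Fin n → Γ(X, U₀)),
      IsCompact ((⨆ i, X.basicOpen (s i) : X.Opens) : Set X) := fun n s => by
    rw [Opens.coe_iSup]
    exact isCompact_iUnion fun i => (hU₀.basicOpen (s i)).isCompact
  have key : ∀ (n : ℕ) (s : Fin n → Γ(X, U₀)), P (⨆ i, X.basicOpen (s i)) := by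
    intro n
    induction n with
    | zero =>
      intro s
      rw [iSup_of_empty]
      exact hbase ⊥ (isAffineOpen_bot X) bot_le
    | succ n ih =>
      intro s
      have hs : (⨆ i, X.basicOpen (s i)) = X.basicOpen (s 0) ⊔ ⨆ i : Fin n, X.basicOpen (s i.succ) := by
        refine le_antisymm (iSup_le fun i => ?_) (sup_le (le_iSup (fun i => X.basicOpen (s i)) 0)
          (iSup_le fun i => le_iSup (fun i => X.basicOpen (s i)) i.succ))
        induction i using Fin.cases with
        | zero => exact le_sup_left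
        | succ i => exact le_sup_of_le_right (le_iSup (fun i : Fin n => X.basicOpen (s i.succ)) i)
      have hi : X.basicOpen (s 0) ⊓ (⨆ i : Fin n, X.basicOpen (s i.succ)) =
          ⨆ i : Fin n, X.basicOpen (s 0 * s i.succ) := by
        rw [inf_iSup_eq]
        simp only [Scheme.basicOpen_mul]
      rw [hs]
      exact hstep _ _ (hU₀.basicOpen (s 0)).isCompact (hqc n _) (hi ▸ hqc n _)
        (hbase _ (hU₀.basicOpen _) (X.basicOpen_le _)) (ih _) (hi ▸ ih _)
  have hex : ∀ x : W, ∃ f : Γ(X, U₀), X.basicOpen f ≤ W ∧ (x : X) ∈ X.basicOpen f := fun x =>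
    hU₀.exists_basicOpen_le x (hWU x.2)
  choose f hf hxf using hex
  obtain ⟨t, ht⟩ := hW.elim_finite_subcover (fun x : W => ((X.basicOpen (f x) : X.Opens) : Set X))
    (fun x => (X.basicOpen (f x)).2) (fun y hy => Set.mem_iUnion.2 ⟨⟨y, hy⟩, hxf _⟩)
  have e : W = ⨆ i : Fin t.toList.length, X.basicOpen (f (t.toList.get i)) := by
    refine le_antisymm (fun y hy => ?_) (iSup_le fun i => hf _)
    obtain ⟨x, hx, hyx⟩ := Set.mem_iUnion₂.1 (ht hy)
    obtain ⟨i, hi⟩ := List.mem_iff_get.1 (Finset.mem_toList.2 hx)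
    exact Opens.mem_iSup.2 ⟨i, by rw [hi]; exact hyx⟩
  rw [e]
  exact key _ _

/-- Induction on quasi-compact opens: it suffices to treat affine opens which are small. -/
theorem qc_induction [CompactSpace X] [QuasiSeparatedSpace X] (P : X.Opens → Prop) (hbot : P ⊥)
    (hsmall : ∀ x : X, ∃ V : X.Opens, x ∈ V ∧ ∀ W : X.Opens, IsAffineOpen W → W ≤ V → P W)
    (hstep : ∀ U V : X.Opens, IsCompact (U : Set X) → IsCompact (V : Set X) →
      IsCompact ((U ⊓ V : X.Opens) : Set X) → P U → P V → P (U ⊓ V) → P (U ⊔ V))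
    (W : X.Opens) (hW : IsCompact (W : Set X)) : P W := by
  classical
  choose V hxV hV using hsmall
  have hex : ∀ x : X, ∃ U : X.Opens, IsAffineOpen U ∧ x ∈ U ∧ U ≤ V x := fun x => by
    obtain ⟨_, ⟨U, hU, rfl⟩, hxU, hUV⟩ :=
      X.isBasis_affineOpens.exists_subset_of_mem_open (hxV x) (V x).2
    exact ⟨U, hU, hxU, hUV⟩
  choose U hU hxU hUV using hex
  have hbase : ∀ (x : X) (W : X.Opens), IsCompact (W : Set X) → W ≤ U x → P W := fun x W hWc hWU =>
    qc_induction_affine P (hU x) (fun W' hW' hle => hV x W' hW' (hle.trans (hUV x))) hstep hWc hWU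
  have hsup : ∀ t : Finset X, ∀ W : X.Opens, IsCompact (W : Set X) → W ≤ t.sup U → P W := by
    intro t
    induction t using Finset.induction with
    | empty =>
      intro W _ hW
      rw [Finset.sup_empty, le_bot_iff] at hW
      subst hW
      exact hbot
    | insert x t hx ih =>
      intro W hWc hW
      rw [Finset.sup_insert] at hW
      have e : W = (W ⊓ U x) ⊔ (W ⊓ t.sup U) := by rw [← inf_sup_left, inf_eq_left.2 hW]
      have htc : IsCompact ((t.sup U : X.Opens) : Set X) := by
        clear ih hW e hx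
        induction t using Finset.induction with
        | empty => simp
        | insert y t _ ih => rw [Finset.sup_insert, Opens.coe_sup]; exact (hU y).isCompact.union ih
      have h1 : IsCompact ((W ⊓ U x : X.Opens) : Set X) :=
        QuasiSeparatedSpace.inter_isCompact _ _ W.2 hWc (U x).2 (hU x).isCompact
      have h2 : IsCompact ((W ⊓ t.sup U : X.Opens) : Set X) :=
        QuasiSeparatedSpace.inter_isCompact _ _ W.2 hWc (t.sup U).2 htc
      have h3 : IsCompact (((W ⊓ U x) ⊓ (W ⊓ t.sup U) : X.Opens) : Set X) :=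
        QuasiSeparatedSpace.inter_isCompact _ _ (W ⊓ U x).2 h1 (W ⊓ t.sup U).2 h2
      rw [e]
      exact hstep _ _ h1 h2 h3 (hbase x _ h1 inf_le_right) (ih _ h2 inf_le_right)
        (hbase x _ h3 (inf_le_left.trans inf_le_right))
  obtain ⟨s, hs⟩ := isCompact_univ.elim_finite_subcover (fun x : X => (U x : Set X)) (fun x => (U x).2)
    fun x _ => Set.mem_iUnion.2 ⟨x, hxU x⟩
  refine hsup s W hW fun x _ => ?_
  obtain ⟨y, hy, hxy⟩ := Set.mem_iUnion₂.1 (hs (Set.mem_univ x))
  exact (Finset.le_sup (f := U) hy) hxy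

end Groth.Agent.Perf52
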