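import Groth.Agent.Perf52.GenBdd
import Groth.Agent.Perf52.Approx
import Groth.Prelude.Def_Koszul
import Groth.Prelude.Def_Wider

/-!
# Koszul objects
-/

set_option linter.style.haveILetI false
set_option backward.isDefEq.respectTransparency false

universe u

open CategoryTheory CategoryTheory.Limits AlgebraicGeometry Pretriangulated

attribute [local instance] HasDerivedCategory.standard

namespace Groth.Agent.Perf52

open Groth.Agent.KFlatLib

variable {A : Type u} [CommRing A]

local notation "RA" => CommRingCat.of A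

/-- The Koszul object in `D(A)`. -/
noncomputable abbrev kos (fs : List A) : DerivedCategory (ModuleCat.{u} (RA : CommRingCat.{u})) :=
  DerivedCategory.Q.obj (Koszul.koszul A fs)

lemma kos_triangle (g : A) (fs : List A) :
    ∃ (q : kos fs ⟶ kos (g :: fs)) (d : kos (g :: fs) ⟶ (kos fs)⟦(1 : ℤ)⟧),
      Triangle.mk (g • 𝟙 (kos fs)) q d ∈ distTriang _ := by
  let φ : Koszul.koszul A fs ⟶ Koszul.koszul A fs := g • 𝟙 _
  have h : DerivedCategory.Q.mapTriangle.obj (CochainComplex.mappingCone.triangle φ) ∈ distTriang _ :=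
    (DerivedCategory.mem_distTriang_iff _).2 ⟨_, _, φ, ⟨Iso.refl _⟩⟩
  have e : DerivedCategory.Q.map φ = g • 𝟙 (kos fs) := by
    rw [Functor.map_smul, CategoryTheory.Functor.map_id]
  refine ⟨(DerivedCategory.Q.mapTriangle.obj (CochainComplex.mappingCone.triangle φ)).mor₂,
    (DerivedCategory.Q.mapTriangle.obj (CochainComplex.mappingCone.triangle φ)).mor₃, ?_⟩
  rw [← e]
  exact h

noncomputable def kosNilIso : kos ([] : List A) ≅
    (DerivedCategory.singleFunctor (ModuleCat.{u} (RA : CommRingCat.{u})) 0).obj (ModuleCat.of A A) :=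
  ((DerivedCategory.singleFunctorIsoCompQ (ModuleCat.{u} (RA : CommRingCat.{u})) 0).app _).symm

lemma low_of_iso {P P' : DerivedCategory (ModuleCat.{u} (RA : CommRingCat.{u}))} (e : P ≅ P') {n : ℤ}
    (h : Low P n) : Low P' n := fun L hL φ => by
  rw [← cancel_epi e.hom, comp_zero]
  exact h L hL _

lemma low_kos (fs : List A) : Low (kos fs) (-1 - (fs.length : ℤ)) := by
  induction fs with
  | nil => exact low_of_iso kosNilIso.symm (low_single _ 0)
  | cons g fs ih =>
    obtain ⟨q, d, hT⟩ := kos_triangle g fs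
    have h := low_obj₃ hT ih ih
    rwa [List.length_cons, Nat.cast_add, Nat.cast_one,
      show -1 - ((fs.length : ℤ) + 1) = -1 - (fs.length : ℤ) - 1 by omega]

lemma isLE_kos (fs : List A) : (kos fs).IsLE 0 := by
  induction fs with
  | nil => exact DerivedCategory.TStructure.t.isLE_of_iso kosNilIso.symm 0
  | cons g fs ih =>
    obtain ⟨q, d, hT⟩ := kos_triangle g fs
    let t := DerivedCategory.TStructure.t (C := ModuleCat.{u} (RA : CommRingCat.{u}))
    haveI := ih
    haveI : ((kos fs)⟦(1 : ℤ)⟧).IsLE (-1) := t.isLE_shift (kos fs) 0 1 (-1) (by omega)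
    have h1 : ((kos fs)⟦(1 : ℤ)⟧).IsLE 0 := t.isLE_of_le ((kos fs)⟦(1 : ℤ)⟧) (-1) 0 (by omega)
    exact t.isLE₂ _ (rot_of_distTriang _ hT) 0 ih h1

lemma tors_kos (fs : List A) : ∀ f ∈ fs, Tors (R := RA) f (kos fs) := by
  induction fs with
  | nil => simp
  | cons g fs ih =>
    obtain ⟨q, d, hT⟩ := kos_triangle g fs
    intro f hf
    rcases List.mem_cons.1 hf with rfl | hf
    · exact tors_cone_smul (R := RA) 1 (by rw [pow_one]; exact hT)
    · exact tors_obj₂ (rot_of_distTriang _ hT) (ih f hf) ((ih f hf).shift 1)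

variable [PreservesFiniteLimits (tilde.functor (CommRingCat.of A))]

lemma isPerfect_kos (fs : List A) : DCoh.IsPerfect ((DCoh.tildeD RA).obj (kos fs)) := by
  induction fs with
  | nil =>
    refine isPerfect_of_iso ((DCoh.tildeD RA).mapIso kosNilIso).symm ((perfect_tildeD_iff (R := RA) _).2 ?_)
    obtain ⟨⟨a, b, hz⟩, hf⟩ := isBddFree_single (R := (RA : CommRingCat.{u})) (ModuleCat.of A A) ⟨inferInstance, inferInstance⟩ 0
    exact ⟨_, a, b, hz, fun i => ⟨(hf i).1, haveI := (hf i).2; inferInstance⟩,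
      ⟨((DerivedCategory.singleFunctorIsoCompQ (ModuleCat.{u} (RA : CommRingCat.{u})) 0).app _).symm⟩⟩
  | cons g fs ih =>
    obtain ⟨q, d, hT⟩ := kos_triangle g fs
    exact (Groth.Agent.S0887.result _ ((DCoh.tildeD RA).map_distinguished _ hT)).1 ih ih

/-- Maps from the Koszul object detect maps from the ring, degree by degree, on torsion objects. -/
theorem kos_detects (fs : List A) (E : DerivedCategory (ModuleCat.{u} (RA : CommRingCat.{u})))
    (hE : ∀ f ∈ fs, Tors (R := RA) f E) (n : ℤ) (h : ∀ φ : kos fs ⟶ E⟦n⟧, φ = 0) :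
    IsZero ((DerivedCategory.homologyFunctor (ModuleCat.{u} (RA : CommRingCat.{u})) n).obj E) := by
  induction fs with
  | nil =>
    haveI : Subsingleton ((DerivedCategory.homologyFunctor (ModuleCat.{u} (RA : CommRingCat.{u})) n).obj E) := by
      refine ⟨fun a b => ?_⟩
      haveI : Projective (ModuleCat.of A A : ModuleCat.{u} (RA : CommRingCat.{u})) :=
        inferInstanceAs (Projective (ModuleCat.of A A))
      have h0 : ∀ φ : (DerivedCategory.singleFunctor (ModuleCat.{u} (RA : CommRingCat.{u})) n).obj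
          (ModuleCat.of A A) ⟶ E, φ = 0 := fun φ => by
        let e := ((DerivedCategory.singleFunctors (ModuleCat.{u} (RA : CommRingCat.{u}))).shiftIso n 0 n (add_zero n)).app
          (ModuleCat.of A A)
        refine (shiftFunctor _ n).map_injective ((cancel_epi e.inv).1 ?_)
        have h' : ∀ ψ : (DerivedCategory.singleFunctor (ModuleCat.{u} (RA : CommRingCat.{u})) 0).obj
            (ModuleCat.of A A) ⟶ E⟦n⟧, ψ = 0 := fun ψ => by
          rw [← cancel_epi kosNilIso.hom, comp_zero]; exact h _
        exact (h' _).trans (h' _).symm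
      let Ee := (Equiv.ofBijective _ (bijective_psiC_of_projective (P := ModuleCat.of A A) n E)).trans
        (evalOne (R := RA) _)
      exact Ee.symm.injective ((h0 _).trans (h0 _).symm)
    exact ModuleCat.isZero_of_subsingleton _
  | cons g fs ih =>
    obtain ⟨q, d, hT⟩ := kos_triangle g fs
    refine ih (fun f hf => hE f (List.mem_cons_of_mem _ hf)) fun φ => ?_
    have hg : ∀ ψ : kos fs ⟶ E⟦n⟧, g • ψ = 0 → ψ = 0 := fun ψ hψ => by
      obtain ⟨ψ', (hψ' : ψ = q ≫ ψ')⟩ := Triangle.yoneda_exact₂ _ hT ψ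
        (by change (g • 𝟙 (kos fs)) ≫ ψ = 0; rw [Linear.smul_comp, Category.id_comp, hψ])
      rw [hψ', h ψ']
      exact comp_zero
    obtain ⟨k, hk⟩ := exists_pow_smul_eq_zero (R := RA) ((isPerfect_iff_dring (R := RA) (kos fs)).1 (isPerfect_kos fs)) g
      (E⟦n⟧) ((hE g (List.mem_cons_self ..)).shift n) φ
    induction k with
    | zero => simpa using hk
    | succ k ihk =>
      apply ihk
      apply hg
      rwa [smul_smul, ← pow_succ']

end Groth.Agent.Perf52
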