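import Groth.Agent.Perf52.KoszulOrth
import Groth.Agent.Perf52.Trunc

/-!
# Sections supported on the zero locus factor through Koszul objects of powers
-/

set_option linter.style.haveILetI false
set_option backward.isDefEq.respectTransparency false

universe u

open CategoryTheory CategoryTheory.Limits AlgebraicGeometry TopologicalSpace Pretriangulated

attribute [local instance] HasDerivedCategory.standard

namespace Groth.Agent.Perf52

open Groth.Agent.KFlatLib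

variable {A : Type u} [CommRing A]

local notation "RA" => CommRingCat.of A

/-- Maps out of the ring lift from `K(f^e)` to `K(f^e')` for `e ≤ e'`. -/
lemma exists_raise (fs : List A) {e e' : ℕ} (h : e ≤ e') :
    ∀ t : kos ([] : List A) ⟶ kos (fs.map (fun a => a ^ e)),
      ∃ (c : kos (fs.map (fun a => a ^ e')) ⟶ kos (fs.map (fun a => a ^ e)))
        (t' : kos ([] : List A) ⟶ kos (fs.map (fun a => a ^ e'))), t' ≫ c = t := by
  induction fs with
  | nil => exact fun t => ⟨𝟙 _, t, Category.comp_id t⟩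
  | cons g fs ih =>
    intro t
    obtain ⟨q, d, hT⟩ := kos_triangle (g ^ e) (fs.map (fun a => a ^ e))
    obtain ⟨q', d', hT'⟩ := kos_triangle (g ^ e') (fs.map (fun a => a ^ e'))
    have hz : t ≫ d = 0 := low_kos ([] : List A) _
      (by
        haveI := isLE_kos (fs.map (fun a => a ^ e))
        exact DerivedCategory.TStructure.t.isLE_shift (kos (fs.map (fun a => a ^ e))) 0 1 (-1 - ((([] : List A)).length : ℤ)) (by simp)) _
    obtain ⟨(t₀ : _ ⟶ kos (fs.map (fun a => a ^ e))), (ht₀ : t = t₀ ≫ q)⟩ :=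
      Triangle.coyoneda_exact₃ _ hT t hz
    obtain ⟨c₀, t₀', hc₀⟩ := ih t₀
    obtain ⟨c, (hc : q' ≫ c = c₀ ≫ q), -⟩ := complete_distinguished_triangle_morphism _ _ hT' hT
      (g ^ (e' - e) • c₀) c₀ (by
        change (g ^ e' • 𝟙 (kos (fs.map fun a => a ^ e'))) ≫ c₀ = (g ^ (e' - e) • c₀) ≫ (g ^ e • 𝟙 (kos (fs.map fun a => a ^ e)))
        rw [Linear.smul_comp, Category.id_comp, Linear.comp_smul, Category.comp_id, smul_smul, ← pow_add,
          Nat.add_sub_cancel' h])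
    exact ⟨c, t₀' ≫ q', by rw [Category.assoc, hc, reassoc_of% hc₀, ← ht₀]⟩

variable [PreservesFiniteLimits (tilde.functor (CommRingCat.of A))]

/-- A section of a torsion object factors through a Koszul object. -/
lemma exists_factor_kos (fs : List A) :
    ∀ (B : DerivedCategory (ModuleCat.{u} (RA : CommRingCat.{u}))) (_ : ∀ f ∈ fs, Tors (R := RA) f B) (s : kos ([] : List A) ⟶ B),
      ∃ (e : ℕ) (t : kos ([] : List A) ⟶ kos (fs.map (fun a => a ^ e)))
        (ψ : kos (fs.map (fun a => a ^ e)) ⟶ B), t ≫ ψ = s := by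
  induction fs with
  | nil => exact fun B _ s => ⟨0, 𝟙 _, s, Category.id_comp s⟩
  | cons g fs ih =>
    intro B hB s
    obtain ⟨e, t, ψ, hψ⟩ := ih B (fun f hf => hB f (List.mem_cons_of_mem _ hf)) s
    obtain ⟨k, (hk : g ^ k • ψ = 0)⟩ := exists_pow_smul_eq_zero (R := RA)
      ((isPerfect_iff_dring (R := RA) _).1 (isPerfect_kos (fs.map (fun a => a ^ e)))) g B
      (hB g (List.mem_cons_self ..)) ψ
    obtain ⟨c, t', hc⟩ := exists_raise fs (le_max_left e k) t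
    obtain ⟨q', d', hT'⟩ := kos_triangle (g ^ max e k) (fs.map (fun a => a ^ max e k))
    obtain ⟨ψ', (hψ' : c ≫ ψ = q' ≫ ψ')⟩ := Triangle.yoneda_exact₂ _ hT' (c ≫ ψ) (by
      change (g ^ max e k • 𝟙 (kos (fs.map fun a => a ^ max e k))) ≫ c ≫ ψ = 0
      rw [Linear.smul_comp, Category.id_comp, show g ^ max e k = g ^ (max e k - k) * g ^ k by
          rw [← pow_add, Nat.sub_add_cancel (le_max_right e k)], mul_smul,
        ← Linear.comp_smul, hk, comp_zero, smul_zero])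
    exact ⟨max e k, t' ≫ q', ψ', by rw [Category.assoc, ← hψ', ← Category.assoc, hc, hψ]⟩

/-- The structure sheaf as a Koszul object. -/
noncomputable def kosNilSelf : kosX ([] : List A) ≅
    DCoh.inD (Spec (CommRingCat.of A)) (Coh.structureModule (Spec (CommRingCat.of A))) :=
  (DCoh.tildeD RA).mapIso kosNilIso ≪≫
    ((tilde.functor RA).mapDerivedCategorySingleFunctor 0).app (ModuleCat.of A A) ≪≫
      (DerivedCategory.singleFunctor (Spec (CommRingCat.of A)).Modules 0).mapIso tildeSelf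

lemma kosX_eq_zero_of {fs : List A} {F : DCoh.D (Spec (CommRingCat.of A))}
    (h : ∀ φ : (kosX fs)⟦-(0 : ℤ)⟧ ⟶ F, φ = 0) (φ : kosX fs ⟶ F) : φ = 0 := by
  let e := (shiftFunctorZero' (DCoh.D (Spec (CommRingCat.of A))) (-(0 : ℤ)) neg_zero).app (kosX fs)
  rw [← cancel_epi e.hom, comp_zero]
  exact h _

theorem exists_koszul_factor (fs : List A) (E : DCoh.D (Spec (CommRingCat.of A))) (hE : DCoh.IsQCohD E)
    (hU : ∀ i : ℤ, -(fs.length : ℤ) < i → i ≤ 0 → IsZero ((DCoh.HD E i).restrict (punct fs).ι))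
    (s : kosX ([] : List A) ⟶ E) :
    ∃ (e : ℕ) (t : kosX ([] : List A) ⟶ kosX (fs.map (fun a => a ^ e)))
      (ψ : kosX (fs.map (fun a => a ^ e)) ⟶ E), t ≫ ψ = s := by
  by_cases hfs : fs = []
  · subst hfs
    exact ⟨0, 𝟙 _, s, Category.id_comp s⟩
  have hr : 1 ≤ (fs.length : ℤ) := by
    have := List.length_pos_iff.2 hfs; omega
  let H := fun i : ℤ => DerivedCategory.homologyFunctor (Spec (CommRingCat.of A)).Modules i
  obtain ⟨A₀, B₀, f₀, g₀, h₀, hT₀, hA₀, hB₀, hf₀, -⟩ := exists_trunc E 1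
  obtain ⟨hA₀q, -⟩ := isQCohD_trunc hT₀ hA₀ hf₀ hE
  obtain ⟨(s₀ : _ ⟶ A₀), (hs₀ : s = s₀ ≫ f₀)⟩ := Triangle.coyoneda_exact₂ _ hT₀ s
    (kosX_eq_zero_of (eq_zero_kos_of_isGE hB₀ (by omega)) _)
  obtain ⟨A₁, B₁, f₁, g₁, h₁, hT₁, hA₁, hB₁, hf₁, hg₁⟩ := exists_trunc A₀ (1 - (fs.length : ℤ))
  obtain ⟨hA₁q, hB₁q⟩ := isQCohD_trunc hT₁ hA₁ hf₁ hA₀q
  have hB₁T : SuppOn B₁ (klocus fs) := fun x hx i => by
    by_cases hi : 1 - (fs.length : ℤ) ≤ i
    · haveI := hg₁ i hi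
      refine IsZero.of_iso ?_ ((DerSch.stalkFunctor _ x).mapIso (asIso ((H i).map g₁)).symm)
      by_cases hi0 : i ≤ 0
      · haveI := hf₀ i (by omega)
        refine IsZero.of_iso ?_ ((DerSch.stalkFunctor _ x).mapIso (asIso ((H i).map f₀)))
        let w : (punct fs : Scheme.{u}) := ⟨x, (Set.ext_iff.1 (coe_punct fs) x).2 hx⟩
        exact isZero_stalk_of_restrict (punct fs).ι w
          ((DerSch.stalkFunctor _ w).map_isZero (hU i (by omega) hi0))
      · haveI := hA₀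
        exact (DerSch.stalkFunctor _ x).map_isZero (A₀.isZero_of_isLE (1 - 1) i (by omega))
    · haveI := hB₁
      exact (DerSch.stalkFunctor _ x).map_isZero (B₁.isZero_of_isGE (1 - (fs.length : ℤ)) i (by omega))
  obtain ⟨N, ⟨eN⟩⟩ := exists_tildeD_iso hB₁q
  obtain ⟨σ, (hσ : (DCoh.tildeD RA).map σ = s₀ ≫ g₁ ≫ eN.inv)⟩ :=
    (tildeD_map_bijective (kos ([] : List A)) N).2 (s₀ ≫ g₁ ≫ eN.inv)
  obtain ⟨e, t, ψ, hψ⟩ := exists_factor_kos fs N
    (fun f hf => (suppOn_tildeD_iff (R := RA) N _).1 (hB₁T.of_iso eN.symm) f hf) σ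
  let Ψ : kosX (fs.map (fun a => a ^ e)) ⟶ B₁ := (DCoh.tildeD RA).map ψ ≫ eN.hom
  let T : kosX ([] : List A) ⟶ kosX (fs.map (fun a => a ^ e)) := (DCoh.tildeD RA).map t
  have hTΨ : T ≫ Ψ = s₀ ≫ g₁ := by
    simp only [T, Ψ, ← Functor.map_comp_assoc, hψ, hσ, Category.assoc, Iso.inv_hom_id]
    rw [show g₁ ≫ 𝟙 B₁ = g₁ from Category.comp_id g₁]
  obtain ⟨(Ψ' : _ ⟶ A₀), (hΨ' : Ψ = Ψ' ≫ g₁)⟩ := Triangle.coyoneda_exact₃ _ hT₁ Ψ
    (kosX_eq_zero_of (eq_zero_kos_of_isLE (a := -(fs.length : ℤ) - 1) (isQCohD_shift hA₁q 1)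
      (haveI := hA₁; DerivedCategory.TStructure.t.isLE_shift A₁ (1 - (fs.length : ℤ) - 1) 1 _ (by omega))
      (by rw [List.length_map]; omega)) _)
  obtain ⟨χ, (hχ : s₀ - T ≫ Ψ' = χ ≫ f₁)⟩ := Triangle.coyoneda_exact₂ _ hT₁ (s₀ - T ≫ Ψ') (by
    change (s₀ - T ≫ Ψ') ≫ g₁ = 0
    rw [Preadditive.sub_comp, Category.assoc, ← hΨ', hTΨ, sub_self])
  have hχ0 : χ = 0 := kosX_eq_zero_of (eq_zero_kos_of_isLE (a := -(fs.length : ℤ)) hA₁q
    (by convert hA₁ using 1; omega) (by simp; omega)) _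
  rw [hχ0, zero_comp, sub_eq_zero] at hχ
  exact ⟨e, T, Ψ' ≫ f₀, by rw [hs₀, hχ, Category.assoc]⟩

end Groth.Agent.Perf52
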