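import Groth.Agent.Perf52.Push

/-!
# The derived direct image along an open immersion represents restricted morphisms
-/

set_option linter.style.haveILetI false
set_option backward.isDefEq.respectTransparency false

universe u

open CategoryTheory CategoryTheory.Limits AlgebraicGeometry Pretriangulated

attribute [local instance] HasDerivedCategory.standard

namespace Groth.Agent.Perf52

open Groth.Agent.KFlatLib

variable {X U : Scheme.{u}} (j : U ⟶ X) [IsOpenImmersion j]

lemma bijective_rho_pushCx (J : CochainComplex U.Modules ℤ) [J.IsKInjective] (K : DCoh.D X) :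
    Function.Bijective (fun φ : K ⟶ DerivedCategory.Q.obj ((pushCx j).obj J) => (rho j).map φ) := by
  let I' := (pushCx j).obj J
  haveI : I'.IsKInjective := isKInjective_pushCx j J
  haveI := isKInjective_rCx j I'
  haveI : IsIso ((pushCxAdj j).unit.app I') := by
    let b : (pushCx j).obj ((rCx j).obj I') ⟶ I' := (pushCx j).map ((pushCxAdj j).counit.app J)
    haveI : IsIso b := inferInstance
    have h : (pushCxAdj j).unit.app I' ≫ b = 𝟙 I' := (pushCxAdj j).right_triangle_components J
    exact ⟨b, h, by rw [← cancel_mono b, Category.assoc, h]; exact (Category.comp_id _).trans (Category.id_comp _).symm⟩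
  let eK := repIso K
  let C := DerivedCategory.Q.objPreimage K
  have hnat : ∀ g : C ⟶ I', (rho j).map (DerivedCategory.Q.map g) =
      (rhoQ j).hom.app C ≫ DerivedCategory.Q.map ((rCx j).map g) ≫ (rhoQ j).inv.app I' := fun g =>
    (NatIso.naturality_2 (rhoQ j) g).symm
  refine ⟨fun a b hab => (cancel_epi eK.hom).1 ?_, fun y => ?_⟩
  · obtain ⟨f, hf⟩ := exists_Q_map (eK.hom ≫ a)
    obtain ⟨g, hg⟩ := exists_Q_map (eK.hom ≫ b)
    have h : (rho j).map (DerivedCategory.Q.map f) = (rho j).map (DerivedCategory.Q.map g) := by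
      simp only [hf, hg, Functor.map_comp] at hab ⊢
      rw [hab]
    rw [hnat, hnat, cancel_epi, cancel_mono] at h
    obtain ⟨H⟩ := homotopy_of_Q_map_eq _ _ h
    rw [← hf, ← hg]
    refine DerivedCategory.Q_map_eq_of_homotopy _ ?_
    have e : ∀ g : C ⟶ I', g = (pushCxAdj j).unit.app C ≫ (pushCx j).map ((rCx j).map g) ≫
        inv ((pushCxAdj j).unit.app I') := fun g => by
      rw [← Category.assoc]
      exact (IsIso.eq_comp_inv _).2 ((pushCxAdj j).unit.naturality g)
    exact (Homotopy.ofEq (e f)).trans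
      (((((Scheme.Modules.pushforward j).mapHomotopy H).compRight _).compLeft _).trans
        (Homotopy.ofEq (e g).symm))
  · let c : (rCx j).obj I' ⟶ J := (pushCxAdj j).counit.app J
    haveI : IsIso c := isIso_pushCxAdj_counit j J
    obtain ⟨h, hh⟩ := exists_Q_map ((rhoQ j).inv.app C ≫ (rho j).map eK.hom ≫ y ≫
      (rhoQ j).hom.app I' ≫ DerivedCategory.Q.map c)
    refine ⟨eK.inv ≫ DerivedCategory.Q.map ((pushCxAdj j).homEquiv C J h), ?_⟩
    have h1 : (rCx j).map ((pushCxAdj j).homEquiv C J h) = h ≫ inv c := by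
      rw [IsIso.eq_comp_inv]
      exact ((pushCxAdj j).homEquiv_counit C J _).symm.trans (Equiv.symm_apply_apply _ _)
    simp only
    rw [Functor.map_comp, hnat, h1, Functor.map_comp, hh, Functor.map_inv]
    simp [← Functor.map_comp_assoc]
    exact Category.comp_id y

/-- `Rj_*` restricts back to the identity and represents restricted morphisms. -/
theorem exists_rpush_data [DCoh.HasRpush j] (M : DCoh.D U) :
    ∃ _e : (rho j).obj ((DCoh.Rpush j).obj M) ≅ M,
      ∀ K : DCoh.D X, Function.Bijective (fun φ : K ⟶ (DCoh.Rpush j).obj M => (rho j).map φ) := by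
  obtain ⟨J, s, hJ, hs⟩ := exists_kInjective_res (DerivedCategory.Q.objPreimage M)
  haveI : IsIso (DerivedCategory.Q.map s) := inferInstance
  haveI := hJ
  let eJ : DerivedCategory.Q.obj J ≅ M := (asIso (DerivedCategory.Q.map s)).symm ≪≫ repIso M
  obtain ⟨e⟩ := nonempty_rpush_iso_of_kInjective j eJ
  haveI : IsIso ((pushCxAdj j).counit.app J) := isIso_pushCxAdj_counit j J
  refine ⟨(rho j).mapIso e ≪≫ (rhoQ j).app _ ≪≫
    DerivedCategory.Q.mapIso (asIso ((pushCxAdj j).counit.app J)) ≪≫ eJ, fun K => ?_⟩
  refine ⟨fun a b hab => (cancel_mono e.hom).1 ((bijective_rho_pushCx j J K).1 ?_), fun y => ?_⟩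
  · change (rho j).map _ = (rho j).map _
    rw [Functor.map_comp, Functor.map_comp]
    exact congrArg (· ≫ _) hab
  · obtain ⟨φ, hφ⟩ := (bijective_rho_pushCx j J K).2 (y ≫ (rho j).map e.hom)
    refine ⟨φ ≫ e.inv, ?_⟩
    simp only at hφ ⊢
    rw [Functor.map_comp, hφ, Category.assoc, ← Functor.map_comp, Iso.hom_inv_id, CategoryTheory.Functor.map_id,
      Category.comp_id]

end Groth.Agent.Perf52
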