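import Groth.Agent.Perf52.Koszul
import Groth.Agent.Perf52.PushData
import Groth.Agent.Perf52.ApproxAffine

/-!
# Orthogonality to Koszul objects
-/

set_option linter.style.haveILetI false
set_option backward.isDefEq.respectTransparency false

universe u

open CategoryTheory CategoryTheory.Limits AlgebraicGeometry TopologicalSpace Pretriangulated

attribute [local instance] HasDerivedCategory.standard

namespace Groth.Agent.Perf52

open Groth.Agent.KFlatLib

lemma tilde_additive (R : CommRingCat.{u}) : (tilde.functor R).Additive := inferInstance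

lemma tilde_preservesFiniteColimits (R : CommRingCat.{u}) : PreservesFiniteColimits (tilde.functor R) :=
  inferInstance

lemma tilde_faithful (R : CommRingCat.{u}) : (tilde.functor R).Faithful := inferInstance

variable {A : Type u} [CommRing A]

instance tilde_additive_of : (tilde.functor (CommRingCat.of A)).Additive := tilde_additive _

instance tilde_preservesFiniteColimits_of : PreservesFiniteColimits (tilde.functor (CommRingCat.of A)) :=
  tilde_preservesFiniteColimits _

instance tilde_faithful_of : (tilde.functor (CommRingCat.of A)).Faithful := tilde_faithful _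

local notation "RA" => CommRingCat.of A
local notation "SA" => Spec (CommRingCat.of A)

/-- The open complement of the zero locus of the list. -/
abbrev punct (fs : List A) : (Spec (CommRingCat.of A)).Opens :=
  LocCoh.puncturedOpen A (Ideal.span {a | a ∈ fs})

/-- The zero locus of the list. -/
def klocus (fs : List A) : Set (Spec (CommRingCat.of A) : Scheme.{u}) :=
  PrimeSpectrum.zeroLocus {a | a ∈ fs}

lemma coe_punct (fs : List A) : (punct fs : Set (Spec (CommRingCat.of A) : Scheme.{u})) = (klocus fs)ᶜ := by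
  change (PrimeSpectrum.zeroLocus ((Ideal.span {a | a ∈ fs} : Ideal A) : Set A))ᶜ = _
  rw [PrimeSpectrum.zeroLocus_span]
  rfl

lemma isCompact_punct (fs : List A) : IsCompact (punct fs : Set (Spec (CommRingCat.of A) : Scheme.{u})) := by
  classical
  rw [coe_punct]
  refine (PrimeSpectrum.isCompact_isOpen_iff.2 ⟨fs.toFinset, ?_⟩).1
  rw [List.coe_toFinset]
  rfl

variable [PreservesFiniteLimits (tilde.functor (CommRingCat.of A))]

/-- The Koszul object on `Spec A`. -/
noncomputable abbrev kosX (fs : List A) : DCoh.D (Spec (CommRingCat.of A)) :=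
  (DCoh.tildeD (CommRingCat.of A)).obj (kos fs)

lemma suppOn_kosX (fs : List A) : SuppOn (kosX fs) (klocus fs) :=
  (suppOn_tildeD_iff (R := RA) _ _).2 (tors_kos fs)

lemma isZero_rho_kosX (fs : List A) : IsZero ((rho (punct fs).ι).obj (kosX fs)) :=
  (isZero_rho_obj_iff _ _).2 fun w => suppOn_kosX fs _ (by
    intro h
    exact (Set.ext_iff.1 (coe_punct fs) _).1 w.2 h)

lemma eq_zero_to_push {fs : List A} {M : DCoh.D (Spec (CommRingCat.of A))}
    (hbij : ∀ K : DCoh.D (Spec (CommRingCat.of A)), Function.Bijective (fun φ : K ⟶ M => (rho (punct fs).ι).map φ))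
    (n : ℤ) (φ : (kosX fs)⟦n⟧ ⟶ M) : φ = 0 :=
  (hbij _).1 ((((shiftFunctor _ n).map_isZero (isZero_rho_kosX fs)).of_iso
    (((rho (punct fs).ι).commShiftIso n).app _)).eq_of_src _ _)

variable {fs : List A} {F E M : DCoh.D (Spec (CommRingCat.of A))} {g : F ⟶ E} {u : E ⟶ M}
  {d : M ⟶ F⟦(1 : ℤ)⟧}

omit [PreservesFiniteLimits (tilde.functor (CommRingCat.of A))] in
lemma suppOn_fib (hT : Triangle.mk g u d ∈ distTriang _) (hu : IsIso ((rho (punct fs).ι).map u)) :
    SuppOn F (klocus fs) := fun x hx => by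
  have h1 : IsZero ((rho (punct fs).ι).obj F) :=
    (Triangle.isZero₁_iff_isIso₂ _ ((rho (punct fs).ι).map_distinguished _ hT)).2 hu
  exact (isZero_rho_obj_iff _ F).1 h1 ⟨x, (Set.ext_iff.1 (coe_punct fs) x).2 hx⟩

omit [PreservesFiniteLimits (tilde.functor (CommRingCat.of A))] in
lemma eq_zero_iff_fib [PreservesFiniteLimits (tilde.functor (CommRingCat.of A))]
    (hT : Triangle.mk g u d ∈ distTriang _)
    (hbij : ∀ K : DCoh.D (Spec (CommRingCat.of A)), Function.Bijective (fun φ : K ⟶ M => (rho (punct fs).ι).map φ))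
    (n : ℤ) : (∀ φ : (kosX fs)⟦n⟧ ⟶ E, φ = 0) ↔ ∀ φ : (kosX fs)⟦n⟧ ⟶ F, φ = 0 := by
  constructor
  · intro h φ
    have h1 : φ ≫ g = 0 := h _
    obtain ⟨ψ, hψ⟩ := Triangle.coyoneda_exact₂ _ (inv_rot_of_distTriang _ hT) φ h1
    have hz : ∀ χ : (kosX fs)⟦n⟧ ⟶ M⟦(-1 : ℤ)⟧, χ = 0 := fun χ => by
      refine (shiftFunctor (DCoh.D (Spec (CommRingCat.of A))) (1 : ℤ)).map_injective ?_
      rw [Functor.map_zero,
        ← cancel_epi ((shiftFunctorAdd' (DCoh.D (Spec (CommRingCat.of A))) n 1 (n + 1) rfl).app (kosX fs)).hom,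
        ← cancel_mono ((shiftFunctorCompIsoId (DCoh.D (Spec (CommRingCat.of A))) (-1 : ℤ) 1 (by omega)).app M).hom,
        comp_zero, zero_comp]
      exact eq_zero_to_push hbij _ _
    rw [hψ, hz ψ]
    exact zero_comp
  · intro h φ
    obtain ⟨ψ, hψ⟩ := Triangle.coyoneda_exact₂ _ hT φ (eq_zero_to_push hbij n _)
    rw [hψ, h ψ]
    exact zero_comp

/-- Vanishing against the Koszul object kills the cohomology of a supported object. -/
theorem isZero_HD_of_kos (hF : DCoh.IsQCohD F) (hFT : SuppOn F (klocus fs)) (n : ℤ)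
    (h : ∀ φ : (kosX fs)⟦-n⟧ ⟶ F, φ = 0) : IsZero (DCoh.HD F n) := by
  obtain ⟨N, ⟨eN⟩⟩ := exists_tildeD_iso hF
  have hN := kos_detects fs N (fun f hf => (suppOn_tildeD_iff (R := RA) N _).1 (hFT.of_iso eN.symm) f hf) n
    fun φ => by
      refine (tildeD_map_bijective (kos fs) _).1 ?_
      rw [Functor.map_zero]
      let e := ((DCoh.tildeD RA).commShiftIso n).app N ≪≫
        (shiftFunctor (DCoh.D (Spec (CommRingCat.of A))) n).mapIso eN
      rw [← cancel_mono e.hom, zero_comp]
      exact eq_zero_of_shift' n h _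
  exact ((tilde.functor RA).map_isZero hN).of_iso
    ((DerivedCategory.homologyFunctor _ n).mapIso eN.symm ≪≫
      (mapDCHomologyIso (tilde.functor RA) n).app N)

/-- The Koszul object has no maps into objects in degrees above zero. -/
lemma eq_zero_kos_of_isGE {a n : ℤ} (hF : F.IsGE a) (hn : n < a) (φ : (kosX fs)⟦-n⟧ ⟶ F) : φ = 0 := by
  haveI : (kosX fs).IsLE 0 := (DerivedCategory.isLE_iff _ _).2 fun i hi =>
    haveI := isLE_kos fs
    ((tilde.functor RA).map_isZero ((kos fs).isZero_of_isLE 0 i hi)).of_iso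
      ((mapDCHomologyIso (tilde.functor RA) i).app (kos fs))
  haveI := hF
  haveI := DerivedCategory.TStructure.t.isLE_shift (kosX fs) 0 (-n) n (by omega)
  exact DerivedCategory.TStructure.t.zero φ n a hn

/-- The Koszul object has no maps into qcoh objects in degrees below `-r`. -/
lemma eq_zero_kos_of_isLE {a n : ℤ} (hFq : DCoh.IsQCohD F) (hF : F.IsLE a)
    (hn : a + (fs.length : ℤ) < n) (φ : (kosX fs)⟦-n⟧ ⟶ F) : φ = 0 := by
  haveI := hF
  let G := F⟦n⟧
  have hG : G.IsLE (-1 - (fs.length : ℤ)) := by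
    haveI := DerivedCategory.TStructure.t.isLE_shift F a n (a - n) (by omega)
    exact DerivedCategory.TStructure.t.isLE_of_le G (a - n) _ (by omega)
  refine eq_zero_of_shift n (fun ψ => ?_) φ
  obtain ⟨N, ⟨eN⟩⟩ := exists_tildeD_iso (isQCohD_shift hFq n)
  obtain ⟨χ, hχ⟩ : ∃ χ, (DCoh.tildeD RA).map χ = ψ ≫ eN.inv := (tildeD_map_bijective (kos fs) N).2 _
  have hN : N.IsLE (-1 - (fs.length : ℤ)) := (DerivedCategory.isLE_iff _ _).2 fun i hi => by
    haveI := hG
    have h2 : IsZero ((tilde.functor RA).obj ((DerivedCategory.homologyFunctor _ i).obj N)) :=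
      (G.isZero_of_isLE _ i hi).of_iso (((mapDCHomologyIso (tilde.functor RA) i).app N).symm ≪≫
        (DerivedCategory.homologyFunctor _ i).mapIso eN)
    rw [IsZero.iff_id_eq_zero] at h2 ⊢
    exact (tilde.functor RA).map_injective (by rw [CategoryTheory.Functor.map_id, h2, Functor.map_zero])
  rw [← cancel_mono eN.inv, zero_comp, ← hχ, low_kos fs N hN χ, Functor.map_zero]

end Groth.Agent.Perf52
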