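import Groth.Agent.Perf52.KoszulOrth
import Groth.Agent.Perf52.Hocolim
import Groth.Agent.S0998

/-!
# Koszul orthogonality and the unit `E ⟶ Rj_*(E|_U)`
-/

set_option linter.style.haveILetI false
set_option backward.isDefEq.respectTransparency false

universe u

open CategoryTheory CategoryTheory.Limits AlgebraicGeometry TopologicalSpace Pretriangulated

attribute [local instance] HasDerivedCategory.standard

namespace Groth.Agent.Perf52

open Groth.Agent.KFlatLib

section General

variable {X : Scheme.{u}}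

lemma isIso_HD_of_truncLE {P K : DCoh.D X} (α : P ⟶ K) {b : ℤ}
    (h : IsIso (((DerivedCategory.TStructure.t : Triangulated.TStructure (DCoh.D X)).truncLE b).map α))
    (i : ℤ) (hi : i ≤ b) :
    IsIso ((DerivedCategory.homologyFunctor X.Modules i).map α) := by
  let t : Triangulated.TStructure (DCoh.D X) := DerivedCategory.TStructure.t
  haveI : IsIso ((t.truncLT (b + 1)).map α) := h
  haveI := H9Misc.isIso_map_truncLTι (b + 1) i (by omega) P
  haveI := H9Misc.isIso_map_truncLTι (b + 1) i (by omega) K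
  have e : (DerivedCategory.homologyFunctor X.Modules i).map ((t.truncLTι (b + 1)).app P) ≫
      (DerivedCategory.homologyFunctor X.Modules i).map α =
      (DerivedCategory.homologyFunctor X.Modules i).map ((t.truncLT (b + 1)).map α) ≫
        (DerivedCategory.homologyFunctor X.Modules i).map ((t.truncLTι (b + 1)).app K) := by
    rw [← Functor.map_comp, ← Functor.map_comp]
    exact congrArg _ ((t.truncLTι (b + 1)).naturality α).symm
  haveI : IsIso ((DerivedCategory.homologyFunctor X.Modules i).map ((t.truncLTι (b + 1)).app P) ≫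
      (DerivedCategory.homologyFunctor X.Modules i).map α) := e ▸ inferInstance
  exact IsIso.of_isIso_comp_left ((DerivedCategory.homologyFunctor X.Modules i).map ((t.truncLTι (b + 1)).app P)) _

lemma isZero_HD_cone {E M G : DCoh.D X} {η : E ⟶ M} {d : M ⟶ G} {δ : G ⟶ E⟦(1 : ℤ)⟧}
    (hT : Triangle.mk η d δ ∈ distTriang _) (m : ℤ)
    (he : Epi ((DerivedCategory.homologyFunctor X.Modules m).map η))
    (hm : Mono ((DerivedCategory.homologyFunctor X.Modules (m + 1)).map η)) :
    IsZero (DCoh.HD G m) := by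
  have h1 := (DerivedCategory.HomologySequence.epi_homologyMap_mor₁_iff _ hT m).1 he
  have h2 := (DerivedCategory.HomologySequence.mono_homologyMap_mor₁_iff _ hT m (m + 1)).1 hm
  exact (DerivedCategory.HomologySequence.exact₃ _ hT m (m + 1) rfl).isZero_of_both_zeros h1 h2

/-- Counit of a right adjoint representing restricted morphisms is an isomorphism. -/
lemma isIso_counit_of_bij {C D : Type*} [Category C] [Category D] {L : C ⥤ D} {R : D ⥤ C}
    (adj : L ⊣ R) (M : D) (e : L.obj (R.obj M) ≅ M)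
    (hbij : ∀ K : C, Function.Bijective (fun φ : K ⟶ R.obj M => L.map φ)) :
    IsIso (adj.counit.app M) := by
  have hcomp : ∀ K : C, Function.Bijective (fun y : L.obj K ⟶ L.obj (R.obj M) => y ≫ adj.counit.app M) := fun K => by
    have h : (fun y : L.obj K ⟶ L.obj (R.obj M) => y ≫ adj.counit.app M) ∘ (fun φ : K ⟶ R.obj M => L.map φ) =
        fun φ => (adj.homEquiv K M).symm φ := by
      funext φ
      exact (adj.homEquiv_counit _ _ φ).symm
    exact Function.Bijective.of_comp_iff _ (hbij K) |>.1 (h ▸ (adj.homEquiv K M).symm.bijective)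
  obtain ⟨s, hs : s ≫ adj.counit.app M = e.hom⟩ := (hcomp (R.obj M)).2 e.hom
  refine ⟨e.inv ≫ s, (hcomp (R.obj M)).1 ?_, by rw [Category.assoc, hs, Iso.inv_hom_id]⟩
  simp [hs]

end General

variable {A : Type u} [CommRing A] [PreservesFiniteLimits (tilde.functor (CommRingCat.of A))] {fs : List A}
  [DCoh.HasRpush (punct fs).ι]

omit [PreservesFiniteLimits (tilde.functor (CommRingCat.of A))] in
lemma isQCohD_rpush_punct {M : DCoh.D (punct fs : Scheme.{u})} (hM : DCoh.IsQCohD M) :
    DCoh.IsQCohD ((DCoh.Rpush (punct fs).ι).obj M) := by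
  haveI : CompactSpace (punct fs : Scheme.{u}) := isCompact_iff_compactSpace.1 (isCompact_punct fs)
  haveI : QuasiCompact (punct fs).ι := quasiCompact_of_compactSpace _
  exact Groth.Agent.S0998.result _ M hM

omit [PreservesFiniteLimits (tilde.functor (CommRingCat.of A))] in
lemma bijective_rpush (M : DCoh.D (punct fs : Scheme.{u})) (K : DCoh.D (Spec (CommRingCat.of A))) :
    Function.Bijective (fun φ : K ⟶ (DCoh.Rpush (punct fs).ι).obj M => (rho (punct fs).ι).map φ) :=
  (exists_rpush_data (punct fs).ι M).choose_spec K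

variable {E G : DCoh.D (Spec (CommRingCat.of A))} {N : DCoh.D (punct fs : Scheme.{u})}
  {η : E ⟶ (DCoh.Rpush (punct fs).ι).obj N} {d : (DCoh.Rpush (punct fs).ι).obj N ⟶ G} {δ : G ⟶ E⟦(1 : ℤ)⟧}

omit [PreservesFiniteLimits (tilde.functor (CommRingCat.of A))] in
lemma cone_data (hT : Triangle.mk η d δ ∈ distTriang _) (hE : DCoh.IsQCohD E) (hN : DCoh.IsQCohD N)
    (hη : IsIso ((rho (punct fs).ι).map η)) : DCoh.IsQCohD G ∧ SuppOn G (klocus fs) := by
  refine ⟨isQCohD_obj₃ hT hE (isQCohD_rpush_punct hN), fun x hx => ?_⟩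
  have h1 : IsZero ((rho (punct fs).ι).obj G) :=
    (Triangle.isZero₃_iff_isIso₁ _ ((rho (punct fs).ι).map_distinguished _ hT)).2 hη
  exact (isZero_rho_obj_iff _ G).1 h1 ⟨x, (Set.ext_iff.1 (coe_punct fs) x).2 hx⟩

/-- Maps from shifts of the Koszul object into `E` vanish iff those into the cone do. -/
lemma orth_iff_cone (hT : Triangle.mk η d δ ∈ distTriang _) (n n' : ℤ) (hn : n + 1 = n') :
    (∀ φ : (kosX fs)⟦n⟧ ⟶ E, φ = 0) ↔ ∀ φ : (kosX fs)⟦n'⟧ ⟶ G, φ = 0 := by
  let X' := Spec (CommRingCat.of A)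
  let e := (shiftFunctorAdd' (DCoh.D X') n 1 n' hn).app (kosX fs)
  constructor
  · intro h φ
    have h1 : e.inv ≫ φ ≫ δ = 0 := by
      obtain ⟨χ, hχ⟩ := (shiftFunctor (DCoh.D X') (1 : ℤ)).map_surjective (e.inv ≫ φ ≫ δ)
      rw [← hχ, h χ, Functor.map_zero]
    obtain ⟨ψ, hψ⟩ := Triangle.coyoneda_exact₃ _ hT φ (by rwa [← cancel_epi e.inv, comp_zero])
    rw [hψ, eq_zero_to_push (fun K => bijective_rpush N K) _ ψ]
    exact zero_comp
  · intro h φ
    refine (shiftFunctor (DCoh.D X') (1 : ℤ)).map_injective ?_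
    obtain ⟨ψ, hψ⟩ := Triangle.coyoneda_exact₁ _ hT (φ⟦(1 : ℤ)⟧')
      (by rw [← Functor.map_comp]
          exact (congrArg _ (eq_zero_to_push (fun K => bijective_rpush N K) n (φ ≫ η))).trans (Functor.map_zero _ _ _))
    rw [Functor.map_zero, hψ, show ψ = 0 from (cancel_epi e.hom).1 ((h _).trans comp_zero.symm)]
    exact zero_comp

lemma isZero_HD_cone_of_orth (hT : Triangle.mk η d δ ∈ distTriang _) (hE : DCoh.IsQCohD E) (hN : DCoh.IsQCohD N)
    (hη : IsIso ((rho (punct fs).ι).map η)) (m : ℤ) (h : ∀ φ : (kosX fs)⟦-(m + 1)⟧ ⟶ E, φ = 0) :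
    IsZero (DCoh.HD G m) := by
  obtain ⟨hG, hGT⟩ := cone_data hT hE hN hη
  exact isZero_HD_of_kos hG hGT m ((orth_iff_cone hT _ _ (by omega)).1 h)

theorem truncLE_of_orth (hT : Triangle.mk η d δ ∈ distTriang _) (hE : DCoh.IsQCohD E) (hN : DCoh.IsQCohD N)
    (hη : IsIso ((rho (punct fs).ι).map η)) {a : ℤ}
    (h : ∀ n : ℤ, n ≤ a → ∀ φ : (kosX fs)⟦-n⟧ ⟶ E, φ = 0) :
    IsIso (((DerivedCategory.TStructure.t : Triangulated.TStructure (DCoh.D (Spec (CommRingCat.of A)))).truncLE (a - 1)).map η) := by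
  refine (DerivedCategory.TStructure.t).isIso₁_truncLE_map_of_isGE _ hT (a - 1) a (by omega) ?_
  exact (DerivedCategory.isGE_iff G a).2 fun i hi => isZero_HD_cone_of_orth hT hE hN hη i (h _ (by omega))

theorem orth_of_truncLE (hT : Triangle.mk η d δ ∈ distTriang _) {a : ℤ}
    (h : IsIso (((DerivedCategory.TStructure.t : Triangulated.TStructure (DCoh.D (Spec (CommRingCat.of A)))).truncLE (a - 1)).map η))
    (n : ℤ) (hn : n ≤ a - 1) : ∀ φ : (kosX fs)⟦-n⟧ ⟶ E, φ = 0 := by
  have hG : G.IsGE (a - 1) := (DerivedCategory.isGE_iff G (a - 1)).2 fun i hi =>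
    isZero_HD_cone hT i (haveI := isIso_HD_of_truncLE η h i (by omega); inferInstance)
      (haveI := isIso_HD_of_truncLE η h (i + 1) (by omega); inferInstance)
  exact (orth_iff_cone hT (-n) (-(n - 1)) (by omega)).2 fun φ => eq_zero_kos_of_isGE hG (by omega) φ

theorem truncGE_of_orth (hT : Triangle.mk η d δ ∈ distTriang _) (hE : DCoh.IsQCohD E) (hN : DCoh.IsQCohD N)
    (hη : IsIso ((rho (punct fs).ι).map η)) {a : ℤ}
    (h : ∀ n : ℤ, a ≤ n → ∀ φ : (kosX fs)⟦-n⟧ ⟶ E, φ = 0) :
    IsIso (((DerivedCategory.TStructure.t : Triangulated.TStructure (DCoh.D (Spec (CommRingCat.of A)))).truncGE a).map η) :=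
  isIso_truncGE_map hT ((DerivedCategory.isLE_iff G (a - 2)).2 fun i hi =>
    isZero_HD_cone_of_orth hT hE hN hη i (h _ (by omega)))

theorem orth_of_truncGE (hT : Triangle.mk η d δ ∈ distTriang _) (hE : DCoh.IsQCohD E) (hN : DCoh.IsQCohD N)
    (hη : IsIso ((rho (punct fs).ι).map η)) {a : ℤ}
    (h : IsIso (((DerivedCategory.TStructure.t : Triangulated.TStructure (DCoh.D (Spec (CommRingCat.of A)))).truncGE a).map η))
    (n : ℤ) (hn : a + (fs.length : ℤ) ≤ n) : ∀ φ : (kosX fs)⟦-n⟧ ⟶ E, φ = 0 := by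
  let Hh := fun i : ℤ => DerivedCategory.homologyFunctor (Spec (CommRingCat.of A)).Modules i
  obtain ⟨hG, -⟩ := cone_data hT hE hN hη
  have hGle : G.IsLE (a - 1) := (DerivedCategory.isLE_iff G (a - 1)).2 fun i hi =>
    isZero_HD_cone hT i (haveI := isIso_homology_of_truncGE η h i (by omega); inferInstance)
      (haveI := isIso_homology_of_truncGE η h (i + 1) (by omega); inferInstance)
  refine (orth_iff_cone hT (-n) (-(n - 1)) (by omega)).2 fun φ => ?_
  obtain ⟨W, B, ι, g, k, hWT, hW, -, hι, -⟩ := exists_trunc ((DCoh.Rpush (punct fs).ι).obj N) a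
  obtain ⟨hWq, -⟩ := isQCohD_trunc hWT hW hι (isQCohD_rpush_punct hN)
  obtain ⟨C, p, l, hC⟩ := distinguished_cocone_triangle (ι ≫ d)
  have hCle : C.IsLE (a - 2) := (DerivedCategory.isLE_iff C (a - 2)).2 fun i hi => by
    haveI := hW
    refine isZero_HD_cone hC i ?_ ⟨fun _ _ _ => (W.isZero_of_isLE (a - 1) (i + 1) (by omega)).eq_of_tgt _ _⟩
    by_cases hi' : i = a - 1
    · haveI := hι i (by omega)
      haveI : Mono ((Hh (i + 1)).map η) := by
        haveI := isIso_homology_of_truncGE η h (i + 1) (by omega); infer_instance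
      haveI : Epi ((Hh i).map d) := by
        have hd0 := (DerivedCategory.HomologySequence.mono_homologyMap_mor₁_iff _ hT i (i + 1)).1
          (inferInstance : Mono ((Hh (i + 1)).map η))
        exact (DerivedCategory.HomologySequence.epi_homologyMap_mor₂_iff _ hT i (i + 1)).2 hd0
      rw [Functor.map_comp]
      exact epi_comp _ _
    · haveI := hGle
      exact ⟨fun _ _ _ => (G.isZero_of_isLE (a - 1) i (by omega)).eq_of_src _ _⟩
  have hCq : DCoh.IsQCohD C := isQCohD_obj₃ hC hWq hG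
  obtain ⟨ψ, hψ⟩ := Triangle.coyoneda_exact₂ _ hC φ (eq_zero_kos_of_isLE hCq hCle (by omega) _)
  rw [hψ]
  change ψ ≫ ι ≫ d = 0
  rw [← Category.assoc, eq_zero_to_push (fun K => bijective_rpush N K) _ (ψ ≫ ι), zero_comp]

omit [PreservesFiniteLimits (tilde.functor (CommRingCat.of A))] in
/-- The unit of `j^* ⊣ Rj_*` restricts to an isomorphism. -/
lemma isIso_rho_unit (adj : rho (punct fs).ι ⊣ DCoh.Rpush (punct fs).ι) (E : DCoh.D (Spec (CommRingCat.of A))) :
    IsIso ((rho (punct fs).ι).map (adj.unit.app E)) := by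
  obtain ⟨e, -⟩ := exists_rpush_data (punct fs).ι ((rho (punct fs).ι).obj E)
  haveI := isIso_counit_of_bij adj _ e (bijective_rpush _)
  rw [show (rho (punct fs).ι).map (adj.unit.app E) = inv (adj.counit.app ((rho (punct fs).ι).obj E)) from
    IsIso.eq_inv_of_inv_hom_id (adj.left_triangle_components E)]
  infer_instance

/-- Koszul orthogonality characterises the essential image of `Rj_*`. -/
theorem orth_iff_push (hE : DCoh.IsQCohD E) :
    (∃ M : DCoh.D (punct fs : Scheme.{u}), DCoh.IsQCohD M ∧ Nonempty (E ≅ (DCoh.Rpush (punct fs).ι).obj M)) ↔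
      ∀ (n : ℤ) (φ : (kosX fs)⟦n⟧ ⟶ E), φ = 0 := by
  constructor
  · rintro ⟨M, -, ⟨e⟩⟩ n φ
    rw [← cancel_mono e.hom, zero_comp]
    exact eq_zero_to_push (fun K => bijective_rpush M K) n _
  · intro h
    let M := (rho (punct fs).ι).obj E
    have hM : DCoh.IsQCohD M := isQCohD_rho _ hE
    obtain ⟨e, hb⟩ := exists_rpush_data (punct fs).ι M
    obtain ⟨η, hη⟩ := (hb E).2 e.inv
    obtain ⟨G, d, δ, hT⟩ := distinguished_cocone_triangle η
    have hη' : IsIso ((rho (punct fs).ι).map η) := by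
      simp only at hη
      rw [hη]; infer_instance
    have hz : IsZero G := isZero_of_z0 fun x i => (DerSch.stalkFunctor _ x).map_isZero
      (isZero_HD_cone_of_orth hT hE hM hη' i (h _))
    haveI : IsIso η := (Triangle.isZero₃_iff_isIso₁ _ hT).1 hz
    exact ⟨M, hM, ⟨asIso η⟩⟩

end Groth.Agent.Perf52
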