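import Groth.Agent.Perf52.Summand

/-!
# Objects whose terms may be taken in degrees at least `n`
-/

set_option linter.style.haveILetI false
set_option backward.isDefEq.respectTransparency false

universe u

open CategoryTheory CategoryTheory.Limits AlgebraicGeometry TopologicalSpace Pretriangulated

attribute [local instance] HasDerivedCategory.standard

namespace Groth.Agent.Perf52

open Groth.Agent.KFlatLib

variable {X U : Scheme.{u}}

/-- On affine opens there are no maps to quasi-coherent objects in degrees below `n`. -/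
def LowOn (K : DCoh.D X) (n : ℤ) : Prop :=
  ∀ (W : Scheme.{u}) [IsAffine W] (l : W ⟶ X) [IsOpenImmersion l] (L : DCoh.D W),
    DCoh.IsQCohD L → L.IsLE (n - 1) → ∀ φ : (rho l).obj K ⟶ L, φ = 0

lemma LowOn.of_iso {K K' : DCoh.D X} {n : ℤ} (e : K ≅ K') (h : LowOn K n) : LowOn K' n :=
  fun W _ l _ L hL hL' φ => by
    rw [← cancel_epi ((rho l).map e.hom), comp_zero]
    exact h W l L hL hL' _

lemma LowOn.mono {K : DCoh.D X} {n n' : ℤ} (h : LowOn K n) (hn : n' ≤ n) : LowOn K n' :=
  fun W _ l _ L hL hL' φ => h W l L hL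
    (DerivedCategory.TStructure.t.isLE_of_le L (n' - 1) (n - 1) (by omega)) φ

lemma LowOn.shift {K : DCoh.D X} {n : ℤ} (h : LowOn K n) (s : ℤ) : LowOn (K⟦s⟧) (n - s) :=
  fun W _ l _ L hL hL' φ => by
    haveI := hL'
    let e := ((rho l).commShiftIso s).app K
    rw [← cancel_epi e.inv, comp_zero]
    refine (shiftFunctor (DCoh.D W) (-s)).map_injective
      ((cancel_epi ((shiftFunctorCompIsoId (DCoh.D W) s (-s) (by omega)).app _).inv).1 ?_)
    rw [Functor.map_zero, comp_zero]
    exact h W l _ (isQCohD_shift hL _)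
      (DerivedCategory.TStructure.t.isLE_shift L (n - s - 1) (-s) (n - 1) (by omega)) _

lemma lowOn_obj₂ {T : Triangle (DCoh.D X)} (hT : T ∈ distTriang _) {n : ℤ}
    (h₁ : LowOn T.obj₁ n) (h₃ : LowOn T.obj₃ n) : LowOn T.obj₂ n := fun W _ l _ L hL hL' φ => by
  obtain ⟨χ, hχ⟩ := Triangle.yoneda_exact₂ _ ((rho l).map_distinguished _ hT) φ (h₁ W l L hL hL' _)
  rw [hχ, h₃ W l L hL hL' χ]
  exact comp_zero

lemma LowOn.rho {K : DCoh.D X} {n : ℤ} (h : LowOn K n) (j : U ⟶ X) [IsOpenImmersion j] :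
    LowOn ((Groth.Agent.KFlatLib.rho j).obj K) n := fun W _ l _ L hL hL' φ => by
  rw [← cancel_epi (rhoComp l j (l ≫ j) rfl K).inv, comp_zero]
  exact h W (l ≫ j) L hL hL' _

lemma lowOn_of_rho (j : U ⟶ X) [IsOpenImmersion j] [Surjective j] {K : DCoh.D X} {n : ℤ}
    (h : LowOn ((rho j).obj K) n) : LowOn K n := fun W _ l _ L hL hL' φ => by
  haveI : IsIso j := (isIso_iff_isOpenImmersion_and_surjective j).2 ⟨inferInstance, inferInstance⟩
  rw [← cancel_epi (rhoComp (l ≫ inv j) j l (by simp) K).hom, comp_zero]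
  exact h W (l ≫ inv j) L hL hL' _

/-- Finite locally free modules in degree `n`. -/
lemma lowOn_inD {F : X.Modules} (hF : FlatMod.IsFinLocFree F) (n : ℤ) :
    LowOn ((DCoh.inD X F)⟦-n⟧) n := by
  have h0 : LowOn (DCoh.inD X F) 0 := fun W _ l _ L hL hL' φ => by
    let e := ((Scheme.Modules.restrictFunctor l).mapDerivedCategorySingleFunctor 0).app F
    haveI : L.IsLE (-1) := hL'
    rw [← cancel_epi e.inv, comp_zero]
    exact eq_zero_of_isFinLocFree_affine
      (H23.PullPush.isFinLocFree_of_iso ((Scheme.Modules.restrictFunctorIsoPullback l).app F).symm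
        (isFinLocFree_pullback l hF)) hL _
  simpa using h0.shift (-n)

lemma isGE_obj₂ {T : Triangle (DCoh.D X)} (hT : T ∈ distTriang _) {n : ℤ}
    (h₁ : T.obj₁.IsGE n) (h₃ : T.obj₃.IsGE n) : T.obj₂.IsGE n :=
  DerivedCategory.TStructure.t.isGE₂ T hT n h₁ h₃

lemma isGE_of_iso {K K' : DCoh.D X} {n : ℤ} (e : K ≅ K') (h : K.IsGE n) : K'.IsGE n :=
  haveI := h
  DerivedCategory.TStructure.t.isGE_of_iso e n

end Groth.Agent.Perf52
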