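import Groth.Agent.Perf52.GeneratorGlobal
import Groth.Agent.Algz7.Restrict
import Groth.Prelude.Def_KLin

/-!
# Global functions act nilpotently on maps from perfect objects to objects supported on their zero locus
-/

set_option linter.style.haveILetI false
set_option backward.isDefEq.respectTransparency false

universe u v w

open CategoryTheory CategoryTheory.Limits AlgebraicGeometry TopologicalSpace Pretriangulated

attribute [local instance] HasDerivedCategory.standard

namespace Groth.Agent.Perf52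

open Groth.Agent.KFlatLib

/-- Iterates of an endomorphism. -/
def ePow {C : Type*} [Category C] {K : C} (e : K ⟶ K) : ℕ → (K ⟶ K)
  | 0 => 𝟙 K
  | n + 1 => ePow e n ≫ e

lemma ePow_add {C : Type*} [Category C] {K : C} (e : K ⟶ K) (m n : ℕ) :
    ePow e (m + n) = ePow e m ≫ ePow e n := by
  induction n with
  | zero => exact (Category.comp_id _).symm
  | succ n ih => rw [← add_assoc, ePow, ih, Category.assoc]; rfl

lemma ePow_map {C D : Type*} [Category C] [Category D] (F : C ⥤ D) {K : C} (e : K ⟶ K) (n : ℕ) :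
    F.map (ePow e n) = ePow (F.map e) n := by
  induction n with
  | zero => exact F.map_id K
  | succ n ih => rw [ePow, F.map_comp, ih]; rfl

lemma ePow_natural {C : Type*} [Category C] {K L : C} {e : K ⟶ K} {e' : L ⟶ L} {g : K ⟶ L}
    (h : e ≫ g = g ≫ e') (n : ℕ) : ePow e n ≫ g = g ≫ ePow e' n := by
  induction n with
  | zero => exact (Category.id_comp g).trans (Category.comp_id g).symm
  | succ n ih => rw [ePow, ePow, Category.assoc, h, ← Category.assoc, ih, Category.assoc]

lemma pow_smul_eq_comp_ePow {A : Type*} [CommRing A] {C : Type*} [Category C] [Preadditive C]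
    [Linear A C] {K L : C} (a : A) (n : ℕ) (φ : K ⟶ L) : a ^ n • φ = φ ≫ ePow (a • 𝟙 L) n := by
  induction n with
  | zero => simp [ePow]
  | succ n ih => rw [pow_succ', mul_smul, ih, ePow, ← Category.assoc, Linear.comp_smul, Category.comp_id]

instance homologyFunctor_linear_gen {A : Type w} [CommRing A] {C : Type (u + 1)} [Category.{u} C]
    [Abelian C] [Linear A C] (i : ℤ) :
    Functor.Linear A (DerivedCategory.homologyFunctor C i) := by
  haveI : Functor.Linear A (HomologicalComplex.homologyFunctor C (ComplexShape.up ℤ) i) :=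
    ⟨fun φ r => ShortComplex.homologyMap_smul
      ((HomologicalComplex.shortComplexFunctor C (ComplexShape.up ℤ) i).map φ) r⟩
  let _ : Localization.Lifting (DerivedCategory.Q (C := C))
      (HomologicalComplex.quasiIso C (ComplexShape.up ℤ))
      (HomologicalComplex.homologyFunctor C (ComplexShape.up ℤ) i)
      (DerivedCategory.homologyFunctor C i) :=
    ⟨DerivedCategory.homologyFunctorFactors C i⟩
  exact (Localization.functor_linear_iff (DerivedCategory.Q (C := C))
    (HomologicalComplex.quasiIso C (ComplexShape.up ℤ)) A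
    (HomologicalComplex.homologyFunctor C (ComplexShape.up ℤ) i)
    (DerivedCategory.homologyFunctor C i)).1 inferInstance

variable {X U : Scheme.{u}}

/-- `e` is multiplication by `r` on every cohomology sheaf. -/
def ActBy (r : Coh.Γtop X) {K : DCoh.D X} (e : K ⟶ K) : Prop :=
  ∀ i : ℤ, (DerivedCategory.homologyFunctor X.Modules i).map e = Formal.smulModΓ (DCoh.HD K i) r

lemma actBy_smul {A : Type u} [CommRing A] [X.Over (Spec (CommRingCat.of A))] (a : A) (K : DCoh.D X) :
    ActBy (Coh.toGlobal (X ↘ Spec (CommRingCat.of A)) a) (a • 𝟙 K) := fun i => by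
  rw [Functor.map_smul, CategoryTheory.Functor.map_id]
  exact KLin.smul_id _ a

lemma ActBy.of_iso {r : Coh.Γtop X} {K L : DCoh.D X} {e : K ⟶ K} (h : ActBy r e) (f : K ≅ L) :
    ActBy r (f.inv ≫ e ≫ f.hom) := fun i => by
  rw [Functor.map_comp, Functor.map_comp, h i, ← KLin.comp_smulModΓ, ← Category.assoc,
    ← Functor.map_comp, Iso.inv_hom_id, CategoryTheory.Functor.map_id, Category.id_comp]

lemma restrict_smulModΓ (j : U ⟶ X) [IsOpenImmersion j] (M : X.Modules) (r : Γ(X, ⊤)) :
    (Scheme.Modules.restrictFunctor j).map (Formal.smulModΓ M r) =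
      Formal.smulModΓ ((Scheme.Modules.restrictFunctor j).obj M) (j.appTop r) := by
  apply SheafOfModules.Hom.ext
  ext V m
  exact congrArg (· • (show Γ(M, j ''ᵁ V.unop) from m)) (Algz7.appIso_inv_res j V.unop r)

lemma ActBy.rho {r : Γ(X, ⊤)} {K : DCoh.D X} {e : K ⟶ K} (h : ActBy r e) (j : U ⟶ X)
    [IsOpenImmersion j] : ActBy (j.appTop r) ((Groth.Agent.KFlatLib.rho j).map e) := fun i => by
  refine (cancel_mono (restrictHDIso j K i).hom).1 ?_
  refine Eq.trans ((mapDCHomologyIso (Scheme.Modules.restrictFunctor j) i).hom.naturality e) ?_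
  have h1 : (DerivedCategory.homologyFunctor X.Modules i ⋙ Scheme.Modules.restrictFunctor j).map e =
      Formal.smulModΓ ((Scheme.Modules.restrictFunctor j).obj (DCoh.HD K i)) (j.appTop r) := by
    rw [Functor.comp_map, h i]
    exact restrict_smulModΓ j _ r
  rw [h1]
  exact KLin.comp_smulModΓ (restrictHDIso j K i).hom _

section Spec

variable {R : CommRingCat.{u}} [PreservesFiniteLimits (tilde.functor R)]

omit [PreservesFiniteLimits (tilde.functor R)] in
lemma smulModΓ_tilde (N : ModuleCat.{u} R) (r : R) :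
    Formal.smulModΓ ((tilde.functor R).obj N) ((Scheme.ΓSpecIso R).inv r) =
      (tilde.functor R).map (r • 𝟙 N) := by
  obtain ⟨g, hg⟩ := (tilde.functor R).map_surjective
    (Formal.smulModΓ ((tilde.functor R).obj N) ((Scheme.ΓSpecIso R).inv r))
  rw [← hg]
  refine congrArg _ ((cancel_mono ((tilde.toTildeΓNatIso (R := R)).app N).hom).1 ?_)
  have hn := (tilde.toTildeΓNatIso (R := R)).hom.naturality g
  simp only [Functor.id_map, Functor.comp_map] at hn
  rw [hg] at hn
  refine hn.trans ?_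
  ext m
  change (Formal.smulModΓ ((tilde.functor R).obj N) ((Scheme.ΓSpecIso R).inv r)).app ⊤
      (((tilde.toTildeΓNatIso (R := R)).hom.app N) m) =
    ((tilde.toTildeΓNatIso (R := R)).hom.app N) (r • m)
  rw [KLin.smulModΓ_app_apply, map_smul]
  have hid : (Spec R).presheaf.map (homOfLE (le_top : (⊤ : (Spec R).Opens) ≤ ⊤)).op = 𝟙 _ :=
    (Spec R).presheaf.map_id _
  erw [hid]
  rfl

/-- Torsion against perfect objects, for an endomorphism. -/
theorem exists_ePow_eq_zero {P : DerivedCategory (ModuleCat.{u} R)} (hP : DRing.IsPerfect R P) :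
    ∀ (M : DerivedCategory (ModuleCat.{u} R)) (e : M ⟶ M),
      (∀ (i : ℤ) (φ : (DerivedCategory.singleFunctor (ModuleCat.{u} R) i).obj (ModuleCat.of R R) ⟶ M),
        ∃ n : ℕ, φ ≫ ePow e n = 0) → ∀ φ : P ⟶ M, ∃ n : ℕ, φ ≫ ePow e n = 0 := by
  refine perfect_induction (A := R) (fun P : Dual.D R => ∀ (M : DerivedCategory (ModuleCat.{u} R))
    (e : M ⟶ M),
      (∀ (i : ℤ) (φ : (DerivedCategory.singleFunctor (ModuleCat.{u} R) i).obj (ModuleCat.of R R) ⟶ M),
        ∃ n : ℕ, φ ≫ ePow e n = 0) → ∀ φ : P ⟶ M, ∃ n : ℕ, φ ≫ ePow e n = 0) ?_ ?_ ?_ ?_ hP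
  · intro K K' e h M ε hM φ
    obtain ⟨n, hn⟩ := h M ε hM (e.hom ≫ φ)
    exact ⟨n, by rw [← cancel_epi e.hom, ← Category.assoc, hn, comp_zero]⟩
  · intro T hT h₁ h₃ M ε hM φ
    obtain ⟨a, ha⟩ := h₁ M ε hM (T.mor₁ ≫ φ)
    obtain ⟨ψ, hψ⟩ := Triangle.yoneda_exact₂ _ hT (φ ≫ ePow ε a) (by rw [← Category.assoc, ha])
    obtain ⟨b, hb⟩ := h₃ M ε hM ψ
    exact ⟨a + b, by rw [ePow_add, ← Category.assoc, hψ, Category.assoc, hb, comp_zero]⟩
  · intro K K' i r hir h M ε hM φ
    obtain ⟨n, hn⟩ := h M ε hM (r ≫ φ)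
    refine ⟨n, ?_⟩
    rw [← Category.id_comp φ, ← hir, Category.assoc, Category.assoc, ← Category.assoc r, hn, comp_zero]
  · intro n M ε hM φ
    let e := ((DerivedCategory.singleFunctors (ModuleCat.{u} R)).shiftIso n (-n) 0 (by omega)).app
      (ModuleCat.of R R)
    obtain ⟨k, hk⟩ := hM (-n) (e.inv ≫ φ)
    exact ⟨k, by rw [← cancel_epi e.inv, ← Category.assoc, hk, comp_zero]⟩

theorem nilp_spec (r : R) {P E : DCoh.D (Spec R)} (hP : DCoh.IsPerfect P) (hE : DCoh.IsQCohD E)
    (hsupp : SuppOn E (PrimeSpectrum.zeroLocus {r} : Set (Spec R : Scheme.{u}))) {e : E ⟶ E}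
    (he : ActBy (X := Spec R) ((Scheme.ΓSpecIso R).inv r) e) (φ : P ⟶ E) : ∃ n : ℕ, φ ≫ ePow e n = 0 := by
  obtain ⟨M, ⟨eM⟩⟩ := exists_tildeD_iso hE
  obtain ⟨P', ⟨eP⟩⟩ := exists_tildeD_iso (isQCohD_of_isPerfect hP)
  obtain ⟨e₀, he₀⟩ : ∃ e₀, (DCoh.tildeD R).map e₀ = eM.hom ≫ e ≫ eM.inv :=
    (tildeD_map_bijective M M).2 (eM.hom ≫ e ≫ eM.inv)
  have hE' : ActBy (X := Spec R) ((Scheme.ΓSpecIso R).inv r) ((DCoh.tildeD R).map e₀) := he₀ ▸ he.of_iso eM.symm
  have hH : ∀ i, (DerivedCategory.homologyFunctor (ModuleCat.{u} R) i).map e₀ = r • 𝟙 _ := fun i => by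
    refine (tilde.functor R).map_injective ?_
    rw [← smulModΓ_tilde]
    refine (cancel_epi ((mapDCHomologyIso (tilde.functor R) i).hom.app M)).1 ?_
    refine ((mapDCHomologyIso (tilde.functor R) i).hom.naturality e₀).symm.trans ?_
    refine (congrArg (· ≫ _) (hE' i)).trans ?_
    exact (KLin.comp_smulModΓ _ _).symm
  have hT : Tors r M := (suppOn_tildeD_iff M {r}).1 (hsupp.of_iso eM.symm) r rfl
  obtain ⟨ψ, hψ⟩ : ∃ ψ, (DCoh.tildeD R).map ψ = eP.hom ≫ φ ≫ eM.inv :=
    (tildeD_map_bijective P' M).2 (eP.hom ≫ φ ≫ eM.inv)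
  obtain ⟨n, hn⟩ := exists_ePow_eq_zero ((isPerfect_iff_dring P').1 (isPerfect_of_iso eP.symm hP)) M e₀
    (fun i χ => by
      obtain ⟨n, hn⟩ := hT i χ
      refine ⟨n, ?_⟩
      haveI : Projective (ModuleCat.of R R) := inferInstance
      refine (bijective_psiC_of_projective i M).1 ((?_ : _ = psiC i _ M (r ^ n • χ)).trans (by rw [hn]))
      rw [psiC, psiC, Functor.map_comp, ePow_map, hH, Functor.map_smul, pow_smul_eq_comp_ePow]) ψ
  refine ⟨n, ?_⟩
  have h2 := congrArg (DCoh.tildeD R).map hn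
  rw [Functor.map_comp, hψ, ePow_map, he₀, Functor.map_zero,
    Category.assoc, Category.assoc,
    ← ePow_natural (e := e) (g := eM.inv) (by simp) n] at h2
  rw [← cancel_epi eP.hom, ← cancel_mono eM.inv, comp_zero, zero_comp]
  simpa using h2

end Spec

end Groth.Agent.Perf52
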