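import Groth.Agent.Perf52.Nilp

/-!
# Nilpotence of global functions on maps from perfect objects, globally
-/

set_option linter.style.haveILetI false
set_option backward.isDefEq.respectTransparency false

universe u

open CategoryTheory CategoryTheory.Limits AlgebraicGeometry TopologicalSpace Pretriangulated

attribute [local instance] HasDerivedCategory.standard

namespace Groth.Agent.Perf52

open Groth.Agent.KFlatLib

variable {X : Scheme.{u}}

/-- Maps into an object supported in an open are detected on that open. -/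
lemma eq_zero_of_rho_of_suppOn [QuasiSeparatedSpace X] (O : X.Opens) [QuasiCompact O.ι] {T : Set X}
    (hT : IsClosed T) (hTO : T ⊆ (O : Set X)) {B : DCoh.D X} (hB : DCoh.IsQCohD B) (hBT : SuppOn B T)
    {K : DCoh.D X} (χ : K ⟶ B) (hχ : (rho O.ι).map χ = 0) : χ = 0 := by
  obtain ⟨M, e, -, hMT, hbij⟩ := exists_push_supp O hT ((rho O.ι).obj B) (isQCohD_rho O.ι hB) (hBT.rho O.ι)
  obtain ⟨u, hu⟩ : ∃ u : B ⟶ M, (rho O.ι).map u = e.inv := (hbij B).2 e.inv
  obtain ⟨C, g, d, hT'⟩ := distinguished_cocone_triangle₁ u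
  have hC : IsZero C := isZero_of_z0 fun x => by
    by_cases hx : x ∈ O
    · have h1 : IsZero ((rho O.ι).obj C) := by
        haveI : IsIso ((rho O.ι).map u) := hu ▸ inferInstance
        exact (Triangle.isZero₁_iff_isIso₂ _ ((rho O.ι).map_distinguished _ hT')).2 ‹_›
      exact (isZero_rho_obj_iff O.ι C).1 h1 ⟨x, hx⟩
    · exact suppOn_obj₁ hT' hBT hMT x fun h => hx (hTO h)
  haveI : IsIso u := (Triangle.isZero₁_iff_isIso₂ _ hT').1 hC
  rw [← cancel_mono u, zero_comp]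
  exact (hbij K).1 (show (rho O.ι).map (χ ≫ u) = (rho O.ι).map 0 by
    rw [Functor.map_comp, hχ, zero_comp, Functor.map_zero])

variable {A : Type u} [CommRing A] [X.Over (Spec (CommRingCat.of A))] [CompactSpace X]
  [QuasiSeparatedSpace X]

theorem exists_pow_smul_eq_zero_supported (a : A) {P E : DCoh.D X} (hP : DCoh.IsPerfect P)
    (hE : DCoh.IsQCohD E)
    (hsupp : SuppOn E (X.zeroLocus (U := ⊤) {Coh.toGlobal (X ↘ Spec (CommRingCat.of A)) a}))
    (φ : P ⟶ E) : ∃ n : ℕ, a ^ n • φ = 0 := by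
  let r : Γ(X, ⊤) := Coh.toGlobal (X ↘ Spec (CommRingCat.of A)) a
  let Z : Set X := X.zeroLocus (U := ⊤) {r}
  let G : X.Opens → Prop := fun W => ∀ P E : DCoh.D X, DCoh.IsPerfect P → DCoh.IsQCohD E →
    SuppOn E Z → ∀ φ : P ⟶ E, ∃ n : ℕ, (rho W.ι).map (φ ≫ ePow (a • 𝟙 E) n) = 0
  have haff : ∀ W : X.Opens, IsAffineOpen W → G W := by
    intro W hW P E hP hE hET φ
    haveI : IsAffine (W : Scheme.{u}) := hW
    let i : Spec Γ(W, ⊤) ⟶ (W : Scheme.{u}) := (W : Scheme.{u}).isoSpec.inv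
    let j : Spec Γ(W, ⊤) ⟶ X := i ≫ W.ι
    haveI : Surjective i := inferInstance
    haveI : PreservesFiniteLimits (tilde.functor Γ(W, ⊤)) := inferInstance
    let r₀ : Γ(W, ⊤) := (Scheme.ΓSpecIso Γ(W, ⊤)).hom (j.appTop r)
    have hr : (Scheme.ΓSpecIso Γ(W, ⊤)).inv r₀ = j.appTop r :=
      (Scheme.ΓSpecIso Γ(W, ⊤)).hom_inv_id_apply _
    have hact : ActBy (X := Spec Γ(W, ⊤)) ((Scheme.ΓSpecIso Γ(W, ⊤)).inv r₀) ((rho j).map (a • 𝟙 E)) :=
      hr.symm ▸ (actBy_smul a E).rho j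
    have hpre : j.base ⁻¹' Z = (PrimeSpectrum.zeroLocus {r₀} : Set (Spec Γ(W, ⊤) : Scheme.{u})) := by
      simp only [Z, Scheme.zeroLocus_singleton]
      rw [Set.preimage_compl, ← compl_compl (PrimeSpectrum.zeroLocus {r₀}),
        ← PrimeSpectrum.basicOpen_eq_zeroLocus_compl, ← basicOpen_eq_of_affine, hr,
        ← Scheme.preimage_basicOpen_top]
      rfl
    obtain ⟨n, hn⟩ := nilp_spec r₀ (isPerfect_rho j hP) (isQCohD_rho j hE) (hpre ▸ hET.rho j) hact
      ((rho j).map φ)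
    refine ⟨n, rho_map_injective i ?_⟩
    rw [Functor.map_zero, ← cancel_mono ((rhoC i W.ι j rfl).hom.app E), zero_comp]
    refine ((rhoC i W.ι j rfl).hom.naturality _).trans ?_
    rw [Functor.map_comp, ePow_map, hn, comp_zero]
  have hbot : G ⊥ := haff ⊥ (isAffineOpen_bot X)
  have hstep : ∀ U V : X.Opens, IsCompact (U : Set X) → IsCompact (V : Set X) →
      IsCompact ((U ⊓ V : X.Opens) : Set X) → G U → G V → G (U ⊓ V) → G (U ⊔ V) := by
    rintro U V hUc hVc - hU hV - P E hP hE hET φ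
    haveI : QuasiCompact U.ι := QCoh.quasiCompact_ι_of_compact U hUc
    obtain ⟨n, hn⟩ := hU P E hP hE hET φ
    obtain ⟨M, e, hMq, hMT, hbij⟩ :=
      exists_push_supp U (T := Z) (X.zeroLocus_isClosed _) ((rho U.ι).obj E) (isQCohD_rho U.ι hE) (hET.rho U.ι)
    obtain ⟨u, hu⟩ : ∃ u : E ⟶ M, (rho U.ι).map u = e.inv := (hbij E).2 e.inv
    obtain ⟨E', g, d, hT⟩ := distinguished_cocone_triangle₁ u
    have hE'U : ∀ x ∈ U, Z0 E' x := fun x hx => by
      have h1 : IsZero ((rho U.ι).obj E') := by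
        haveI : IsIso ((rho U.ι).map u) := hu ▸ inferInstance
        exact (Triangle.isZero₁_iff_isIso₂ _ ((rho U.ι).map_distinguished _ hT)).2 ‹_›
      exact (isZero_rho_obj_iff U.ι E').1 h1 ⟨x, hx⟩
    have hE'q : DCoh.IsQCohD E' := isQCohD_obj₁ hT hE hMq
    have hE'T : SuppOn E' Z := suppOn_obj₁ hT hET hMT
    have hz : (φ ≫ ePow (a • 𝟙 E) n) ≫ u = 0 := (hbij P).1 (show (rho U.ι).map _ = (rho U.ι).map 0 by
      rw [Functor.map_comp, hn, zero_comp, Functor.map_zero])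
    obtain ⟨ψ, hψ⟩ := Triangle.coyoneda_exact₂ _ hT (φ ≫ ePow (a • 𝟙 E) n) hz
    change P ⟶ E' at ψ
    change φ ≫ ePow (a • 𝟙 E) n = ψ ≫ g at hψ
    obtain ⟨m, hm⟩ := hV P E' hP hE'q hE'T ψ
    refine ⟨n + m, ?_⟩
    rw [ePow_add, ← Category.assoc, hψ, Category.assoc,
      ← ePow_natural (e := a • 𝟙 E') (g := g) (by simp) m, ← Category.assoc, Functor.map_comp]
    suffices h : (rho (U ⊔ V).ι).map (ψ ≫ ePow (a • 𝟙 E') m) = 0 by rw [h, zero_comp]
    let W := U ⊔ V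
    have hWc : IsCompact (W : Set X) := by simpa [W] using hUc.union hVc
    haveI : CompactSpace (W : Scheme.{u}) := isCompact_iff_compactSpace.1 hWc
    haveI : QuasiSeparatedSpace (W : Scheme.{u}) := quasiSeparatedSpace_of_quasiSeparated W.ι
    let O : (W : Scheme.{u}).Opens := W.ι ⁻¹ᵁ V
    have hOc : IsCompact (O : Set (W : Scheme.{u})) := by
      refine W.ι.isOpenEmbedding.isInducing.isCompact_iff.2 ?_
      change IsCompact (W.ι.base '' (W.ι.base ⁻¹' (V : Set X)))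
      rw [Set.image_preimage_eq_inter_range, Scheme.Opens.range_ι]
      exact QuasiSeparatedSpace.inter_isCompact _ _ V.2 hVc W.2 hWc
    haveI : QuasiCompact O.ι := QCoh.quasiCompact_ι_of_compact O hOc
    refine eq_zero_of_rho_of_suppOn O (T := W.ι.base ⁻¹' (Z ∩ (U : Set X)ᶜ))
      (((X.zeroLocus_isClosed _).inter U.2.isClosed_compl).preimage W.ι.continuous)
      (fun w hw => (Opens.mem_sup.1 w.2).resolve_left hw.2) (isQCohD_rho W.ι hE'q)
      (fun w hw => (z0_rho_iff W.ι E' w).2 ?_) _ ?_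
    · by_cases hwZ : W.ι.base w ∈ Z
      · exact hE'U _ (not_not.1 fun h => hw ⟨hwZ, h⟩)
      · exact hE'T _ hwZ
    let l : (O : Scheme.{u}) ⟶ V := IsOpenImmersion.lift V.ι (O.ι ≫ W.ι) (by
      rw [Scheme.Opens.range_ι]
      rintro _ ⟨w, rfl⟩
      exact w.2)
    have hl : l ≫ V.ι = O.ι ≫ W.ι := IsOpenImmersion.lift_fac _ _ _
    haveI : IsOpenImmersion l := by
      haveI : IsOpenImmersion (l ≫ V.ι) := hl ▸ inferInstance
      exact IsOpenImmersion.of_comp l V.ι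
    rw [← cancel_mono ((rhoC O.ι W.ι (O.ι ≫ W.ι) rfl).hom.app E'), zero_comp]
    refine ((rhoC O.ι W.ι (O.ι ≫ W.ι) rfl).hom.naturality _).trans ?_
    have h2 : (rho (O.ι ≫ W.ι)).map (ψ ≫ ePow (a • 𝟙 E') m) = 0 := by
      rw [← cancel_epi ((rhoC l V.ι (O.ι ≫ W.ι) hl).hom.app P), comp_zero]
      refine ((rhoC l V.ι (O.ι ≫ W.ι) hl).hom.naturality _).symm.trans ?_
      rw [Functor.comp_map, hm, Functor.map_zero, zero_comp]
    rw [h2, comp_zero]
  obtain ⟨n, hn⟩ := qc_induction G hbot (fun x => ⟨⊤, trivial, fun W hW _ => haff W hW⟩) hstep ⊤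
    (by simpa using isCompact_univ) P E hP hE hsupp φ
  refine ⟨n, ?_⟩
  haveI : Surjective (⊤ : X.Opens).ι := ⟨fun x => ⟨⟨x, trivial⟩, rfl⟩⟩
  rw [pow_smul_eq_comp_ePow]
  exact rho_map_injective (⊤ : X.Opens).ι (hn.trans (Functor.map_zero _ _ _).symm)

end Groth.Agent.Perf52
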