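import Groth.Agent.Perf52.ApproxOpen
import Groth.Agent.ConsPropLib.FibreLocFree
import Groth.Agent.Algz7.Restrict

/-!
# Perfect modules without higher `Ext` into quasi-coherent modules are locally free
-/

set_option linter.style.haveILetI false
set_option backward.isDefEq.respectTransparency false

universe u

open CategoryTheory CategoryTheory.Limits AlgebraicGeometry TopologicalSpace Pretriangulated

attribute [local instance] HasDerivedCategory.standard

namespace Groth.Agent.Perf52

open Groth.Agent.KFlatLib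

/-- A finite module without maps to objects in negative degrees is projective. -/
lemma projective_of_vanishing {S : CommRingCat.{u}} [PreservesFiniteLimits (tilde.functor S)]
    (N : ModuleCat.{u} S) [Module.Finite S N]
    (h : ∀ L : DCoh.D (Spec S), DCoh.IsQCohD L → L.IsLE (-1) →
      ∀ φ : (DCoh.tildeD S).obj ((DerivedCategory.singleFunctor (ModuleCat.{u} S) 0).obj N) ⟶ L, φ = 0) :
    Module.Projective S N := by
  obtain ⟨n, g, hg⟩ := Module.Finite.exists_fin' S N
  let π : ModuleCat.of S (Fin n → S) ⟶ N := ModuleCat.ofHom g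
  haveI : Epi π := (ModuleCat.epi_iff_surjective _).2 hg
  let SS := ShortComplex.mk (kernel.ι π) π (kernel.condition π)
  have hS : SS.ShortExact :=
    { exact := ShortComplex.exact_of_f_is_kernel _ (kernelIsKernel π) }
  let D₁ := ((DerivedCategory.singleFunctor (ModuleCat.{u} S) 0).obj (kernel π))⟦(1 : ℤ)⟧
  have hD : D₁.IsLE (-1) :=
    DerivedCategory.TStructure.t.isLE_shift
      ((DerivedCategory.singleFunctor (ModuleCat.{u} S) 0).obj (kernel π)) 0 1 (-1) (by omega)
  have hδ : hS.singleTriangle.mor₃ = 0 := by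
    refine (tildeD_map_bijective _ D₁).1 (Eq.trans (h _ (isQCohD_tildeD _ D₁) ?_ _) (Functor.map_zero _ _ _).symm)
    refine (DerivedCategory.isLE_iff _ _).2 fun i hi => ?_
    haveI := hD
    exact ((tilde.functor S).map_isZero (D₁.isZero_of_isLE (-1) i hi)).of_iso
      ((mapDCHomologyIso (tilde.functor S) i).app D₁)
  obtain ⟨σ, hσ⟩ := Triangle.coyoneda_exact₃ _ hS.singleTriangle_distinguished (𝟙 _)
    ((Category.id_comp _).trans hδ)
  obtain ⟨s, rfl⟩ := (DerivedCategory.singleFunctor (ModuleCat.{u} S) 0).map_surjective σ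
  have hs : s ≫ π = 𝟙 N := (DerivedCategory.singleFunctor (ModuleCat.{u} S) 0).map_injective
    (((Functor.map_comp _ _ _).trans hσ.symm).trans ((DerivedCategory.singleFunctor (ModuleCat.{u} S) 0).map_id N).symm)
  exact Module.Projective.of_split s.hom π.hom (congrArg ModuleCat.Hom.hom hs)

variable {X : Scheme.{u}}

/-- A sheaf of finite type which locally has no maps into objects in negative degrees is finite
locally free. -/
lemma isFinLocFree_of_vanishing {F : X.Modules} (hq : Coh.IsQCoh F) (hft : CohB1.IsFT F)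
    (h : ∀ x : X, ∃ (S : CommRingCat.{u}) (j : Spec S ⟶ X) (_ : IsOpenImmersion j),
      x ∈ Set.range j.base ∧ ∀ L : DCoh.D (Spec S), DCoh.IsQCohD L → L.IsLE (-1) →
        ∀ φ : (rho j).obj (DCoh.inD X F) ⟶ L, φ = 0) : FlatMod.IsFinLocFree F := by
  choose S j hj hx hv using h
  haveI := hj
  refine Groth.Agent.ConsPropLib.isFinLocFree_of_cover j (fun x => ⟨x, hx x⟩) fun x => ?_
  haveI : PreservesFiniteLimits (tilde.functor (S x)) := inferInstance
  obtain ⟨N, ⟨eN⟩⟩ := QCoh.isQCoh_spec_iff.1 (QCoh.isQCoh_restrict (j x) hq)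
  haveI : Module.Finite (S x) N :=
    (QCoh.isFT_tilde_iff N).1 (isFT_of_iso' eN.symm (Algz7.isFT_restrict (j x) hq hft))
  let e : (DCoh.tildeD (S x)).obj ((DerivedCategory.singleFunctor _ 0).obj N) ≅
      (rho (j x)).obj (DCoh.inD X F) :=
    ((tilde.functor (S x)).mapDerivedCategorySingleFunctor 0).app N ≪≫
      (DerivedCategory.singleFunctor _ 0).mapIso eN ≪≫
      (((Scheme.Modules.restrictFunctor (j x)).mapDerivedCategorySingleFunctor 0).app F).symm
  haveI : Module.Projective (S x) N := projective_of_vanishing N fun L hL hL' φ => by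
    rw [← cancel_epi e.inv, comp_zero]
    exact hv x L hL hL' _
  exact H23.PullPush.isFinLocFree_of_iso eN ((QCoh.isFinLocFree_tilde_iff N).2 ⟨inferInstance, inferInstance⟩)

end Groth.Agent.Perf52
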