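import Groth.Agent.Perf52.BaseChangeBridge
import Groth.Agent.Perf52.PushPerfTensor
import Groth.Agent.Perf52.AffineKill
import Groth.Agent.KFlatLib.Scheme.Tilde
import Groth.Agent.KFlatLib.Scheme.TildeAmp
import Groth.Agent.KFlatLib.Perfect.LocFree
import Groth.Agent.QCoh.LocFree
import Groth.Agent.KFlatLib.Scheme.RpushUnbounded

/-!
# Base change of perfect direct images along an affine morphism of affine bases, flat case
-/

set_option linter.style.haveILetI false

universe u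

open CategoryTheory CategoryTheory.Limits AlgebraicGeometry

attribute [local instance] HasDerivedCategory.standard

namespace Groth.Agent.Perf52

open Groth.Agent Groth.Agent.KFlatLib

variable {X S : Scheme.{u}}

lemma isFlatOver_of_finLocFree (f : X ⟶ S) [Flat f] {M : X.Modules} (hM : FlatMod.IsFinLocFree M) :
    FlatMod.IsFlatOver f M := fun x => by
  show FlatMod.IsFlatOverAt f M x
  unfold FlatMod.IsFlatOverAt
  letI := FlatMod.moduleStalkOver f M x
  letI : Algebra (S.presheaf.stalk (f.base x)) (X.presheaf.stalk x) := (f.stalkMap x).hom.toAlgebra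
  haveI : IsScalarTower (S.presheaf.stalk (f.base x)) (X.presheaf.stalk x) (M.presheaf.stalk x) :=
    IsScalarTower.of_algebraMap_smul fun _ _ => rfl
  haveI : Module.Flat (S.presheaf.stalk (f.base x)) (X.presheaf.stalk x) := Flat.stalkMap f x
  haveI := QCoh.free_stalk_of_isFinLocFree hM x
  exact Module.Flat.trans _ (X.presheaf.stalk x) _

/-- A perfect complex has bounded tor amplitude over the target of a flat morphism. -/
theorem exists_torAmplitude_of_perfect [CompactSpace X] (f : X ⟶ S) [Flat f] {E : DCoh.D X}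
    (hE : DCoh.IsPerfect E) :
    ∃ a b : ℤ, a ≤ b ∧ DerSch.HasTorAmplitude f a b (repK E) := by
  choose U j hj hx P hP e using (isPerfect_iff E).1 hE
  choose a b hab using fun x => (hP x).1
  obtain ⟨s, hs⟩ := isCompact_univ.elim_finite_subcover (fun x => Set.range (j x).base)
    (fun x => haveI := hj x; (j x).opensRange.2) fun x _ => Set.mem_iUnion.2 ⟨x, hx x⟩
  obtain ⟨A, hA⟩ := (s.image a).bddBelow
  obtain ⟨B, hB⟩ := (s.image b).bddAbove
  refine ⟨A, max A B, le_max_left _ _, fun y => ?_⟩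
  obtain ⟨x, hxs, z, rfl⟩ := Set.mem_iUnion₂.1 (hs (Set.mem_univ y))
  haveI := hj x
  haveI : Flat (j x ≫ f) := inferInstance
  have h1 := hA (Finset.mem_coe.2 (Finset.mem_image_of_mem a hxs))
  have h2 := hB (Finset.mem_coe.2 (Finset.mem_image_of_mem b hxs))
  obtain ⟨e'⟩ := e x
  exact (torAmpAt_restrict_iff f (j x) A (max A B) _ z).1 (torAmplitude_of_relFlat (j x ≫ f)
    ⟨P x, fun i hi => hab x i (by omega), fun i => isFlatOver_of_finLocFree _ ((hP x).2 i),
      ⟨e' ≪≫ (rho (j x)).mapIso (repKIso E).symm ≪≫ (rhoQ (j x)).app _⟩⟩ z)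

/-- Bounded flat complexes of modules computing `Rf_*` of a perfect complex. -/
theorem exists_flatRep_rpush {B : CommRingCat.{u}} (f : X ⟶ Spec B) [Flat f] [QuasiCompact f]
    [QuasiSeparated f] [DCoh.HasRpush f] {E : DCoh.D X} (hE : DCoh.IsPerfect E) :
    ∃ (F : CochainComplex (ModuleCat.{u} B) ℤ) (a b : ℤ), (∀ i, i < a ∨ b < i → IsZero (F.X i)) ∧
      (∀ i, Module.Flat B (F.X i)) ∧
      Nonempty (DerivedCategory.Q.obj ((tildeCx B).obj F) ≅ (DCoh.Rpush f).obj E) := by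
  haveI : CompactSpace X := QuasiCompact.compactSpace_of_compactSpace f
  obtain ⟨a, b, hab, hT⟩ := exists_torAmplitude_of_perfect f hE
  obtain ⟨b', hab', hb'⟩ := exists_torAmplitude_rpush f E (isQCohD_of_isPerfect hE) (repK E)
    (repKIso E) a b hab hT
  have hq : DCoh.IsQCohD ((DCoh.Rpush f).obj E) := isQCohD_rpush f (isQCohD_of_isPerfect hE)
  obtain ⟨M, ⟨eM⟩⟩ := exists_tildeD_iso hq
  obtain ⟨L, hL, hL', ⟨eL⟩⟩ := flatAmplitude_of_torAmplitude (fun G => hasLTensorMod G) hab' hb'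
  have hM : DCoh.HasFlatAmplitudeIn a b' ((DCoh.tildeD B).obj M) :=
    ⟨L, hL, hL', ⟨eL ≪≫ eM.symm⟩⟩
  obtain ⟨F, hz, hf, ⟨eF⟩⟩ := (flatAmplitude_tildeD_iff M a b').1 hM
  exact ⟨F, a, b', hz, hf, ⟨(toDTildeIso F).symm ≪≫ (DCoh.tildeD B).mapIso eF ≪≫ eM⟩⟩

lemma isKFlat_tildeCx_of_flat {B : CommRingCat.{u}} {F : CochainComplex (ModuleCat.{u} B) ℤ}
    {a b : ℤ} (hz : ∀ i, i < a ∨ b < i → IsZero (F.X i)) (hf : ∀ i, Module.Flat B (F.X i)) :
    DCoh.IsKFlat ((tildeCx B).obj F) :=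
  isKFlat_tilde F (H9Misc.DRingTor.isKF_of_flat hf (fun i hi => hz i (Or.inr hi)))

/-- The projection formula for `f : X ⟶ Spec A` flat, on complexes of tildes. -/
theorem nonempty_projTilde {A : CommRingCat.{u}} (f : X ⟶ Spec A) [Flat f] [QuasiCompact f]
    [QuasiSeparated f] [DCoh.HasRpush f] {R : CochainComplex X.Modules ℤ} (hR : DCoh.IsKFlat R)
    (hRq : DCoh.IsQCohD (DerivedCategory.Q.obj R)) {P : CochainComplex (ModuleCat.{u} A) ℤ}
    (hP : DCoh.IsKFlat ((tildeCx A).obj P))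
    (e : Nonempty (DerivedCategory.Q.obj ((tildeCx A).obj P) ≅
      (DCoh.Rpush f).obj (DerivedCategory.Q.obj R))) :
    Nonempty (tilde.functor A ⋙ sgl (Spec A) ⋙ DCoh.tensorCx.obj ((tildeCx A).obj P) ⋙
        DerivedCategory.Q ≅
      tilde.functor A ⋙ Scheme.Modules.pullback f ⋙ sgl X ⋙ DCoh.tensorCx.obj R ⋙
        DerivedCategory.Q ⋙ DCoh.Rpush f) := by
  obtain ⟨e⟩ := e
  obtain ⟨R₀, -, ⟨e₀⟩, h⟩ := nonempty_projNat f (tilde.functor A)
    (fun M => QCoh.isQCoh_spec_iff.2 ⟨M, ⟨Iso.refl _⟩⟩) hR hRq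
  obtain ⟨e₁⟩ := h _ hP ⟨e ≪≫ e₀.symm⟩
  exact ⟨e₁ ≪≫ Functor.isoWhiskerLeft (tilde.functor A) (Functor.isoWhiskerRight
    (HomologicalComplex.singleMapHomologicalComplex (Scheme.Modules.pullback f) (ComplexShape.up ℤ) 0)
    (DCoh.tensorCx.obj R ⋙ DerivedCategory.Q ⋙ DCoh.Rpush f))⟩

/-- Base change of a perfect direct image. -/
theorem isPerfect_rpush_lpull {A B : CommRingCat.{u}} (φ : A ⟶ B) {X X' : Scheme.{u}}
    {f : X ⟶ Spec A} {f' : X' ⟶ Spec B} {g' : X' ⟶ X} (h : IsPullback g' f' f (Spec.map φ))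
    [Flat f] [QuasiCompact f] [QuasiSeparated f] [DCoh.HasRpush f] [DCoh.HasRpush f']
    [DCoh.HasLpull g'] {E : DCoh.D X} (hE : DCoh.IsPerfect E)
    (hP : DCoh.IsPerfect ((DCoh.Rpush f).obj E)) :
    DCoh.IsPerfect ((DCoh.Rpush f').obj ((DCoh.Lpull g').obj E)) := by
  haveI : Flat f' := MorphismProperty.of_isPullback h (inferInstance : Flat f)
  haveI : QuasiCompact f' := MorphismProperty.of_isPullback h (inferInstance : QuasiCompact f)
  haveI : QuasiSeparated f' := MorphismProperty.of_isPullback h (inferInstance : QuasiSeparated f)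
  haveI : IsAffineHom g' := MorphismProperty.of_isPullback h.flip (inferInstance : IsAffineHom (Spec.map φ))
  haveI : DCoh.HasRpush g' := hasRpush_scheme _
  haveI : DCoh.HasRpush (Spec.map φ) := hasRpush_scheme _
  let R := repK E
  have hR : DCoh.IsKFlat R := isKFlat_repK E
  have hRq : DCoh.IsQCohD (DerivedCategory.Q.obj R) :=
    isQCohD_of_iso (repKIso E).symm (isQCohD_of_isPerfect hE)
  let R' := (pullCx g').obj R
  haveI := isIso_lpullComparison g' hR
  let eR' : DerivedCategory.Q.obj R' ≅ (DCoh.Lpull g').obj E :=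
    (asIso ((lpullComparison g').app R)).symm ≪≫ (DCoh.Lpull g').mapIso (repKIso E)
  have hR'p : DCoh.IsPerfect (DerivedCategory.Q.obj R') :=
    isPerfect_of_iso eR'.symm (isPerfect_lpull g' hE)
  -- the model downstairs
  obtain ⟨F₀, a₀, b₀, -, -, ⟨eF₀⟩⟩ := exists_flatRep_rpush f hE
  obtain ⟨P, a₁, b₁, hPz, hPp, ⟨eP⟩⟩ := (perfect_tildeD_iff (DerivedCategory.Q.obj F₀)).1
    (isPerfect_of_iso ((toDTildeIso F₀) ≪≫ eF₀).symm hP)
  let eA' : DerivedCategory.Q.obj ((tildeCx A).obj P) ≅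
      (DCoh.Rpush f).obj (DerivedCategory.Q.obj R) :=
    (toDTildeIso P).symm ≪≫ (DCoh.tildeD A).mapIso eP ≪≫ toDTildeIso F₀ ≪≫ eF₀ ≪≫
      (DCoh.Rpush f).mapIso (repKIso E).symm
  have hPf : ∀ i, Module.Flat A (P.X i) := fun i =>
    haveI := (hPp i).2
    inferInstance
  have eA := nonempty_projTilde f hR hRq (isKFlat_tildeCx_of_flat hPz hPf) ⟨eA'⟩
  -- the model upstairs
  obtain ⟨F, a, b, hz, hf, ⟨eF⟩⟩ := exists_flatRep_rpush f' hR'p
  have eB := nonempty_projTilde f' (isKFlat_pullback g' hR) (isQCohD_of_isPerfect hR'p)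
    (isKFlat_tildeCx_of_flat hz hf) ⟨eF⟩
  -- the base change of modules
  have hqB : ∀ M : ModuleCat.{u} B, Coh.IsQCoh ((tilde.functor B).obj M) := fun M =>
    QCoh.isQCoh_spec_iff.2 ⟨M, ⟨Iso.refl _⟩⟩
  let β := Functor.whiskerLeft (tilde.functor B) (bcNat h)
  haveI : ∀ M, IsIso (β.app M) := fun M => isIso_bcNat h _ (hqB M)
  haveI := NatIso.isIso_of_isIso_app β
  refine isPerfect_of_iso (eF ≪≫ (DCoh.Rpush f').mapIso eR') (isPerfect_of_natIso φ
    (fun n => ?_) a b hz hf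
    (nonempty_bc_homology φ hR hRq h (fun M => QCoh.isQCoh_pullback _ (hqB M))
      ⟨(asIso β).symm⟩ eA eB))
  haveI := (hPp n).1
  haveI := (hPp n).2
  exact Module.finitePresentation_of_projective A (P.X n)

end Groth.Agent.Perf52
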