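import Mathlib.Algebra.Homology.DerivedCategory.HomologySequence
import Mathlib.Algebra.Homology.DerivedCategory.ExactFunctor
import Mathlib.Algebra.Homology.HomotopyCategory.Triangulated
import Mathlib.Algebra.Homology.HomotopyCategory.HomComplexSingle

/-!
# Extending a map of complexes by one term
-/

set_option linter.style.haveILetI false
set_option backward.isDefEq.respectTransparency false

set_option linter.unusedSectionVars false

universe w v u

open CategoryTheory CategoryTheory.Limits Pretriangulated CochainComplex CochainComplex.HomComplex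

namespace Groth.Agent.Perf52.PerfStep

variable {C : Type u} [Category.{v} C] [Abelian C] [HasDerivedCategory.{w} C]
  {E F : CochainComplex C ℤ} (φ : E ⟶ F) (k : ℤ) {P : C} (ψ : P ⟶ (mappingCone φ).cycles k)

/-- The component in `E` of a cycle of the cone. -/
noncomputable def dlt : P ⟶ E.X (k + 1) :=
  (ψ ≫ (mappingCone φ).iCycles k) ≫ (mappingCone.fst φ).1.v k (k + 1) rfl

/-- The component in `F` of a cycle of the cone, with a sign. -/
noncomputable def alp : P ⟶ F.X k :=
  -((ψ ≫ (mappingCone φ).iCycles k) ≫ (mappingCone.snd φ).v k k (add_zero k))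

lemma eq_comp : ψ ≫ (mappingCone φ).iCycles k =
    dlt φ k ψ ≫ (mappingCone.inl φ).v (k + 1) k (by omega) - alp φ k ψ ≫ (mappingCone.inr φ).f k := by
  conv_lhs => rw [← Category.comp_id (ψ ≫ (mappingCone φ).iCycles k), ← mappingCone.id_X φ k (k + 1) rfl]
  simp [dlt, alp]

lemma cycle_conditions : dlt φ k ψ ≫ E.d (k + 1) (k + 2) = 0 ∧
    alp φ k ψ ≫ F.d k (k + 1) = dlt φ k ψ ≫ φ.f (k + 1) := by
  have h : (ψ ≫ (mappingCone φ).iCycles k) ≫ (mappingCone φ).d k (k + 1) = 0 := by simp
  have h1 := congrArg (· ≫ (mappingCone.fst φ).1.v (k + 1) (k + 2) (by omega)) h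
  have h2 := congrArg (· ≫ (mappingCone.snd φ).v (k + 1) (k + 1) (add_zero _)) h
  simp only [zero_comp, Category.assoc,
    mappingCone.d_fst_v φ k (k + 1) (k + 2) rfl (by omega), mappingCone.d_snd_v φ k (k + 1) rfl,
    Preadditive.comp_neg, Preadditive.comp_add] at h1 h2
  refine ⟨?_, ?_⟩
  · simpa [dlt] using h1
  · rw [alp, dlt, Preadditive.neg_comp, neg_eq_iff_add_eq_zero]
    simp only [Category.assoc]
    exact (add_comm _ _).trans h2

/-- The new term as a complex. -/
noncomputable abbrev src (P : C) : CochainComplex C ℤ := (CochainComplex.singleFunctor C (k + 1)).obj P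

/-- The new differential. -/
noncomputable def dltMap : src k P ⟶ E :=
  HomologicalComplex.mkHomFromSingle (dlt φ k ψ) (by
    intro j hj
    obtain rfl : k + 2 = j := by simp at hj; omega
    exact (cycle_conditions φ k ψ).1)

lemma dltMap_f : (dltMap φ k ψ).f (k + 1) =
    (HomologicalComplex.singleObjXSelf (ComplexShape.up ℤ) (k + 1) P).hom ≫ dlt φ k ψ :=
  HomologicalComplex.mkHomFromSingle_f _ _

/-- The extended complex. -/
noncomputable abbrev ext : CochainComplex C ℤ := mappingCone (dltMap φ k ψ)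

/-- The extended map. -/
noncomputable def extMap : ext φ k ψ ⟶ F :=
  mappingCone.desc (dltMap φ k ψ) (Cochain.fromSingleMk (alp φ k ψ) (by omega : k + 1 + -1 = k)) φ (by
    rw [Cochain.δ_fromSingleMk _ _ 0 (k + 1) (by omega), (cycle_conditions φ k ψ).2]
    ext p
    by_cases hp : p = k + 1
    · subst hp
      simp [dltMap_f]
    · exact (HomologicalComplex.isZero_single_obj_X (ComplexShape.up ℤ) (k + 1) P p hp).eq_of_src _ _)

lemma isZero_homology_shift_src (i : ℤ) (hi : i ≠ k) :
    IsZero (((src k P)⟦(1 : ℤ)⟧).homology i) :=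
  ShortComplex.isZero_homology_of_isZero_X₂ _
    (HomologicalComplex.isZero_single_obj_X (ComplexShape.up ℤ) (k + 1) P (i + 1) (by omega))

lemma isZero_shift_src_X (i : ℤ) (hi : i ≠ k) : IsZero (((src k P)⟦(1 : ℤ)⟧).X i) :=
  HomologicalComplex.isZero_single_obj_X (ComplexShape.up ℤ) (k + 1) P (i + 1) (by omega)

/-- The triangle comparing the two cones. -/
theorem exists_triangle :
    ∃ (u : (src k P)⟦(1 : ℤ)⟧ ⟶ mappingCone φ)
      (g : DerivedCategory.Q.obj (mappingCone φ) ⟶ DerivedCategory.Q.obj (mappingCone (extMap φ k ψ)))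
      (h : DerivedCategory.Q.obj (mappingCone (extMap φ k ψ)) ⟶
        (DerivedCategory.Q.obj ((src k P)⟦(1 : ℤ)⟧))⟦(1 : ℤ)⟧),
      u.f k = (HomologicalComplex.singleObjXSelf (ComplexShape.up ℤ) (k + 1) P).hom ≫
          ψ ≫ (mappingCone φ).iCycles k ∧
        Triangle.mk (DerivedCategory.Q.map u) g h ∈ distTriang _ := by
  have key : ∀ χ : E ⟶ F, χ = mappingCone.inr (dltMap φ k ψ) ≫ extMap φ k ψ →
      ∃ (u : (src k P)⟦(1 : ℤ)⟧ ⟶ mappingCone χ)
        (g : DerivedCategory.Q.obj (mappingCone χ) ⟶ DerivedCategory.Q.obj (mappingCone (extMap φ k ψ)))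
        (h : DerivedCategory.Q.obj (mappingCone (extMap φ k ψ)) ⟶
          (DerivedCategory.Q.obj ((src k P)⟦(1 : ℤ)⟧))⟦(1 : ℤ)⟧),
        u.f k = (HomologicalComplex.singleObjXSelf (ComplexShape.up ℤ) (k + 1) P).hom ≫
            (dlt φ k ψ ≫ (mappingCone.inl χ).v (k + 1) k (by omega) -
              alp φ k ψ ≫ (mappingCone.inr χ).f k) ∧
          Triangle.mk (DerivedCategory.Q.map u) g h ∈ distTriang _ := by
    intro χ hχ
    subst hχ
    let f := mappingCone.inr (dltMap φ k ψ)
    let e := mappingCone.rotateHomotopyEquiv (dltMap φ k ψ)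
    let T := DerivedCategory.Q.mapTriangle.obj (CochainComplex.mappingConeCompTriangle f (extMap φ k ψ))
    have hT : T ∈ distTriang (DerivedCategory C) := by
      refine isomorphic_distinguished _ (DerivedCategory.Qh.map_distinguished _
        (HomotopyCategory.mappingConeCompTriangleh_distinguished f (extMap φ k ψ))) _ ?_
      exact (Functor.mapTriangleIso (DerivedCategory.quotientCompQhIso C).symm).app _ ≪≫
        (Functor.mapTriangleCompIso _ _).app _
    haveI : IsIso (DerivedCategory.Q.map e.hom) :=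
      (DerivedCategory.isIso_Q_map_iff_quasiIso (C := C) _).2 e.quasiIso_hom
    let eI := asIso (DerivedCategory.Q.map e.hom)
    refine ⟨e.hom ≫ (CochainComplex.mappingConeCompTriangle f (extMap φ k ψ)).mor₁,
      T.mor₂, T.mor₃ ≫ eI.inv⟦(1 : ℤ)⟧', ?_, ?_⟩
    · dsimp [e, f, CochainComplex.mappingConeCompTriangle, mappingCone.rotateHomotopyEquiv]
      rw [mappingCone.lift_f _ _ _ _ k (k + 1) rfl]
      simp [mappingCone.map, extMap, dltMap_f,
        (Cochain.ofHom (dltMap φ k ψ)).leftShift_v 1 1 (zero_add 1) k (k + 1) rfl (k + 1) (by omega),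
        (mappingCone.inl (dltMap φ k ψ)).leftShift_v 1 0 (neg_add_cancel 1) k k (add_zero k) (k + 1) (by omega),
        sub_eq_add_neg]
    · refine isomorphic_distinguished _ hT _ (Triangle.isoMk _ _ eI (Iso.refl _) (Iso.refl _) ?_ ?_ ?_)
      · exact (Category.comp_id _).trans (DerivedCategory.Q.map_comp _ _)
      · exact (Category.comp_id _).trans (Category.id_comp _).symm
      · change (T.mor₃ ≫ eI.inv⟦(1 : ℤ)⟧') ≫ eI.hom⟦(1 : ℤ)⟧' = 𝟙 _ ≫ T.mor₃
        rw [Category.assoc, ← Functor.map_comp, Iso.inv_hom_id, CategoryTheory.Functor.map_id]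
        exact (Category.comp_id _).trans (Category.id_comp _).symm
  obtain ⟨u, g, h, hu, hT⟩ := key φ (mappingCone.inr_desc _ _ _ _).symm
  exact ⟨u, g, h, hu.trans (congrArg _ (eq_comp φ k ψ).symm), hT⟩

/-- Killing the top cohomology of the cone. -/
theorem isZero_homology_ext (hz : ∀ i, k < i → IsZero ((mappingCone φ).homology i))
    [Epi (ψ ≫ (mappingCone φ).homologyπ k)] :
    (∀ i, k ≤ i → IsZero ((mappingCone (extMap φ k ψ)).homology i)) ∧
      (IsIso (ψ ≫ (mappingCone φ).homologyπ k) → (∀ i, i < k → IsZero ((mappingCone φ).homology i)) →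
        ∀ i, IsZero ((mappingCone (extMap φ k ψ)).homology i)) := by
  obtain ⟨u, g, h, hu, hT⟩ := exists_triangle φ k ψ
  let S := (src k P)⟦(1 : ℤ)⟧
  haveI hX : IsIso (S.iCycles k) := S.isIso_iCycles k (k + 1) (by simp)
    ((isZero_shift_src_X k (k + 1) (by omega)).eq_of_tgt _ _)
  haveI hπ : IsIso (S.homologyπ k) := S.isIso_homologyπ (k - 1) k (by simp)
    ((isZero_shift_src_X k (k - 1) (by omega)).eq_of_src _ _)
  let e : S.cycles k ≅ P := asIso (S.iCycles k) ≪≫
    HomologicalComplex.singleObjXSelf (ComplexShape.up ℤ) (k + 1) P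
  have hc : HomologicalComplex.cyclesMap u k = e.hom ≫ ψ := by
    rw [← cancel_mono ((mappingCone φ).iCycles k), HomologicalComplex.cyclesMap_i, hu]
    simp [e]
    rfl
  have hH : S.homologyπ k ≫ HomologicalComplex.homologyMap u k = e.hom ≫ ψ ≫ (mappingCone φ).homologyπ k := by
    rw [HomologicalComplex.homologyπ_naturality, hc, Category.assoc]
  let H := DerivedCategory.homologyFunctor C
  let η := fun i => DerivedCategory.homologyFunctorFactors C i
  have hS : ∀ i, i ≠ k → IsZero ((H i).obj (DerivedCategory.Q.obj S)) := fun i hi =>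
    (isZero_homology_shift_src k i hi).of_iso ((η i).app S)
  have hzC : ∀ i, IsZero ((mappingCone φ).homology i) →
      IsZero ((H i).obj (DerivedCategory.Q.obj (mappingCone φ))) := fun i hi =>
    hi.of_iso ((η i).app _)
  have hmap : ∀ i, (H i).map (DerivedCategory.Q.map u) =
      (η i).hom.app S ≫ HomologicalComplex.homologyMap u i ≫ (η i).inv.app _ := fun i =>
    (NatIso.naturality_2 (η i) u).symm
  haveI : Epi (HomologicalComplex.homologyMap u k) := by
    have : Epi (S.homologyπ k ≫ HomologicalComplex.homologyMap u k) := by rw [hH]; infer_instance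
    exact epi_of_epi (S.homologyπ k) _
  let T := Triangle.mk (DerivedCategory.Q.map u) g h
  have hEpi : ∀ i, k ≤ i → Epi ((H i).map (DerivedCategory.Q.map u)) := fun i hi => by
    rcases eq_or_lt_of_le hi with rfl | hi'
    · rw [hmap]; infer_instance
    · exact ⟨fun a b _ => (hzC i (hz i hi')).eq_of_src a b⟩
  refine ⟨fun i hi => IsZero.of_iso ?_ ((η i).app _).symm, fun hiso hlow i => IsZero.of_iso ?_ ((η i).app _).symm⟩
  · exact (DerivedCategory.HomologySequence.exact₃ T hT i (i + 1) rfl).isZero_X₂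
      ((DerivedCategory.HomologySequence.epi_homologyMap_mor₁_iff T hT i).1 (hEpi i hi))
      ((hS (i + 1) (by omega)).eq_of_tgt _ _)
  · have hMono : ∀ j, Mono ((H j).map (DerivedCategory.Q.map u)) := fun j => by
      by_cases hj : j = k
      · rw [hj]
        have : IsIso (S.homologyπ k ≫ HomologicalComplex.homologyMap u k) := by rw [hH]; infer_instance
        haveI := IsIso.of_isIso_comp_left (S.homologyπ k) (HomologicalComplex.homologyMap u k)
        rw [hmap]; infer_instance
      · exact ⟨fun a b _ => (hS j hj).eq_of_tgt a b⟩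
    have hEpi' : Epi ((H i).map (DerivedCategory.Q.map u)) := by
      rcases le_or_gt k i with hi | hi
      · exact hEpi i hi
      · exact ⟨fun a b _ => (hzC i (hlow i hi)).eq_of_src a b⟩
    exact (DerivedCategory.HomologySequence.exact₃ T hT i (i + 1) rfl).isZero_X₂
      ((DerivedCategory.HomologySequence.epi_homologyMap_mor₁_iff T hT i).1 hEpi')
      ((DerivedCategory.HomologySequence.mono_homologyMap_mor₁_iff T hT i (i + 1) rfl).1 (hMono (i + 1)))

end Groth.Agent.Perf52.PerfStep
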