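import Groth.Agent.Perf52.ApproxFP

/-!
# Direct images of `E ⊗^L G` for flat families with proper support
-/

set_option linter.style.haveILetI false

universe u

open CategoryTheory CategoryTheory.Limits CategoryTheory.Pretriangulated AlgebraicGeometry

attribute [local instance] HasDerivedCategory.standard

namespace Groth.Agent.Perf52

open Groth.Agent Groth.Agent.KFlatLib

variable {X : Scheme.{u}}

/-- `- ⊗^L F` of a distinguished triangle fits in a distinguished triangle. -/
lemma exists_ltensorMod_triangle (F : X.Modules) [DCoh.HasLTensorMod F] (T : Triangle (DCoh.D X))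
    (hT : T ∈ distinguishedTriangles) :
    ∃ T' : Triangle (DCoh.D X), T' ∈ distinguishedTriangles ∧
      Nonempty (T'.obj₁ ≅ (DCoh.LTensorMod F).obj T.obj₁) ∧
      Nonempty (T'.obj₂ ≅ (DCoh.LTensorMod F).obj T.obj₂) ∧
      Nonempty (T'.obj₃ ≅ (DCoh.LTensorMod F).obj T.obj₃) := by
  obtain ⟨K, L, φ, ⟨e⟩⟩ := (DerivedCategory.mem_distTriang_iff T).1 hT
  let φ' := (kRes X).map φ
  let T₁ := DerivedCategory.Q.mapTriangle.obj (CochainComplex.mappingCone.triangle φ')
  have hT₁ : T₁ ∈ distinguishedTriangles :=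
    (DerivedCategory.mem_distTriang_iff _).2 ⟨_, _, φ', ⟨Iso.refl _⟩⟩
  have hT₀ : DerivedCategory.Q.mapTriangle.obj (CochainComplex.mappingCone.triangle φ) ∈
      distinguishedTriangles (C := DCoh.D X) :=
    (DerivedCategory.mem_distTriang_iff _).2 ⟨_, _, φ, ⟨Iso.refl _⟩⟩
  let e' : T₁ ≅ T := isoTriangleOfIso₁₂ T₁
    (DerivedCategory.Q.mapTriangle.obj (CochainComplex.mappingCone.triangle φ)) hT₁ hT₀
    ((resQIso X).app K) ((resQIso X).app L) ((resQIso X).hom.naturality φ) ≪≫ e.symm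
  have hK : DCoh.IsKFlat ((kRes X).obj K) := isKFlat_kRes K
  have hL : DCoh.IsKFlat ((kRes X).obj L) := isKFlat_kRes L
  have hC : DCoh.IsKFlat (CochainComplex.mappingCone φ') := kFlat_cone (T := DCoh.tensorBi) φ' hK hL
  haveI := isIso_ltensorModComparison F hK
  haveI := isIso_ltensorModComparison F hL
  haveI := isIso_ltensorModComparison F hC
  exact ⟨DerivedCategory.Q.mapTriangle.obj
      (CochainComplex.mappingCone.triangle ((tensorModCx F).map φ')),
    (DerivedCategory.mem_distTriang_iff _).2 ⟨_, _, _, ⟨Iso.refl _⟩⟩,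
    ⟨(asIso ((ltensorModComparison F).app _)).symm ≪≫
      (DCoh.LTensorMod F).mapIso (Triangle.π₁.mapIso e')⟩,
    ⟨(asIso ((ltensorModComparison F).app _)).symm ≪≫
      (DCoh.LTensorMod F).mapIso (Triangle.π₂.mapIso e')⟩,
    ⟨DerivedCategory.Q.mapIso
        (CochainComplex.mappingCone.mapHomologicalComplexIso φ' (DCoh.tensorRightMod F)).symm ≪≫
      (asIso ((ltensorModComparison F).app _)).symm ≪≫
      (DCoh.LTensorMod F).mapIso (Triangle.π₃.mapIso e')⟩⟩

/-- `- ⊗^L F` commutes with shifts. -/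
lemma nonempty_ltensorMod_shift (F : X.Modules) [DCoh.HasLTensorMod F] (E : DCoh.D X) (k : ℤ) :
    Nonempty ((DCoh.LTensorMod F).obj (E⟦k⟧) ≅ ((DCoh.LTensorMod F).obj E)⟦k⟧) := by
  let R := repK E
  have hR : DCoh.IsKFlat R := isKFlat_repK E
  haveI := isIso_ltensorModComparison F hR
  haveI := isIso_ltensorModComparison F (KFlat.shift (T := DCoh.tensorBi) hR k)
  exact ⟨(DCoh.LTensorMod F).mapIso ((shiftFunctor (DCoh.D X) k).mapIso (repKIso E).symm ≪≫
      ((DerivedCategory.Q.commShiftIso k).app R).symm) ≪≫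
    asIso ((ltensorModComparison F).app (R⟦k⟧)) ≪≫
    DerivedCategory.Q.mapIso
      ((((DCoh.tensorRightMod F).mapHomologicalComplex (ComplexShape.up ℤ)).commShiftIso k).app R) ≪≫
    (DerivedCategory.Q.commShiftIso k).app _ ≪≫
    (shiftFunctor (DCoh.D X) k).mapIso ((asIso ((ltensorModComparison F).app R)).symm ≪≫
      (DCoh.LTensorMod F).mapIso (repKIso E))⟩

/-- `- ⊗^L F` depends only on the isomorphism class of `F`. -/
noncomputable def ltensorModCongr {F F' : X.Modules} (e : F ≅ F') [DCoh.HasLTensorMod F]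
    [DCoh.HasLTensorMod F'] (E : DCoh.D X) :
    (DCoh.LTensorMod F).obj E ≅ (DCoh.LTensorMod F').obj E :=
  (DCoh.LTensorMod F).mapIso (repKIso E).symm ≪≫ (twistQIso F (isKFlat_repK E)).symm ≪≫
    DerivedCategory.Q.mapIso ((DCoh.tensorCx.mapIso ((sgl X).mapIso e)).app (repK E)) ≪≫
    twistQIso F' (isKFlat_repK E) ≪≫ (DCoh.LTensorMod F').mapIso (repKIso E)

variable {S : Scheme.{u}}

/-- The class of complexes with perfect twisted direct image is thick. -/
lemma thickClass_twistPush (f : X ⟶ S) [DCoh.HasRpush f] (F : X.Modules) [DCoh.HasLTensorMod F] :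
    ThickClass fun E : DCoh.D X =>
      DCoh.IsPerfect ((DCoh.Rpush f).obj ((DCoh.LTensorMod F).obj E)) where
  retract {K L} i r h hL := (thickClass_perfectPush f).retract ((DCoh.LTensorMod F).map i)
    ((DCoh.LTensorMod F).map r) (by rw [← Functor.map_comp, h, CategoryTheory.Functor.map_id]) hL
  ext T hT h₁ h₃ := by
    obtain ⟨T', hT', ⟨e₁⟩, ⟨e₂⟩, ⟨e₃⟩⟩ := exists_ltensorMod_triangle F T hT
    exact (thickClass_perfectPush f).of_iso e₂.symm
      ((thickClass_perfectPush f).ext T' hT' ((thickClass_perfectPush f).of_iso e₁ h₁)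
        ((thickClass_perfectPush f).of_iso e₃ h₃))

/-- `Rf_*(E ⊗^L G)` is perfect for `G` flat with proper support, over an affine base. -/
theorem isPerfect_rpush_twist_affine {A : CommRingCat.{u}} (f : X ⟶ Spec A)
    [LocallyOfFinitePresentation f] [QuasiCompact f] [QuasiSeparated f] [DCoh.HasRpush f]
    {G : X.Modules} (hG : CohB1.IsFP G) (hflat : FlatMod.IsFlatOver f G)
    (hsupp : ClSub.IsProperOver f (CohB1.support G)) [DCoh.HasLTensorMod G] {E : DCoh.D X}
    (hE : DCoh.IsPerfect E) :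
    DCoh.IsPerfect ((DCoh.Rpush f).obj ((DCoh.LTensorMod G).obj E)) := by
  let D := ConsPropLib.NoethApprox.diagram A
  let c := ConsPropLib.NoethApprox.cone A
  let hc : IsLimit c := ConsPropLib.NoethApprox.isLimit A
  haveI : IsAffine c.pt := isAffine_Spec A
  haveI hD : ∀ i, IsAffine (D.obj i) := fun i => isAffine_Spec _
  haveI : @LocallyOfFinitePresentation X c.pt f := ‹LocallyOfFinitePresentation f›
  haveI : @QuasiCompact X c.pt f := ‹QuasiCompact f›
  haveI : @QuasiSeparated X c.pt f := ‹QuasiSeparated f›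
  obtain ⟨l, X₀, f₁, g, F₀, h₁c, h₁s, h₁f, hsq, hF₀, hfl₀, hsupp₀, ⟨i₀⟩⟩ :=
    exists_stage_family D c hc (f : X ⟶ c.pt) hG hflat hsupp
  let φA : (ConsPropLib.NoethApprox.rings A).obj l.unop ⟶ A :=
    (ConsPropLib.NoethApprox.cocone A).ι.app l.unop
  let f₀ : X₀ ⟶ Spec ((ConsPropLib.NoethApprox.rings A).obj l.unop) := f₁
  haveI : QuasiCompact f₀ := h₁c
  haveI : QuasiSeparated f₀ := h₁s
  haveI : LocallyOfFinitePresentation f₀ := h₁f
  have hsqA : IsPullback g f f₀ (Spec.map φA) := hsq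
  haveI : IsAffineHom g :=
    MorphismProperty.of_isPullback hsqA.flip (inferInstance : IsAffineHom (Spec.map φA))
  haveI : CompactSpace X := QuasiCompact.compactSpace_of_compactSpace f
  haveI : QuasiSeparatedSpace X := quasiSeparatedSpace_of_quasiSeparated f
  haveI : CompactSpace X₀ := QuasiCompact.compactSpace_of_compactSpace f₀
  haveI : QuasiSeparatedSpace X₀ := quasiSeparatedSpace_of_quasiSeparated f₀
  haveI : AlgebraicGeometry.IsNoetherian (Spec ((ConsPropLib.NoethApprox.rings A).obj l.unop)) :=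
    ConsPropLib.NoethApprox.isNoetherian_obj A l
  haveI : LocallyOfFiniteType f₀ := inferInstance
  haveI : IsLocallyNoetherian X₀ := LocallyOfFiniteType.isLocallyNoetherian f₀
  haveI := hasLpull g
  haveI : DCoh.HasRpush f₀ := hasRpush_scheme _
  haveI := hasLTensorMod F₀
  haveI := hasLTensorMod ((Scheme.Modules.pullback g).obj F₀)
  obtain ⟨G₀, hG₀, hgen⟩ := exists_generator_lpull g
  refine thick_of_generator (thickClass_twistPush f G) (isPerfect_lpull g hG₀) (fun k => ?_) hgen hE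
  obtain ⟨e⟩ := nonempty_ltensorMod_shift G ((DCoh.Lpull g).obj G₀) k
  obtain ⟨ek⟩ := nonempty_rpush_shift f ((DCoh.LTensorMod G).obj ((DCoh.Lpull g).obj G₀)) k
  refine isPerfect_of_iso ((DCoh.Rpush f).mapIso e ≪≫ ek).symm (isPerfect_shift ?_ k)
  refine isPerfect_of_iso ((DCoh.Rpush f).mapIso (ltensorModCongr i₀ _))
    (isPerfect_rpush_twist_lpull φA (f := f₀) hsqA (QCoh.isQCoh_of_isFP hF₀) hfl₀ hG₀ ?_)
  exact Groth.Agent.S1061.result f₀ G₀ hG₀ F₀ (QCoh.isCoh_iff_isFP.2 hF₀) hfl₀ hsupp₀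

/-- `- ⊗^L F` commutes with restriction to opens. -/
lemma nonempty_rho_ltensorMod {U : Scheme.{u}} (j : U ⟶ X) [IsOpenImmersion j] (F : X.Modules)
    [DCoh.HasLTensorMod F] [DCoh.HasLTensorMod ((Scheme.Modules.pullback j).obj F)] (E : DCoh.D X) :
    Nonempty ((rho j).obj ((DCoh.LTensorMod F).obj E) ≅
      (DCoh.LTensorMod ((Scheme.Modules.pullback j).obj F)).obj ((rho j).obj E)) := by
  let R := repK E
  let F' := (Scheme.Modules.pullback j).obj F
  haveI := isIso_ltensorModComparison F (isKFlat_repK E)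
  haveI := isIso_ltensorModComparison F' (isKFlat_restrict j (isKFlat_repK E))
  let c₁ : (pullCx j).obj ((tensorModCx F).obj R) ≅ (tensorModCx F').obj ((pullCx j).obj R) :=
    (NatIso.mapHomologicalComplex (pullTensorRightIso j F) (ComplexShape.up ℤ)).app R
  let eC : (rCx j).obj ((tensorModCx F).obj R) ≅ (tensorModCx F').obj ((rCx j).obj R) :=
    (restrictPullCxIso j).app _ ≪≫ c₁ ≪≫ (tensorModCx F').mapIso ((restrictPullCxIso j).app R).symm
  exact ⟨(rho j).mapIso ((DCoh.LTensorMod F).mapIso (repKIso E).symm ≪≫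
      asIso ((ltensorModComparison F).app R)) ≪≫ (rhoQ j).app _ ≪≫ DerivedCategory.Q.mapIso eC ≪≫
    (asIso ((ltensorModComparison F').app _)).symm ≪≫
    (DCoh.LTensorMod F').mapIso (((rhoQ j).app R).symm ≪≫ (rho j).mapIso (repKIso E))⟩

/-- `Rf_*(E ⊗^L G)` is perfect for `G` of finite presentation, flat over the base, with proper
support. -/
theorem isPerfect_rpush_twist (f : X ⟶ S) [LocallyOfFinitePresentation f] [QuasiCompact f]
    [QuasiSeparated f] [DCoh.HasRpush f] {G : X.Modules} (hG : CohB1.IsFP G)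
    (hflat : FlatMod.IsFlatOver f G) (hsupp : ClSub.IsProperOver f (CohB1.support G))
    [DCoh.HasLTensorMod G] {E : DCoh.D X} (hE : DCoh.IsPerfect E) :
    DCoh.IsPerfect ((DCoh.Rpush f).obj ((DCoh.LTensorMod G).obj E)) := by
  refine (isPerfect_iff _).2 (LocSP.of_local fun y => ?_)
  obtain ⟨V, hV, hy, -⟩ := exists_isAffineOpen_mem_and_subset (x := y) (U := ⊤) trivial
  refine ⟨_, hV.fromSpec, inferInstance, by rw [hV.range_fromSpec]; exact hy,
    (isPerfect_iff _).1 ?_⟩
  let e := hV.isoSpec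
  let j := (f ⁻¹ᵁ V).ι
  let F := (Scheme.Modules.pullback j).obj G
  let f' := f ∣_ V ≫ e.hom
  haveI := hasRpush_scheme (f ∣_ V)
  haveI := hasRpush_scheme e.hom
  haveI : DCoh.HasRpush f' := hasRpush_scheme _
  haveI := hasLTensorMod F
  have hsq := (isPullback_morphismRestrict f V).flip
  haveI : LocallyOfFinitePresentation (f ∣_ V) :=
    MorphismProperty.of_isPullback hsq ‹LocallyOfFinitePresentation f›
  haveI : QuasiCompact (f ∣_ V) := MorphismProperty.of_isPullback hsq ‹QuasiCompact f›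
  haveI : QuasiSeparated (f ∣_ V) := MorphismProperty.of_isPullback hsq ‹QuasiSeparated f›
  have hflat' : FlatMod.IsFlatOver f' F := fun x =>
    MorLib.FlatBC.isFlatOverAt_baseChange f f' j hV.fromSpec
      (QCoh.isPullback_overSpec (f := f) hV) G x (hflat _)
  have hsupp' : ClSub.IsProperOver f' (CohB1.support F) := by
    refine isProperOver_comp_isIso (f ∣_ V) e.hom ?_
    rw [QCoh.support_pullback j (QCoh.isQCoh_of_isFP hG) (QCoh.isFT_of_isFP hG)]
    exact QCoh.IsProperOver.baseChange hsq hsupp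
  obtain ⟨rR⟩ := nonempty_rpush_restrictD_iso f V
  obtain ⟨c⟩ := nonempty_rpush_comp (f ∣_ V) e.hom
  obtain ⟨t⟩ := nonempty_rho_ltensorMod j G E
  obtain ⟨r⟩ := DualityLC.nonempty_rpush_iso_rho e
    ((DCoh.Rpush (f ∣_ V)).obj ((rho j).obj ((DCoh.LTensorMod G).obj E)))
  exact isPerfect_of_iso ((DCoh.Rpush f').mapIso t.symm ≪≫ (c.app _).symm ≪≫ r ≪≫
      (rho e.inv).mapIso (rR.app _).symm ≪≫ rhoComp e.inv V.ι hV.fromSpec hV.isoSpec_inv_ι _)
    (isPerfect_rpush_twist_affine f' (FlatFun4.isFP_pullback _ hG) hflat' hsupp' (isPerfect_rho j hE))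

end Groth.Agent.Perf52
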