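import Groth.Agent.Perf52.RelTor
import Groth.Agent.H9Misc.DRingTorDim

/-!
# Relatively perfect objects form a saturated triangulated subcategory
-/

set_option linter.style.haveILetI false
set_option backward.isDefEq.respectTransparency false
set_option backward.isDefEq.respectTransparency.types false

universe u

open CategoryTheory CategoryTheory.Limits AlgebraicGeometry Pretriangulated ZeroObject

attribute [local instance] HasDerivedCategory.standard

namespace Groth.Agent.Perf52

open Groth.Agent.KFlatLib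

lemma torAmp_shift {A : Type u} [CommRing A] {a b : ℤ} {K : Dual.D A} (n : ℤ)
    (h : DRing.HasTorAmplitudeIn A a b K) : DRing.HasTorAmplitudeIn A (a - n) (b - n) (K⟦n⟧) := by
  obtain ⟨E, hz, hf, ⟨e⟩⟩ := h
  refine ⟨E⟦n⟧, fun i hi => hz (i + n) (by omega), fun i => hf (i + n), ⟨?_⟩⟩
  exact (DerivedCategory.Q.commShiftIso n).app E ≪≫ (shiftFunctor (Dual.D A) n).mapIso e

variable {X S : Scheme.{u}} (f : X ⟶ S)

noncomputable instance stalkD_commShift (x : X) : (KSix54.stalkD f x).CommShift ℤ :=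
  inferInstanceAs ((DerSch.stalkOver f x).mapDerivedCategory.CommShift ℤ)

instance stalkD_isTriangulated (x : X) : (KSix54.stalkD f x).IsTriangulated :=
  inferInstanceAs (DerSch.stalkOver f x).mapDerivedCategory.IsTriangulated

lemma locPC_retract {m : ℤ} {K L : DCoh.D X} (i : K ⟶ L) (r : L ⟶ K) (h : i ≫ r = 𝟙 K)
    (hL : LocPC m L) : LocPC m K := by
  obtain ⟨C, q, d, hT⟩ := distinguished_cocone_triangle i
  haveI : Mono i := mono_of_mono_fac (h := 𝟙 K) h
  have hd : d = 0 := (Triangle.mor₃_eq_zero_iff_mono₁ _ hT).2 (inferInstanceAs (Mono i))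
  obtain ⟨e, -, -⟩ := exists_iso_binaryBiproduct_of_distTriang _ hT hd
  exact (locPC_summand m K C (hL.of_iso e)).1

/-- Relatively perfect objects form a saturated triangulated subcategory. -/
theorem relPerfect_isTriangulated [Flat f] :
    ObjectProperty.IsTriangulated (fun E : DCoh.D X => (∀ m : ℤ, DCoh.IsPseudoCoherentD m E) ∧ DCoh.LocHasFiniteRelTorDim f E) ∧
    ObjectProperty.IsStableUnderRetracts (fun E : DCoh.D X => (∀ m : ℤ, DCoh.IsPseudoCoherentD m E) ∧ DCoh.LocHasFiniteRelTorDim f E) := by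
  let P : ObjectProperty (DCoh.D X) := fun E => (∀ m : ℤ, DCoh.IsPseudoCoherentD m E) ∧ DCoh.LocHasFiniteRelTorDim f E
  have hret : ∀ {K L : DCoh.D X} (i : K ⟶ L) (r : L ⟶ K), i ≫ r = 𝟙 K → P L → P K := by
    intro K L i r h hL
    refine ⟨fun m => (isPseudoCoherentD_iff m K).2 (locPC_retract i r h ((isPseudoCoherentD_iff m L).1 (hL.1 m))),
      (locRelTor_iff f K).2 fun x => ?_⟩
    obtain ⟨V, a, b, hx, hV⟩ := (locRelTor_iff f L).1 hL.2 x
    exact ⟨V, a, b, hx, fun y hy => H9Misc.DRingTor.of_retract ((KSix54.stalkD f y).map i) ((KSix54.stalkD f y).map r)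
      (by rw [← Functor.map_comp, h, CategoryTheory.Functor.map_id]) (hV y hy)⟩
  haveI : P.IsClosedUnderIsomorphisms := ⟨fun e h => hret e.inv e.hom e.inv_hom_id h⟩
  refine ⟨?_, ⟨fun {K L} hr hL => hret hr.i hr.r hr.retract hL⟩⟩
  exact
    { exists_zero := ⟨0, isZero_zero _, fun m => (isPseudoCoherentD_iff m _).2
          (locPC_of_isZero m _ fun i _ => (DerivedCategory.homologyFunctor X.Modules i).map_isZero (isZero_zero _)),
        (locRelTor_iff f _).2 fun x => ⟨⊤, 0, 0, trivial, fun y _ =>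
          H9Misc.DRingTor.of_isZero ((KSix54.stalkD f y).map_isZero (isZero_zero _))⟩⟩
      isStableUnderShiftBy := fun n => ⟨fun E hE => ⟨fun m => (isPseudoCoherentD_iff m _).2 (by
          have := ((isPseudoCoherentD_iff (m + n) E).1 (hE.1 (m + n))).shift n
          rwa [add_sub_cancel_right] at this),
        (locRelTor_iff f _).2 fun x => by
          obtain ⟨V, a, b, hx, hV⟩ := (locRelTor_iff f E).1 hE.2 x
          exact ⟨V, a - n, b - n, hx, fun y hy => H9Misc.DRingTor.of_iso
            (((KSix54.stalkD f y).commShiftIso n).app E).symm (torAmp_shift n (hV y hy))⟩⟩⟩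
      ext₂' := fun T hT h₁ h₃ => ObjectProperty.le_isoClosure _ _ ⟨fun m => (isPseudoCoherentD_iff m _).2
          ((locPC_two_of_three m T hT).2.1 ((isPseudoCoherentD_iff m _).1 (h₁.1 m)) ((isPseudoCoherentD_iff m _).1 (h₃.1 m))),
        (locRelTor_iff f _).2 fun x => by
          obtain ⟨V, a, b, hx, hV⟩ := (locRelTor_iff f _).1 h₁.2 x
          obtain ⟨V', a', b', hx', hV'⟩ := (locRelTor_iff f _).1 h₃.2 x
          exact ⟨V ⊓ V', min a a', max b b', ⟨hx, hx'⟩, fun y hy => H9Misc.DRingTor.obj₂_of _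
            ((KSix54.stalkD f y).map_distinguished T hT)
            (H9Misc.DRingTor.mono (min_le_left a a') (le_max_left b b') (hV y hy.1))
            (H9Misc.DRingTor.mono (min_le_right a a') (le_max_right b b') (hV' y hy.2))⟩⟩ }

end Groth.Agent.Perf52
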