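import Groth.Agent.Perf52.ResRoof
import Mathlib.CategoryTheory.Localization.Construction

/-!
# Perfect objects as a localization of strictly perfect complexes
-/

set_option linter.style.haveILetI false
set_option backward.isDefEq.respectTransparency false
set_option backward.isDefEq.respectTransparency.types false

universe u

open CategoryTheory CategoryTheory.Limits AlgebraicGeometry

attribute [local instance] HasDerivedCategory.standard

namespace Groth.Agent.Perf52

open Groth.Agent Groth.Agent.KFlatLib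

variable {X : Scheme.{u}}

/-- Strictly perfect complexes. -/
abbrev SPCat (X : Scheme.{u}) :=
  ObjectProperty.FullSubcategory (fun E : CochainComplex X.Modules ℤ => DCoh.IsStrictlyPerfect E)

/-- Strictly perfect complexes as complexes. -/
noncomputable abbrev spι (X : Scheme.{u}) : SPCat X ⥤ CochainComplex X.Modules ℤ :=
  ObjectProperty.ι (fun E : CochainComplex X.Modules ℤ => DCoh.IsStrictlyPerfect E)

/-- Quasi-isomorphisms of strictly perfect complexes. -/
abbrev spW (X : Scheme.{u}) : MorphismProperty (SPCat X) :=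
  (HomologicalComplex.quasiIso X.Modules (ComplexShape.up ℤ)).inverseImage (spι X)

lemma spW_iff {E F : SPCat X} (f : E ⟶ F) : spW X f ↔ QuasiIso f.hom := Iff.rfl

lemma isIso_Qd_of_spW {E F : SPCat X} {f : E ⟶ F} (hf : spW X f) : IsIso (DerivedCategory.Q.map f.hom) :=
  (DerivedCategory.isIso_Q_map_iff_quasiIso (C := X.Modules) _).2 hf

lemma spW_comp {E F G : SPCat X} {f : E ⟶ F} {g : F ⟶ G} (hf : spW X f) (hg : spW X g) : spW X (f ≫ g) := by
  haveI : QuasiIso f.hom := hf
  haveI : QuasiIso g.hom := hg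
  exact inferInstanceAs (QuasiIso (f.hom ≫ g.hom))

lemma isStrictlyPerfect_cylinder {K : CochainComplex X.Modules ℤ} (hK : DCoh.IsStrictlyPerfect K) :
    DCoh.IsStrictlyPerfect (HomologicalComplex.cylinder K) := by
  have h2 : DCoh.IsStrictlyPerfect (K ⊞ K) := by
    obtain ⟨⟨a, b, hab⟩, hf⟩ := hK
    let e : ∀ i : ℤ, (K ⊞ K).X i ≅ K.X i ⊞ K.X i := fun i =>
      (HomologicalComplex.eval X.Modules (ComplexShape.up ℤ) i).mapBiprod K K
    exact ⟨⟨a, b, fun i hi => IsZero.of_iso ((biprod_isZero_iff _ _).2 ⟨hab i hi, hab i hi⟩) (e i)⟩,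
      fun i => H23.PullPush.isFinLocFree_of_iso (e i).symm (isFinLocFree_biprod (hf i) (hf i))⟩
  exact isStrictlyPerfect_cone _ hK h2

/-- Homotopic maps become equal in the localization. -/
lemma map_eq_of_homotopy {E F : SPCat X} (f g : E ⟶ F) (h : Homotopy f.hom g.hom) :
    (spW X).Q.map f = (spW X).Q.map g := by
  let Cyl : SPCat X := ⟨HomologicalComplex.cylinder E.obj, isStrictlyPerfect_cylinder E.property⟩
  let i₀ : E ⟶ Cyl := ObjectProperty.homMk (HomologicalComplex.cylinder.ι₀ E.obj)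
  let i₁ : E ⟶ Cyl := ObjectProperty.homMk (HomologicalComplex.cylinder.ι₁ E.obj)
  let p : Cyl ⟶ E := ObjectProperty.homMk (HomologicalComplex.cylinder.π E.obj)
  let d : Cyl ⟶ F := ObjectProperty.homMk (HomologicalComplex.cylinder.desc f.hom g.hom h)
  have hp : spW X p :=
    (HomologicalComplex.cylinder.homotopyEquiv E.obj fun j => ⟨j - 1, by simp⟩).quasiIso_hom
  haveI : IsIso ((spW X).Q.map p) := (spW X).Q_inverts p hp
  have hi : (spW X).Q.map i₀ = (spW X).Q.map i₁ := by
    rw [← cancel_mono ((spW X).Q.map p), ← Functor.map_comp, ← Functor.map_comp]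
    exact congrArg _ (ObjectProperty.hom_ext _
      ((HomologicalComplex.cylinder.ι₀_π E.obj).trans (HomologicalComplex.cylinder.ι₁_π E.obj).symm))
  have hf : f = i₀ ≫ d := ObjectProperty.hom_ext _ (HomologicalComplex.cylinder.ι₀_desc _ _ h).symm
  have hg : g = i₁ ≫ d := ObjectProperty.hom_ext _ (HomologicalComplex.cylinder.ι₁_desc _ _ h).symm
  rw [hf, hg, Functor.map_comp, Functor.map_comp, hi]

variable [CompactSpace X] [QuasiSeparatedSpace X] (hX : PerfAux.HasResolutionProperty X)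

include hX

/-- Equal maps in the derived category agree in the localization after refinement. -/
lemma exists_refine {E F : SPCat X} (f g : E ⟶ F)
    (h : DerivedCategory.Q.map f.hom = DerivedCategory.Q.map g.hom) :
    ∃ (G : SPCat X) (γ : G ⟶ E), spW X γ ∧ (spW X).Q.map (γ ≫ f) = (spW X).Q.map (γ ≫ g) := by
  obtain ⟨G, γ, hG, hγ, ⟨H⟩⟩ := exists_homotopy hX E.property F.property f.hom g.hom h
  exact ⟨⟨G, hG⟩, ObjectProperty.homMk γ, hγ, map_eq_of_homotopy _ _ H⟩

/-- The Ore condition. -/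
lemma exists_ore {A B Y : SPCat X} (h : A ⟶ Y) (w : B ⟶ Y) (hw : spW X w) :
    ∃ (C : SPCat X) (γ : C ⟶ A) (k : C ⟶ B), spW X γ ∧
      (spW X).Q.map (γ ≫ h) = (spW X).Q.map (k ≫ w) := by
  haveI := isIso_Qd_of_spW hw
  obtain ⟨G, γ, k, hG, hγ, hk⟩ := exists_roof hX A.property B.property
    (DerivedCategory.Q.map h.hom ≫ inv (DerivedCategory.Q.map w.hom))
  let C : SPCat X := ⟨G, hG⟩
  obtain ⟨C', δ, hδ, hδe⟩ := exists_refine hX ((ObjectProperty.homMk γ : C ⟶ A) ≫ h) ((ObjectProperty.homMk k : C ⟶ B) ≫ w) (by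
    change DerivedCategory.Q.map (γ ≫ h.hom) = DerivedCategory.Q.map (k ≫ w.hom)
    rw [Functor.map_comp, Functor.map_comp, ← hk, Category.assoc, Category.assoc, IsIso.inv_hom_id]
    erw [Category.comp_id])
  exact ⟨C', δ ≫ ObjectProperty.homMk γ, δ ≫ ObjectProperty.homMk k, spW_comp hδ hγ, by simpa using hδe⟩

/-- Every morphism of the localization is a right fraction. -/
lemma exists_fraction {E F : SPCat X} (a : (spW X).Q.obj E ⟶ (spW X).Q.obj F) :
    ∃ (G : SPCat X) (g : G ⟶ E) (h : G ⟶ F), spW X g ∧ (spW X).Q.map g ≫ a = (spW X).Q.map h := by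
  let P : MorphismProperty (spW X).Localization := fun A B a => ∃ (G : SPCat X) (g : G ⟶ A.as.obj) (h : G ⟶ B.as.obj),
    spW X g ∧ (spW X).Q.map g ≫ a = (spW X).Q.map h
  suffices hP : P = ⊤ by
    have h : P a := by rw [hP]; exact MorphismProperty.top_apply a
    exact h
  haveI : P.IsStableUnderComposition := ⟨fun {A B C} a b ⟨G, g, h, hg, ha⟩ ⟨G', g', h', hg', hb⟩ => by
    obtain ⟨G'', γ, k, hγ, he⟩ := exists_ore hX h g' hg'
    refine ⟨G'', γ ≫ g, k ≫ h', spW_comp hγ hg, ?_⟩
    rw [Functor.map_comp, Category.assoc, reassoc_of% ha, ← Functor.map_comp_assoc, he,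
      Functor.map_comp_assoc, hb, ← Functor.map_comp]⟩
  refine Localization.Construction.morphismProperty_eq_top P
    (fun A B f => ⟨A, 𝟙 A, f, ?_, by rw [CategoryTheory.Functor.map_id]; exact Category.id_comp _⟩) fun A B w hw => ?_
  · exact inferInstanceAs (QuasiIso (𝟙 A.obj))
  · refine ⟨A, w, 𝟙 A, hw, ?_⟩
    rw [CategoryTheory.Functor.map_id]
    exact (Localization.Construction.wIso w hw).hom_inv_id

/-- Perfect objects are the localization of strictly perfect complexes. -/
theorem isLocalization_sp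
    (h : ∀ E : SPCat X, DCoh.IsPerfect ((spι X ⋙ DerivedCategory.Q).obj E)) :
    (ObjectProperty.lift (fun K : DCoh.D X => DCoh.IsPerfect K) (spι X ⋙ DerivedCategory.Q) h).IsLocalization
      (spW X) := by
  let Φ₀ := ObjectProperty.lift (fun K : DCoh.D X => DCoh.IsPerfect K) (spι X ⋙ DerivedCategory.Q) h
  let ιP := ObjectProperty.ι (fun K : DCoh.D X => DCoh.IsPerfect K)
  have hinv : (spW X).IsInvertedBy Φ₀ := fun E F f hf => by
    haveI : IsIso (ιP.map (Φ₀.map f)) := isIso_Qd_of_spW hf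
    exact isIso_of_reflects_iso (Φ₀.map f) ιP
  let Φ := Localization.Construction.lift Φ₀ hinv
  have hΦ : ∀ {E F : SPCat X} (f : E ⟶ F), ιP.map (Φ.map ((spW X).Q.map f)) = DerivedCategory.Q.map f.hom := by
    intro E F f
    have := Functor.congr_hom (Localization.Construction.fac Φ₀ hinv) f
    simp only [Functor.comp_map, eqToHom_refl, Category.comp_id, Category.id_comp] at this
    rw [this]
    rfl
  haveI : Φ.EssSurj := ⟨fun K => by
    obtain ⟨E, hE, ⟨e⟩⟩ := exists_strictlyPerfect_iso hX K.property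
    exact ⟨(spW X).Q.obj ⟨E, hE⟩, ⟨ObjectProperty.isoMk _ e⟩⟩⟩
  haveI : Φ.Full := ⟨fun {A B} φ => by
    obtain ⟨G, g, k, hG, hg, hk⟩ := exists_roof hX A.as.obj.property B.as.obj.property (ιP.map φ)
    let g' : (⟨G, hG⟩ : SPCat X) ⟶ A.as.obj := ObjectProperty.homMk g
    let k' : (⟨G, hG⟩ : SPCat X) ⟶ B.as.obj := ObjectProperty.homMk k
    haveI : IsIso ((spW X).Q.map g') := (spW X).Q_inverts g' hg
    refine ⟨inv ((spW X).Q.map g') ≫ (spW X).Q.map k', ?_⟩
    rw [← cancel_epi (Φ.map ((spW X).Q.map g')), ← Functor.map_comp, IsIso.hom_inv_id_assoc]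
    apply ιP.map_injective
    rw [Functor.map_comp, hΦ, hΦ]
    exact hk.symm⟩
  haveI : Φ.Faithful := ⟨fun {A B} a b hab => by
    obtain ⟨G, g, k, hg, ha⟩ := exists_fraction hX (E := A.as.obj) (F := B.as.obj) a
    obtain ⟨G', g', k', hg', hb⟩ := exists_fraction hX (E := A.as.obj) (F := B.as.obj) b
    obtain ⟨G'', γ, l, hγ, he⟩ := exists_ore hX g g' hg'
    have ha' : (spW X).Q.map (γ ≫ g) ≫ a = (spW X).Q.map (γ ≫ k) :=
      (congrArg (· ≫ a) ((spW X).Q.map_comp γ g)).trans ((Category.assoc _ _ _).trans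
        ((congrArg (_ ≫ ·) ha).trans ((spW X).Q.map_comp γ k).symm))
    have hb' : (spW X).Q.map (γ ≫ g) ≫ b = (spW X).Q.map (l ≫ k') :=
      (congrArg (· ≫ b) (he.trans ((spW X).Q.map_comp l g'))).trans ((Category.assoc _ _ _).trans
        ((congrArg (_ ≫ ·) hb).trans ((spW X).Q.map_comp l k').symm))
    obtain ⟨G''', ε, hε, hεe⟩ := exists_refine hX (γ ≫ k) (l ≫ k') (by
      rw [← hΦ, ← hΦ, ← ha', ← hb']
      simp only [Functor.map_comp, hab])
    haveI : IsIso ((spW X).Q.map (ε ≫ γ ≫ g)) := (spW X).Q_inverts _ (spW_comp hε (spW_comp hγ hg))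
    refine (cancel_epi ((spW X).Q.map (ε ≫ γ ≫ g))).1 ?_
    exact ((congrArg (· ≫ a) ((spW X).Q.map_comp ε _)).trans ((Category.assoc _ _ _).trans
      ((congrArg (_ ≫ ·) ha').trans ((spW X).Q.map_comp ε _).symm))).trans (hεe.trans
      (((spW X).Q.map_comp ε _).trans ((congrArg (_ ≫ ·) hb'.symm).trans ((Category.assoc _ _ _).symm.trans
        (congrArg (· ≫ b) ((spW X).Q.map_comp ε _).symm)))))⟩
  exact ⟨hinv, { }⟩

end Groth.Agent.Perf52
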