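import Groth.Agent.Perf52.ResAffine
import Groth.Agent.AmpleX.Generated
import Groth.Agent.AmpleX.Separated
import Groth.Agent.AmpleX.Rel
import Groth.Agent.AmpleVan.FinGen
import Groth.Agent.AmpleVan.AffineCrit
import Groth.Agent.Perf52.RelTor
import Groth.Agent.QCoh.RpushStalk
import Groth.Agent.KFlatLib.Scheme.TildePC
import Groth.Agent.S2297

/-!
# The resolution property of relatively ample schemes
-/

set_option linter.style.haveILetI false
set_option backward.isDefEq.respectTransparency false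
set_option backward.isDefEq.respectTransparency.types false
set_option maxHeartbeats 800000

universe u

open CategoryTheory CategoryTheory.Limits AlgebraicGeometry TopologicalSpace Opposite
open Groth.Agent.H23.PicMul

namespace Groth.Agent.Perf52

open Groth.Agent Groth.Agent.QCoh

variable {X : Scheme.{u}}

lemma isFT_tensorMod {M P : X.Modules} (hq : Coh.IsQCoh M) (hft : CohB1.IsFT M) (hP : PicF.IsInvertible P) :
    CohB1.IsFT (CohB1.tensorMod M P) := by
  haveI := hq
  haveI := ProjUPX.isQCoh_of_isInvertible hP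
  exact (S2297.result M P).2 hft
    (QCoh.isFT_of_isFP (QCoh.isFP_of_isFinLocFree (H23.PullPush.isFinLocFree_of_isInvertible hP)))

lemma isFT_restrict' {U : Scheme.{u}} (j : U ⟶ X) [IsOpenImmersion j] {M : X.Modules} (hq : Coh.IsQCoh M)
    (hft : CohB1.IsFT M) : CohB1.IsFT (M.restrict j) :=
  KFlatLib.isFT_of_iso' ((Scheme.Modules.restrictFunctorIsoPullback j).app M).symm (QCoh.isFT_pullback j hq hft)

/-- Generating sections transport along isomorphisms. -/
lemma generatedBy_of_iso {M N : X.Modules} (φ : M ≅ N) {ι : Type*} {s : ι → Γ(M, ⊤)}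
    (hs : ProjUP.GeneratedBy M s) : ProjUP.GeneratedBy N fun i => φ.hom.app ⊤ (s i) := fun x => by
  let a : KFlatLib.stalkMod x (DCoh.toP.obj M) →ₗ[X.presheaf.stalk x] KFlatLib.stalkMod x (DCoh.toP.obj N) :=
    ((KFlatLib.stalkP x).map (DCoh.toP.map φ.hom)).hom
  have ha : Function.Surjective a :=
    (ConcreteCategory.bijective_of_isIso ((KFlatLib.stalkP x).map (DCoh.toP.map φ.hom))).2
  refine eq_top_iff.2 fun w _ => ?_
  obtain ⟨m, hm⟩ := ha w
  rw [← hm]
  have h : ∀ i, a (KFlatLib.germP (DCoh.toP.obj M) ⊤ trivial (s i)) =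
      KFlatLib.germP (DCoh.toP.obj N) ⊤ trivial (φ.hom.app ⊤ (s i)) := fun i =>
    KFlatLib.stalkModMap_germ (DCoh.toP.map φ.hom) ⊤ trivial (s i)
  have hm' : m ∈ Submodule.span (X.presheaf.stalk x)
      (Set.range fun i => KFlatLib.germP (DCoh.toP.obj M) ⊤ trivial (s i)) := (hs x).ge trivial
  have h2 := Submodule.mem_map_of_mem (f := a) hm'
  rw [Submodule.map_span, ← Set.range_comp] at h2
  simp only [Function.comp_def, h] at h2
  exact h2

/-- Global generators of a restriction generate the germs over the open. -/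
lemma exists_generators_of_restrict {M : X.Modules} (W : X.Opens) {k : ℕ}
    (s : Fin k → Γ(M.restrict W.ι, ⊤)) (hs : ProjUP.GeneratedBy (M.restrict W.ι) s) :
    ∃ T : Set Γ(M, W), T.Finite ∧ ∀ (x : X) (hx : x ∈ W),
      Submodule.span (X.presheaf.stalk x) ((M.presheaf.germ W x hx).hom '' T) = ⊤ := by
  have hle : W ≤ W.ι ''ᵁ (⊤ : (W : Scheme.{u}).Opens) := W.ι_image_top.ge
  refine ⟨Set.range fun i => AModX.res M hle (show Γ(M, W.ι ''ᵁ ⊤) from s i), Set.finite_range _,
    fun x hx => eq_top_iff.2 fun w _ => ?_⟩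
  let z : (W : Scheme.{u}) := ⟨x, hx⟩
  let e := restrictStalkEquiv W.ι M z
  have he : (∀ (a : X.presheaf.stalk (W.ι.base z)) m, e ((W.ι.stalkMap z).hom a • m) = a • e m) ∧
      ∀ (V : (W : Scheme.{u}).Opens) (hV : z ∈ V) (t : Γ(M, W.ι ''ᵁ V)),
        e ((M.restrict W.ι).presheaf.germ V z hV t) = M.presheaf.germ (W.ι ''ᵁ V) (W.ι.base z) ⟨z, hV, rfl⟩ t :=
    ⟨restrictStalk_semilinear W.ι M z, fun V hV t =>
      ConcreteCategory.congr_hom (Scheme.Modules.germ_restrictStalkNatIso_hom_app W.ι z M hV) t⟩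
  obtain ⟨m, rfl⟩ : ∃ m, e m = w := ⟨e.symm w, e.apply_symm_apply w⟩
  have hm : m ∈ Submodule.span ((W : Scheme.{u}).presheaf.stalk z)
      (Set.range fun i => ((M.restrict W.ι).presheaf.germ ⊤ z trivial).hom (s i)) := (hs z).ge trivial
  induction hm using Submodule.span_induction with
  | mem m hm =>
    obtain ⟨i, rfl⟩ := hm
    refine Submodule.subset_span ⟨_, ⟨i, rfl⟩, ?_⟩
    exact (InvX.germ_res' hle hx (show Γ(M, W.ι ''ᵁ ⊤) from s i)).trans (he.2 ⊤ trivial (s i)).symm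
  | zero => rw [map_zero]; exact zero_mem _
  | add a b _ _ ha hb => rw [map_add]; exact add_mem (ha trivial) (hb trivial)
  | smul a m _ hm =>
    obtain ⟨a', rfl⟩ := (ConcreteCategory.bijective_of_isIso (W.ι.stalkMap z)).2 a
    rw [he.1]
    exact Submodule.smul_mem _ a' (hm trivial)

/-- The resolution property of a scheme with a relatively ample module over a base with the resolution property. -/
theorem resolutionProperty_of_relAmple {Y : Scheme.{u}} (f : X ⟶ Y) [CompactSpace Y] [QuasiSeparatedSpace Y]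
    (hY : PerfAux.HasResolutionProperty Y) (L : X.Modules) (hL : RelAmple.IsRelAmple f L) :
    PerfAux.HasResolutionProperty X := by
  classical
  intro M hq hft
  haveI := hL.1
  have hLi := AmpleX.isInvertible_of_isRelAmple hL
  have hsep : ∀ V : Y.affineOpens, (f ⁻¹ᵁ V.1 : Scheme.{u}).IsSeparated := fun V =>
    AmpleX.isSeparated_of_isAmple (hL.2 V)
  haveI : QuasiSeparated f := by
    rw [IsZariskiLocalAtTarget.iff_of_iSup_eq_top (P := @QuasiSeparated) _ (iSup_affineOpens_eq_top Y)]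
    intro V
    haveI := hsep V
    haveI : IsAffine (V.1 : Scheme.{u}) := V.2
    exact (HasAffineProperty.iff_of_isAffine (P := @QuasiSeparated)).2 inferInstance
  obtain ⟨S, hS⟩ := isCompact_univ.elim_finite_subcover (fun V : Y.affineOpens => (V.1 : Set Y))
    (fun V => V.1.2) fun y _ => by
      obtain ⟨_, ⟨V, hV, rfl⟩, hyV, -⟩ :=
        Y.isBasis_affineOpens.exists_subset_of_mem_open (Set.mem_univ y) isOpen_univ
      exact Set.mem_iUnion.2 ⟨⟨V, hV⟩, hyV⟩
  have hcl : ∀ (W : X.Opens) (A : X.Modules), PicF.cl (A.restrict W.ι) = PicF.pullCl W.ι (PicF.cl A) :=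
    fun W A => cl_eq_iff.2 ⟨(Scheme.Modules.restrictFunctorIsoPullback W.ι).app A⟩
  have hev : ∀ V : Y.affineOpens, ∃ n₀ : ℕ, ∀ n, n₀ ≤ n →
      ∃ (G : (f ⁻¹ᵁ V.1 : Scheme.{u}).Modules)
        (_ : G ≅ CohB1.tensorMod (M.restrict (f ⁻¹ᵁ V.1).ι) (CohB1.tensorPow (L.restrict (f ⁻¹ᵁ V.1).ι) n))
        (ι : Type u) (s : ι → Γ(G, ⊤)), ProjUP.GeneratedBy G s := fun V => by
    haveI := (hL.2 V).2.1
    haveI := hsep V
    exact AmpleX.eventually_generated (hL.2 V) (QCoh.isQCoh_restrict _ hq) ((isFT_restrict' _ hq hft))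
  choose n₀ hn₀ using hev
  let n := S.sup n₀
  have hP' := InvX.isInvertible_tensorPow hLi n
  let M' := CohB1.tensorMod M (CohB1.tensorPow L n)
  have hq' : Coh.IsQCoh M' := KFlatLib.isQCoh_tensor hq (ProjUPX.isQCoh_of_isInvertible hP')
  have hft' : CohB1.IsFT M' := isFT_tensorMod hq hft hP'
  obtain ⟨E, π, hE, hπ⟩ := exists_epi_of_generated_over f hY hq' fun y => by
    obtain ⟨V, hVS, hyV⟩ := Set.mem_iUnion₂.1 (hS (Set.mem_univ y))
    refine ⟨V.1, V.2, hyV, ?_⟩
    haveI := (hL.2 V).2.1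
    obtain ⟨G, φ, ι, s, hs⟩ := hn₀ V n (Finset.le_sup hVS)
    obtain ⟨ψ⟩ : Nonempty (G ≅ M'.restrict (f ⁻¹ᵁ V.1).ι) := cl_eq_iff.1 (by
      rw [cl_eq_iff.2 ⟨φ⟩, cl_tensor, cl_tensorPow, hcl, hcl, hcl, cl_tensor, cl_tensorPow, pullCl_mul, pullCl_pow])
    have hs' : ProjUP.GeneratedBy (M'.restrict (f ⁻¹ᵁ V.1).ι) fun i => ψ.hom.app ⊤ (s i) :=
      generatedBy_of_iso ψ hs
    obtain ⟨k, j, hj⟩ := AmpleVan.exists_fin_generatedBy
      ⟨QCoh.isQCoh_restrict _ hq', isFT_restrict' _ hq' hft'⟩ _ hs'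
    exact exists_generators_of_restrict (f ⁻¹ᵁ V.1) _ hj
  obtain ⟨P, hP, e⟩ := H23.PicInv.exists_inverse hP'
  haveI := AmpleVan.isEquivalence_tw hP
  obtain ⟨ψ⟩ : Nonempty ((AmpleVan.tw P).obj M' ≅ M) := cl_eq_iff.1 (by
    show PicF.cl (CohB1.tensorMod M' P) = _
    rw [cl_tensor, cl_tensor, mul_assoc,
      show PicF.cl (CohB1.tensorPow L n) * PicF.cl P = 1 from (PicGrp.cl_eq_cl_iff _ _).2 e, mul_one])
  haveI := hπ
  exact ⟨(AmpleVan.tw P).obj E, (AmpleVan.tw P).map π ≫ ψ.hom,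
    KFlatLib.isFinLocFree_tensor hE (H23.PullPush.isFinLocFree_of_isInvertible hP), inferInstance⟩

end Groth.Agent.Perf52
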