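import Groth.Agent.Perf52.ResRep
import Mathlib.Algebra.Homology.DerivedCategory.Fractions
import Mathlib.Algebra.Homology.HomotopyCategory.MappingCocone
import Mathlib.Algebra.Homology.HomotopyCofiber

/-!
# Morphisms between strictly perfect complexes under the resolution property
-/

set_option linter.style.haveILetI false
set_option backward.isDefEq.respectTransparency false
set_option backward.isDefEq.respectTransparency.types false

universe u

open CategoryTheory CategoryTheory.Limits AlgebraicGeometry Pretriangulated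
open CochainComplex CochainComplex.HomComplex

attribute [local instance] HasDerivedCategory.standard

namespace Groth.Agent.Perf52

open Groth.Agent Groth.Agent.KFlatLib

variable {X : Scheme.{u}}

/-- A complex of quasi-coherent modules as a complex in `QCoh`. -/
noncomputable def qcCx (E : CochainComplex X.Modules ℤ) (hE : ∀ i, Coh.IsQCoh (E.X i)) :
    CochainComplex (QC X) ℤ where
  X i := ⟨E.X i, hE i⟩
  d i j := ObjectProperty.homMk (E.d i j)
  shape i j h := ObjectProperty.hom_ext _ (E.shape i j h)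
  d_comp_d' i j k _ _ := ObjectProperty.hom_ext _ (E.d_comp_d i j k)

variable [CompactSpace X] [QuasiSeparatedSpace X]

/-- Roofs with strictly perfect apex. -/
theorem exists_roof (hX : PerfAux.HasResolutionProperty X) {E F : CochainComplex X.Modules ℤ}
    (hE : DCoh.IsStrictlyPerfect E) (hF : DCoh.IsStrictlyPerfect F)
    (α : DCoh.toD X E ⟶ DCoh.toD X F) :
    ∃ (G : CochainComplex X.Modules ℤ) (g : G ⟶ E) (h : G ⟶ F), DCoh.IsStrictlyPerfect G ∧ QuasiIso g ∧
      DerivedCategory.Q.map g ≫ α = DerivedCategory.Q.map h := by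
  obtain ⟨hfull, -, -⟩ := qcιD_equivalence (X := X) fun U V hU hV => isAffineOpen_inf_of_resolution hX hU hV
  obtain ⟨⟨aE, bE, hEz⟩, hEf⟩ := hE
  obtain ⟨⟨aF, bF, hFz⟩, hFf⟩ := hF
  let a := min aE aF
  let E₀ := qcCx E fun i => QCoh.isQCoh_of_isFinLocFree (hEf i)
  let F₀ := qcCx F fun i => QCoh.isQCoh_of_isFinLocFree (hFf i)
  have hGE : ∀ (C : CochainComplex (QC X) ℤ), (∀ i, i < a → IsZero ((C.X i).obj)) → C.IsStrictlyGE a :=
    fun C hC => (CochainComplex.isStrictlyGE_iff C a).2 fun i hi => by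
      have h := hC i hi
      rw [IsZero.iff_id_eq_zero] at h ⊢
      exact (qcι X).map_injective (by rw [CategoryTheory.Functor.map_id, Functor.map_zero]; exact h)
  haveI : E₀.IsStrictlyGE a := hGE E₀ fun i hi => hEz i (Or.inl (by omega))
  haveI : F₀.IsStrictlyGE a := hGE F₀ fun i hi => hFz i (Or.inl (by omega))
  let Φ := (qcι X).mapDerivedCategoryFactors
  let ι' := (qcι X).mapHomologicalComplex (ComplexShape.up ℤ)
  obtain ⟨α₀, hα₀⟩ := hfull.map_surjective
    (Φ.hom.app E₀ ≫ (show DCoh.toD X (ι'.obj E₀) ⟶ DCoh.toD X (ι'.obj F₀) from α) ≫ Φ.inv.app F₀)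
  obtain ⟨L, s, hs, g, rfl⟩ := DerivedCategory.right_fac α₀
  -- truncate the apex
  let s' : L.truncGE a ⟶ E₀ := CochainComplex.truncGEMap s a ≫ inv (E₀.πTruncGE a)
  let g' : L.truncGE a ⟶ F₀ := CochainComplex.truncGEMap g a ≫ inv (F₀.πTruncGE a)
  have hs' : L.πTruncGE a ≫ s' = s := by
    simp only [s', ← Category.assoc, CochainComplex.πTruncGE_naturality]
    simp
  have hg' : L.πTruncGE a ≫ g' = g := by
    simp only [g', ← Category.assoc, CochainComplex.πTruncGE_naturality]
    simp
  haveI : QuasiIso s := (DerivedCategory.isIso_Q_map_iff_quasiIso (C := QC X) s).1 hs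
  haveI : QuasiIso (CochainComplex.truncGEMap s a) :=
    (CochainComplex.quasiIso_truncGEMap_iff s a).2 fun i _ => inferInstance
  haveI : QuasiIso s' := inferInstance
  haveI : QuasiIso (L.πTruncGE a) := by
    have h : QuasiIso (L.πTruncGE a ≫ s') := hs'.symm ▸ inferInstance
    exact quasiIso_of_comp_right (L.πTruncGE a) s'
  -- the equation in `D(QCoh X)`
  have heq : DerivedCategory.Q.map s' ≫ inv (DerivedCategory.Q.map s) ≫ DerivedCategory.Q.map g =
      DerivedCategory.Q.map g' := by
    rw [← cancel_epi (DerivedCategory.Q.map (L.πTruncGE a)), ← Functor.map_comp_assoc, ← Functor.map_comp,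
      hg']
    haveI : IsIso (DerivedCategory.Q.map (L.πTruncGE a ≫ s')) := inferInstance
    conv_lhs => rw [show DerivedCategory.Q.map (L.πTruncGE a ≫ s') = DerivedCategory.Q.map s by rw [hs']]
    exact IsIso.hom_inv_id_assoc _ _
  -- resolve
  haveI : QuasiIso (ι'.map s') := HomologicalComplex.quasiIso_map_of_preservesHomology s' (qcι X)
  have hL : DCoh.IsPerfect (DCoh.toD X (ι'.obj (L.truncGE a))) :=
    (isPerfect_iff _).2 (((isPerfect_iff _).1 (PerfStep.isPerfect_toD_of_isStrictlyPerfect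
      (E := E) ⟨⟨aE, bE, hEz⟩, hEf⟩)).of_iso (asIso (DerivedCategory.Q.map (ι'.map s'))).symm)
  obtain ⟨G, φ, hG, hφ⟩ := exists_strictlyPerfect_resolution hX (ι'.obj (L.truncGE a))
    ⟨a, fun n hn => (qcι X).map_isZero (CochainComplex.isZero_of_isStrictlyGE (L.truncGE a) a n hn)⟩
    (fun n => ((L.truncGE a).X n).property) hL
  haveI := hφ
  refine ⟨G, φ ≫ ι'.map s', φ ≫ ι'.map g', hG, inferInstanceAs (QuasiIso (φ ≫ ι'.map s')), ?_⟩
  have h1 : DerivedCategory.Q.map (ι'.map s') ≫
      (show DCoh.toD X (ι'.obj E₀) ⟶ DCoh.toD X (ι'.obj F₀) from α) = DerivedCategory.Q.map (ι'.map g') := by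
    rw [← cancel_epi (Φ.hom.app (L.truncGE a)), ← cancel_mono (Φ.inv.app F₀)]
    have n1 : (qcι X).mapDerivedCategory.map (DerivedCategory.Q.map s') ≫ Φ.hom.app E₀ =
        Φ.hom.app (L.truncGE a) ≫ DerivedCategory.Q.map (ι'.map s') := Φ.hom.naturality s'
    have n2 : (qcι X).mapDerivedCategory.map (DerivedCategory.Q.map g') ≫ Φ.hom.app F₀ =
        Φ.hom.app (L.truncGE a) ≫ DerivedCategory.Q.map (ι'.map g') := Φ.hom.naturality g'
    simp only [← Category.assoc]
    rw [← n2, ← n1]
    simp only [Category.assoc, Iso.hom_inv_id_app]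
    rw [← hα₀, ← Functor.map_comp, heq]
    exact (Category.comp_id _).symm
  show DerivedCategory.Q.map (φ ≫ ι'.map s') ≫ _ = DerivedCategory.Q.map (φ ≫ ι'.map g')
  exact (congrArg (· ≫ _) (DerivedCategory.Q.map_comp φ (ι'.map s'))).trans ((Category.assoc _ _ _).trans
    ((congrArg (DerivedCategory.Q.map φ ≫ ·) h1).trans (DerivedCategory.Q.map_comp φ (ι'.map g')).symm))

omit [CompactSpace X] [QuasiSeparatedSpace X] in
lemma isStrictlyPerfect_mappingCocone {E F : CochainComplex X.Modules ℤ} (φ : E ⟶ F)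
    (hE : DCoh.IsStrictlyPerfect E) (hF : DCoh.IsStrictlyPerfect F) :
    DCoh.IsStrictlyPerfect (mappingCocone φ) :=
  isStrictlyPerfect_shift (isStrictlyPerfect_cone φ hE hF) (-1)

/-- The projection of the cocone followed by the map is null homotopic. -/
noncomputable def cocone_fst_comp_homotopy {C : Type*} [Category C] [Preadditive C] [HasBinaryBiproducts C]
    {K L : CochainComplex C ℤ} (φ : K ⟶ L) : Homotopy (mappingCocone.fst φ ≫ φ) 0 := by
  refine (Cochain.equivHomotopy _ _).symm ⟨-(mappingCocone.snd φ), ?_⟩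
  rw [Cochain.ofHom_zero, add_zero, mappingCocone.snd, δ_neg,
    Cochain.δ_leftShift _ (-1) (-1) 0 (zero_add _) 1 (by omega), mappingCone.δ_snd,
    Cochain.ofHom_comp, mappingCocone.fst]
  simp [Cochain.leftShift_comp_zero_cochain, Cocycle.homOf]
  refine congrArg (fun z => Cochain.comp z (Cochain.ofHom φ) (add_zero 0)) ?_
  ext p
  simp

/-- Equal maps in the derived category become homotopic after a strictly perfect refinement. -/
theorem exists_homotopy (hX : PerfAux.HasResolutionProperty X) {E F : CochainComplex X.Modules ℤ}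
    (hE : DCoh.IsStrictlyPerfect E) (hF : DCoh.IsStrictlyPerfect F) (α β : E ⟶ F)
    (hαβ : DerivedCategory.Q.map α = DerivedCategory.Q.map β) :
    ∃ (G : CochainComplex X.Modules ℤ) (γ : G ⟶ E), DCoh.IsStrictlyPerfect G ∧ QuasiIso γ ∧
      Nonempty (Homotopy (γ ≫ α) (γ ≫ β)) := by
  let δ := α - β
  have hT : DerivedCategory.Q.mapTriangle.obj (mappingCocone.triangle δ) ∈ distTriang _ :=
    DerivedCategory.mappingCocone_triangle_distinguished δ
  have hδ : DerivedCategory.Q.map δ = 0 := by rw [Functor.map_sub, hαβ, sub_self]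
  obtain ⟨σ, hσ⟩ := Triangle.coyoneda_exact₂ _ hT (𝟙 (DCoh.toD X E)) (by
    show 𝟙 _ ≫ DerivedCategory.Q.map δ = 0
    rw [Category.id_comp, hδ])
  obtain ⟨G, γ, k, hG, hγ, hk⟩ := exists_roof hX hE (isStrictlyPerfect_mappingCocone δ hE hF) σ
  haveI := hγ
  have hσ' : σ ≫ DerivedCategory.Q.map (mappingCocone.fst δ) = 𝟙 _ := hσ.symm
  have hQ : DerivedCategory.Q.map (k ≫ mappingCocone.fst δ) = DerivedCategory.Q.map γ := by
    rw [Functor.map_comp, ← hk, Category.assoc, hσ']
    exact Category.comp_id _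
  refine ⟨G, k ≫ mappingCocone.fst δ, hG, ?_, ⟨Homotopy.equivSubZero.symm ?_⟩⟩
  · rw [← DerivedCategory.isIso_Q_map_iff_quasiIso, hQ]
    infer_instance
  · refine (Homotopy.ofEq ?_).trans (((cocone_fst_comp_homotopy δ).compLeft k).trans (Homotopy.ofEq comp_zero))
    simp only [δ, Preadditive.comp_sub, Category.assoc]

end Groth.Agent.Perf52
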