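import Groth.Agent.Perf52.RelTor
import Groth.Agent.Perf52.LTensorBound
import Groth.Agent.Perf52.RpushPC
import Groth.Agent.Perf52.ApproxGlue
import Groth.Agent.Perf52.AffineKill
import Groth.Agent.KSix54.Pull.Scheme
import Groth.Agent.KSix54.AmpLocal
import Groth.Agent.QCoh.LocFree

/-!
# Tensor products of perfect and relatively perfect complexes
-/

set_option linter.style.haveILetI false

universe u

open CategoryTheory CategoryTheory.Limits CategoryTheory.Pretriangulated AlgebraicGeometry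

attribute [local instance] HasDerivedCategory.standard

namespace Groth.Agent.Perf52

open Groth.Agent Groth.Agent.KFlatLib

variable {X : Scheme.{u}}

/-- `M ⊗^L K` is pseudo-coherent for `M` pseudo-coherent and `K` perfect, qcqs case. -/
theorem locPC_tensor_qcqs [CompactSpace X] [QuasiSeparatedSpace X] (K M : CochainComplex X.Modules ℤ)
    (hK : DCoh.IsKFlat K) (hKp : DCoh.IsPerfect (DCoh.toD X K)) (hM : DCoh.IsKFlat M)
    (hMpc : ∀ m : ℤ, DCoh.IsPseudoCoherentD m (DCoh.toD X M)) (m : ℤ) :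
    LocPC m (DCoh.toD X ((DCoh.tensorCx.obj M).obj K)) := by
  haveI := hasLTensorCx K
  obtain ⟨b, hb⟩ := exists_bound_of_pc (((isPerfect_iff _).1 hKp).locPC 0)
  obtain ⟨r, hr⟩ := approxOn_qcqs (X := X) (T := Set.univ) isClosed_univ (by simp)
  obtain ⟨P, α, hP, -, hα⟩ := hr (m - b) _ (isQCohD_of_pc hMpc) (hMpc _) fun i _ => Set.subset_univ _
  obtain ⟨C, q, d, hT⟩ := distinguished_cocone_triangle α
  haveI hC : C.IsLE (m - b - 1) := isLE_cone hT hα
  let F := DCoh.LTensorCx K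
  have hz : ∀ (C' : DCoh.D X) (c : ℤ), C'.IsLE c → ∀ i, b + c < i →
      IsZero ((DerivedCategory.homologyFunctor X.Modules i).obj (F.obj C')) := fun C' c hc i hi => by
    haveI := isLE_ltensorCx K hb hc
    exact DerivedCategory.isZero_of_isLE _ (b + c) i hi
  haveI hC1 : (C⟦(-1 : ℤ)⟧).IsLE (m - b) :=
    DerivedCategory.TStructure.t.isLE_shift C (m - b - 1) (-1) (m - b) (by omega)
  have hΦ : ∀ i, (F ⋙ DerivedCategory.homologyFunctor X.Modules i).IsHomological := fun i =>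
    isHomological_ltensorCx_comp K (DerivedCategory.homologyFunctor X.Modules i)
  have hepi : ∀ i, m ≤ i → Epi ((DerivedCategory.homologyFunctor X.Modules i).map (F.map α)) :=
    fun i hi => by
      haveI := hΦ i
      exact ((F ⋙ DerivedCategory.homologyFunctor X.Modules i).map_distinguished_exact _ hT).epi_f
        ((hz C _ hC i (by omega)).eq_of_tgt _ _)
  have hpc : IsPcMap m (F.map α) := ⟨fun i hi => by
    haveI := hΦ i
    haveI : Mono ((DerivedCategory.homologyFunctor X.Modules i).map (F.map α)) :=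
      ((F ⋙ DerivedCategory.homologyFunctor X.Modules i).map_distinguished_exact _
        (inv_rot_of_distTriang _ hT)).mono_g ((hz _ _ hC1 i (by omega)).eq_of_src _ _)
    haveI := hepi i hi.le
    exact isIso_of_mono_of_epi _, hepi m le_rfl⟩
  have hFP : LocPC m (F.obj P) := ((isPerfect_iff _).1 (isPerfect_ltensor K hK hKp hP)).locPC m
  refine LocPC.of_iso (ltensorCxIso K hM) fun x => ?_
  obtain ⟨U, j, _, hx, Q, β, hQ, hβ⟩ := hFP x
  exact ⟨U, j, inferInstance, hx, Q, β ≫ (rho j).map (F.map α), hQ,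
    IsPcMap.comp hβ (hpc.map_exact _)⟩

/-- A K-flat model of `M` computes `K ⊗^L M`. -/
lemma nonempty_ltensor_repK (K : DCoh.D X) (M : CochainComplex X.Modules ℤ) [DCoh.HasLTensorCx M] :
    Nonempty ((DCoh.LTensorCx M).obj K ≅
      DCoh.toD X ((DCoh.tensorCx.obj (repK (DCoh.toD X M))).obj (repK K))) := by
  let R := repK K
  let M' := repK (DCoh.toD X M)
  have hR : DCoh.IsKFlat R := isKFlat_repK K
  haveI := hasLTensorCx R
  let c : ∀ N : CochainComplex X.Modules ℤ, (DCoh.LTensorCx R).obj (DCoh.toD X N) ≅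
      DCoh.toD X ((DCoh.tensorCx.obj N).obj R) := fun N =>
    @asIso _ _ _ _ (((DCoh.tensorCxQ R).totalLeftDerivedCounit DerivedCategory.Q (qisX X)).app N)
      (isIso_LTensorCx_counit_of_isKFlat_right R hR N)
  exact ⟨(DCoh.LTensorCx M).mapIso (repKIso K).symm ≪≫ ltensorCxIso M hR ≪≫
    DerivedCategory.Q.mapIso ((symmIso (tensorBiFlipIso X) R).app M).symm ≪≫ (c M).symm ≪≫
    (DCoh.LTensorCx R).mapIso (repKIso (DCoh.toD X M)).symm ≪≫ c M'⟩

/-- `K ⊗^L M` is pseudo-coherent for `K` perfect and `M` pseudo-coherent. -/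
theorem isPseudoCoherentD_ltensor_perfect (K : DCoh.D X) (hK : DCoh.IsPerfect K)
    (M : CochainComplex X.Modules ℤ) (hM : ∀ m : ℤ, DCoh.IsPseudoCoherentD m (DCoh.toD X M))
    [DCoh.HasLTensorCx M] (m : ℤ) : DCoh.IsPseudoCoherentD m ((DCoh.LTensorCx M).obj K) := by
  let M' := repK (DCoh.toD X M)
  have hM' : DCoh.IsKFlat M' := isKFlat_repK _
  let eM : DCoh.toD X M' ≅ DCoh.toD X M := repKIso _
  let R := repK K
  have hR : DCoh.IsKFlat R := isKFlat_repK K
  obtain ⟨e⟩ := nonempty_ltensor_repK K M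
  refine (isPseudoCoherentD_iff _ _).2 ((LocPC.of_local fun x => ?_).of_iso
    e.symm)
  obtain ⟨W, hW, hx, -⟩ := exists_isAffineOpen_mem_and_subset (x := x) (U := ⊤) trivial
  refine ⟨_, W.ι, inferInstance, ⟨⟨x, hx⟩, rfl⟩, ?_⟩
  haveI : IsAffine (W : Scheme.{u}) := hW
  let j := W.ι
  refine LocPC.of_iso (((rhoQ j).app _) ≪≫ DerivedCategory.Q.mapIso ((restrictPullCxIso j).app _ ≪≫
      (pullTensorCxIso j M' R).symm)).symm
    (locPC_tensor_qcqs _ _ (isKFlat_pullback j hR) ?_ (isKFlat_pullback j hM') (fun k => ?_) m)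
  · exact isPerfect_of_iso (((rho j).mapIso (repKIso K)).symm ≪≫ (rhoQ j).app R ≪≫
      DerivedCategory.Q.mapIso ((restrictPullCxIso j).app R)) (isPerfect_rho j hK)
  · exact (isPseudoCoherentD_iff _ _).2 ((((isPseudoCoherentD_iff k _).1 (hM k)).restrict j).of_iso
      ((rho j).mapIso eM.symm ≪≫ (rhoQ j).app M' ≪≫
        DerivedCategory.Q.mapIso ((restrictPullCxIso j).app M')))

variable {S : Scheme.{u}}

/-- Finite locally free modules are flat over the target of a flat morphism. -/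
lemma isFlatOver_of_finLocFree' (f : X ⟶ S) [Flat f] {M : X.Modules} (hM : FlatMod.IsFinLocFree M) :
    FlatMod.IsFlatOver f M := fun x => by
  show FlatMod.IsFlatOverAt f M x
  unfold FlatMod.IsFlatOverAt
  letI := FlatMod.moduleStalkOver f M x
  letI : Algebra (S.presheaf.stalk (f.base x)) (X.presheaf.stalk x) := (f.stalkMap x).hom.toAlgebra
  haveI : IsScalarTower (S.presheaf.stalk (f.base x)) (X.presheaf.stalk x) (M.presheaf.stalk x) :=
    IsScalarTower.of_algebraMap_smul fun _ _ => rfl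
  haveI : Module.Flat (S.presheaf.stalk (f.base x)) (X.presheaf.stalk x) := Flat.stalkMap f x
  haveI := QCoh.free_stalk_of_isFinLocFree hM x
  exact Module.Flat.trans _ (X.presheaf.stalk x) _

/-- `K ⊗^L M` has locally finite relative tor dimension. -/
theorem locRelTor_ltensor_perfect (f : X ⟶ S) [Flat f] (K : DCoh.D X) (hK : DCoh.IsPerfect K)
    (M : CochainComplex X.Modules ℤ) (hM : DCoh.LocHasFiniteRelTorDim f (DCoh.toD X M))
    [DCoh.HasLTensorCx M] : DCoh.LocHasFiniteRelTorDim f ((DCoh.LTensorCx M).obj K) := by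
  let M' := repK (DCoh.toD X M)
  have hM' : DCoh.IsKFlat M' := isKFlat_repK _
  let eM : DCoh.toD X M' ≅ DCoh.toD X M := repKIso _
  let R := repK K
  have hR : DCoh.IsKFlat R := isKFlat_repK K
  obtain ⟨e⟩ := nonempty_ltensor_repK K M
  refine (locRelTor_iff f _).2 fun x => ?_
  obtain ⟨V, a, b, hxV, hV⟩ := (locRelTor_iff f _).1 hM x
  obtain ⟨U, j, _, hxU, P, hP, ⟨eP⟩⟩ := (isPerfect_iff K).1 hK x
  obtain ⟨c, d, hcd⟩ := hP.1
  refine ⟨V ⊓ j.opensRange, c + a, d + b, ⟨hxV, hxU⟩, fun z hz => ?_⟩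
  have hF : DerSch.HasTorAmplitudeAt (𝟙 X) c d R z := by
    obtain ⟨z', rfl⟩ := hz.2
    exact (torAmpAt_restrict_iff (𝟙 X) j c d R z').1 (torAmplitude_of_relFlat (j ≫ 𝟙 X)
      ⟨P, hcd, fun i => isFlatOver_of_finLocFree' (j ≫ 𝟙 X) (hP.2 i),
        ⟨eP ≪≫ (rho j).mapIso (repKIso K).symm ≪≫ (rhoQ j).app R⟩⟩ z')
  have hG : DerSch.HasTorAmplitudeAt f a b M' z := KSix54.torAmplitudeAt_congr f eM.symm
    ((KSix54.torAmplitudeAt_iff f a b M z).2 (hV z hz.1))
  let S₀ := (KFlatLib.pullCx (𝟙 X)).obj M'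
  let e₀ : S₀ ≅ M' :=
    (NatIso.mapHomologicalComplex (Scheme.Modules.pullbackId X) (ComplexShape.up ℤ)).app M' ≪≫
      HomologicalComplex.Hom.isoOfComponents (fun _ => Iso.refl _)
        (fun _ _ _ => (Category.id_comp _).trans (Category.comp_id _).symm)
  let eT : DCoh.toD X ((DCoh.tensorCx.obj S₀).obj R) ≅ (DCoh.LTensorCx M).obj K :=
    DerivedCategory.Q.mapIso ((DCoh.tensorCx.mapIso e₀).app R) ≪≫ e.symm
  have h2 : DerSch.HasTorAmplitudeAt (𝟙 X ≫ f) (c + a) (d + b) ((DCoh.tensorCx.obj S₀).obj R) z := by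
    refine H9Misc.DRingTor.of_iso (DerivedCategory.Q.mapIso ?_)
      (KSix54.Pull.amp_stalk (𝟙 X) f z hF hM' hG)
    refine ?_ ≪≫ (KSix54.Pull.stalkCxCompIso (𝟙 X) f z _).symm
    exact (DRing.restrictCx _).mapIso ((DRing.restrictCx _).mapIso
      (((MonoidalCategory.curriedTensor (ModuleCat.{u} (X.presheaf.stalk z))).map₂CochainComplex.mapIso
          (stalkPullCxIso (𝟙 X) z M').symm).app ((stalkCx z).obj R) ≪≫ stalkTensorCxIso z S₀ R))
  exact H9Misc.DRingTor.of_iso ((KSix54.stalkD f z).mapIso eT)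
    ((KSix54.torAmplitudeAt_iff f _ _ _ z).1
      (KSix54.torAmplitudeAt_congr_hom (Category.id_comp f) h2))

end Groth.Agent.Perf52
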