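import Groth.Agent.QCoh.TensorSections
import Groth.Agent.S2289

/-!
# `tilde` commutes with tensor products, naturally
-/

set_option linter.style.haveILetI false
set_option backward.isDefEq.respectTransparency false

universe u

open CategoryTheory CategoryTheory.Limits AlgebraicGeometry TopologicalSpace Opposite MonoidalCategory
open scoped TensorProduct

namespace Groth.Agent.Perf52

open Groth.Agent

variable {R : CommRingCat.{u}}

/-- A global section of `M~`. -/
noncomputable abbrev topS (M : ModuleCat.{u} R) : M ≃ₗ[R] Γ(tilde M, ⊤) :=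
  (tilde.isoTop M).toLinearEquiv

lemma topS_naturality {M M' : ModuleCat.{u} R} (g : M ⟶ M') (m : M) :
    ((tilde.functor R).map g).app ⊤ (topS M m) = topS M' (g.hom m) :=
  congr($(tilde.toOpen_map_app g ⊤) m)

lemma compatibleSMul_top (M N : ModuleCat.{u} R) :
    TensorProduct.CompatibleSMul R Γ(Spec R, ⊤) Γ(tilde M, ⊤) Γ(tilde N, ⊤) := ⟨fun g m n => by
  obtain ⟨r, rfl⟩ := S2289.algebraMap_surj R g
  rw [algebraMap_smul, algebraMap_smul, TensorProduct.smul_tmul]⟩

/-- Sections of `M~ ⊗ N~` from `M ⊗ N`. -/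
noncomputable def topTensorEquiv (M N : ModuleCat.{u} R) :
    (M ⊗[R] N) ≃ₗ[R] moduleSpecΓFunctor.obj ((DCoh.tensorBi.obj (tilde M)).obj (tilde N)) :=
  haveI := compatibleSMul_top M N
  let e3 : Γ(tilde M, ⊤) ⊗[R] Γ(tilde N, ⊤) ≃ₗ[R] Γ(tilde M, ⊤) ⊗[Γ(Spec R, ⊤)] Γ(tilde N, ⊤) :=
    TensorProduct.equivOfCompatibleSMul Γ(Spec R, ⊤) R R Γ(tilde M, ⊤) Γ(tilde N, ⊤)
  let e4 : Γ(tilde M, ⊤) ⊗[Γ(Spec R, ⊤)] Γ(tilde N, ⊤) ≃ₗ[R]
      Γ((DCoh.tensorBi.obj (tilde M)).obj (tilde N), ⊤) :=
    (LinearEquiv.ofBijective _ (QCoh.bijective_tmLin (inferInstance : Coh.IsQCoh (tilde M))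
      (inferInstance : Coh.IsQCoh (tilde N)) (isAffineOpen_top (Spec R)))).restrictScalars R
  ((TensorProduct.congr (topS M) (topS N)).trans e3).trans e4

/-- Sections of `M~ ⊗ N~` from `M ⊗ N`, as a morphism. -/
noncomputable def topTensor (M N : ModuleCat.{u} R) :
    M ⊗ N ⟶ moduleSpecΓFunctor.obj ((DCoh.tensorBi.obj (tilde M)).obj (tilde N)) :=
  (topTensorEquiv M N).toModuleIso.hom

lemma topTensor_tmul (M N : ModuleCat.{u} R) (m : M) (n : N) :
    topTensor M N (m ⊗ₜ[R] n) = QCoh.tmS (tilde M) (tilde N) (topS M m) (topS N n) := rfl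

lemma bijective_topTensor (M N : ModuleCat.{u} R) : Function.Bijective (topTensor M N) :=
  (topTensorEquiv M N).bijective

/-- The comparison `(M ⊗ N)~ ⟶ M~ ⊗ N~`. -/
noncomputable def tildeTensorHom (M N : ModuleCat.{u} R) :
    (tilde.functor R).obj (M ⊗ N) ⟶ (DCoh.tensorBi.obj (tilde M)).obj (tilde N) :=
  (tilde.adjunction.homEquiv _ _).symm (topTensor M N)

instance isIso_tildeTensorHom (M N : ModuleCat.{u} R) : IsIso (tildeTensorHom M N) := by
  let T := (DCoh.tensorBi.obj (tilde M)).obj (tilde N)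
  have hT : Coh.IsQCoh T := KFlatLib.isQCoh_tensor (inferInstance : Coh.IsQCoh (tilde M)) inferInstance
  haveI : IsIso T.fromTildeΓ := (isQuasicoherent_iff_isIso_fromTildeΓ T).1 hT
  haveI : IsIso (topTensor M N) := (ConcreteCategory.isIso_iff_bijective _).2 (bijective_topTensor M N)
  rw [tildeTensorHom, Adjunction.homEquiv_counit]
  haveI : IsIso (tilde.adjunction.counit.app T) := ‹IsIso T.fromTildeΓ›
  exact IsIso.comp_isIso' inferInstance this

lemma tildeTensorHom_naturality_left {M M' : ModuleCat.{u} R} (g : M ⟶ M') (N : ModuleCat.{u} R) :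
    (tilde.functor R).map (g ▷ N) ≫ tildeTensorHom M' N =
      tildeTensorHom M N ≫ (DCoh.tensorBi.map ((tilde.functor R).map g)).app (tilde N) := by
  rw [tildeTensorHom, tildeTensorHom, ← Adjunction.homEquiv_naturality_left_symm,
    ← Adjunction.homEquiv_naturality_right_symm]
  congr 1
  refine ModuleCat.hom_ext (TensorProduct.ext' fun m n => ?_)
  change topTensor M' N (g.hom m ⊗ₜ[R] n) = _
  rw [topTensor_tmul, ← topS_naturality g m]
  change _ = ((DCoh.tensorBi.map ((tilde.functor R).map g)).app (tilde N)).app ⊤ (topTensor M N (m ⊗ₜ[R] n))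
  rw [topTensor_tmul]
  exact (KFlatLib.tmSh_naturality_left ((tilde.functor R).map g) (tilde N) (topS M m) (topS N n)).symm

lemma tildeTensorHom_naturality_right (M : ModuleCat.{u} R) {N N' : ModuleCat.{u} R} (g : N ⟶ N') :
    (tilde.functor R).map (M ◁ g) ≫ tildeTensorHom M N' =
      tildeTensorHom M N ≫ (DCoh.tensorBi.obj (tilde M)).map ((tilde.functor R).map g) := by
  rw [tildeTensorHom, tildeTensorHom, ← Adjunction.homEquiv_naturality_left_symm,
    ← Adjunction.homEquiv_naturality_right_symm]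
  congr 1
  refine ModuleCat.hom_ext (TensorProduct.ext' fun m n => ?_)
  change topTensor M N' (m ⊗ₜ[R] g.hom n) = _
  rw [topTensor_tmul, ← topS_naturality g n]
  change _ = ((DCoh.tensorBi.obj (tilde M)).map ((tilde.functor R).map g)).app ⊤ (topTensor M N (m ⊗ₜ[R] n))
  rw [topTensor_tmul]
  exact (KFlatLib.tmSh_naturality_right (tilde M) ((tilde.functor R).map g) (topS M m) (topS N n)).symm

end Groth.Agent.Perf52
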