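import Groth.Agent.Perf52.Stalks
import Groth.Agent.KFlatLib.Scheme.TildePerf
import Groth.Agent.KFlatLib.Ring.PerfectInduction
import Mathlib.Algebra.Homology.DerivedCategory.Linear

/-!
# Torsion objects of the derived category of a ring and maps into them from perfect objects
-/

set_option linter.style.haveILetI false
set_option backward.isDefEq.respectTransparency false

universe u

open CategoryTheory CategoryTheory.Limits AlgebraicGeometry Pretriangulated

attribute [local instance] HasDerivedCategory.standard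

namespace Groth.Agent.Perf52

open Groth.Agent.KFlatLib

variable {R : CommRingCat.{u}}

/-- All cohomology modules are torsion for `f`, read on morphisms out of the shifted ring. -/
def Tors (f : R) (M : DerivedCategory (ModuleCat.{u} R)) : Prop :=
  ∀ (i : ℤ) (φ : (DerivedCategory.singleFunctor (ModuleCat.{u} R) i).obj (ModuleCat.of R R) ⟶ M),
    ∃ n : ℕ, f ^ n • φ = 0

lemma tors_obj₂ {f : R} {T : Triangle (DerivedCategory (ModuleCat.{u} R))} (hT : T ∈ distTriang _)
    (h₁ : Tors f T.obj₁) (h₃ : Tors f T.obj₃) : Tors f T.obj₂ := fun i φ => by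
  obtain ⟨a, ha⟩ := h₃ i (φ ≫ T.mor₂)
  obtain ⟨ψ, hψ⟩ := Triangle.coyoneda_exact₂ _ hT (f ^ a • φ) (by rw [Linear.smul_comp, ha])
  obtain ⟨b, hb⟩ := h₁ i ψ
  exact ⟨b + a, by rw [pow_add, mul_smul, hψ, ← Linear.smul_comp, hb, zero_comp]⟩

/-- The cone of multiplication by a power of `f` is torsion for `f`. -/
lemma tors_cone_smul {f : R} (n : ℕ) {M N : DerivedCategory (ModuleCat.{u} R)} {g : M ⟶ N}
    {d : N ⟶ M⟦(1 : ℤ)⟧} (hT : Triangle.mk (f ^ n • 𝟙 M) g d ∈ distTriang _) : Tors f N :=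
  fun i φ => by
    have h0 : d ≫ (f ^ n • 𝟙 (M⟦(1 : ℤ)⟧)) = 0 := by
      have h := comp_distTriang_mor_zero₃₁ _ hT
      change d ≫ (f ^ n • 𝟙 M)⟦(1 : ℤ)⟧' = 0 at h
      rwa [Functor.map_smul, CategoryTheory.Functor.map_id] at h
    have h1 : (f ^ n • φ) ≫ d = 0 := by
      rw [Linear.smul_comp, ← Linear.comp_smul, ← Category.comp_id d, ← Linear.comp_smul, h0,
        comp_zero]
    obtain ⟨(ψ : _ ⟶ M), (hψ : f ^ n • φ = ψ ≫ g)⟩ := Triangle.coyoneda_exact₃ _ hT _ h1
    refine ⟨n + n, ?_⟩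
    have h2 : (f ^ n • 𝟙 M) ≫ g = 0 := comp_distTriang_mor_zero₁₂ _ hT
    rw [pow_add, mul_smul, hψ, ← Linear.smul_comp, ← Category.comp_id ψ, ← Linear.comp_smul,
      Category.assoc, h2, comp_zero]

/-- A power of `f` kills maps from a perfect object to a torsion object. -/
theorem exists_pow_smul_eq_zero {P : DerivedCategory (ModuleCat.{u} R)}
    (hP : DRing.IsPerfect R P) (f : R) :
    ∀ (C : DerivedCategory (ModuleCat.{u} R)), Tors f C → ∀ φ : P ⟶ C, ∃ n : ℕ, f ^ n • φ = 0 := by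
  refine perfect_induction (A := R) (fun P : Dual.D R => ∀ (C : DerivedCategory (ModuleCat.{u} R)),
    Tors f C → ∀ φ : P ⟶ C, ∃ n : ℕ, f ^ n • φ = 0) ?_ ?_ ?_ ?_ hP
  · intro K K' e h C hC φ
    obtain ⟨n, hn⟩ := h C hC (e.hom ≫ φ)
    exact ⟨n, by rw [← cancel_epi e.hom, Linear.comp_smul, hn, comp_zero]⟩
  · intro T hT h₁ h₃ C hC φ
    obtain ⟨a, ha⟩ := h₁ C hC (T.mor₁ ≫ φ)
    obtain ⟨ψ, hψ⟩ := Triangle.yoneda_exact₂ _ hT (f ^ a • φ) (by rw [Linear.comp_smul, ha])
    obtain ⟨b, hb⟩ := h₃ C hC ψ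
    exact ⟨b + a, by rw [pow_add, mul_smul, hψ, ← Linear.comp_smul, hb, comp_zero]⟩
  · intro K K' i r hir h C hC φ
    obtain ⟨n, hn⟩ := h C hC (r ≫ φ)
    refine ⟨n, ?_⟩
    rw [← Category.id_comp φ, ← hir, Category.assoc, ← Linear.comp_smul, hn, comp_zero]
  · intro n C hC φ
    let e := ((DerivedCategory.singleFunctors (ModuleCat.{u} R)).shiftIso n (-n) 0 (by omega)).app
      (ModuleCat.of R R)
    obtain ⟨k, hk⟩ := hC (-n) (e.inv ≫ φ)
    exact ⟨k, by rw [← cancel_epi e.inv, Linear.comp_smul, hk, comp_zero]⟩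

section Geometry

variable [PreservesFiniteLimits (tilde.functor R)]

lemma isPerfect_iff_dring (P : DerivedCategory (ModuleCat.{u} R)) :
    DCoh.IsPerfect ((DCoh.tildeD R).obj P) ↔ DRing.IsPerfect R P := by
  rw [perfect_tildeD_iff]
  constructor
  · rintro ⟨E, a, b, hz, hf, he⟩; exact ⟨E, a, b, hz, hf, he⟩
  · rintro ⟨E, a, b, hz, hf, he⟩; exact ⟨E, a, b, hz, hf, he⟩

omit [PreservesFiniteLimits (tilde.functor R)] in
lemma mem_support_tilde_iff (N : ModuleCat.{u} R) (x : (Spec R : Scheme.{u})) :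
    x ∈ CohB1.support ((tilde.functor R).obj N) ↔ x ∈ Module.support R N := by
  let x' : PrimeSpectrum R := x
  rw [Module.mem_support_iff]
  change ¬ Subsingleton _ ↔ _
  rw [not_subsingleton_iff_nontrivial]
  exact (IsLocalizedModule.iso x'.asIdeal.primeCompl (tilde.toStalk N x).hom).toEquiv.nontrivial_congr.symm

omit [PreservesFiniteLimits (tilde.functor R)] in
lemma support_subset_zeroLocus_iff (N : ModuleCat.{u} R) (s : Set R) :
    Module.support R N ⊆ PrimeSpectrum.zeroLocus s ↔ ∀ f ∈ s, ∀ m : N, ∃ n : ℕ, f ^ n • m = 0 := by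
  refine ⟨fun h f hf m => ?_, fun h p hp f hf => ?_⟩
  · have hr : f ∈ (Submodule.span R {m}).annihilator.radical := by
      rw [Ideal.radical_eq_sInf, Submodule.mem_sInf]
      rintro J ⟨hJ, hJp⟩
      exact h (Module.mem_support_iff_exists_annihilator.2 ⟨m, hJ⟩ :
        (⟨J, hJp⟩ : PrimeSpectrum R) ∈ Module.support R N) hf
    obtain ⟨n, hn⟩ := hr
    exact ⟨n, (Submodule.mem_annihilator_span_singleton m (f ^ n)).1 hn⟩
  · obtain ⟨m, hm⟩ := Module.mem_support_iff_exists_annihilator.1 hp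
    obtain ⟨n, hn⟩ := h f hf m
    exact p.2.mem_of_pow_mem n (hm ((Submodule.mem_annihilator_span_singleton m (f ^ n)).2 hn))

omit [PreservesFiniteLimits (tilde.functor R)] in
lemma tors_iff (f : R) (M : DerivedCategory (ModuleCat.{u} R)) :
    Tors f M ↔ ∀ (i : ℤ) (m : (DerivedCategory.homologyFunctor (ModuleCat.{u} R) i).obj M),
      ∃ n : ℕ, f ^ n • m = 0 := by
  refine forall_congr' fun i => ?_
  haveI : Projective (ModuleCat.of R R) := inferInstance
  have hb := bijective_psiC_of_projective (P := ModuleCat.of R R) i M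
  let E := (Equiv.ofBijective _ hb).trans (evalOne _)
  have hE : ∀ (r : R) φ, E (r • φ) = r • E φ := fun r φ => by
    have h : r • φ = (DerivedCategory.singleFunctor _ i).map (r • 𝟙 (ModuleCat.of R R)) ≫ φ := by
      rw [Functor.map_smul, CategoryTheory.Functor.map_id, Linear.smul_comp, Category.id_comp]
    change evalOne _ (psiC i _ M (r • φ)) = r • evalOne _ (psiC i _ M φ)
    rw [h, psiC_single_map, Linear.smul_comp, Category.id_comp]
    rfl
  have h0 : E 0 = 0 := by simpa using hE 0 0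
  refine E.forall_congr fun φ => exists_congr fun n => ?_
  rw [← hE, ← h0]
  exact E.injective.eq_iff.symm

/-- Support in a zero locus means torsion. -/
lemma suppOn_tildeD_iff (M : DerivedCategory (ModuleCat.{u} R)) (s : Set R) :
    SuppOn ((DCoh.tildeD R).obj M) (PrimeSpectrum.zeroLocus s : Set (Spec R : Scheme.{u})) ↔
      ∀ f ∈ s, Tors f M := by
  have hsupp : ∀ i, CohB1.support (DCoh.HD ((DCoh.tildeD R).obj M) i) =
      Module.support R ((DerivedCategory.homologyFunctor (ModuleCat.{u} R) i).obj M) := fun i => by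
    ext x
    refine Iff.trans ?_ (mem_support_tilde_iff _ x)
    have e := (DerSch.stalkFunctor (Spec R) x).mapIso ((mapDCHomologyIso (tilde.functor R) i).app M)
    rw [← not_iff_not, ← isZero_stalk_iff, ← isZero_stalk_iff]
    exact e.isZero_iff
  rw [suppOn_iff]
  refine ⟨fun h f hf => (tors_iff f M).2 fun i => ?_, fun h i => ?_⟩
  · exact (support_subset_zeroLocus_iff _ s).1 ((hsupp i).symm.subset.trans (h i)) f hf
  · exact (hsupp i).subset.trans
      ((support_subset_zeroLocus_iff _ s).2 fun f hf => (tors_iff f M).1 (h f hf) i)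

end Geometry

end Groth.Agent.Perf52
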