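import Groth.Agent.Perf52.Induct
import Groth.Agent.Perf52.ExtD
import Groth.Agent.KFlatLib.Scheme.CompactGlobal
import Groth.Agent.KFlatLib.Scheme.DQCohLimit

/-!
# Maps out of perfect objects into objects concentrated in very low degrees vanish
-/

set_option linter.style.haveILetI false
set_option backward.isDefEq.respectTransparency false

universe u

open CategoryTheory CategoryTheory.Limits AlgebraicGeometry TopologicalSpace Pretriangulated

attribute [local instance] HasDerivedCategory.standard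

namespace Groth.Agent.Perf52

open Groth.Agent.KFlatLib

variable {X : Scheme.{u}}

/-- There is a bound below which quasi-coherent objects receive only zero maps from `A`. -/
def VanBelow (A : DCoh.D X) : Prop :=
  ∃ N : ℤ, ∀ L : DCoh.D X, DCoh.IsQCohD L → L.IsLE N → ∀ φ : A ⟶ L, φ = 0

lemma vanBelow_of_isZero {A : DCoh.D X} (h : IsZero A) : VanBelow A :=
  ⟨0, fun _ _ _ φ => h.eq_of_src φ 0⟩

lemma VanBelow.of_iso {A B : DCoh.D X} (e : A ≅ B) (h : VanBelow A) : VanBelow B := by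
  obtain ⟨N, hN⟩ := h
  exact ⟨N, fun L hq hL φ => (cancel_epi e.hom).1 ((hN L hq hL _).trans comp_zero.symm)⟩

lemma VanBelow.shift {A : DCoh.D X} (h : VanBelow A) (n : ℤ) : VanBelow (A⟦n⟧) := by
  obtain ⟨N, hN⟩ := h
  refine ⟨N - n, fun L hq hL φ => ?_⟩
  haveI := hL
  have hL' : (L⟦-n⟧).IsLE N :=
    DerivedCategory.TStructure.t.isLE_shift L (N - n) (-n) N (by omega)
  let e : (A⟦n⟧)⟦-n⟧ ≅ A := (shiftFunctorCompIsoId (DCoh.D X) n (-n) (by omega)).app A
  refine (shiftFunctor (DCoh.D X) (-n)).map_injective ((cancel_epi e.inv).1 ?_)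
  exact (hN _ (isQCohD_shift hq (-n)) hL' _).trans (hN _ (isQCohD_shift hq (-n)) hL' _).symm

lemma vanBelow_obj₂ {T : Triangle (DCoh.D X)} (hT : T ∈ distTriang _)
    (h₁ : VanBelow T.obj₁) (h₃ : VanBelow T.obj₃) : VanBelow T.obj₂ := by
  obtain ⟨N₁, h₁⟩ := h₁
  obtain ⟨N₃, h₃⟩ := h₃
  refine ⟨min N₁ N₃, fun L hq hL φ => ?_⟩
  obtain ⟨ψ, hψ⟩ := Triangle.yoneda_exact₂ _ hT φ
    (h₁ L hq (DerivedCategory.TStructure.t.isLE_of_le L (min N₁ N₃) N₁ (min_le_left _ _)) _)
  rw [hψ, h₃ L hq (DerivedCategory.TStructure.t.isLE_of_le L (min N₁ N₃) N₃ (min_le_right _ _)) ψ,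
    comp_zero]

lemma vanBelow_obj₃ {T : Triangle (DCoh.D X)} (hT : T ∈ distTriang _)
    (h₁ : VanBelow T.obj₁) (h₂ : VanBelow T.obj₂) : VanBelow T.obj₃ :=
  vanBelow_obj₂ (rot_of_distTriang _ hT) h₂ (h₁.shift 1)

/-- Shifts of `j_! O_W` for affine `W`. -/
lemma vanBelow_secObj {W : X.Opens} (hW : IsAffineOpen W) : VanBelow (DCoh.inD X (secObj W)) := by
  refine ⟨-1, fun L hq hL φ => (bijH0_of_isQCohD hq hW).1 ?_⟩
  exact (L.isZero_of_isLE (-1) 0 (by omega)).eq_of_tgt _ _

lemma vanBelow_biprod {A B : DCoh.D X} (hA : VanBelow A) (hB : VanBelow B) : VanBelow (A ⊞ B) :=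
  vanBelow_obj₂ (binaryBiproductTriangle_distinguished A B) hA hB

/-- Bounded complexes of free modules on an affine open, extended by zero. -/
lemma vanBelow_lshCx_free {W : X.Opens} (hW : IsAffineOpen W)
    (P : CochainComplex (W : Scheme.{u}).Modules ℤ) (lo hi : ℤ) (hab : DCoh.VanishesOutside P lo hi)
    (hfree : ∀ i, ∃ n, Nonempty (P.X i ≅ FlatMod.freeMod (W : Scheme.{u}) n)) :
    VanBelow (DerivedCategory.Q.obj ((lshCx W.ι).obj P)) := by
  let Ψ : ObjectProperty (CochainComplex (W : Scheme.{u}).Modules ℤ) :=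
    fun P => VanBelow (DerivedCategory.Q.obj ((lshCx W.ι).obj P))
  haveI : Ψ.IsClosedUnderIsomorphisms :=
    ⟨fun e h => VanBelow.of_iso (DerivedCategory.Q.mapIso ((lshCx W.ι).mapIso e)) h⟩
  refine cx_devissage Ψ (fun P hP => vanBelow_of_isZero (DerivedCategory.Q.map_isZero
    ((lshCx W.ι).map_isZero hP))) (fun S hS _ h₁ h₃ => ?_) (fun n => ?_) lo ((hi + 1 - lo).toNat) P
    (fun i hi' => hab i (by omega)) hfree
  · have hse : (S.map (lshCx W.ι)).ShortExact := HomologicalComplex.shortExact_of_degreewise_shortExact _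
      fun n => ((hS n).some.map (lsh W.ι)).shortExact
    exact vanBelow_obj₂ (DerivedCategory.triangleOfSES_distinguished hse) h₁ h₃
  · let S := HomologicalComplex.single X.Modules (ComplexShape.up ℤ)
    refine VanBelow.of_iso ?_ ((vanBelow_secObj hW).shift (-n))
    exact (((DerivedCategory.singleFunctors X.Modules).shiftIso (-n) n 0 (by omega)).app (secObj W)) ≪≫
      DerivedCategory.Q.mapIso ((HomologicalComplex.singleMapHomologicalComplex (lsh W.ι) (ComplexShape.up ℤ) n).app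
        (Coh.structureModule (W : Scheme.{u}))).symm

/-- `j_! j^*` of a perfect object, on small affine opens. -/
lemma vanBelow_small {E : DCoh.D X} (hE : DCoh.IsPerfect E) (x : X) :
    ∃ V : X.Opens, x ∈ V ∧ ∀ W : X.Opens, IsAffineOpen W → W ≤ V →
      VanBelow ((lshD W.ι).obj ((rho W.ι).obj E)) := by
  obtain ⟨V, hxV, hV⟩ := free_rep_range hE x
  obtain ⟨P, lo, hi, hab, hfree, ⟨eP⟩⟩ := hV (DerivedCategory.Q.objPreimage E) ⟨repIso E⟩
  refine ⟨V, hxV, fun W hW hWV => ?_⟩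
  let i := X.homOfLE hWV
  have hfree' : ∀ m, ∃ n, Nonempty (((rCx i).obj P).X m ≅ FlatMod.freeMod (W : Scheme.{u}) n) :=
    fun m => by
      obtain ⟨n, ⟨en⟩⟩ := hfree m
      exact ⟨n, ⟨(Scheme.Modules.restrictFunctor i).mapIso en ≪≫
        (Scheme.Modules.restrictFunctorIsoPullback i).app _ ≪≫ pullFreeIso _ _⟩⟩
  refine VanBelow.of_iso ?_ (vanBelow_lshCx_free hW ((rCx i).obj P) lo hi
    (fun m hm => (Scheme.Modules.restrictFunctor i).map_isZero (hab m hm)) hfree')
  exact ((lsh W.ι).mapDerivedCategoryFactors.app _).symm ≪≫ (lshD W.ι).mapIso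
    (((rhoQ i).app P).symm ≪≫ (rho i).mapIso (eP.symm ≪≫ ((rhoQ V.ι).app _).symm ≪≫
      (rho V.ι).mapIso (repIso E)) ≪≫ rhoComp i V.ι W.ι (X.homOfLE_ι hWV) E)

/-- Maps from a perfect object to quasi-coherent objects in very low degrees vanish. -/
theorem vanBelow_of_isPerfect [CompactSpace X] [QuasiSeparatedSpace X] {E : DCoh.D X}
    (hE : DCoh.IsPerfect E) : VanBelow E := by
  let G : X.Opens → Prop := fun W => VanBelow ((lshD W.ι).obj ((rho W.ι).obj E))
  have hbot : G ⊥ := vanBelow_of_isZero (Functor.map_isZero _ ((isZero_rho_obj_iff _ E).2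
    fun u => (show u.1 ∈ (∅ : Set X) from u.2).elim))
  have hstep : ∀ U V : X.Opens, IsCompact (U : Set X) → IsCompact (V : Set X) →
      IsCompact ((U ⊓ V : X.Opens) : Set X) → G U → G V → G (U ⊓ V) → G (U ⊔ V) := by
    intro U V _ _ _ hU hV hUV
    let C := DerivedCategory.Q.objPreimage E
    let e : ∀ W : X.Opens, (lshD W.ι).obj ((rho W.ι).obj E) ≅
        DerivedCategory.Q.obj ((mapCx (lshRes W)).obj C) := fun W =>
      (lshD W.ι).mapIso ((rho W.ι).mapIso (repIso E).symm ≪≫ (rhoQ W.ι).app C) ≪≫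
        (lsh W.ι).mapDerivedCategoryFactors.app _
    obtain ⟨a, b, c, hT⟩ := exists_mv_triangle' U V (U ⊔ V) le_sup_left le_sup_right le_rfl C
    exact VanBelow.of_iso (e _).symm (vanBelow_obj₃ hT (hUV.of_iso (e _))
      (vanBelow_biprod (hU.of_iso (e _)) (hV.of_iso (e _))))
  have htop := qc_induction G hbot (vanBelow_small hE) hstep ⊤ (by simpa using isCompact_univ)
  haveI : IsIso ((lshDAdj (⊤ : X.Opens).ι).counit.app E) := by
    obtain ⟨F, b, c, hT⟩ := distinguished_cocone_triangle ((lshDAdj (⊤ : X.Opens).ι).counit.app E)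
    exact (isIso_iff_z0 _ hT).2 fun x => (isIso_rho_map_iff _ _ hT).1 (isIso_rho_map_counit _ E) ⟨x, trivial⟩
  exact htop.of_iso (asIso ((lshDAdj (⊤ : X.Opens).ι).counit.app E))

end Groth.Agent.Perf52
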